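import Mathlib
import Cfsg.Agent.Block.Nilp
import Cfsg.Agent.Block.Corr
import Cfsg.Agent.Block.PIdx

/-!
Defect groups of blocks of quotient groups; blocks with a normal or central defect group.
-/

set_option autoImplicit false

namespace Cfsg.Agent.Block

open Cfsg Cfsg.Agent.Char MonoidAlgebra Subgroup
open Cfsg.Agent.LocalEven hiding isPGroup_zpowers_of_orderOf
open scoped ComplexConjugate

variable {G : Type*} [Group G] [Finite G] {p : ℕ} {M : Ideal AlgInt} {B : Set (IrrCharacter G)}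

section quot

variable {Q : Type*} [Group Q] [Finite Q] {f : G →* Q}

omit [Finite Q] in
theorem coeff_mapG_eB (hM : IsPModular p M) (hk : IsPGroup p f.ker) (hB : IsV M (blockIdem B))
    {x : G} (hx : ¬ p ∣ orderOf x) (hc : x ∈ centralizer (f.ker : Set G)) :
    (mapG (F M) f (eB M B)).coeff (f x) = (eB M B).coeff x := by
  classical
  have := Fintype.ofFinite G
  rw [coeff_mapG, Finset.sum_eq_single x (fun g _ hg => ?_) (by simp), if_pos rfl]
  split_ifs with h
  · by_contra h0
    exact hg (regular_lift_unique hM.1 hk hx (regular_of_coeff_eB hM hB h0) hc h.symm).symm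
  · rfl

theorem br_map_domSet_ne_zero (hM : IsPModular p M) (hf : Function.Surjective f)
    (hk : IsPGroup p f.ker) (hB : IsV M (blockIdem B)) {R : Subgroup G}
    (h : br R (eB M B) ≠ 0) : br (R.map f) (eB M (domSet f hf B)) ≠ 0 := by
  obtain ⟨x, hx, h1⟩ := br_ne_zero_iff.1 h
  refine br_ne_zero_iff.2 ⟨f x, ?_, ?_⟩
  · rintro _ ⟨r, hr, rfl⟩
    rw [← map_mul, hx r hr, map_mul]
  · rwa [← mapG_eB hM f hf hB, coeff_mapG_eB hM hk hB (regular_of_coeff_eB hM hB h1)
      (mem_centralizer_of_coeff_eB hM hB hk h1)]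

theorem exists_defect_ge_of_domSet (hM : IsPModular p M) (hf : Function.Surjective f)
    (hB : IsPBlock M B) {R : Subgroup Q} (hR : IsPGroup p R)
    (h : br R (eB M (domSet f hf B)) ≠ 0) : ∃ P, IsDefectGroup p M B P ∧ R ≤ P.map f := by
  classical
  have := Fact.mk hM.1
  have := Fintype.ofFinite G
  obtain ⟨c, hc, h1⟩ := br_ne_zero_iff.1 h
  obtain ⟨T, hT⟩ := exists_isSylowIn p (R.comap f)
  have h2 : T.map f = R := by
    have := hT.map f
    rw [map_comap_eq_self_of_surjective hf] at this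
    exact this.eq_of_isPGroup hR
  have := Fintype.ofFinite (centralizer (T : Set G))
  rw [← mapG_eB hM f hf (isV_blockIdem hM hB), coeff_mapG, sum_eq_sum_centralizer (p_eq_zero_F hM)
    hT.pgrp _ fun q hq g => by
      rw [isCentral_eB B, map_mul, map_mul, map_inv]
      refine if_congr ?_ rfl rfl
      rw [mul_inv_eq_iff_eq_mul, ← hc _ (hT.le hq), mul_right_inj]] at h1
  obtain ⟨g, -, hg⟩ := Finset.exists_ne_zero_of_sum_ne_zero h1
  obtain ⟨P, hP, hTP⟩ := exists_isDefectGroup_ge hM hB hT.pgrp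
    (br_ne_zero_iff.2 ⟨g, g.2, fun e => hg (by rw [e, ite_self])⟩)
  exact ⟨P, hP, h2 ▸ map_mono hTP⟩

omit [Finite G] [Finite Q] in
theorem map_cj_quot (x : G) (D : Subgroup G) : (cj x D).map f = cj (f x) (D.map f) := by
  ext y
  simp only [mem_map, mem_cj']
  constructor
  · rintro ⟨_, ⟨d, hd, rfl⟩, rfl⟩
    exact ⟨f d, ⟨d, hd, rfl⟩, by simp⟩
  · rintro ⟨_, ⟨d, hd, rfl⟩, rfl⟩
    exact ⟨_, ⟨d, hd, rfl⟩, by simp⟩

theorem exists_defect_le_map (hM : IsPModular p M) (hf : Function.Surjective f)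
    (hB : IsPBlock M B) {D : Subgroup G} (hD : IsDefectGroup p M B D)
    {b : Set (IrrCharacter Q)} (hb : IsPBlock M b) (hbB : b ⊆ domSet f hf B) :
    ∃ E, IsDefectGroup p M b E ∧ E ≤ D.map f := by
  obtain ⟨E, hE⟩ := exists_isDefectGroup hM hb
  obtain ⟨P, hP, h⟩ := exists_defect_ge_of_domSet hM hf hB (isDefectGroup_isPGroup hE)
    (br_eB_ne_zero_of_subset hM (isV_blockIdem_of_saturated hM (saturated_domSet hM f hf
      (saturated_of_isPBlock hM hB))) (isV_blockIdem hM hb) hbB (isDefectGroup_isPGroup hE)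
      (br_eB_ne_zero_of_isDefectGroup hM hb hE))
  obtain ⟨x, rfl⟩ := isDefectGroup_conj hM hB hD hP
  rw [map_cj_quot, le_cj_iff] at h
  exact ⟨_, isDefectGroup_cj hE _, h⟩

theorem isDefectGroup_map_of_br (hM : IsPModular p M) (hf : Function.Surjective f)
    (hB : IsPBlock M B) {D : Subgroup G} (hD : IsDefectGroup p M B D)
    {b : Set (IrrCharacter Q)} (hb : IsPBlock M b) (hbB : b ⊆ domSet f hf B)
    (h : br (D.map f) (eB M b) ≠ 0) : IsDefectGroup p M b (D.map f) := by
  obtain ⟨E, hE, hle⟩ := exists_defect_le_map hM hf hB hD hb hbB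
  exact isDefectGroup_of_card_le hM hb hE ((isDefectGroup_isPGroup hD).map f) h
    (card_le_of_le hle)

theorem exists_dom_defect (hM : IsPModular p M) (hf : Function.Surjective f)
    (hk : IsPGroup p f.ker) (hB : IsPBlock M B) {D : Subgroup G} (hD : IsDefectGroup p M B D) :
    ∃ b, IsPBlock M b ∧ b ⊆ domSet f hf B ∧ IsDefectGroup p M b (D.map f) := by
  obtain ⟨b, hb, hbB, h⟩ := exists_block_map_ne_zero hM
    (saturated_domSet hM f hf (saturated_of_isPBlock hM hB)) (br (D.map f))
    (br_map_domSet_ne_zero hM hf hk (isV_blockIdem hM hB)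
      (br_eB_ne_zero_of_isDefectGroup hM hB hD))
  exact ⟨b, hb, hbB, isDefectGroup_map_of_br hM hf hB hD hb hbB h⟩

theorem isPBlock_domSet_of_centralizer (hM : IsPModular p M) (hf : Function.Surjective f)
    (hk : IsPGroup p f.ker) (hc : ∀ g, ¬ p ∣ orderOf g → g ∈ centralizer (f.ker : Set G))
    (hB : IsPBlock M B) : IsPBlock M (domSet f hf B) := by
  obtain ⟨χ, hχ⟩ := exists_inflIrr_mem hM hf hk (isV_blockIdem hM hB) (block_nonempty hM hB)
  exact isPBlock_domSet_of_iff hM
    (fun _ _ => (sameBlock_inflIrr_iff_of_centralizer hM hf hk hc).1) hB hχ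

theorem isDefectGroup_domSet (hM : IsPModular p M) (hf : Function.Surjective f)
    (hk : IsPGroup p f.ker) (hb : IsPBlock M (domSet f hf B)) (hB : IsPBlock M B)
    {D : Subgroup G} (hD : IsDefectGroup p M B D) :
    IsDefectGroup p M (domSet f hf B) (D.map f) :=
  isDefectGroup_map_of_br hM hf hB hD hb subset_rfl (br_map_domSet_ne_zero hM hf hk
    (isV_blockIdem hM hB) (br_eB_ne_zero_of_isDefectGroup hM hB hD))

theorem charDegree_inflIrr (hf : Function.Surjective f) (χ : IrrCharacter Q) :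
    charDegree (inflIrr f hf χ : G → ℂ) = charDegree (χ : Q → ℂ) :=
  charDegree_of_eq (by simp only [coe_inflIrr, map_one, irr_degree_cast])

end quot

variable {D : Subgroup G}

theorem le_charKer_iff' {χ : IrrCharacter G} :
    D ≤ charKer (χ : G → ℂ) ↔ ∀ x ∈ D, (χ : G → ℂ) x = (χ : G → ℂ) 1 :=
  forall₂_congr fun _ _ => mem_charKer_iff (irr_isChar χ)

theorem exists_le_charKer (hM : IsPModular p M) (hB : IsPBlock M B) [D.Normal]
    (hD : IsPGroup p D) : ∃ θ ∈ B, D ≤ charKer (θ : G → ℂ) := by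
  obtain ⟨χ, hχ⟩ := exists_inflIrr_mem hM (QuotientGroup.mk'_surjective D)
    (by rwa [QuotientGroup.ker_mk']) (isV_blockIdem hM hB) (block_nonempty hM hB)
  exact ⟨_, hχ, (QuotientGroup.ker_mk' D).ge.trans (ker_le_charKer_inflIrr _ _ χ)⟩

/-- A character with the normal defect group in its kernel has defect zero on the quotient. -/
theorem factorization_of_le_charKer (hM : IsPModular p M) (hB : IsPBlock M B) [D.Normal]
    (hD : IsDefectGroup p M B D) {θ : IrrCharacter G} (hθ : θ ∈ B) (h : D ≤ charKer (θ : G → ℂ)) :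
    (charDegree (θ : G → ℂ)).factorization p = D.index.factorization p := by
  obtain ⟨ψ, rfl⟩ := exists_inflIrr_of_ker_le _ (QuotientGroup.mk'_surjective D)
    ((QuotientGroup.ker_mk' D).le.trans h)
  have hb := isPBlock_blockOf (M := M) ψ
  obtain ⟨E, hE, hle⟩ := exists_defect_le_map hM (QuotientGroup.mk'_surjective D) hB hD hb
    (blockOf_subset (saturated_domSet hM _ _ (saturated_of_isPBlock hM hB)) hθ)
  rw [QuotientGroup.map_mk'_self, le_bot_iff] at hle
  have h1 := card_defectGroup hM hb hE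
  rw [hle, card_bot, eq_comm, Nat.pow_eq_one, or_iff_right hM.1.ne_one] at h1
  rw [charDegree_inflIrr, index_eq_card]
  exact le_antisymm (factorization_degree_le ψ)
    (eq_singleton_of_defect_zero hM hb h1 (self_mem_blockOf hM ψ)).2

theorem factorization_card_defect (hM : IsPModular p M) (hB : IsPBlock M B)
    (hD : IsDefectGroup p M B D) : (Nat.card D).factorization p = blockDefect p B := by
  rw [card_defectGroup hM hB hD, hM.1.factorization_pow, Finsupp.single_eq_same]

theorem height_zero_of_le_charKer (hM : IsPModular p M) (hB : IsPBlock M B) [D.Normal]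
    (hD : IsDefectGroup p M B D) {θ : IrrCharacter G} (hθ : θ ∈ B) (h : D ≤ charKer (θ : G → ℂ)) :
    blockHeight p B (θ : G → ℂ) = 0 := by
  have h1 := factorization_degree_add_defect (p := p) hθ
  rw [factorization_of_le_charKer hM hB hD hθ h, factorization_card_eq D,
    factorization_card_defect hM hB hD] at h1
  omega

omit [Finite G] in
theorem normal_of_sup_centralizer (hG : D ⊔ centralizer (D : Set G) = ⊤) : D.Normal :=
  normalizer_eq_top_iff.1 (top_le_iff.1 (hG ▸ sup_le le_normalizer (centralizer_le_normalizer _)))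

theorem regular_mem_centralizer_of_sup (hp : p.Prime) (hD : IsPGroup p D)
    (hG : D ⊔ centralizer (D : Set G) = ⊤) {g : G} (hg : ¬ p ∣ orderOf g) :
    g ∈ centralizer (D : Set G) := by
  have := Fact.mk hp
  have := normal_of_sup_centralizer hG
  have := Fintype.ofFinite (centralizer (D : Set G))
  refine mem_of_index_pow hp ?_ hg
  obtain ⟨n, hn⟩ := hD.exists_card_eq
  have h := card_mul_index_sup (N := centralizer (D : Set G)) D
  rw [sup_comm, hG, index_top, mul_one, hn] at h
  obtain ⟨k, -, hk⟩ := (Nat.dvd_prime_pow hp).1 (Dvd.intro_left _ h.symm)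
  exact ⟨k, hk⟩

theorem eq_of_le_charKer (hM : IsPModular p M) (hB : IsPBlock M B) [D.Normal]
    (hD : IsDefectGroup p M B D) (hc : ∀ g, ¬ p ∣ orderOf g → g ∈ centralizer (D : Set G))
    {θ θ' : IrrCharacter G} (hθ : θ ∈ B) (h : D ≤ charKer (θ : G → ℂ)) (hθ' : θ' ∈ B)
    (h' : D ≤ charKer (θ' : G → ℂ)) : θ = θ' := by
  have h1 := factorization_of_le_charKer hM hB hD hθ h
  obtain ⟨ψ, rfl⟩ := exists_inflIrr_of_ker_le _ (QuotientGroup.mk'_surjective D)
    ((QuotientGroup.ker_mk' D).le.trans h)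
  obtain ⟨ψ', rfl⟩ := exists_inflIrr_of_ker_le _ (QuotientGroup.mk'_surjective D)
    ((QuotientGroup.ker_mk' D).le.trans h')
  have h2 := (sameBlock_inflIrr_iff_of_centralizer hM _ (by
    rw [QuotientGroup.ker_mk']; exact isDefectGroup_isPGroup hD)
    (by rwa [QuotientGroup.ker_mk'])).1 (block_sameBlock hM hB hθ hθ')
  rw [charDegree_inflIrr, index_eq_card] at h1
  rw [← mem_blockOf, blockOf_eq_singleton hM h1.ge] at h2
  rw [h2]

/-- The star construction when `G = D C(D)`. -/
theorem IsMaxBP.bstar_apply_of_sup {d : BrauerPairIdx G} (hM : IsPModular p M)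
    (hd : IsMaxBP p M B d) (hG : d.1 ⊔ centralizer (d.1 : Set G) = ⊤) {l : d.1 → ℂ}
    (hl : IsClassFunction d.1 l) {χ : IrrCharacter G} (hχ : χ ∈ B) {g : G} (v : d.1)
    (hg : pp p g = v) : bstar p M d l χ g = l v * (χ : G → ℂ) g := by
  have := normal_of_sup_centralizer hG
  have hn := isNilpotentBlock_of_normal hM hd.of.block (hd.defect hM)
    fun _ => regular_mem_centralizer_of_sup hM.1 hd.bp.1 hG
  have hs := hd.stable_of_nilpotent hM hn hl
  rw [← sum_sec hM χ (zpowers (pp p g)) g, Finset.mul_sum]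
  refine Finset.sum_congr rfl fun a ha => ?_
  by_cases h0 : sec χ a g = 0
  · rw [h0, mul_zero, mul_zero]
  have h1 := subs_ok_of_mem (pp_order hM.1 g) ha
  obtain ⟨w, hw, x, hx⟩ := hd.exists_smul_subAt hM
    (mem_bsubs.2 ⟨h1, isBPOf_of_sec_ne_zero hM h1 hd.of.block hχ rfl h0⟩)
  rw [← hx, hs.lamS_smul_subAt ⟨w, hw⟩]
  have h2 : x * w * x⁻¹ = v := hg ▸ congrArg Subs.u hx
  obtain ⟨y, hy, c, hc, rfl⟩ := (mem_sup_iff_of_le_normalizer' (H := centralizer (d.1 : Set G))
    (centralizer_le_normalizer _)).1 (hG ▸ mem_top x)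
  rw [← hl ⟨w, hw⟩ ⟨y, hy⟩]
  congr 2
  refine Subtype.ext (Eq.trans ?_ h2)
  calc y * w * y⁻¹ = y * (w * c) * (y * c)⁻¹ := by group
    _ = _ := by rw [hc w hw]; group

theorem char_eq_zero_of_notMem (hM : IsPModular p M) (hB : IsPBlock M B) [hN : D.Normal]
    (hD : IsDefectGroup p M B D) {χ : IrrCharacter G} (hχ : χ ∈ B) {g x : G} (hx : IsPPart p g x)
    (h : x ∉ D) : (χ : G → ℂ) g = 0 := by
  by_contra h0
  obtain ⟨a, ha⟩ := exists_conj_mem_of_char_ne_zero hM hB hD hχ hx h0
  exact h (by simpa [mul_assoc] using hN.conj_mem _ ha a⁻¹)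

/-- The characters of a block of `G = D C(D)` with defect group `D`. -/
theorem exists_equiv_of_sup (hM : IsPModular p M) (hB : IsPBlock M B)
    (hD : IsDefectGroup p M B D) (hG : D ⊔ centralizer (D : Set G) = ⊤) {θ : IrrCharacter G}
    (hθ : θ ∈ B) (hk : D ≤ charKer (θ : G → ℂ)) : ∃ Φ : IrrCharacter D ≃ B,
      ∀ (ζ : IrrCharacter D) (y : D) (x : G), ¬ p ∣ orderOf x →
        ((Φ ζ).1 : G → ℂ) (y * x) = (ζ : D → ℂ) y * (θ : G → ℂ) x := by
  have := normal_of_sup_centralizer hG
  have hc : ∀ g, ¬ p ∣ orderOf g → g ∈ centralizer (D : Set G) :=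
    fun _ => regular_mem_centralizer_of_sup hM.1 (isDefectGroup_isPGroup hD) hG
  obtain ⟨d, rfl, hd⟩ := exists_isMaxBP hM hB hD
  obtain ⟨Φ, hΦ⟩ := hd.exists_equiv_of_nilpotent hM (isNilpotentBlock_of_normal hM hB hD hc) hθ
    (height_zero_of_le_charKer hM hB hD hθ hk)
  refine ⟨Φ, fun ζ y x hx => ?_⟩
  rw [hΦ, hd.bstar_apply_of_sup hM hG (irr_classFun ζ) hθ y (pp_mul hM.1
    (exists_orderOf_eq_pow_of_mem hM.1 hd.bp.1 y.2) hx (hc x hx y y.2)), hk y.2]

/-- Laradji's theorem, first part. -/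
theorem card_mul_inner_pReg [Fintype G] (hp : p.Prime) (hD : IsPGroup p D) (hZ : D ≤ center G)
    {χ : IrrCharacter G}
    (hdeg : D.index.factorization p ≤ (charDegree (χ : G → ℂ)).factorization p) :
    Nat.card D * classInner (pRegularPart p (χ : G → ℂ)) χ = 1 ∧
      ∀ g, pp p g ∉ D → (χ : G → ℂ) g = 0 := by
  classical
  have := Fact.mk hp
  have := Fintype.ofFinite D
  obtain ⟨n, hn⟩ := hD.exists_card_eq
  obtain ⟨m, hm⟩ := exists_int_pow_mul_inner hp χ (n := n) (by
    rw [factorization_card_eq D, hn, hp.factorization_pow, Finsupp.single_eq_same]; omega)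
    (isChar_isGenChar (irr_isChar χ))
  rw [← Nat.cast_pow, ← hn] at hm
  set N : G → ℝ := fun g => Complex.normSq ((χ : G → ℂ) g) with hN
  have h1 : classInner (pRegularPart p (χ : G → ℂ)) χ =
      (((Nat.card G : ℝ)⁻¹ * ∑ x with ¬ p ∣ orderOf x, N x : ℝ) : ℂ) := by
    rw [classInner_def, Finset.sum_filter]
    push_cast
    congr 1
    refine Finset.sum_congr rfl fun x _ => ?_
    rw [pRegularPart_apply]
    split_ifs <;> simp [hN, Complex.mul_conj]
  have h2 : ∑ g with pp p g ∈ D, N g = Nat.card D * ∑ x with ¬ p ∣ orderOf x, N x := by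
    rw [Nat.card_eq_fintype_card, ← nsmul_eq_mul, ← Finset.card_univ, ← Finset.sum_const,
      ← Finset.sum_product']
    symm
    refine Finset.sum_bij' (fun a _ => a.1 * a.2)
      (fun g hg => (⟨pp p g, (Finset.mem_filter.1 hg).2⟩, pr p g)) ?_ ?_ ?_ ?_ ?_
    · rintro ⟨u, x⟩ h
      simp only [Finset.mem_product, Finset.mem_filter, Finset.mem_univ, true_and] at h ⊢
      rw [pp_mul hp (exists_orderOf_eq_pow_of_mem hp hD u.2) h (mem_center_iff.1 (hZ u.2) x).symm]
      exact u.2
    · intro g _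
      simpa using pr_regular hp g
    · rintro ⟨u, x⟩ h
      simp only [Finset.mem_product, Finset.mem_filter, Finset.mem_univ, true_and] at h
      have k := exists_orderOf_eq_pow_of_mem hp hD u.2
      have k' : Commute (u : G) x := (mem_center_iff.1 (hZ u.2) x).symm
      exact Prod.ext (Subtype.ext (pp_mul hp k h k')) (pr_mul hp k h k')
    · intro g _
      exact pp_mul_pr g
    · rintro ⟨u, x⟩ -
      have := irr_central_mul_conj χ (z := u)
        (fun c => by rw [mem_center_iff.1 (hZ u.2) c, mul_inv_cancel_right]) x x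
      rw [Complex.mul_conj, Complex.mul_conj] at this
      exact (Complex.ofReal_injective this).symm
  have h3 : ∑ g with pp p g ∈ D, N g + ∑ g with pp p g ∉ D, N g = Nat.card G := by
    rw [Finset.sum_filter_add_sum_filter_not]
    have := classInner_irr_self χ
    rw [classInner_def, inv_mul_eq_one₀ card_ne_zero] at this
    apply Complex.ofReal_injective
    push_cast
    rw [this]
    exact Finset.sum_congr rfl fun g _ => (Complex.mul_conj _).symm
  have hG : (0 : ℝ) < Nat.card G := Nat.cast_pos.2 Nat.card_pos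
  have h4 : ∑ g with pp p g ∈ D, N g = m * Nat.card G := by
    rw [h1, ← Complex.ofReal_natCast, ← Complex.ofReal_mul, ← Complex.ofReal_intCast,
      Complex.ofReal_inj] at hm
    rw [h2, ← hm]
    field_simp
  have h5 : 0 ≤ ∑ g with pp p g ∉ D, N g := Finset.sum_nonneg fun g _ => Complex.normSq_nonneg _
  have h6 : 0 < ∑ g with pp p g ∈ D, N g := Finset.sum_pos' (fun g _ => Complex.normSq_nonneg _)
    ⟨1, by simp [pp_of_regular hp (one_regular hp)], Complex.normSq_pos.2 (irr_one_ne_zero χ)⟩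
  have h7 : m = 1 := by
    have k1 : (0 : ℝ) < m := (mul_pos_iff_of_pos_right hG).1 (h4 ▸ h6)
    have k2 : (m : ℝ) ≤ 1 := le_of_mul_le_mul_right (by linarith) hG
    have k3 : 0 < m := by exact_mod_cast k1
    have k4 : m ≤ 1 := by exact_mod_cast k2
    omega
  refine ⟨by rw [hm, h7, Int.cast_one], fun g hg => Complex.normSq_eq_zero.1 ?_⟩
  rw [h4, h7, Int.cast_one, one_mul, add_eq_left,
    Finset.sum_eq_zero_iff_of_nonneg fun g _ => Complex.normSq_nonneg _] at h3
  exact h3 g (by simpa using hg)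

/-- Laradji's theorem. -/
theorem laradji (hM : IsPModular p M) (hB : IsPBlock M B) (hD : IsPGroup p D) (hZ : D ≤ center G)
    {χ : IrrCharacter G} (hχ : χ ∈ B)
    (hdeg : D.index.factorization p ≤ (charDegree (χ : G → ℂ)).factorization p) :
    IsDefectGroup p M B D := by
  have := Fact.mk hM.1
  have := Fintype.ofFinite G
  have : D.Normal := ⟨fun n hn g => by rwa [mem_center_iff.1 (hZ hn) g, mul_inv_cancel_right]⟩
  obtain ⟨E, hE⟩ := exists_isDefectGroup hM hB
  have hle := normal_le_defect hM hB hE hD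
  obtain ⟨n, hn⟩ := hD.exists_card_eq
  have h1 := (card_mul_inner_pReg hM.1 hD hZ hdeg).1
  have h2 := factorization_degree_add_defect (p := p) hχ
  have h3 := val_pow_mul_inner hM χ χ h2
  have h4 : n ≤ blockDefect p B := by
    rw [← Nat.pow_le_pow_iff_right hM.1.one_lt, ← hn, ← card_defectGroup hM hB hE]
    exact card_le_of_le hle
  obtain ⟨k, hk⟩ := Nat.exists_eq_add_of_le' h4
  rw [factorization_card_eq D, hn, hM.1.factorization_pow, Finsupp.single_eq_same] at h2
  rw [hk, pow_add, mul_assoc, ← Nat.cast_pow p n, ← hn, h1, mul_one, map_pow] at h3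
  have h5 := mem_V_iff.1 (omega_aReg_mem_V (M := M) (p := p) χ (irr_isChar χ))
  have h6 : blockHeight p B (χ : G → ℂ) ≤ k :=
    (val_p_pow_le_iff hM).1 (h3 ▸ mul_le_of_le_one_right' h5)
  have h7 : blockHeight p B (χ : G → ℂ) = k := by omega
  rw [h7, left_eq_mul₀ (pow_ne_zero _ (val_p_ne_zero hM))] at h3
  have h8 := height_zero_of_val_omega_aReg hM hB hχ hχ h3
  rwa [eq_of_le_of_card_le hle (by rw [card_defectGroup hM hB hE, hn, hk, ← h7, h8, zero_add])]

end Cfsg.Agent.Block
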