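import Mathlib
import Cfsg.Agent.Block.Quot2
import Cfsg.Agent.Char.Extend

/-!
Roots of blocks in `D C(D)` and heights for a normal defect group.
-/

set_option autoImplicit false

namespace Cfsg.Agent.Block

open Cfsg Cfsg.Agent.Char MonoidAlgebra Subgroup
open Cfsg.Agent.Char.Clifford (inertia)
open Cfsg.Agent.LocalEven hiding isPGroup_zpowers_of_orderOf
open scoped ComplexConjugate

variable {G : Type*} [Group G] [Finite G] {p : ℕ} {M : Ideal AlgInt} {B : Set (IrrCharacter G)}
  {D : Subgroup G} {d : BrauerPairIdx G}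

theorem factorization_degree_of_over (hp : p.Prime) {N : Subgroup G} [N.Normal] [Fintype N]
    {θ : IrrCharacter N} {T : Subgroup G} (hT : inertia N (θ : N → ℂ) ≤ T)
    (h : ¬ p ∣ N.relIndex T) {χ : IrrCharacter G}
    (hc : classInner (fun n : N => (χ : G → ℂ) n) (θ : N → ℂ) ≠ 0) :
    (charDegree (χ : G → ℂ)).factorization p =
      N.index.factorization p + (charDegree (θ : N → ℂ)).factorization p := by
  have := Fintype.ofFinite G
  have := Fintype.ofFinite (inertia N (θ : N → ℂ))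
  have := Fintype.ofFinite (N.subgroupOf (inertia N (θ : N → ℂ)))
  have hI := Clifford.le_inertia (irr_classFun θ)
  obtain ⟨ψ, hψ, h1, h2⟩ := CliffordCorr.exists_indFun_eq θ.2 rfl hI χ.2 hc
  rw [← h2, ← CliffordCorr.inner_res_toSub hI] at hc
  obtain ⟨e, he, h3⟩ := Extend.ramification_dvd_index ((CliffordCorr.isIrr_toSub_iff hI).mpr θ.2)
    (CliffordCorr.inertia_toSub_eq_top hI le_rfl) hψ hc
  have h4 : ¬ p ∣ N.relIndex (inertia N (θ : N → ℂ)) := fun k =>
    h (k.trans (Dvd.intro _ (relIndex_mul_relIndex _ _ _ hI hT)))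
  have h5 : charDegree (χ : G → ℂ) = (inertia N (θ : N → ℂ)).index * (e * charDegree (θ : N → ℂ)) :=
    charDegree_of_eq (by
      have : ψ 1 = e * (θ : N → ℂ) 1 := congrFun h3 1
      rw [← h1, Ind.indFun_one, this, Nat.cast_mul, Nat.cast_mul, irr_degree_cast])
  have h6 : e ≠ 0 := by
    rintro rfl
    exact irr_degree_ne_zero χ (by simp [h5])
  rw [h5, ← relIndex_mul_index hI, Nat.factorization_mul index_ne_zero_of_finite
    (mul_ne_zero h6 (irr_degree_ne_zero θ)), Nat.factorization_mul h6 (irr_degree_ne_zero θ),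
    Nat.factorization_mul (a := N.relIndex _) (fun k => h4 (by rw [k]; exact dvd_zero p))
      index_ne_zero_of_finite]
  simp only [Finsupp.add_apply, Nat.factorization_eq_zero_of_not_dvd h4,
    Nat.factorization_eq_zero_of_not_dvd fun k : p ∣ e => h4 (k.trans he), zero_add]

theorem irr_one_eq_one_of_isPGroup (hp : p.Prime) (hG : IsPGroup p G) {ζ : IrrCharacter G}
    (h : (charDegree (ζ : G → ℂ)).factorization p = 0) : (ζ : G → ℂ) 1 = 1 := by
  have := Fact.mk hp
  obtain ⟨n, hn⟩ := hG.exists_card_eq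
  obtain ⟨k, -, hk⟩ := (Nat.dvd_prime_pow hp).1 (hn ▸ irr_degree_dvd ζ)
  rw [hk, hp.factorization_pow, Finsupp.single_eq_same] at h
  rw [← irr_degree_cast, hk, h, pow_zero, Nat.cast_one]

omit [Finite G] in
theorem subgroupOf_sup_centralizer (D : Subgroup G) :
    D.subgroupOf (D ⊔ centralizer (D : Set G)) ⊔ centralizer
      (D.subgroupOf (D ⊔ centralizer (D : Set G)) : Set (D ⊔ centralizer (D : Set G) : Subgroup G))
        = ⊤ := by
  rw [eq_top_iff]
  rintro ⟨x, hx⟩ -
  obtain ⟨y, hy, c, hc, rfl⟩ := (mem_sup_iff_of_le_normalizer' (centralizer_le_normalizer _)).1 hx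
  exact mul_mem (mem_sup_left (x := ⟨y, mem_sup_left hy⟩) (mem_subgroupOf.2 hy))
    (mem_sup_right (x := ⟨c, mem_sup_right hc⟩)
      ((mem_centralizer_subgroupOf_iff le_sup_left _).2 hc))

theorem IsMaxBP.induced_ovr (hM : IsPModular p M) (hd : IsMaxBP p M B d) {H : Subgroup G}
    (hH : Mid d.1 H) : IsInducedBlock M H (ovr H d) B :=
  ((rp_ovr hM hd.bp hH).induced_iff hM (isPBlock_ovr hM hd.bp hH)).2 hd.of

theorem IsMaxBP.defect_ovr (hM : IsPModular p M) (hd : IsMaxBP p M B d) {H : Subgroup G}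
    (hH : Mid d.1 H) : IsDefectGroup p M (ovr H d) (d.1.subgroupOf H) :=
  defect_of_induced_of_le_normalizer hM hH.le hH.len (hd.induced_ovr hM hH) (hd.defect hM)

theorem blockDefect_eq_of_subgroupOf (hM : IsPModular p M) (hB : IsPBlock M B)
    (hD : IsDefectGroup p M B D) {H : Subgroup G} (hle : D ≤ H) {E : Set (IrrCharacter H)}
    (hE : IsPBlock M E) (hD' : IsDefectGroup p M E (D.subgroupOf H)) :
    blockDefect p E = blockDefect p B := by
  rw [← factorization_card_defect hM hE hD', ← factorization_card_defect hM hB hD,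
    Nat.card_congr (subgroupOfEquivOfLe hle).toEquiv]

/-- Heights in a block of `G = D C(D)` with defect group `D`. -/
theorem exists_equiv_height_of_sup (hM : IsPModular p M) (hB : IsPBlock M B)
    (hD : IsDefectGroup p M B D) (hG : D ⊔ centralizer (D : Set G) = ⊤) :
    ∃ θ ∈ B, D ≤ charKer (θ : G → ℂ) ∧ ∃ Φ : IrrCharacter D ≃ B,
      (∀ (ζ : IrrCharacter D) (y : D) (x : G), ¬ p ∣ orderOf x →
        ((Φ ζ).1 : G → ℂ) (y * x) = (ζ : D → ℂ) y * (θ : G → ℂ) x) ∧
      ∀ ζ : IrrCharacter D, blockHeight p B ((Φ ζ).1 : G → ℂ) =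
        (charDegree (ζ : D → ℂ)).factorization p := by
  have := normal_of_sup_centralizer hG
  obtain ⟨θ, hθ, hk⟩ := exists_le_charKer hM hB (isDefectGroup_isPGroup hD)
  obtain ⟨Φ, hΦ⟩ := exists_equiv_of_sup hM hB hD hG hθ hk
  refine ⟨θ, hθ, hk, Φ, hΦ, fun ζ => ?_⟩
  have h := hΦ ζ 1 1 (one_regular hM.1)
  rw [OneMemClass.coe_one, one_mul, ← irr_degree_cast ζ] at h
  rw [blockHeight_of_degree hM.1 hθ (Φ ζ).2 h, height_zero_of_le_charKer hM hB hD hθ hk, add_zero]

theorem IsMaxBP.stab_ovr_le (hM : IsPModular p M) (hd : IsBP p M d) [d.1.Normal] {H : Subgroup G}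
    [H.Normal] (hH : Mid d.1 H) (hs : H ≤ MulAction.stabilizer G d) :
    stab (ovr H d) ≤ MulAction.stabilizer G d := fun g hg => by
  have h := incl_eB_conjSet (M := M) g (ovr H d)
  rw [mem_stab.1 hg, incl_eB_ovr_of_stab hM hd hH hs, ← fid_smul] at h
  rw [← inv_mem_iff]
  exact (pair_eq_of_fid hM hd (isBP_smul hd _).2 (by rw [fst_smul, cj_eq_of_normal]) h).symm

instance normal_sup_centralizer (D : Subgroup G) [D.Normal] :
    (D ⊔ centralizer (D : Set G)).Normal := inferInstance

/-- With a normal defect group heights are read off in `D C(D)`. -/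
theorem IsMaxBP.height_eq_of_over (hM : IsPModular p M) (hd : IsMaxBP p M B d) [d.1.Normal]
    [Fintype (d.1 ⊔ centralizer (d.1 : Set G) : Subgroup G)] {χ : IrrCharacter G} (hχ : χ ∈ B)
    {ξ : IrrCharacter (d.1 ⊔ centralizer (d.1 : Set G) : Subgroup G)} (hξ : ξ ∈ ovr _ d)
    (hc : classInner (fun n : (d.1 ⊔ centralizer (d.1 : Set G) : Subgroup G) => (χ : G → ℂ) n)
      ξ.1 ≠ 0) : blockHeight p B (χ : G → ℂ) = blockHeight p (ovr _ d) ξ.1 := by
  have hE := isPBlock_ovr hM hd.bp (mid_sup d.1)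
  have h1 := factorization_degree_of_over hM.1 ((inertia_le_stab hM hE hξ).trans
    (IsMaxBP.stab_ovr_le hM hd.bp (mid_sup d.1) (sup_le_stabilizer d)))
    (by rw [sup_comm]; exact hd.not_dvd hM) hc
  have h2 := factorization_degree_add_defect (p := p) hχ
  have h3 := factorization_degree_add_defect (p := p) hξ
  rw [blockDefect_eq_of_subgroupOf hM hd.of.block (hd.defect hM) le_sup_left hE
    (hd.defect_ovr hM (mid_sup d.1))] at h3
  rw [factorization_card_eq (d.1 ⊔ centralizer (d.1 : Set G))] at h2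
  omega

theorem apply_div_eq_of_over {H : Subgroup G} [Fintype H] {χ : IrrCharacter G}
    {ξ : IrrCharacter H} (h : classInner (fun n : H => (χ : G → ℂ) n) (ξ : H → ℂ) ≠ 0) {z : H}
    (hz : (z : G) ∈ center G) : (χ : G → ℂ) z / (χ : G → ℂ) 1 = (ξ : H → ℂ) z / (ξ : H → ℂ) 1 := by
  have h1 := omega_incl_eq_of_over h (z := single z 1) (by
    rw [incl_single, isCentral_iff_invUnder_top, invUnder_iff]
    intro q _
    rw [Commute, SemiconjBy, single_one_mul_single_one, single_one_mul_single_one,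
      mem_center_iff.1 hz q])
  rwa [incl_single, omega_single, omega_single, one_mul, one_mul] at h1

end Cfsg.Agent.Block
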