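import Mathlib
import Cfsg.Agent.Block.Quot3
import Cfsg.Agent.Char.Gallagher

/-!
# Blocks with abelian defect groups and normal subgroups of `p`-power index
-/

namespace Cfsg.Agent.Block

open Cfsg Cfsg.Agent.Char MonoidAlgebra Subgroup
open Cfsg.Agent.LocalEven hiding isPGroup_zpowers_of_orderOf
open scoped ComplexConjugate

variable {G : Type*} [Group G] [Finite G] {p : ℕ} {M : Ideal AlgInt} {B : Set (IrrCharacter G)}

theorem pp_inv (hp : p.Prime) (g : G) : pp p g⁻¹ = (pp p g)⁻¹ :=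
  (pp_eq_iff hp).2 (pPart_inv (isPPart_pp hp g))

theorem exists_apply_ne_zero_of_central (hM : IsPModular p M) (hB : IsPBlock M B) {D : Subgroup G}
    (hD : IsDefectGroup p M B D) {u : G} (hu : u ∈ D) (hC : u ∈ centralizer (D : Set G))
    {χ : IrrCharacter G} (hχ : χ ∈ B) : ∃ g, pp p g = u ∧ (χ : G → ℂ) g ≠ 0 := by
  classical
  have := Fintype.ofFinite G
  obtain ⟨d, rfl, hd⟩ := exists_isMaxBP hM hB hD
  obtain ⟨ψ, hψ, h0⟩ := exists_height_zero (p := p) ⟨χ, hχ⟩
  have h1 := hd.con_ne_zero_of_central hM hu hC hχ hψ h0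
  rw [con_symm] at h1
  have h2 := card_mul_con hM (subAt_ok hM hd.bp hu).inv (irr_classFun ψ) (irr_classFun χ)
  by_contra! h
  rw [Finset.sum_eq_zero fun g hg => ?_] at h2
  · exact mul_ne_zero card_ne_zero h1 h2
  · rw [h g⁻¹, mul_zero]
    rw [pp_inv hM.1, (Finset.mem_filter.1 hg).2, subAt_u, inv_inv]

variable {N : Subgroup G} [hN : N.Normal]

theorem isIrr_res_of_free [Fintype N] (hab : commutator G ≤ N) {χ : IrrCharacter G}
    (h : ∀ lam : G →* ℂˣ, N ≤ lam.ker → (∀ g, lam g * (χ : G → ℂ) g = (χ : G → ℂ) g) → lam = 1) :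
    IsIrrCharacter N fun n : N => (χ : G → ℂ) n := by
  classical
  have := Fintype.ofFinite G
  refine Constit.isIrr_of_inner_self (isChar_res N (irr_isChar χ)) ?_
  rw [← Ind.inner_indFun_left N _ (irr_classFun χ), Gallagher.indFun_res_eq_sum (irr_classFun χ),
    classInner_sum_left, Finset.sum_eq_single (oneIrr G)]
  · rw [classInner_smul_left, coe_oneIrr, one_mul]
    exact (congrArg (classInner · _) (one_mul _)).trans (classInner_irr_self χ)
  · intro β hβ hne
    rw [Finset.mem_filter] at hβ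
    obtain ⟨lam, hl⟩ := isChar_linear_of_degree_one (irr_isChar β)
      ((isIrr_degree_one_iff β.2).2 (hab.trans hβ.2))
    rw [classInner_smul_left, hl]
    refine mul_eq_zero_of_right _ (classInner_isIrr_ne (isIrr_linear_mul χ.2 lam) χ.2 fun e => ?_)
    have h1 := h lam (by rw [← charKer_linear, ← hl]; exact hβ.2) (congrFun e)
    exact hne (Subtype.ext (by rw [hl, h1]; rfl))
  · intro h
    exact absurd (Finset.mem_filter.2 ⟨Finset.mem_univ _, fun n _ =>
      (mem_charKer_iff (irr_isChar (oneIrr G))).2 rfl⟩) h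

theorem card_ext_eq_index [Fintype N] {θ : IrrCharacter N}
    (h : ∀ χ : IrrCharacter G, classInner (fun n : N => (χ : G → ℂ) n) θ ≠ 0 →
      ∀ n : N, (χ : G → ℂ) n = (θ : N → ℂ) n) :
    Nat.card {χ : IrrCharacter G // ∀ n : N, (χ : G → ℂ) n = (θ : N → ℂ) n} = N.index := by
  classical
  have := Fintype.ofFinite G
  have h1 := classFun_apply_eq_sum (Ind.indFun_classFun N (θ : N → ℂ)) 1
  rw [Ind.indFun_one, Finset.sum_congr rfl (g := fun χ : IrrCharacter G =>
    if ∀ n : N, (χ : G → ℂ) n = (θ : N → ℂ) n then (θ : N → ℂ) 1 else 0), ← Finset.sum_filter,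
    Finset.sum_const, nsmul_eq_mul] at h1
  · rw [Nat.card_eq_fintype_card, Fintype.card_subtype]
    exact_mod_cast (mul_right_cancel₀ (irr_one_ne_zero θ) h1).symm
  · intro χ _
    rw [Ind.inner_indFun_left N _ (irr_classFun χ)]
    split_ifs with h2
    · rw [funext h2, classInner_irr_self, one_mul]
      exact h2 1
    · rw [classInner_eq_zero_comm.1 (by_contra fun h3 => h2 (h χ h3)), zero_mul]

omit hN in
theorem blockRank_eq_of_res {b : Set (IrrCharacter N)} (hreg : ∀ g, ¬ p ∣ orderOf g → g ∈ N)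
    (h : ∀ χ ∈ B, ∃ θ ∈ b, ∀ n : N, (χ : G → ℂ) n = (θ : N → ℂ) n)
    (h' : ∀ θ ∈ b, ∃ χ ∈ B, ∀ n : N, (χ : G → ℂ) n = (θ : N → ℂ) n) :
    blockRank p B = blockRank p b := by
  let r : (G → ℂ) →ₗ[ℂ] (N → ℂ) := LinearMap.funLeft ℂ ℂ Subtype.val
  have hr : ∀ (χ : G → ℂ) (θ : N → ℂ), (∀ n : N, χ n = θ n) →
      r (pRegularPart p χ) = pRegularPart p θ := fun χ θ e => funext fun n => by
    change pRegularPart p χ n = _
    by_cases hn : p ∣ orderOf n
    · rw [pRegularPart_of_dvd hn, pRegularPart_of_dvd (by rwa [orderOf_coe])]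
    · rw [pRegularPart_of_not_dvd hn, pRegularPart_of_not_dvd (by rwa [orderOf_coe]), e]
  have h1 : (regSpan p B).map r = regSpan p b := by
    rw [Submodule.map_span]
    congr 1
    ext f
    refine ⟨?_, ?_⟩
    · rintro ⟨_, ⟨χ, hχ, rfl⟩, rfl⟩
      obtain ⟨θ, hθ, e⟩ := h χ hχ
      exact ⟨θ, hθ, (hr _ _ e).symm⟩
    · rintro ⟨θ, hθ, rfl⟩
      obtain ⟨χ, hχ, e⟩ := h' θ hθ
      exact ⟨_, ⟨χ, hχ, rfl⟩, hr _ _ e⟩
  have h2 : ∀ f ∈ regSpan p B, ∀ g, p ∣ orderOf g → f g = 0 := fun f hf g hg => by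
    induction hf using Submodule.span_induction with
    | mem f hf =>
      obtain ⟨χ, -, rfl⟩ := hf
      exact pRegularPart_of_dvd hg
    | zero => rfl
    | add f f' _ _ h h' => rw [Pi.add_apply, h, h', add_zero]
    | smul c f _ h => rw [Pi.smul_apply, h, smul_zero]
  change Module.finrank ℂ (regSpan p B) = Module.finrank ℂ (regSpan p b)
  rw [← h1, ← LinearMap.range_domRestrict, LinearMap.finrank_range_of_inj]
  rw [injective_iff_map_eq_zero]
  refine fun f hf => Subtype.ext (funext fun g => ?_)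
  by_cases hg : p ∣ orderOf g
  · exact h2 _ f.2 g hg
  · exact congrFun hf ⟨g, hreg g hg⟩

omit hN in
theorem card_eq_mul_of_res {b : Set (IrrCharacter N)} {k : ℕ}
    (h : ∀ χ ∈ B, ∃ θ ∈ b, ∀ n : N, (χ : G → ℂ) n = (θ : N → ℂ) n)
    (h' : ∀ θ ∈ b, Nat.card {χ : IrrCharacter G // χ ∈ B ∧
      ∀ n : N, (χ : G → ℂ) n = (θ : N → ℂ) n} = k) : Nat.card B = k * Nat.card b := by
  classical
  choose f hf hf' using h
  have := Fintype.ofFinite b
  let F : B → b := fun χ => ⟨f χ.1 χ.2, hf _ _⟩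
  rw [← Nat.card_congr (Equiv.sigmaFiberEquiv F), Nat.card_sigma, Finset.sum_congr rfl
    (g := fun _ => k), Finset.sum_const, Finset.card_univ, smul_eq_mul, mul_comm,
    Nat.card_eq_fintype_card]
  intro θ _
  rw [← h' θ.1 θ.2]
  refine Nat.card_congr ⟨fun χ => ⟨χ.1.1, χ.1.2, fun n => ?_⟩,
    fun χ => ⟨⟨χ.1, χ.2.1⟩, Subtype.ext (Subtype.ext (funext fun n => ?_))⟩, fun _ => rfl,
    fun _ => rfl⟩
  · exact (hf' _ χ.1.2 n).trans (congrArg (fun θ : b => (θ.1 : N → ℂ) n) χ.2)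
  · exact (hf' _ χ.2.1 n).symm.trans (χ.2.2 n)

theorem isIrr_res_of_abelian [Fintype N] (hM : IsPModular p M) (hB : IsPBlock M B)
    (hidx : ∃ k : ℕ, N.index = p ^ k) {P : Subgroup G} (hP : IsDefectGroup p M B P)
    (hab : P ≤ centralizer (P : Set G)) (hsup : N ⊔ P = ⊤) {χ : IrrCharacter G} (hχ : χ ∈ B) :
    IsIrrCharacter N fun n : N => (χ : G → ℂ) n := by
  have hdec : ∀ g, ∃ n ∈ N, ∃ u ∈ P, n * u = g := fun g =>
    (mem_sup_iff_of_le_normalizer' (H := P) (N := N)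
      (by rw [normalizer_eq_top]; exact le_top)).1 (hsup ▸ mem_top g)
  refine isIrr_res_of_free ?_ fun lam hl h => MonoidHom.ext fun g => ?_
  · refine commutator_le.2 fun x _ y _ => ?_
    obtain ⟨n, hn, u, hu, rfl⟩ := hdec x
    obtain ⟨m, hm, v, hv, rfl⟩ := hdec y
    rw [← QuotientGroup.eq_one_iff, ← QuotientGroup.mk'_apply, map_commutatorElement,
      commutatorElement_eq_one_iff_mul_comm, map_mul, map_mul, QuotientGroup.mk'_apply N n,
      QuotientGroup.mk'_apply N m, (QuotientGroup.eq_one_iff n).2 hn,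
      (QuotientGroup.eq_one_iff m).2 hm, one_mul, one_mul, ← map_mul, ← map_mul, hab hv u hu]
  · obtain ⟨n, hn, u, hu, rfl⟩ := hdec g
    obtain ⟨x, hx, h0⟩ := exists_apply_ne_zero_of_central hM hB hP hu (hab hu) hχ
    have h1 : lam x = 1 := Units.ext (mul_right_cancel₀ h0 ((h x).trans (one_mul _).symm))
    rw [← pp_mul_pr (p := p) x, map_mul, hx,
      hl (mem_of_index_pow hM.1 hidx (pr_regular hM.1 x)), mul_one] at h1
    rw [map_mul, hl hn, h1, one_mul, MonoidHom.one_apply]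

end Cfsg.Agent.Block
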