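import Mathlib
import Cfsg.Agent.Block.Quot3
import Cfsg.Agent.Block.Sect
import Cfsg.Agent.Transfer.Frobenius

/-!
# The local form of Knörr's lemma, the Harris–Knörr correspondence and the Alperin–Dade theorem
-/

namespace Cfsg.Agent.Block

open Cfsg Cfsg.Agent.Char MonoidAlgebra Subgroup
open Cfsg.Agent.LocalEven hiding isPGroup_zpowers_of_orderOf
open scoped ComplexConjugate

variable {G : Type*} [Group G] [Finite G] {p : ℕ} {M : Ideal AlgInt} {B : Set (IrrCharacter G)}

theorem exists_mul_of_blockRank_one (hp : p.Prime) (h : blockRank p B = 1) {χ ψ : IrrCharacter G}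
    (hχ : χ ∈ B) (hψ : ψ ∈ B) : ∃ c : ℂ, ∀ g, ¬ p ∣ orderOf g → (ψ : G → ℂ) g = c * (χ : G → ℂ) g := by
  have h0 : (⟨pRegularPart p (χ : G → ℂ), Submodule.subset_span ⟨χ, hχ, rfl⟩⟩ : regSpan p B) ≠ 0 := by
    intro e
    have : pRegularPart p (χ : G → ℂ) 1 = 0 := congrFun (congrArg Subtype.val e) 1
    rw [pRegularPart_of_not_dvd (one_regular hp)] at this
    exact irr_one_ne_zero χ this
  obtain ⟨c, hc⟩ := (finrank_eq_one_iff_of_nonzero' _ h0).1 h
    ⟨pRegularPart p (ψ : G → ℂ), Submodule.subset_span ⟨ψ, hψ, rfl⟩⟩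
  refine ⟨c, fun g hg => ?_⟩
  have := congrFun (congrArg Subtype.val hc) g
  simpa [pRegularPart_of_not_dvd hg] using this.symm

theorem regular_mem_pPrimeCore_of_rank_one (hM : IsPModular p M)
    (h : blockRank p (principalBlock M G) = 1) {g : G} (hg : ¬ p ∣ orderOf g) :
    g ∈ pPrimeCore p G := by
  rw [← setKer_principal hM, mem_setKer]
  intro χ hχ
  obtain ⟨c, hc⟩ := exists_mul_of_blockRank_one hM.1 h (oneIrr_mem_principalBlock hM) hχ
  rw [mem_charKer_iff (irr_isChar χ), hc g hg, hc 1 (one_regular hM.1)]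
  rfl

section Graded

variable {R : Type*} [CommRing R] (N : Subgroup G) [hN : N.Normal]

/-- The homogeneous component of degree `t`. -/
noncomputable abbrev cmp (t : G ⧸ N) : MonoidAlgebra R G →ₗ[R] MonoidAlgebra R G :=
  trunc {g : G | (g : G ⧸ N) = t}

variable {N}

omit [Finite G] hN in
theorem coeff_cmp [DecidableEq (G ⧸ N)] (t : G ⧸ N) (x : MonoidAlgebra R G) (g : G) :
    (cmp N t x).coeff g = if (g : G ⧸ N) = t then x.coeff g else 0 := by
  split_ifs with h
  exacts [coeff_trunc_of_mem _ h, coeff_trunc_of_notMem _ h]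

omit [Finite G] hN in
theorem sum_cmp [Fintype (G ⧸ N)] (x : MonoidAlgebra R G) : ∑ t, cmp N t x = x := by
  classical
  refine ga_ext fun g => ?_
  simp [coeff_sum_apply, coeff_cmp]

theorem cmp_mul [Fintype (G ⧸ N)] (s : G ⧸ N) (x y : MonoidAlgebra R G) :
    cmp N s (x * y) = ∑ t, cmp N (s * t⁻¹) x * cmp N t y := by
  classical
  have := Fintype.ofFinite G
  refine ga_ext fun g => ?_
  simp only [coeff_sum_apply, coeff_cmp, coeff_mul_right, mul_ite, mul_zero]
  rw [Finset.sum_comm]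
  simp only [Finset.sum_ite_eq, Finset.mem_univ, if_true, QuotientGroup.mk_mul,
    QuotientGroup.mk_inv, mul_left_inj]
  split_ifs <;> simp

omit [Finite G] in
theorem InvUnder.cmp {x : MonoidAlgebra R G} (hx : InvUnder N x) (t : G ⧸ N) :
    InvUnder N (cmp N t x) :=
  hx.trunc fun n hn g => by simp [(QuotientGroup.eq_one_iff n).2 hn]

omit [Finite G] in
theorem cmp_one (x : MonoidAlgebra R G) : cmp N 1 x = incl N (resTo N x) := by
  rw [incl_resTo_eq_trunc, cmp, show {g : G | (g : G ⧸ N) = 1} = (N : Set G) from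
    Set.ext fun g => QuotientGroup.eq_one_iff (N := N) g]

theorem cmp_rel [Fintype (G ⧸ N)] {e : MonoidAlgebra R G} (he : IsCentral e) (hee : e * e = e)
    {c : R} (hc : c * Fintype.card (G ⧸ N) = 1) (s : G ⧸ N) :
    cmp N s e * e - c • e = ∑ t, (cmp N (s * t⁻¹) e * e - c • e) * (cmp N t e * e - c • e) := by
  have h1 : ∀ t : G ⧸ N, (cmp N (s * t⁻¹) e * e - c • e) * (cmp N t e * e - c • e) =
      cmp N (s * t⁻¹) e * cmp N t e * e - c • (cmp N (s * t⁻¹) e * e) - c • (cmp N t e * e) +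
        (c * c) • e := fun t => by
    have h2 : e * (cmp N t e * e) = cmp N t e * e := by
      rw [← mul_assoc, (he.commute _).eq, mul_assoc, hee]
    simp only [sub_mul, mul_sub, mul_smul_comm, smul_mul_assoc, mul_assoc, h2, hee, smul_sub,
      smul_smul]
    abel
  have h2 : ∑ t : G ⧸ N, cmp N (s * t⁻¹) e = e :=
    (Equiv.sum_comp ((Equiv.inv _).trans (Equiv.mulLeft s)) fun t => cmp N t e).trans (sum_cmp e)
  simp only [h1, Finset.sum_add_distrib, Finset.sum_sub_distrib, ← Finset.smul_sum,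
    ← Finset.sum_mul, ← cmp_mul, hee, h2, sum_cmp, Finset.sum_const, Finset.card_univ]
  rw [← Nat.cast_smul_eq_nsmul R, smul_smul, mul_assoc, hc, mul_one, sub_add_cancel]

end Graded

variable {N : Subgroup G} [hN : N.Normal]

/-- Knörr's lemma, local form. -/
theorem mem_jacobson_of_br (hM : IsPModular p M) {b : Set (IrrCharacter N)} (hb : IsPBlock M b)
    {Q : Subgroup G} (hQN : Q ≤ N) (hQ : IsDefectGroup p M b (Q.subgroupOf N))
    {a : invSubring (F M) N} (h0 : br Q a.1 = 0) (he : a.1 * incl N (eB M b) = a.1) :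
    a ∈ Ring.jacobson (invSubring (F M) N) := by
  classical
  have := Fact.mk hM.1
  have := Fintype.ofFinite (G ⧸ N)
  have hQp : IsPGroup p Q := isPGroup_of_subgroupOf (isDefectGroup_isPGroup hQ) hQN
  have hV := isV_blockIdem hM hb
  let A := invSubring (F M) N
  let ε : A := ⟨incl N (eB M b), (isCentral_eB b).invUnder_incl⟩
  have hεε : ε * ε = ε := Subtype.ext (by
    change incl N _ * incl N _ = incl N _
    rw [← map_mul, eB_mul_self hV])
  let deg : G ⧸ N → A → Prop := fun t a => ∀ g, a.1.coeff g ≠ 0 → (g : G ⧸ N) = t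
  let K : A → Prop := fun a => br Q a.1 = 0 ∧ a * ε = a
  have hbr : ∀ x y : A, br Q (x * y).1 = br Q x.1 * br Q y.1 := fun x y =>
    br_mul (pF_eq_zero hM) hQp (InvUnder.mono x.2 hQN) (InvUnder.mono y.2 hQN)
  have hKm : ∀ x y : A, K y → K (x * y) := fun x y hy =>
    ⟨by rw [hbr, hy.1, mul_zero], by rw [mul_assoc, hy.2]⟩
  have hmul : ∀ s t a b, deg s a → deg t b → deg (s * t) (a * b) := fun s t a b ha hb g hg => by
    obtain ⟨c, h1, h2⟩ := exists_of_coeff_mul_ne_zero hg
    rw [← ha c h1, ← hb _ h2, ← QuotientGroup.mk_mul, mul_inv_cancel_left]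
  have hεdeg : deg 1 ε := fun g hg => by
    rw [QuotientGroup.eq_one_iff]
    by_contra h'
    exact hg (coeff_incl_of_notMem _ _ h')
  have key : ∀ x : A, K x → x ^ Fintype.card (G ⧸ N) ∈ Ideal.jacobson ⊥ := fun x hx => by
    have key := pow_card_mem_of_graded deg (fun g hg => ?_) hmul K (fun a c _ hc => hKm a c hc)
      (Ideal.jacobson ⊥) (fun a ha hd => ?_) (fun t => ⟨_, InvUnder.cmp x.2 t⟩ * ε) (fun t => ?_)
      fun t => ⟨?_, ?_⟩
    · rwa [← Finset.sum_mul, show (∑ t : G ⧸ N, (⟨_, InvUnder.cmp x.2 t⟩ : A)) = x from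
        Subtype.ext (by rw [AddSubmonoidClass.coe_finsetSum]; exact sum_cmp _), hx.2] at key
    · have : g = 1 := by
        by_contra h'
        exact hg (by rw [OneMemClass.coe_one, coeff_one_apply, if_neg h'])
      rw [this, QuotientGroup.mk_one]
    · have ha' : incl N (resTo N a.1) = a.1 := incl_resTo N fun g hg => by
        by_contra h'
        exact hg ((QuotientGroup.eq_one_iff g).1 (hd g h'))
      have hc : IsCentral (resTo N a.1) := InvUnder.isCentral_resTo a.2
      refine mem_jacobson_of_central_nilpotent (fun c => Subtype.ext ?_) ?_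
      · have := InvUnder.commute_incl c.2 (resTo N a.1)
        rw [ha'] at this
        exact this
      · have h1 : IsNilpotent (resTo N a.1 * eB M b) := by
          refine isNilpotent_mul_eB hV hc fun θ hθ => ?_
          by_contra hne
          have h2 := br_ne_zero_of_lam_ne_zero hM hb hθ (isDefectGroup_isPGroup hQ)
            (br_eB_ne_zero_of_isDefectGroup hM hb hQ) hc hne
          rw [← br_incl_ne_zero_iff_le hQN, ha'] at h2
          exact h2 ha.1
        have h2 := h1.map (incl N)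
        rw [map_mul, ha', show a.1 * incl N (eB M b) = a.1 from congrArg Subtype.val ha.2] at h2
        obtain ⟨n, hn⟩ := h2
        exact ⟨n, Subtype.ext hn⟩
    · have := hmul t 1 ⟨_, InvUnder.cmp x.2 t⟩ ε (fun g hg => by
        by_contra h'
        exact hg (coeff_trunc_of_notMem _ h')) hεdeg
      rwa [mul_one] at this
    · rw [hbr]
      refine mul_eq_zero_of_left ?_ _
      by_contra h'
      obtain ⟨c, hc, h1⟩ := br_ne_zero_iff.1 h'
      refine br_ne_zero_iff.2 ⟨c, hc, fun h2 => h1 ?_⟩ hx.1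
      rw [coeff_cmp, h2, ite_self]
    · rw [mul_assoc, hεε]
  rw [← Ideal.jacobson_bot, Ideal.mem_jacobson_iff]
  intro y
  obtain ⟨w, hw⟩ := Ideal.mem_jacobson_iff.1 (key _ (hKm (-y) a ⟨h0, Subtype.ext he⟩)) (-1)
  refine ⟨w * ∑ i ∈ Finset.range (Fintype.card (G ⧸ N)), (-y * a) ^ i, ?_⟩
  rw [Ideal.mem_bot] at hw ⊢
  rw [← hw, sub_left_inj]
  have h3 := geom_sum_mul_neg (-y * a) (Fintype.card (G ⧸ N))
  generalize ∑ i ∈ Finset.range (Fintype.card (G ⧸ N)), (-y * a) ^ i = S at h3 ⊢
  calc _ = w * (S * (1 - -y * a)) := by noncomm_ring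
    _ = _ := by rw [h3]; noncomm_ring

theorem eq_zero_of_idem_of_br (hM : IsPModular p M) {b : Set (IrrCharacter N)} (hb : IsPBlock M b)
    {Q : Subgroup G} (hQN : Q ≤ N) (hQ : IsDefectGroup p M b (Q.subgroupOf N))
    {x : MonoidAlgebra (F M) G} (hx : InvUnder N x) (hxx : x * x = x) (h0 : br Q x = 0)
    (he : x * incl N (eB M b) = x) : x = 0 := by
  have := mem_jacobson_of_br hM hb hQN hQ (a := ⟨x, hx⟩) h0 he
  rw [← Ideal.jacobson_bot] at this
  exact congrArg Subtype.val (eq_zero_of_idem_of_mem_jacobson (Subtype.ext hxx) this)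

theorem Covers.mul_ne_zero [Fintype N] (hM : IsPModular p M) (hB : IsPBlock M B)
    {b : Set (IrrCharacter N)} (hb : IsPBlock M b) (h : Covers B b) :
    eB M B * incl N (eB M b) ≠ 0 := by
  intro h0
  have h1 : ∀ c ∈ blocksIn M (orbSet b), eB M B * incl N (eB M c) = 0 := fun c hc => by
    obtain ⟨hc, hc'⟩ := (mem_blocksIn_iff hM (saturated_orbSet (saturated_of_isPBlock hM hb))).1 hc
    obtain ⟨g, rfl⟩ := eq_conjSet_of_subset_orbSet hM hb hc hc'
    rw [incl_eB_conjSet, ← ((isCentral_eB B).invUnder ⊤).cjA_eq (mem_top g⁻¹), ← map_mul, h0,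
      map_zero]
  have h2 := eB_mul_of_subset (isV_overSet hM (isV_blockIdem hM hb)) (isV_blockIdem hM hB)
    (h.subset_overSet hM hB (isV_blockIdem hM hb))
  rw [← incl_eB_orbSet, ← (isCentral_eB B).commute, eB_eq_sum_blocksIn hM
    (saturated_orbSet (saturated_of_isPBlock hM hb)), map_sum, Finset.mul_sum,
    Finset.sum_eq_zero h1] at h2
  exact eB_ne_zero (isV_blockIdem hM hB) (block_nonempty hM hB) h2.symm

/-- Knörr's theorem, sharp form. -/
theorem Covers.br_mul_ne_zero [Fintype N] (hM : IsPModular p M) (hB : IsPBlock M B)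
    {b : Set (IrrCharacter N)} (hb : IsPBlock M b) (h : Covers B b) {Q : Subgroup G} (hQN : Q ≤ N)
    (hQ : IsDefectGroup p M b (Q.subgroupOf N)) : br Q (eB M B * incl N (eB M b)) ≠ 0 := by
  have h1 : incl N (eB M b) * incl N (eB M b) = incl N (eB M b) := by
    rw [← map_mul, eB_mul_self (isV_blockIdem hM hb)]
  refine fun h0 => h.mul_ne_zero hM hB hb (eq_zero_of_idem_of_br hM hb hQN hQ
    (((isCentral_eB B).invUnder N).mul (isCentral_eB b).invUnder_incl) ?_ h0 ?_)
  · rw [((isCentral_eB B).commute _).symm.mul_mul_mul_comm, eB_mul_self (isV_blockIdem hM hB), h1]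
  · rw [mul_assoc, h1]

end Cfsg.Agent.Block
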