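import Mathlib
import Cfsg.Agent.Block.Knorr2
import Cfsg.Agent.Block.PIdx

/-!
# The Alperin–Dade theorem on principal blocks
-/

namespace Cfsg.Agent.Block

open Cfsg Cfsg.Agent.Char MonoidAlgebra Subgroup
open Cfsg.Agent.LocalEven hiding isPGroup_zpowers_of_orderOf
open scoped ComplexConjugate

variable {G : Type*} [Group G] [Finite G] {p : ℕ} {M : Ideal AlgInt}

theorem hasNormalPComplement_centralizer_sylow [Fact p.Prime] (P : Sylow p G) :
    HasNormalPComplement p (centralizer ((P : Subgroup G) : Set G)) := by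
  refine Transfer.hasNormalPComplement_of_forall_isPGroup fun Q hQ g _ _ y hy => Subtype.ext ?_
  have h1 : Q.map (Subgroup.subtype _) ≤ normalizer ((P : Subgroup G) : Set G) :=
    (map_subtype_le Q).trans (centralizer_le_normalizer _)
  have h2 := P.is_maximal' (isPGroup_sup (hQ.map _) P.isPGroup' h1) le_sup_right
  exact g.2 y (h2.le (mem_sup_left (mem_map_of_mem _ hy)))

theorem isDefectGroup_principal_sylow (hM : IsPModular p M) (P : Sylow p G) :
    IsDefectGroup p M (principalBlock M G) P := by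
  have := Fact.mk hM.1
  refine isDefectGroup_of_pow_le hM isPBlock_principalBlock P.isPGroup' ?_ ?_
  · rw [br_eB hM P.isPGroup' (isV_blockIdem hM isPBlock_principalBlock),
      indSet_principal hM (exists_induced_centralizer hM P.isPGroup' isPBlock_principalBlock)]
    exact eB_ne_zero (isV_blockIdem hM isPBlock_principalBlock) ⟨_, oneIrr_mem_principalBlock hM⟩
  · rw [P.card_eq_multiplicity]
    exact Nat.pow_le_pow_right hM.1.pos (blockDefect_le _)

theorem mul_eq_smul_of_const {R : Type*} [CommRing R] [Fintype G] {K : Subgroup G}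
    {x a : MonoidAlgebra R G} (hx : ∀ g ∉ K, x.coeff g = 0)
    (ha : ∀ k ∈ K, ∀ g, a.coeff (k * g) = a.coeff g) : x * a = (∑ g, x.coeff g) • a := by
  refine ga_ext fun g => ?_
  rw [coeff_mul_left, coeff_smul, Finsupp.smul_apply, smul_eq_mul, Finset.sum_mul]
  refine Finset.sum_congr rfl fun h _ => ?_
  by_cases hh : h ∈ K
  · rw [ha _ (K.inv_mem hh)]
  · rw [hx h hh, zero_mul, zero_mul]

variable {N : Subgroup G} [hN : N.Normal]

theorem br_cmp_principal (hM : IsPModular p M) (hidx : ¬ p ∣ N.index) (P : Sylow p G)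
    (hsup : N ⊔ centralizer ((P : Subgroup G) : Set G) = ⊤) (s : G ⧸ N) :
    br P (cmp N s (eB M (principalBlock M G))) * br P (eB M (principalBlock M G)) =
      (N.index : F M)⁻¹ • br P (eB M (principalBlock M G)) := by
  classical
  have := Fact.mk hM.1
  have := Fintype.ofFinite G
  have := charP_F hM
  let C := centralizer ((P : Subgroup G) : Set G)
  let K := pPrimeCore p C
  have hC := hasNormalPComplement_centralizer_sylow P
  have hK : ¬ p ∣ Nat.card K := Core.not_dvd_card_pPrimeCore hM.1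
  have h1 : br P (eB M (principalBlock M G)) = redG M (avg K) := by
    rw [br_eB hM P.isPGroup' (isV_blockIdem hM isPBlock_principalBlock),
      indSet_principal hM (exists_induced_centralizer hM P.isPGroup' isPBlock_principalBlock),
      principalBlock_eq_of_normal_complement hM hK ⟨_, index_pPrimeCore_of_complement hM.1 hC⟩,
      avg_eq_blockIdem]
    rfl
  have h2 : ∀ c : C, (eB M (principalBlock M G)).coeff c =
      if c ∈ K then (Nat.card K : F M)⁻¹ else 0 := fun c => by
    rw [← coeff_resTo C, h1, coeff_redG, coeff_avg]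
    split_ifs
    · rw [red_inv ((val_natCast_eq_one_iff hM _).2 hK), red_natCast]
    · exact red_zero
  let f : K →* G ⧸ N := (QuotientGroup.mk' N).comp (C.subtype.comp K.subtype)
  have hf : Function.Surjective f := fun t => by
    obtain ⟨g, rfl⟩ := QuotientGroup.mk_surjective t
    obtain ⟨n, hn, c, hc, rfl⟩ := (mem_sup_iff_of_le_normalizer' (H := C) (N := N)
      (by rw [normalizer_eq_top]; exact le_top)).1 (hsup ▸ mem_top g)
    refine ⟨⟨pr p ⟨c, hc⟩, mem_pPrimeCore_of_complement hM.1 hC (pr_regular hM.1 _)⟩, ?_⟩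
    have h3 : ((pp p (⟨c, hc⟩ : C) : C) : G) ∈ N := by
      obtain ⟨k, hk⟩ := pPart_orderOf (isPPart_pp hM.1 (⟨c, hc⟩ : C))
      rw [← QuotientGroup.eq_one_iff, ← orderOf_eq_one_iff]
      refine (Nat.coprime_self _).1 (Nat.Coprime.coprime_dvd_right ?_
        ((((Nat.Prime.coprime_iff_not_dvd hM.1).2 hidx).pow_left k).coprime_dvd_left ?_))
      · exact orderOf_dvd_natCard _
      · rw [← hk]
        exact orderOf_map_dvd ((QuotientGroup.mk' N).comp C.subtype) _
    have h4 : c = (pp p (⟨c, hc⟩ : C) : C) * (pr p (⟨c, hc⟩ : C) : C) :=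
      congrArg Subtype.val (pp_mul_pr (p := p) (⟨c, hc⟩ : C)).symm
    conv_rhs => rw [h4, QuotientGroup.mk_mul, QuotientGroup.mk_mul,
      (QuotientGroup.eq_one_iff _).2 hn, (QuotientGroup.eq_one_iff _).2 h3, one_mul, one_mul]
    rfl
  rw [mul_eq_smul_of_const (K := K)]
  · congr 1
    have h3 : Nat.card K = Nat.card f.ker * N.index := by
      rw [← f.ker.card_mul_index, index_ker, MonoidHom.range_eq_top.2 hf, card_top]
      rfl
    have h4 : (Nat.card K : F M) ≠ 0 := fun h => hK ((CharP.cast_eq_zero_iff _ p _).1 h)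
    have h5 : (N.index : F M) ≠ 0 := fun h => hidx ((CharP.cast_eq_zero_iff _ p _).1 h)
    simp only [coeff_resTo, coeff_cmp, h2, ← ite_and]
    rw [← Finset.sum_filter, Finset.sum_const, nsmul_eq_mul, show (Finset.univ.filter fun c : C =>
      ((c : G) : G ⧸ N) = s ∧ c ∈ K).card = Nat.card f.ker from ?_]
    · rw [mul_inv_eq_iff_eq_mul₀ h4, h3, Nat.cast_mul, mul_comm, mul_inv_cancel_right₀ h5]
    · rw [← card_fiber_eq_card_ker hf s]
      refine (Finset.card_bij (fun (k : K) _ => (k : C)) (fun k hk => ?_)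
        (fun a _ b _ h => Subtype.ext h)
        fun c hc => ⟨⟨c, ?_⟩, ?_, rfl⟩).symm
      · exact Finset.mem_filter.2 ⟨Finset.mem_univ _, (Finset.mem_filter.1 hk).2, k.2⟩
      · exact (Finset.mem_filter.1 hc).2.2
      · exact Finset.mem_filter.2 ⟨Finset.mem_univ _, (Finset.mem_filter.1 hc).2.1⟩
  · intro g hg
    rw [coeff_resTo, coeff_cmp, h2, if_neg hg, ite_self]
  · intro k hk g
    rw [coeff_resTo, coeff_resTo, h2, h2]
    exact if_congr (K.mul_mem_cancel_left hk) rfl rfl

theorem cmp_principal_F (hM : IsPModular p M) (hidx : ¬ p ∣ N.index) (P : Sylow p G)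
    (hsup : N ⊔ centralizer ((P : Subgroup G) : Set G) = ⊤) (s : G ⧸ N) :
    cmp N s (eB M (principalBlock M G)) * eB M (principalBlock M G) -
      (N.index : F M)⁻¹ • eB M (principalBlock M G) = 0 := by
  have := Fact.mk hM.1
  have := Fintype.ofFinite (G ⧸ N)
  have := Fintype.ofFinite N
  have := charP_F hM
  have hPN : (P : Subgroup G) ≤ N := le_of_not_dvd_index P.isPGroup' hidx
  let e := eB M (principalBlock M G)
  have hV := isV_blockIdem hM (isPBlock_principalBlock (M := M) (G := G))
  have hV' := isV_blockIdem hM (isPBlock_principalBlock (M := M) (G := N))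
  have he : InvUnder N e := (isCentral_eB _).invUnder N
  let A := invSubring (F M) N
  let y : G ⧸ N → A := fun s => ⟨cmp N s e * e - (N.index : F M)⁻¹ • e,
    ((he.cmp s).mul he).sub (he.smul _)⟩
  have h1 : e * incl N (eB M (principalBlock M N)) = e := by
    rw [gInv_principal.incl_eB, (isCentral_eB _).commute, eB_mul_of_subset (isV_overSet hM hV') hV
      ((covers_principal hM).subset_overSet hM isPBlock_principalBlock hV')]
  have hJ : ∀ s, y s ∈ Ring.jacobson A := fun s => by
    refine mem_jacobson_of_br hM isPBlock_principalBlock hPN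
      (isDefectGroup_principal_sylow hM (P.subtype hPN)) ?_ ?_
    · change br P (cmp N s e * e - _) = 0
      rw [map_sub, map_smul, br_mul (pF_eq_zero hM) P.isPGroup' ((he.cmp s).mono hPN) (he.mono hPN),
        br_cmp_principal hM hidx P hsup, sub_self]
    · change (cmp N s e * e - _) * _ = cmp N s e * e - _
      rw [sub_mul, mul_assoc, smul_mul_assoc, h1]
  have h5 : (N.index : F M) ≠ 0 := fun h => hidx ((CharP.cast_eq_zero_iff _ p _).1 h)
  have h2 : Submodule.span A (Set.range y) = ⊥ := by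
    refine (Submodule.fg_span (Set.finite_range y)).eq_bot_of_le_jacobson_smul
      (Submodule.span_le.2 ?_)
    rintro _ ⟨s, rfl⟩
    have : y s = ∑ t, y (s * t⁻¹) • y t := Subtype.ext (by
      rw [AddSubmonoidClass.coe_finsetSum]
      exact cmp_rel (isCentral_eB _) (eB_mul_self hV) (by
        rw [← Nat.card_eq_fintype_card]; exact inv_mul_cancel₀ h5) s)
    rw [this]
    exact Submodule.sum_mem _ fun t _ =>
      Submodule.smul_mem_smul (hJ _) (Submodule.subset_span ⟨t, rfl⟩)
  exact congrArg Subtype.val ((Submodule.span_eq_bot.1 h2) _ ⟨s, rfl⟩)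

theorem cmp_principal (hM : IsPModular p M) (hidx : ¬ p ∣ N.index) (P : Sylow p G)
    (hsup : N ⊔ centralizer ((P : Subgroup G) : Set G) = ⊤) (s : G ⧸ N) :
    cmp N s (blockIdem (principalBlock M G)) * blockIdem (principalBlock M G) =
      (N.index : ℂ)⁻¹ • blockIdem (principalBlock M G) := by
  have := Fintype.ofFinite (G ⧸ N)
  have := Fintype.ofFinite G
  let E := blockIdem (principalBlock M G)
  have hV : IsV M E := isV_blockIdem hM isPBlock_principalBlock
  have hn := (val_natCast_eq_one_iff hM _).2 hidx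
  let Y : G ⧸ N → MonoidAlgebra ℂ G := fun s => cmp N s E * E - (N.index : ℂ)⁻¹ • E
  have hP : ∀ s, IsP M (Y s) := fun s => by
    have h1 := (hV.trunc {g : G | (g : G ⧸ N) = s}).mul hV
    have h2 := hV.smul (inv_mem_V_of_val_eq_one hn)
    rw [← redG_eq_zero_iff (h1.sub h2), redG_sub h1 h2, redG_mul (hV.trunc _) hV, redG_trunc,
      redG_smul (inv_mem_V_of_val_eq_one hn) hV, red_inv hn, red_natCast]
    exact cmp_principal_F hM hidx P hsup s
  have h0 := eq_zero_of_eq_sum_val_lt_one (M := M) (X := (G ⧸ N) × G)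
    (fun i j => (Y (i.1 * j.1⁻¹)).coeff (i.2 * j.2⁻¹)) (fun i j => hP _ _)
    (fun i => (Y i.1).coeff i.2) fun i => by
      have : Y i.1 = ∑ t, Y (i.1 * t⁻¹) * Y t :=
        cmp_rel (isCentral_blockIdem _) (blockIdem_mul_self _) (by
          rw [← Nat.card_eq_fintype_card]
          exact inv_mul_cancel₀ (Nat.cast_ne_zero.2 N.index_ne_zero_of_finite)) _
      rw [this, coeff_sum_apply, Fintype.sum_prod_type]
      simp only [coeff_mul_right]
  exact sub_eq_zero.1 (ga_ext fun g => congrFun h0 (s, g))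

theorem sum_principal_over [Fintype N] (hM : IsPModular p M) (hidx : ¬ p ∣ N.index) (P : Sylow p G)
    (hsup : N ⊔ centralizer ((P : Subgroup G) : Set G) = ⊤) {θ : IrrCharacter N}
    (hθ : θ ∈ principalBlock M N) [DecidablePred (· ∈ principalBlock M G)] :
    ∑ χ : IrrCharacter G with χ ∈ principalBlock M G,
      (χ : G → ℂ) 1 * classInner (fun n : N => (χ : G → ℂ) n) θ = (θ : N → ℂ) 1 := by
  have := Fintype.ofFinite G
  obtain ⟨χ, hχ, h⟩ := (covers_principal hM).exists_over hM
    (isV_blockIdem hM isPBlock_principalBlock) isPBlock_principalBlock hθ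
  have h1 := congrArg (omega (χ : G → ℂ)) (cmp_principal hM hidx P hsup 1)
  have h2 : (N.index : ℂ) ≠ 0 := Nat.cast_ne_zero.2 N.index_ne_zero_of_finite
  rw [omega_mul_central χ.2 _ (isCentral_blockIdem _), map_smul, omega_blockIdem_of_mem hχ, cmp_one,
    omega_trunc_of_over h (isCentral_blockIdem _), omega_resTo_blockIdem, ← Finset.sum_div,
    mul_one, smul_eq_mul, mul_one, div_eq_iff (mul_ne_zero h2 (irr_one_ne_zero θ)),
    inv_mul_cancel_left₀ h2] at h1
  exact h1

theorem alperin_dade (hM : IsPModular p M) (hidx : ¬ p ∣ N.index) (P : Sylow p G)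
    (hsup : N ⊔ centralizer ((P : Subgroup G) : Set G) = ⊤) :
    (∀ χ ∈ principalBlock M G, ∃ θ ∈ principalBlock M N, ∀ n : N, (χ : G → ℂ) n = (θ : N → ℂ) n) ∧
      ∀ θ ∈ principalBlock M N, ∃! χ : IrrCharacter G, χ ∈ principalBlock M G ∧
        ∀ n : N, (χ : G → ℂ) n = (θ : N → ℂ) n := by
  classical
  have := Fintype.ofFinite N
  have hres : ∀ χ : IrrCharacter G, IsCharacter N fun n : N => (χ : G → ℂ) n := fun χ =>
    isChar_res N (irr_isChar χ)
  have key : ∀ θ ∈ principalBlock M N, ∃ m : IrrCharacter G → ℕ,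
      (∀ χ : IrrCharacter G, classInner (fun n : N => (χ : G → ℂ) n) θ = m χ) ∧
      ∑ χ : IrrCharacter G with χ ∈ principalBlock M G, charDegree (χ : G → ℂ) * m χ =
        charDegree (θ : N → ℂ) := fun θ hθ => by
    choose m hm using fun χ : IrrCharacter G => classInner_isChar_nat (hres χ) (irr_isChar θ)
    refine ⟨m, hm, Nat.cast_injective (R := ℂ) ?_⟩
    rw [charDegree_cast (irr_isChar θ), ← sum_principal_over hM hidx P hsup hθ, Nat.cast_sum]
    exact Finset.sum_congr rfl fun χ _ => by rw [Nat.cast_mul, charDegree_cast (irr_isChar χ), hm]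
  have h1 : ∀ χ ∈ principalBlock M G, ∀ θ : IrrCharacter N,
      classInner (fun n : N => (χ : G → ℂ) n) θ ≠ 0 → ∀ n : N, (χ : G → ℂ) n = (θ : N → ℂ) n :=
    fun χ hχ θ h => by
      obtain ⟨m, hm, hs⟩ := key θ (mem_principal_of_under hM hχ h)
      refine congrFun (Constit.eq_of_inner_ne_zero_of_degree (hres χ) θ.2 h
        (charDegree_cast (irr_isChar χ)).symm (charDegree_cast (irr_isChar θ)).symm ?_)
      rw [← hs]
      refine le_trans (Nat.le_mul_of_pos_right _ (Nat.pos_of_ne_zero fun h0 => h ?_))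
        (Finset.single_le_sum (f := fun χ : IrrCharacter G => charDegree (χ : G → ℂ) * m χ)
          (fun _ _ => Nat.zero_le _) (Finset.mem_filter.2 ⟨Finset.mem_univ _, hχ⟩))
      rw [hm, h0, Nat.cast_zero]
  refine ⟨fun χ hχ => ?_, fun θ hθ => ?_⟩
  · obtain ⟨θ, h⟩ := exists_under N χ
    exact ⟨θ, mem_principal_of_under hM hχ h, h1 χ hχ θ h⟩
  · obtain ⟨χ, hχ, h⟩ := (covers_principal hM).exists_over hM
      (isV_blockIdem hM isPBlock_principalBlock) isPBlock_principalBlock hθ
    refine ⟨χ, ⟨hχ, h1 χ hχ θ h⟩, fun ψ hψ => ?_⟩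
    by_contra hne
    obtain ⟨m, hm, hs⟩ := key θ hθ
    have h2 : ∀ ζ : IrrCharacter G, (∀ n : N, (ζ : G → ℂ) n = (θ : N → ℂ) n) →
        charDegree (ζ : G → ℂ) * m ζ = charDegree (θ : N → ℂ) := fun ζ hζ => by
      refine Nat.cast_injective (R := ℂ) ?_
      rw [Nat.cast_mul, ← hm, funext hζ, classInner_irr_self, charDegree_cast (irr_isChar ζ),
        charDegree_cast (irr_isChar θ), mul_one]
      exact hζ 1
    have h3 := Finset.sum_le_sum_of_subset (f := fun χ : IrrCharacter G =>
      charDegree (χ : G → ℂ) * m χ) (s := {ψ, χ})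
      (t := Finset.univ.filter (· ∈ principalBlock M G)) (by
        simp [Finset.insert_subset_iff, hχ, hψ.1])
    rw [Finset.sum_pair hne, hs, h2 ψ hψ.2, h2 χ (h1 χ hχ θ h)] at h3
    have h4 : charDegree (θ : N → ℂ) = 0 := by omega
    exact irr_one_ne_zero θ (by rw [← charDegree_cast (irr_isChar θ), h4, Nat.cast_zero])

end Cfsg.Agent.Block
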