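import Mathlib
import Cfsg.Agent.Block.Knorr2
import Cfsg.Agent.Block.Rank2
import Cfsg.Agent.Core.PSolvable
import Cfsg.Agent.Core.SylowOf
import Cfsg.Agent.S0205

/-! Blocks with `k(B) - l(B) = 1`. -/

set_option autoImplicit false

namespace Cfsg.Agent.Block

open Cfsg Cfsg.Agent.Char Subgroup

theorem pow_card_eq_one_of_norm {V L : Type*} [CommGroup V] [Group L] [Finite L]
    [MulDistribMulAction L V] (F : Subgroup L) [hF : F.Normal] {s : L} {n : ℕ} (hn : 0 < n)
    (h1 : ∀ v : V, (∀ a ∈ F, a • v = v) → v = 1)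
    (h2 : ∀ i, 0 < i → i < n → ∀ a ∈ F, Commute a (s ^ i) → a = 1)
    (h3 : ∀ (b : L) (v : V), ∏ i ∈ Finset.range n, (b⁻¹ * s ^ i * b) • v = 1) (v : V) :
    v ^ Nat.card F = 1 := by
  classical
  have := Fintype.ofFinite F
  have h4 : ∏ b : F, ∏ i ∈ Finset.range n, ((b : L)⁻¹ * s ^ i * b) • v = 1 :=
    Finset.prod_eq_one fun b _ => h3 b v
  obtain ⟨n, rfl⟩ := Nat.exists_eq_succ_of_ne_zero hn.ne'
  rw [Finset.prod_comm, Finset.prod_range_succ', Finset.prod_eq_one, one_mul] at h4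
  · simpa using h4
  intro i hi
  set t := s ^ (i + 1) with ht
  let f : F → F := fun b => ⟨(b : L)⁻¹ * (t * b * t⁻¹), F.mul_mem (F.inv_mem b.2) (hF.conj_mem _ b.2 _)⟩
  have hf : Function.Bijective f := by
    refine Finite.injective_iff_bijective.1 fun b c e => ?_
    have e' : (b : L)⁻¹ * (t * b * t⁻¹) = (c : L)⁻¹ * (t * c * t⁻¹) := congrArg Subtype.val e
    have := h2 (i + 1) i.succ_pos (by simpa using hi) (c * (b : L)⁻¹) (F.mul_mem c.2 (F.inv_mem b.2))
      (by
        change c * (b : L)⁻¹ * t = t * (c * (b : L)⁻¹)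
        calc (c : L) * (b : L)⁻¹ * t = c * ((b : L)⁻¹ * (t * b * t⁻¹)) * t * (b : L)⁻¹ := by group
          _ = _ := by rw [e']; group)
    exact Subtype.ext (mul_inv_eq_one.1 this).symm
  rw [Fintype.prod_bijective f hf _ (fun a : F => (a : L) • t • v) fun b => by
    simp [f, ← mul_smul, mul_assoc]]
  refine h1 _ fun c hc => ?_
  rw [Finset.smul_prod']
  exact Fintype.prod_equiv (Equiv.mulLeft (⟨c, hc⟩ : F)) _ _ fun a => by simp [mul_smul]

variable {G : Type*} [Group G] {p : ℕ}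

/-- Centralizers of nontrivial `p`-elements are `p`-nilpotent (in commutator form). -/
def CNil (p : ℕ) (G : Type*) [Group G] : Prop :=
  ∀ u y x : G, u ≠ 1 → (∃ k, u ^ p ^ k = 1) → Commute u y → Commute u x → ¬ p ∣ orderOf y →
    (∃ k, (y * x * y⁻¹ * x⁻¹) ^ p ^ k = 1) → Commute y x

theorem CNil.subgroup (h : CNil p G) (H : Subgroup G) : CNil p H :=
  fun u y x hu ⟨k, hk⟩ h1 h2 h3 ⟨l, hl⟩ => Subtype.ext (h u y x (by simpa using hu)
    ⟨k, congrArg Subtype.val hk⟩ (congrArg Subtype.val h1.eq) (congrArg Subtype.val h2.eq)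
    (by simpa using h3) ⟨l, congrArg Subtype.val hl⟩)

variable [Finite G] [hp : Fact p.Prime]

theorem CNil.mem_centralizer (h : CNil p G) {Q : Subgroup G} (hQ : IsPGroup p Q) {y u : G}
    (hy : ¬ p ∣ orderOf y) (hN : y ∈ normalizer (Q : Set G)) (hu : u ∈ Q) (h1 : u ≠ 1)
    (hc : Commute u y) : y ∈ centralizer (Q : Set G) := by
  have key : ∀ u ∈ Q, u ≠ 1 → Commute u y → ∀ x ∈ Q, Commute u x → Commute y x :=
    fun u hu h1 hc x hx e => h u y x h1 (by simpa [Subtype.ext_iff] using hQ ⟨u, hu⟩) hc e hy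
      (by simpa [Subtype.ext_iff] using
        hQ ⟨_, Q.mul_mem ((mem_normalizer_iff.1 hN x).1 hx) (Q.inv_mem hx)⟩)
  have : Nontrivial Q := ⟨⟨⟨u, hu⟩, 1, by simpa using h1⟩⟩
  have := hQ.center_nontrivial
  obtain ⟨⟨z, hz⟩, h2⟩ := exists_ne (1 : center Q)
  have h3 : ∀ x ∈ Q, Commute (z : G) x := fun x hx =>
    (congrArg Subtype.val (mem_center_iff.1 hz ⟨x, hx⟩)).symm
  exact fun x hx => (key z z.2 (by simpa using h2) (key u hu h1 hc z z.2 (h3 u hu).symm).symm x hx
    (h3 x hx)).symm.eq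

theorem exists_pow_regular (y : G) : ∃ n, ¬ p ∣ orderOf (y ^ p ^ n) := by
  obtain ⟨n, m, hm, e⟩ := Nat.exists_eq_pow_mul_and_not_dvd (orderOf_pos y).ne' p hp.out.one_lt.ne'
  refine ⟨n, fun h => hm (h.trans (orderOf_dvd_of_pow_eq_one ?_))⟩
  rw [← pow_mul, ← e, pow_orderOf_eq_one]

omit [Finite G] in
theorem eq_one_of_pow_regular {c : G} (hc : ¬ p ∣ orderOf c) {n : ℕ} (h : c ^ p ^ n = 1) : c = 1 :=
  orderOf_eq_one_iff.1 ((((Nat.Prime.coprime_iff_not_dvd hp.out).2 hc).symm.pow_right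
    n).eq_one_of_dvd (orderOf_dvd_of_pow_eq_one h))

omit [Finite G] hp in
theorem isPGroup_zpowers_of_pow {x : G} {n : ℕ} (h : x ^ p ^ n = 1) : IsPGroup p (zpowers x) := by
  rintro ⟨_, k, rfl⟩
  refine ⟨n, Subtype.ext ?_⟩
  change (x ^ k) ^ p ^ n = 1
  rw [← zpow_natCast, ← zpow_mul, mul_comm, zpow_mul, zpow_natCast, h, one_zpow]

theorem CNil.conj_eq_one (h : CNil p G) (he : ∀ g : G, (∃ k, g ^ p ^ k = 1) → g ^ p = 1)
    (V : Subgroup G) [V.Normal] [IsMulCommutative V] (hV : IsPGroup p V)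
    (hO : ∀ T : Subgroup (MulAut.conjNormal (G := G) (H := V)).range, T.Normal → IsPGroup p T → T = ⊥)
    {x : G} (hx : x ^ p = 1) : MulAut.conjNormal (H := V) x = 1 := by
  open scoped IsMulCommutative in
  set φ := MulAut.conjNormal (G := G) (H := V) with hφ
  set ψ := φ.rangeRestrict with hψ
  have hs := φ.rangeRestrict_surjective
  have hk : ∀ y, y ∈ centralizer (V : Set G) → ψ y = 1 := fun y hy => by
    ext v
    simp [hψ, hφ, ← hy v v.2]
  have hsm : ∀ y (v : V), ((ψ y • v : V) : G) = y * v * y⁻¹ := fun y v => rfl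
  have fpf : ∀ c : φ.range, ¬ p ∣ orderOf c → ∀ v : V, c • v = v → v ≠ 1 → c = 1 := by
    intro c hc v e hv
    obtain ⟨y, rfl⟩ := hs c
    obtain ⟨n, hn⟩ := exists_pow_regular (p := p) y
    refine eq_one_of_pow_regular hc (n := n) ?_
    rw [← map_pow]
    refine hk _ (h.mem_centralizer hV hn (by simp [normalizer_eq_top]) v.2 (by simpa using hv)
      (Commute.pow_right ?_ _))
    have := congrArg Subtype.val e
    rw [hsm, mul_inv_eq_iff_eq_mul] at this
    exact this.symm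
  have star : ∀ x : G, x ^ p = 1 → ψ x ≠ 1 → ∀ c : φ.range, ¬ p ∣ orderOf c →
      Commute c (ψ x) → c = 1 := by
    intro x hx h1 c hc e
    obtain ⟨y, rfl⟩ := hs c
    set W := (zpowers (ψ x)).comap ψ with hW
    have hxp := isPGroup_zpowers_of_pow (p := p) (n := 1) (x := x) (by simpa using hx)
    obtain ⟨R, hR, h2⟩ := Core.exists_isSylowOf_ge (K := W) hxp (zpowers_le.2 (mem_zpowers _))
    have hc' : ∀ w ∈ W, Commute (ψ y) (ψ w) := by
      rintro w ⟨k, hk⟩
      rw [← hk]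
      exact e.zpow_right k
    obtain ⟨w, hw, h3⟩ := hR.exists_mul_normalizer (g := y) (mem_normalizer_fintype fun a ha => by
      change ψ _ ∈ zpowers _
      rwa [map_mul, map_mul, (hc' a ha).eq, map_inv, mul_inv_cancel_right])
    obtain ⟨n, hn⟩ := exists_pow_regular (p := p) (w⁻¹ * y)
    set y' := (w⁻¹ * y) ^ p ^ n with hy'
    have hN : y' ∈ normalizer (R : Set G) := pow_mem h3 _
    have hc'' : ∀ a ∈ W, Commute (ψ y') (ψ a) := fun a ha => by
      rw [hy', map_pow, map_mul, map_inv]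
      obtain ⟨k, hk⟩ := hw
      obtain ⟨l, hl⟩ := ha
      exact (Commute.mul_left (by rw [← hk, ← hl]; exact (Commute.zpow_zpow_self _ _ _).inv_left)
        (hc' a ⟨l, hl⟩)).pow_left _
    have h4 : ψ y' = 1 := by
      by_contra h4
      have h5 : ∀ u ∈ R, Commute u y' → u = 1 := fun u hu e => by
        by_contra h6
        have := h.mem_centralizer hR.isPGroup hn hN hu h6 e
        exact h4 (hk _ (centralizer_le (hR.normal_le hV (fun v hv => by
          change ψ v ∈ zpowers _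
          rw [hk v fun a ha => setLike_mul_comm ha hv]
          exact one_mem _) (by simp [normalizer_eq_top])) this))
      let f : R → R := fun u => ⟨(u : G)⁻¹ * (y' * u * y'⁻¹),
        R.mul_mem (R.inv_mem u.2) ((mem_normalizer_iff.1 hN _).1 u.2)⟩
      have hf : Function.Surjective f := Finite.injective_iff_surjective.1 fun b c e => by
        have e' : (b : G)⁻¹ * (y' * b * y'⁻¹) = (c : G)⁻¹ * (y' * c * y'⁻¹) := congrArg Subtype.val e
        refine Subtype.ext (mul_inv_eq_one.1 (h5 (c * (b : G)⁻¹) (R.mul_mem c.2 (R.inv_mem b.2))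
          ?_)).symm
        change c * (b : G)⁻¹ * y' = y' * (c * (b : G)⁻¹)
        calc (c : G) * (b : G)⁻¹ * y' = c * ((b : G)⁻¹ * (y' * b * y'⁻¹)) * y' * (b : G)⁻¹ := by group
          _ = _ := by rw [e']; group
      obtain ⟨u, hu⟩ := hf ⟨x, h2 (mem_zpowers x)⟩
      refine h1 ?_
      rw [← show (u : G)⁻¹ * (y' * u * y'⁻¹) = x from congrArg Subtype.val hu, map_mul, map_mul,
        map_mul, (hc'' u (hR.le u.2)).eq]
      simp
    obtain ⟨k, hk'⟩ := hw
    rw [hy', map_pow, map_mul, map_inv, (hc' w ⟨k, hk'⟩).inv_right.symm.mul_pow] at h4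
    refine eq_one_of_pow_regular hc (n := n + 1) ?_
    rw [inv_pow, inv_mul_eq_one] at h4
    rw [pow_succ, pow_mul, ← h4, ← pow_mul, mul_comm, pow_mul,
      ← hk', ← zpow_natCast _ p, ← zpow_mul, mul_comm, zpow_mul, zpow_natCast, ← map_pow, hx]
    simp
  by_contra h1
  replace h1 : ψ x ≠ 1 := fun e => h1 (congrArg Subtype.val e)
  have hN : ∀ (y : G) (v : V), y ^ p = 1 → ∏ i ∈ Finset.range p, ψ y ^ i • v = 1 := by
    intro y v hy
    have key : ∀ n, (v * y) ^ n = (∏ i ∈ Finset.range n, ψ y ^ i • v : V) * y ^ n := fun n => by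
      induction n with
      | zero => simp
      | succ n ih =>
        rw [pow_succ, ih, Finset.prod_range_succ, ← map_pow, coe_mul, hsm]
        group
    have h2 := key p
    rw [hy, mul_one] at h2
    obtain ⟨k, hk⟩ := hV (∏ i ∈ Finset.range p, ψ y ^ i • v)
    exact Subtype.ext (h2.symm.trans (he _ ⟨k + 1, by
      rw [pow_succ', pow_mul, h2]; exact congrArg Subtype.val hk⟩))
  have : Nontrivial φ.range := ⟨_, _, h1⟩
  rcases Nat.even_or_odd (Nat.card φ.range) with h2 | h2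
  · obtain ⟨t, ht⟩ := exists_prime_orderOf_dvd_card' 2 h2.two_dvd
    have h3 : p ≠ 2 := by
      rintro rfl
      refine h1 (Subtype.ext (MulEquiv.ext fun v => ?_))
      have h4 := hN x v hx
      have h5 := hN 1 v (one_pow _)
      simp only [Finset.prod_range_succ, Finset.range_zero, Finset.prod_empty, map_one, one_pow,
        one_smul, pow_zero, pow_one, one_mul] at h4 h5
      exact mul_left_cancel (h4.trans h5.symm)
    have h4 : ¬ p ∣ orderOf t := by
      rw [ht, Nat.prime_dvd_prime_iff_eq hp.out Nat.prime_two]; exact h3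
    have h5 : t ≠ 1 := by rintro rfl; simp at ht
    have h6 : ∀ v : V, t • v = v⁻¹ := fun v => by
      by_contra h6
      refine h5 (fpf t h4 (v * t • v) ?_ fun e => h6 (eq_inv_of_mul_eq_one_right e))
      rw [smul_mul', ← mul_smul, ← pow_two, ← ht, pow_orderOf_eq_one, one_smul, mul_comm]
    refine h5 (star x hx h1 t h4 (Subtype.ext (MulEquiv.ext fun v => ?_)))
    change t • ψ x • v = ψ x • t • v
    rw [h6, h6, smul_inv']
  obtain ⟨F, hF, h3, h4⟩ := Core.IsPSolvable.exists_normal (Core.isPSolvable_of_solvable p (S0205.result h2))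
  replace h4 := h4.resolve_left fun e => h3 (hO F hF e)
  have h5 : ∀ a ∈ F, ¬ p ∣ orderOf a := fun a ha e =>
    (Nat.Prime.coprime_iff_not_dvd hp.out).1 h4.symm (e.trans (F.orderOf_dvd_natCard ha))
  have h6 : orderOf (ψ x) = p := orderOf_eq_prime (by rw [← map_pow, hx, map_one]) h1
  refine h1 (Subtype.ext (MulEquiv.ext fun v => ?_))
  suffices ∀ v : V, v = 1 by rw [this v, map_one, map_one]
  intro v
  have h7 := pow_card_eq_one_of_norm (V := V) F (s := ψ x) hp.out.pos (fun v hv => by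
      obtain ⟨⟨a, ha⟩, h7⟩ := (ne_bot_iff_exists_ne_one).1 h3
      by_contra h8
      exact h7 (Subtype.ext (fpf a (h5 a ha) v (hv a ha) h8)))
    (fun i hi hi' a ha e => star (x ^ i) (by rw [← pow_mul, mul_comm, pow_mul, hx, one_pow])
      (by rw [map_pow]; exact pow_ne_one_of_lt_orderOf hi.ne' (by omega)) a (h5 a ha)
      (by rwa [map_pow]))
    (fun b v => by
      obtain ⟨b, rfl⟩ := hs b
      have e : ∀ i, (b⁻¹ * x * b) ^ i = b⁻¹ * x ^ i * b := fun i => by
        simpa using conj_pow (a := b⁻¹) (b := x) (i := i)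
      rw [← hN (b⁻¹ * x * b) v (by rw [e, hx]; simp)]
      exact Finset.prod_congr rfl fun i _ => by rw [← map_pow ψ (b⁻¹ * x * b), e]; simp [hψ]) v
  obtain ⟨k, hk⟩ := hV v
  exact eq_one_of_pow_regular (fun e => (Nat.Prime.coprime_iff_not_dvd hp.out).1 h4.symm
    (e.trans (orderOf_dvd_of_pow_eq_one h7))) hk

theorem CNil.le_centralizer (h : CNil p G) (he : ∀ g : G, (∃ k, g ^ p ^ k = 1) → g ^ p = 1)
    (P : Sylow p G) {z : G} (hz : (P : Subgroup G) ≤ centralizer {z}) {R : Subgroup G}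
    (hR : IsPGroup p R) (h1 : z ∈ R) : R ≤ centralizer {z} := by
  by_contra h2
  obtain ⟨D, ⟨hD, h3, h4, R, hR, h5, h6⟩, hm⟩ := Set.Finite.exists_maximal (Set.toFinite
    {D : Subgroup G | IsPGroup p D ∧ z ∈ D ∧ D ≤ centralizer {z} ∧
      ∃ R : Subgroup G, IsPGroup p R ∧ D ≤ R ∧ ¬ R ≤ centralizer {z}})
    ⟨R ⊓ centralizer {z}, hR.to_inf_left, ⟨h1, mem_centralizer_singleton_iff.2 rfl⟩, inf_le_right,
      R, hR, inf_le_left, h2⟩
  have h7 := Core.lt_inf_normalizer_of_nilpotent hR.isNilpotent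
    (lt_of_le_of_ne h5 fun e => h6 (e ▸ h4))
  have h8 : ¬ R ⊓ normalizer (D : Set G) ≤ centralizer {z} := fun e =>
    h7.not_ge (hm ⟨hR.to_inf_left, h7.le h3, e, R, hR, inf_le_left, h6⟩ h7.le)
  obtain ⟨U, hU, h9⟩ := Core.exists_isSylowOf_ge (K := centralizer {z} ⊓ normalizer (D : Set G)) hD
    (le_inf h4 le_normalizer)
  have h10 : ¬ U ≤ D := fun e => by
    obtain rfl := le_antisymm e h9
    have h11 := (Core.isSylowOf_top P).of_card_le hD le_top
      ((Core.isSylowOf_sylow_of_le P hz).card_eq hU.of_normalizer).le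
    exact h6 (h11.eq_of_le hR le_top h5 ▸ h4)
  set H := normalizer (D : Set G) with hH
  have h11 : Core.IsSylowOf p U H := Core.isSylowOf_of_maximal hU.isPGroup (hU.le.trans inf_le_right)
    fun Q hQ e1 e2 => by
      by_cases e3 : Q ≤ centralizer {z}
      · exact (hU.eq_of_le hQ (le_inf e3 e1) e2).ge
      · exact absurd (hm ⟨hU.isPGroup, h9 h3, hU.le.trans inf_le_left, Q, hQ, e2, e3⟩ h9) h10
  set z' : H := ⟨z, le_normalizer h3⟩
  set V := normalClosure ({z'} : Set H) with hV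
  have h12 : V ≤ D.subgroupOf H := normalClosure_le_normal (by simpa [mem_subgroupOf] using h3)
  have h13 : V ≤ centralizer (D.subgroupOf H : Set H) := normalClosure_le_normal (by
    rintro _ rfl d hd
    exact Subtype.ext (mem_centralizer_singleton_iff.1 (h4 hd)))
  have : IsMulCommutative V := ⟨⟨fun a b => Subtype.ext (h13 b.2 a (h12 a.2))⟩⟩
  obtain ⟨x, hx, h14⟩ := SetLike.not_le_iff_exists.1 h8
  have hz' : z' ∈ V := subset_normalClosure rfl
  have h15 := (h.subgroup H).conj_eq_one (fun g ⟨k, hk⟩ => Subtype.ext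
      (he g ⟨k, congrArg Subtype.val hk⟩)) V ((hD.comap_subtype (K := H)).to_le h12)
    (fun T hT h15 => ?_) (x := ⟨x, hx.2⟩)
    (Subtype.ext (he x (by simpa [Subtype.ext_iff] using hR ⟨x, hx.1⟩)))
  · refine h14 (mem_centralizer_singleton_iff.2 ?_)
    have := congrArg (fun a : MulAut V => ((a ⟨z', hz'⟩ : V) : G)) h15
    exact mul_inv_eq_iff_eq_mul.1 this
  set ψ := (MulAut.conjNormal (G := H) (H := V)).rangeRestrict
  have hs := (MulAut.conjNormal (G := H) (H := V)).rangeRestrict_surjective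
  have h16 : T ≤ (U.subgroupOf H).map ψ := ((h11.subgroupOf le_rfl).map ψ).normal_le h15
    (by rw [subgroupOf_self, map_top_of_surjective _ hs]; exact le_top) (by simp [normalizer_eq_top])
  have h17 : V ≤ centralizer (T.comap ψ : Set H) := normalClosure_le_normal (by
    rintro _ rfl t ht
    obtain ⟨u, hu, e⟩ := h16 ht
    have := congrArg (fun a : (MulAut.conjNormal (G := H) (H := V)).range =>
      ((a.1 ⟨z', hz'⟩ : V) : H)) e
    change u * z' * u⁻¹ = t * z' * t⁻¹ at this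
    rw [← mul_inv_eq_iff_eq_mul, ← this, mul_inv_eq_iff_eq_mul]
    exact Subtype.ext (mem_centralizer_singleton_iff.1 (hU.le hu).1))
  refine eq_bot_iff.2 fun t ht => ?_
  obtain ⟨t, rfl⟩ := hs t
  exact Subtype.ext (MulEquiv.ext fun v => Subtype.ext (mul_inv_eq_iff_eq_mul.2 (h17 v.2 t ht)))

theorem CNil.elemAb (h : CNil p G) (hc : ∀ u v : G, u ≠ 1 → v ≠ 1 → (∃ k, u ^ p ^ k = 1) →
    (∃ k, v ^ p ^ k = 1) → IsConj u v) {D : Subgroup G} (hD : IsPGroup p D) :
    IsElementaryAbelian p D := by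
  obtain ⟨P, hP⟩ := hD.exists_le_sylow
  rcases eq_or_ne (P : Subgroup G) ⊥ with h0 | h0
  · obtain rfl : D = ⊥ := eq_bot_iff.2 (h0 ▸ hP)
    exact ⟨inferInstance, by simp⟩
  have := (nontrivial_iff_ne_bot _).2 h0
  have := P.isPGroup'.center_nontrivial
  obtain ⟨⟨z, hz⟩, h1⟩ := exists_prime_orderOf_dvd_card' (G := center P) p (by
    obtain ⟨n, hn, e⟩ := (P.isPGroup'.to_subgroup (center P)).nontrivial_iff_card.1 this
    exact e ▸ dvd_pow_self _ hn.ne')
  have h2 : orderOf (z : G) = p := (orderOf_coe z).trans ((orderOf_coe (⟨z, hz⟩ : center P)).trans h1)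
  have h3 : (z : G) ≠ 1 := fun e => hp.out.one_lt.ne (by rw [← h2, e, orderOf_one])
  have h4 : (z : G) ^ p = 1 := orderOf_dvd_iff_pow_eq_one.1 h2.dvd
  have he : ∀ g : G, (∃ k, g ^ p ^ k = 1) → g ^ p = 1 := fun g hg => by
    by_cases e : g = 1
    · simp [e]
    · obtain ⟨c, rfl⟩ := isConj_iff.1 (hc z g h3 e ⟨1, by simpa using h4⟩ hg)
      simp [h4]
  have hD' : ∀ a ∈ D, ∃ k, a ^ p ^ k = 1 := fun a ha => by simpa [Subtype.ext_iff] using hD ⟨a, ha⟩
  refine ⟨⟨⟨fun a b => Subtype.ext ?_⟩⟩, fun a ha => he a (hD' a ha)⟩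
  by_cases e : (a : G) = 1
  · simp [e]
  obtain ⟨c, hc'⟩ := isConj_iff.1 (hc z a h3 e ⟨1, by simpa using h4⟩ (hD' a a.2))
  refine (mem_centralizer_singleton_iff.1 (h.le_centralizer he (c • P) ?_ hD a.2 b.2)).symm
  rintro _ ⟨y, hy, rfl⟩
  have h5 : y * z = z * y := congrArg Subtype.val (mem_center_iff.1 hz ⟨y, hy⟩)
  rw [mem_centralizer_singleton_iff, ← hc']
  simp [mul_assoc, ← mul_assoc y, h5]

theorem elemAb_of_isPSolvable.{u} {G : Type u} [Group G] [Finite G] (hs : IsPSolvable p G)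
    {D : Subgroup G} (hD : IsPGroup p D) (hc : ∀ u ∈ D, ∀ v ∈ D, u ≠ 1 → v ≠ 1 → IsConj u v) :
    IsElementaryAbelian p D := by
  revert D
  refine Core.induction_on_card (P := fun G _ _ => IsPSolvable p G → ∀ {D : Subgroup G},
    IsPGroup p D → (∀ u ∈ D, ∀ v ∈ D, u ≠ 1 → v ≠ 1 → IsConj u v) → IsElementaryAbelian p D) ?_ G hs
  intro G _ _ ih hs D hD hc
  rcases eq_or_ne D ⊥ with rfl | h0
  · exact ⟨inferInstance, by simp⟩
  obtain ⟨N, hN, h1, -, h2⟩ := Core.exists_minimal_normal_le (⊤ : Subgroup G)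
    fun e => h0 (eq_bot_iff.2 (e ▸ le_top))
  by_cases h3 : D ⊓ N = ⊥
  · have hi : ∀ u ∈ D, QuotientGroup.mk' N u = 1 → u = 1 := fun u hu e =>
      (eq_bot_iff.1 h3 ⟨hu, (QuotientGroup.eq_one_iff u).1 e⟩ :)
    obtain ⟨⟨⟨h4⟩⟩, h5⟩ := ih (G ⧸ N) (by
        rw [card_eq_card_quotient_mul_card_subgroup N]
        exact lt_mul_of_one_lt_right Nat.card_pos ((one_lt_card_iff_ne_bot N).2 h1))
      (Core.IsPSolvable.quotient hs N) (hD.map (QuotientGroup.mk' N)) (by
        rintro _ ⟨u, hu, rfl⟩ _ ⟨v, hv, rfl⟩ e e'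
        exact MonoidHom.map_isConj _
          (hc u hu v hv (by rintro rfl; simp at e) (by rintro rfl; simp at e')))
    refine ⟨⟨⟨fun a b => Subtype.ext (mul_inv_eq_one.1 (hi _ (D.mul_mem (a * b).2
      (D.inv_mem (b * a).2)) ?_))⟩⟩, fun a ha => hi _ (D.pow_mem ha _) ?_⟩
    · rw [map_mul, map_inv, mul_inv_eq_one]
      exact congrArg Subtype.val (h4 ⟨_, mem_map_of_mem _ a.2⟩ ⟨_, mem_map_of_mem _ b.2⟩)
    · exact h5 _ (mem_map_of_mem _ ha)
  obtain ⟨⟨u, hu⟩, h4⟩ := ne_bot_iff_exists_ne_one.1 h3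
  replace h4 : u ≠ 1 := by simpa using h4
  have h5 : D ≤ N := fun v hv => by
    by_cases e : v = 1
    · simp [e]
    · obtain ⟨c, rfl⟩ := isConj_iff.1 (hc u hu.1 v hv h4 e)
      exact hN.conj_mem _ hu.2 _
  have h6 := (Core.prime_dvd_card_of_isPGroup hD h0).trans (card_dvd_of_le h5)
  have h7 := (Core.minimal_normal_of_isPSolvable N (Core.IsPSolvable.subgroup hs N) h2).resolve_right
    fun e => (Nat.Prime.coprime_iff_not_dvd hp.out).1 e.symm h6
  have := h7.isNilpotent
  obtain ⟨q, hq, h8⟩ := Core.minimal_normal_elementary N inferInstance h1 h2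
  obtain ⟨k, hk⟩ := hD ⟨u, hu.1⟩
  obtain rfl : p = q := by
    by_contra e
    exact h4 (eq_one_of_pow_regular (fun e' => e ((Nat.prime_dvd_prime_iff_eq hp.out hq).1
      (e'.trans (orderOf_dvd_of_pow_eq_one (h8.2 u hu.2))))) (congrArg Subtype.val hk))
  exact Core.IsElementaryAbelian.of_le h8 h5

variable {M : Ideal AlgInt} {B : Set (IrrCharacter G)}

omit hp in
theorem blockRank_indSet_conj (hM : IsPModular p M) (hB : IsV M (blockIdem B)) {u v : G}
    (hu : ∃ k, orderOf u = p ^ k) (h : IsConj u v) :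
    blockRank p (indSet M (centralizer {u}) B) = blockRank p (indSet M (centralizer {v}) B) := by
  classical
  have := Fintype.ofFinite G
  have h1 := sum_section_block hM hB hu
  have hv : ∃ k, orderOf v = p ^ k := by
    obtain ⟨c, rfl⟩ := isConj_iff.1 h
    rwa [orderOf_conj']
  rw [sum_filter_pp_conj hM.1 (F := fun g => ∑ χ : IrrCharacter G with χ ∈ B,
      χ.1 g * (starRingEnd ℂ) (χ.1 g)) (fun g a => Finset.sum_congr rfl fun χ _ => by
      rw [irr_classFun χ]) h, sum_section_block hM hB hv, ← card_centralizer_eq_of_isConj h] at h1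
  exact_mod_cast (mul_left_cancel₀ (Nat.cast_ne_zero.2 Nat.card_pos.ne') h1).symm

omit hp in
theorem blockRank_indSet_one (hM : IsPModular p M) (hB : IsV M (blockIdem B)) :
    blockRank p (indSet M (centralizer {(1 : G)}) B) = blockRank p B := by
  classical
  have := Fintype.ofFinite G
  have h1 := sum_section_block hM hB (u := 1) ⟨0, by simp⟩
  rw [Finset.filter_congr fun g _ => pPart_eq_one_iff hM.1 (isPPart_pp hM.1 g),
    ← card_mul_blockRank hM hB, show Nat.card (centralizer ({1} : Set G)) = Nat.card G by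
      rw [show centralizer ({1} : Set G) = ⊤ by simp [eq_top_iff, mem_centralizer_iff, SetLike.le_def],
        card_top]] at h1
  exact_mod_cast (mul_left_cancel₀ (Nat.cast_ne_zero.2 Nat.card_pos.ne') h1).symm

omit hp in
theorem isConj_of_card_eq (hM : IsPModular p M) (hB : IsV M (blockIdem B))
    (hk : Nat.card B = blockRank p B + 1) {u v : G} (hu : ∃ k, orderOf u = p ^ k)
    (hv : ∃ k, orderOf v = p ^ k) (h1 : u ≠ 1) (h2 : v ≠ 1)
    (h3 : (indSet M (centralizer {u}) B).Nonempty) (h4 : (indSet M (centralizer {v}) B).Nonempty) :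
    IsConj u v ∧ blockRank p (indSet M (centralizer {u}) B) = 1 := by
  classical
  have := Fintype.ofFinite G
  let f : G → G := fun g => (ConjClasses.mk g).out
  have hf : ∀ g, IsConj g (f g) := fun g => (ConjClasses.mk_eq_mk_iff_isConj.1 (Quotient.out_eq _)).symm
  have hf' : ∀ g h, IsConj g h → f g = f h := fun g h e => by
    simp only [f, ConjClasses.mk_eq_mk_iff_isConj.2 e]
  have ho : ∀ g, orderOf (f g) = orderOf g := fun g => by
    obtain ⟨c, e⟩ := isConj_iff.1 (hf g)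
    rw [← e, orderOf_conj']
  set X := (Finset.univ.filter fun g : G => ∃ k, orderOf g = p ^ k).image f
  have h5 := card_eq_sum_blockRank hM hB (X := X) (by
      simp only [X, Finset.mem_image, Finset.mem_filter]
      rintro _ ⟨g, hg, rfl⟩
      exact ho g ▸ hg.2) fun g hg => ⟨f g, ⟨Finset.mem_image_of_mem _ (by simpa using hg), hf g⟩, by
      simp only [X, Finset.mem_image]
      rintro _ ⟨⟨h, -, rfl⟩, e⟩
      exact (hf' _ _ (e.trans (hf h).symm)).symm⟩
  have h6 : ∀ w : G, w ≠ 1 → f w ≠ f 1 := fun w hw e =>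
    hw (isConj_one_left.1 ((hf w).trans (e ▸ (hf 1).symm)))
  have h7 : ∀ s ⊆ X, f 1 ∉ s →
      ∑ x ∈ s, blockRank p (indSet M (centralizer {x}) B) ≤ 1 := fun s hs h7 => by
    have := Finset.sum_le_sum_of_subset (f := fun x => blockRank p (indSet M (centralizer {x}) B))
      (t := X) (Finset.insert_subset (Finset.mem_image_of_mem f (a := 1) (by simpa using ⟨0, by simp⟩)) hs)
    rw [Finset.sum_insert h7, ← blockRank_indSet_conj hM hB ⟨0, by simp⟩ (hf 1),
      blockRank_indSet_one hM hB] at this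
    omega
  have h8 := blockRank_pos hM.1 h3
  have h9 := blockRank_pos hM.1 h4
  have hu' : f u ∈ X := Finset.mem_image_of_mem _ (by simpa using hu)
  have hv' : f v ∈ X := Finset.mem_image_of_mem _ (by simpa using hv)
  have h10 := h7 {f u} (by simpa using hu') (by simpa using (h6 u h1).symm)
  rw [Finset.sum_singleton, ← blockRank_indSet_conj hM hB hu (hf u)] at h10
  refine ⟨by_contra fun e => ?_, by omega⟩
  have h11 := h7 {f u, f v} (by simp [Finset.insert_subset_iff, hu', hv'])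
    (by simp [(h6 u h1).symm, (h6 v h2).symm])
  rw [Finset.sum_pair fun e' : f u = f v => e ((hf u).trans (e' ▸ (hf v).symm)),
    ← blockRank_indSet_conj hM hB hu (hf u), ← blockRank_indSet_conj hM hB hv (hf v)] at h11
  omega

omit hp in
theorem indSet_nonempty (hM : IsPModular p M) (hB : IsPBlock M B) {D : Subgroup G}
    (hD : IsDefectGroup p M B D) {u : G} (hu : u ∈ D) :
    (indSet M (centralizer {u}) B).Nonempty := by
  have hQ := (isDefectGroup_isPGroup hD).to_le (zpowers_le.2 hu)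
  have h1 := br_ne_zero_of_le (zpowers_le.2 hu) (br_eB_ne_zero_of_isDefectGroup hM hB hD)
  rw [br_eB hM hQ (isV_blockIdem hM hB)] at h1
  rw [show centralizer ({u} : Set G) = centralizer (zpowers u : Set G) by
    rw [zpowers_eq_closure, centralizer_closure]]
  by_contra h
  rw [Set.not_nonempty_iff_eq_empty.1 h] at h1
  exact h1 eB_empty

theorem elemAb_of_card_principal (hM : IsPModular p M)
    (hk : Nat.card (principalBlock M G) = blockRank p (principalBlock M G) + 1) {D : Subgroup G}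
    (hD : IsPGroup p D) : IsElementaryAbelian p D := by
  have ho : ∀ u : G, (∃ k, u ^ p ^ k = 1) → ∃ k, orderOf u = p ^ k := fun u ⟨k, e⟩ =>
    exists_orderOf_eq_pow_of_mem hM.1 (isPGroup_zpowers_of_pow e) (mem_zpowers u)
  have h1 := fun (u : G) hu => indSet_principal hM (exists_induced_centralizer_singleton hM (ho u hu)
    isPBlock_principalBlock)
  have h2 := fun (u v : G) hu hv e e' => isConj_of_card_eq hM
    (isV_blockIdem hM isPBlock_principalBlock) hk (ho u hu) (ho v hv) e e'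
    (h1 u hu ▸ ⟨_, oneIrr_mem_principalBlock hM⟩) (h1 v hv ▸ ⟨_, oneIrr_mem_principalBlock hM⟩)
  refine CNil.elemAb (fun u y x hu e hy hx h3 ⟨k, h4⟩ => ?_)
    (fun u v hu hv e e' => (h2 u v e e' hu hv).1) hD
  set y' : centralizer ({u} : Set G) := ⟨y, mem_centralizer_singleton_iff.2 hy.symm⟩
  set x' : centralizer ({u} : Set G) := ⟨x, mem_centralizer_singleton_iff.2 hx.symm⟩
  have h5 := regular_mem_pPrimeCore_of_rank_one hM (h1 u e ▸ (h2 u u e e hu hu).2) (g := y')
    (by rwa [← orderOf_coe])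
  have h6 : y' * (x' * y'⁻¹ * x'⁻¹) ∈ pPrimeCore p _ := mul_mem h5
    ((inferInstance : (pPrimeCore p _).Normal).conj_mem _ (inv_mem h5) x')
  have h7 := eq_one_of_pow_regular (n := k) (fun e => (Nat.Prime.coprime_iff_not_dvd hM.1).1
    (Core.pPrimeCore_coprime p).symm (e.trans (orderOf_dvd_natCard _ h6)))
    (Subtype.ext (by simpa [mul_assoc] using h4))
  have h8 : y * (x * y⁻¹ * x⁻¹) = 1 := congrArg Subtype.val h7
  rwa [← mul_assoc, ← mul_assoc, mul_inv_eq_one, mul_inv_eq_iff_eq_mul] at h8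

end Cfsg.Agent.Block
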