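import Mathlib
import Cfsg.Agent.Block.Quot2
import Cfsg.Agent.Core.Coprime
import Cfsg.Agent.PGrp.Frattini

/-!
# Blocks of quotients by normal `p`-subgroups: ranks and the derived subgroup
-/

namespace Cfsg.Agent.Block

open Cfsg Cfsg.Agent.Char MonoidAlgebra Subgroup
open scoped ComplexConjugate commutatorElement

variable {G : Type*} [Group G] [Finite G] {p : ℕ} {M : Ideal AlgInt} {B : Set (IrrCharacter G)}
variable {Q : Type*} [Group Q] [Finite Q] {f : G →* Q}

theorem regular_map_of_regular (f : G →* Q) {g : G} (hg : ¬ p ∣ orderOf g) :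
    ¬ p ∣ orderOf (f g) := fun h => hg (h.trans (orderOf_map_dvd f g))

theorem mapG_regLift' (hp : p.Prime) {R : Type*} [CommRing R] (hf : Function.Surjective f)
    (hk : IsPGroup p f.ker) {y : MonoidAlgebra R Q}
    (hc : ∀ g, ¬ p ∣ orderOf g → y.coeff (f g) ≠ 0 → g ∈ centralizer (f.ker : Set G))
    (hy : ∀ h, p ∣ orderOf h → y.coeff h = 0) : mapG R f (regLift p f y) = y := by
  classical
  have := Fintype.ofFinite G
  refine ga_ext fun h => ?_
  rw [coeff_mapG]
  by_cases h0 : y.coeff h = 0
  · rw [h0]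
    refine Finset.sum_eq_zero fun g _ => ?_
    rw [coeff_regLift]
    split_ifs with h1 h2
    · rfl
    · rw [h1, h0]
    · rfl
  · obtain ⟨g, hg, rfl⟩ := exists_regular_lift hp hf fun hh => h0 (hy h hh)
    rw [Finset.sum_eq_single g, if_pos rfl, coeff_regLift, if_neg hg]
    · intro g' _ hne
      rw [coeff_regLift]
      split_ifs with h1 h2
      · rfl
      · exact absurd (regular_lift_unique hp hk h2 hg (hc _ h2 (h1 ▸ h0)) h1) hne
      · rfl
    · simp

/-- A `p'`-element acting trivially on `D / D'` centralizes the `p`-group `D`. -/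
theorem mem_centralizer_of_commutator_le (hp : p.Prime) {D : Subgroup G} (hD : IsPGroup p D)
    {g : G} (hg : ¬ p ∣ orderOf g) (hN : g ∈ normalizer (D : Set G))
    (h : ∀ x ∈ D, ⁅x, g⁆ ∈ ⁅D, D⁆) : g ∈ centralizer (D : Set G) := by
  have : Fact p.Prime := ⟨hp⟩
  have hA : zpowers g ≤ normalizer (D : Set G) := zpowers_le.2 hN
  have hA' := Core.le_normalizer_commutator hA hA
  have hDD : ⁅D, D⁆ ≤ D := commutator_le_self D
  have hcop : (Nat.card (zpowers g)).Coprime (Nat.card (⁅D, D⁆ : Subgroup G)) := by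
    obtain ⟨k, hk⟩ := (hD.to_le hDD).exists_card_eq
    rw [hk, Nat.card_zpowers]
    exact Nat.Coprime.pow_right _ ((Nat.Prime.coprime_iff_not_dvd hp).2 hg).symm
  have hc : ⁅D, zpowers g⁆ ≤ ⁅D, D⁆ := by
    rw [commutator_le]
    intro x hx y hy
    obtain ⟨k, rfl⟩ := mem_powers_iff_mem_zpowers.2 hy
    induction k with
    | zero => simp
    | succ k ih =>
      have e : ⁅x, g ^ (k + 1)⁆ = ⁅x, g ^ k⁆ * (g ^ k * ⁅x, g⁆ * (g ^ k)⁻¹) := by
        simp only [commutatorElement_def, pow_succ]
        group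
      change ⁅x, g ^ (k + 1)⁆ ∈ _
      rw [e]
      exact mul_mem (ih (pow_mem (mem_zpowers g) k))
        (Core.conj_mem_of_le_normalizer hA' (pow_mem (mem_zpowers g) k) (h x hx))
  have e := Core.sup_centralizer_eq_of_commutator_le (zpowers g) D ⁅D, D⁆ hDD hA' hcop
    (Or.inr (Core.solvable_of_isPGroup (hD.to_le hDD))) hc
  have e2 : (D ⊓ centralizer (zpowers g : Set G)).subgroupOf D = ⊤ := by
    refine frattini_nongenerating (eq_top_iff.2 ?_)
    have h1 : (⁅D, D⁆ ⊔ D ⊓ centralizer (zpowers g : Set G)).subgroupOf D = ⊤ := by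
      rw [e, subgroupOf_self]
    rw [← h1, ← Core.map_commutator_subtype, subgroupOf_sup _ inf_le_left, sup_comm]
    · refine sup_le_sup_left ?_ _
      rw [subgroupOf, comap_map_eq_self_of_injective D.subtype_injective]
      exact PGrp.commutator_le_frattini hD
    · exact map_subtype_le _
  rw [mem_centralizer_iff]
  intro x hx
  have : (⟨x, hx⟩ : D) ∈ (D ⊓ centralizer (zpowers g : Set G)).subgroupOf D := e2 ▸ mem_top _
  exact ((mem_subgroupOf.1 this).2 g (mem_zpowers g)).symm

open Classical in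
/-- Transport of the `p`-regular values of a function along a surjection. -/
noncomputable def regDown (hp : p.Prime) (hf : Function.Surjective f) :
    (G → ℂ) →ₗ[ℂ] (Q → ℂ) where
  toFun F q := if h : p ∣ orderOf q then 0 else F (exists_regular_lift hp hf h).choose
  map_add' F F' := by
    funext q
    simp only [Pi.add_apply]
    split_ifs <;> simp
  map_smul' c F := by
    funext q
    simp only [Pi.smul_apply, RingHom.id_apply]
    split_ifs <;> simp

theorem regDown_of_dvd (hp : p.Prime) (hf : Function.Surjective f) (F : G → ℂ) {q : Q}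
    (h : p ∣ orderOf q) : regDown hp hf F q = 0 := dif_pos h

theorem exists_regDown (hp : p.Prime) (hf : Function.Surjective f) {q : Q}
    (h : ¬ p ∣ orderOf q) : ∃ g, ¬ p ∣ orderOf g ∧ f g = q ∧ ∀ F, regDown hp hf F q = F g :=
  ⟨_, (exists_regular_lift hp hf h).choose_spec.1, (exists_regular_lift hp hf h).choose_spec.2,
    fun _ => dif_neg h⟩

theorem regDown_apply (hp : p.Prime) (hf : Function.Surjective f) (hk : IsPGroup p f.ker)
    (hc : ∀ g, ¬ p ∣ orderOf g → g ∈ centralizer (f.ker : Set G)) (F : G → ℂ) {g : G}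
    (hg : ¬ p ∣ orderOf g) : regDown hp hf F (f g) = F g := by
  obtain ⟨g', h1, h2, h3⟩ := exists_regDown hp hf (regular_map_of_regular f hg)
  rw [h3, regular_lift_unique hp hk h1 hg (hc _ h1) h2]

theorem blockRank_domSet_le (hp : p.Prime) (hf : Function.Surjective f) :
    blockRank p (domSet f hf B) ≤ blockRank p B := by
  have : FiniteDimensional ℂ (regSpan p B) :=
    FiniteDimensional.span_of_finite ℂ (Set.toFinite _)
  refine le_trans (Submodule.finrank_mono (?_ : regSpan p (domSet f hf B) ≤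
    (regSpan p B).map (regDown hp hf))) (Submodule.finrank_map_le _ _)
  rw [Submodule.span_le]
  rintro _ ⟨ψ, hψ, rfl⟩
  refine ⟨_, Submodule.subset_span ⟨_, hψ, rfl⟩, funext fun q => ?_⟩
  by_cases h : p ∣ orderOf q
  · rw [regDown_of_dvd hp hf _ h]
    exact (pRegularPart_of_dvd h).symm
  · obtain ⟨g, h1, rfl, h3⟩ := exists_regDown hp hf h
    rw [h3]
    beta_reduce
    rw [pRegularPart_of_not_dvd h1, pRegularPart_of_not_dvd h]
    rfl

theorem sum_regular_eq [Fintype G] [Fintype Q] (hp : p.Prime) (hf : Function.Surjective f)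
    (hk : IsPGroup p f.ker) (hc : ∀ g, ¬ p ∣ orderOf g → g ∈ centralizer (f.ker : Set G))
    [DecidablePred fun g : G => p ∣ orderOf g] [DecidablePred fun g : Q => p ∣ orderOf g]
    {A : Type*} [AddCommMonoid A] (F : Q → A) :
    ∑ g with ¬ p ∣ orderOf g, F (f g) = ∑ q with ¬ p ∣ orderOf q, F q := by
  refine Finset.sum_bij (fun g _ => f g) ?_ ?_ ?_ fun _ _ => rfl
  · intro g hg
    exact Finset.mem_filter.2 ⟨Finset.mem_univ _,
      regular_map_of_regular f (Finset.mem_filter.1 hg).2⟩
  · intro g hg g' hg' e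
    have h1 := (Finset.mem_filter.1 hg).2
    exact regular_lift_unique hp hk h1 (Finset.mem_filter.1 hg').2 (hc _ h1) e
  · intro q hq
    obtain ⟨g, h1, h2⟩ := exists_regular_lift hp hf (Finset.mem_filter.1 hq).2
    exact ⟨g, Finset.mem_filter.2 ⟨Finset.mem_univ _, h1⟩, h2⟩

theorem classFun_regDown (hp : p.Prime) (hf : Function.Surjective f) (hk : IsPGroup p f.ker)
    (hc : ∀ g, ¬ p ∣ orderOf g → g ∈ centralizer (f.ker : Set G)) {F : G → ℂ}
    (hF : IsClassFunction G F) : IsClassFunction Q (regDown hp hf F) := by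
  intro q x
  by_cases h : p ∣ orderOf q
  · rw [regDown_of_dvd hp hf _ h, regDown_of_dvd hp hf _ (by rwa [orderOf_conj'])]
  · obtain ⟨g, h1, rfl⟩ := exists_regular_lift hp hf h
    obtain ⟨y, rfl⟩ := hf x
    rw [← map_inv, ← map_mul, ← map_mul, regDown_apply hp hf hk hc _ h1,
      regDown_apply hp hf hk hc _ (by rwa [orderOf_conj']), hF]

theorem card_mul_bf_regDown (hp : p.Prime) (hf : Function.Surjective f) (hk : IsPGroup p f.ker)
    (hc : ∀ g, ¬ p ∣ orderOf g → g ∈ centralizer (f.ker : Set G)) (F : G → ℂ) (ψ : Q → ℂ) :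
    (Nat.card Q : ℂ) * bf p (regDown hp hf F) ψ = Nat.card G * bf p F fun g => ψ (f g) := by
  classical
  have := Fintype.ofFinite G
  have := Fintype.ofFinite Q
  rw [bf_eq_sum, bf_eq_sum, mul_inv_cancel_left₀ card_ne_zero, mul_inv_cancel_left₀ card_ne_zero,
    ← sum_regular_eq hp hf hk hc]
  refine Finset.sum_congr rfl fun g hg => ?_
  rw [regDown_apply hp hf hk hc _ (Finset.mem_filter.1 hg).2, map_inv]

theorem blockRank_domSet (hM : IsPModular p M) (hf : Function.Surjective f)
    (hk : IsPGroup p f.ker) (hc : ∀ g, ¬ p ∣ orderOf g → g ∈ centralizer (f.ker : Set G))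
    (hB : IsV M (blockIdem B)) : blockRank p (domSet f hf B) = blockRank p B := by
  classical
  have hp := hM.1
  have := Fintype.ofFinite G
  have := Fintype.ofFinite Q
  refine le_antisymm (blockRank_domSet_le hp hf) ?_
  have : FiniteDimensional ℂ (regSpan p (domSet f hf B)) :=
    FiniteDimensional.span_of_finite ℂ (Set.toFinite _)
  have hV : IsV M (blockIdem (domSet f hf B)) := by
    rw [← mapG_blockIdem]
    exact hB.mapG f
  refine le_trans (Submodule.finrank_mono (?_ : regSpan p B ≤
    (regSpan p (domSet f hf B)).map ((pRegL p G).comp (LinearMap.funLeft ℂ ℂ f))))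
    (Submodule.finrank_map_le _ _)
  rw [Submodule.span_le]
  rintro _ ⟨χ, hχ, rfl⟩
  have hcl := classFun_regDown hp hf hk hc (irr_classFun χ)
  have hreg : pRegularPart p (regDown hp hf χ) = regDown hp hf χ := by
    funext q
    rw [pRegularPart_apply]
    split_ifs with h
    · exact (regDown_of_dvd hp hf _ h).symm
    · rfl
  refine ⟨regDown hp hf χ, ?_, funext fun g => ?_⟩
  · refine (mem_regSpan_iff hM hV).2 ?_
    rw [hreg]
    refine classFun_ext (classFun_blockPart _ _) hcl fun ψ hψ => ?_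
    have := classInner_blockPart (domSet f hf B) (regDown hp hf χ) ⟨ψ, hψ⟩
    rw [this]
    split_ifs with h
    · rfl
    · have e := card_mul_bf_regDown hp hf hk hc χ ψ
      have e2 := bf_irr_eq_zero hM hB hχ h
      rw [bf_symm] at e2
      have e3 : bf p (χ : G → ℂ) (fun g => ψ (f g)) = 0 := e2
      rw [e3, mul_zero, mul_eq_zero] at e
      have e4 := bf_irr_right (p := p) (regDown hp hf χ) ⟨ψ, hψ⟩
      rw [hreg] at e4
      exact (e4.symm.trans (e.resolve_left card_ne_zero)).symm
  · change pRegularPart p (fun g => regDown hp hf χ (f g)) g = pRegularPart p χ g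
    by_cases h : p ∣ orderOf g
    · rw [pRegularPart_of_dvd h, pRegularPart_of_dvd h]
    · rw [pRegularPart_of_not_dvd h, pRegularPart_of_not_dvd h, regDown_apply hp hf hk hc _ h]

end Cfsg.Agent.Block
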