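import Mathlib
import Cfsg.Agent.Block.LocSys

/-! Gluing signs on an abelian `p`-group. -/

namespace Cfsg.Agent.Block

open Cfsg Cfsg.Agent.Char Subgroup Polynomial
open scoped _root_.Classical ComplexConjugate

theorem int_shape {X : Type*} [Fintype X] [Nonempty X] {b : X → ℤ}
    (h : Fintype.card X * ∑ x, b x * b x - (∑ x, b x) * ∑ x, b x = Fintype.card X - 1) :
    ∃ x₀ c s, (s = 1 ∨ s = -1) ∧ ∀ x, b x = c + if x = x₀ then s else 0 := by
  have h1 : ∑ x, ∑ y, (b y - b x) * (b y - b x) = 2 * (Fintype.card X - 1) := by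
    rw [← h, Finset.sum_mul_sum]
    simp only [sub_mul, mul_sub, Finset.sum_sub_distrib, Finset.sum_const, Finset.card_univ,
      nsmul_eq_mul, ← Finset.mul_sum, ← Finset.sum_mul]
    ring
  obtain ⟨x, -, hx⟩ := Finset.exists_lt_of_sum_lt (s := Finset.univ)
    (f := fun x => ∑ y, (b y - b x) * (b y - b x)) (g := fun _ => 2) (by
      rw [h1]
      simp [mul_comm])
  have h2 : ∀ x, 0 ≤ ∑ y, (b y - b x) * (b y - b x) := fun x =>
    Finset.sum_nonneg fun y _ => mul_self_nonneg _
  rcases (h2 x).eq_or_lt with h0 | h0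
  · have h3 : ∀ y, b y = b x := fun y => sub_eq_zero.1 (mul_self_eq_zero.1
      ((Finset.sum_eq_zero_iff_of_nonneg fun y _ => mul_self_nonneg _).1 h0.symm y
        (Finset.mem_univ _)))
    have h4 : Fintype.card X = 1 := by
      simp only [h3, sub_self, mul_zero, Finset.sum_const_zero] at h1
      omega
    have := Fintype.card_le_one_iff_subsingleton.1 h4.le
    exact ⟨x, b x - 1, 1, Or.inl rfl, fun y => by simp [Subsingleton.elim y x]⟩
  · obtain ⟨y, hy, h3⟩ := int_sum_sq_eq_one (m := fun y => b y - b x) (by omega)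
    refine ⟨y, b x, _, hy, fun z => ?_⟩
    split_ifs with e
    · simp [e]
    · have := h3 z e
      omega

theorem exists_rec_above {X : Type*} [Fintype X] [PartialOrder X] (F : X → ℤ → ℤ) :
    ∃ n : X → ℤ, ∀ x, n x = F x (∑ y with x < y, n y) := by
  refine ⟨wellFounded_gt.fix fun x ih => F x (∑ y, if h : y > x then ih y h else 0), fun x => ?_⟩
  rw [WellFounded.fix_eq, Finset.sum_filter]
  congr 1

variable {p : ℕ} {M : Ideal AlgInt} {Q : Type*} [Group Q] [Fintype Q]

theorem exists_mul_eq_intCast {k : Q → ℤ} (hk : IsGeneralizedCharacter Q fun v => (k v : ℂ)) :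
    ∃ f, IsGeneralizedCharacter Q f ∧ ∀ v, k v * f v = -∏ w, (-k w : ℤ) := by
  let q : ℤ[X] := ∏ w, (X - C (k w))
  have h1 : ∀ r : ℤ[X], IsGeneralizedCharacter Q fun v => ((r.eval (k v) : ℤ) : ℂ) := fun r => by
    induction r using Polynomial.induction_on' with
    | add f g hf hg => simpa [Pi.add_def] using isGenChar_add hf hg
    | monomial n a =>
      simpa [Pi.mul_def, Pi.pow_def] using isGenChar_mul (isGenChar_intCast a) (isGenChar_pow hk n)
  refine ⟨_, h1 q.divX, fun v => ?_⟩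
  have h2 : q.eval (k v) = 0 := by
    rw [eval_prod]
    exact Finset.prod_eq_zero (Finset.mem_univ v) (by simp)
  have h3 : q.coeff 0 = ∏ w, -k w := by simp [q, coeff_zero_eq_eval_zero, eval_prod]
  rw [← q.X_mul_divX_add, eval_add, eval_mul, eval_X, eval_C, h3, add_eq_zero_iff_eq_neg] at h2
  exact_mod_cast h2

theorem not_dvd_one_of_genChar (hM : IsPModular p M) (hQ : IsPGroup p Q) {k : Q → ℤ}
    (hk : IsGeneralizedCharacter Q fun v => (k v : ℂ)) {v : Q} (h : ¬ (p : ℤ) ∣ k v) :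
    ¬ (p : ℤ) ∣ k 1 := fun h1 => by
  have := Fact.mk hM.1
  have h2 := val_mul_sub_lt_one_of_mem_VC hM (isGenChar_mem_VC hk) (IsPGroup.iff_orderOf.1 hQ v)
    (Commute.one_right v)
  rw [mul_one, ← Int.cast_sub, val_intCast_lt_one_iff hM] at h2
  exact h ((dvd_sub_left h1).1 h2)

theorem exists_genChar_div (hM : IsPModular p M) (hc : IsMulCommutative Q) (hQ : IsPGroup p Q)
    {η ε : Q → ℂ} (hη : IsGeneralizedCharacter Q η) {k : Q → ℤ}
    (hk : IsGeneralizedCharacter Q fun v => (k v : ℂ)) (hp : ∀ v, v ≠ 1 → ¬ (p : ℤ) ∣ k v)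
    (hε : ∀ v, v ≠ 1 → IsIntegral ℤ (ε v)) (h : ∀ v, v ≠ 1 → η v = ε v * k v) :
    ∃ f, IsGeneralizedCharacter Q f ∧ ∀ v, v ≠ 1 → f v = ε v := by
  have := Fact.mk hM.1
  rcases subsingleton_or_nontrivial Q with h0 | h0
  · exact ⟨0, isGenChar_zero, fun v hv => absurd (Subsingleton.elim _ _) hv⟩
  have hp' : ∀ v, ¬ (p : ℤ) ∣ k v := fun v => by
    by_cases hv : v = 1
    · obtain ⟨w, hw⟩ := exists_ne (1 : Q)
      exact hv ▸ not_dvd_one_of_genChar hM hQ hk (hp w hw)
    · exact hp v hv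
  obtain ⟨g, hg, hN⟩ := exists_mul_eq_intCast hk
  obtain ⟨n, hn⟩ := IsPGroup.iff_card.1 hQ
  have hpN : ¬ (p : ℤ) ∣ ∏ w, -k w := fun e => by
    obtain ⟨w, -, hw⟩ := (Nat.prime_iff_prime_int.1 hM.1).exists_mem_finset_dvd e
    exact hp' w (dvd_neg.1 hw)
  generalize ∏ w, -k w = N at hN hpN
  have hN0 : (N : ℂ) ≠ 0 := Int.cast_ne_zero.2 fun e => hpN (by simp [e])
  obtain ⟨a, b, hab⟩ : IsCoprime ((Nat.card Q : ℕ) : ℤ) N := by
    rw [hn, Nat.cast_pow]
    exact ((Nat.prime_iff_prime_int.1 hM.1).irreducible.coprime_iff_not_dvd.2 hpN).pow_left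
  let w : Q → ℂ := (-(N : ℂ)⁻¹) • (η * g)
  have hw : ∀ v, v ≠ 1 → w v = ε v := fun v hv => by
    simp only [w, Pi.smul_apply, Pi.mul_apply, h v hv, mul_assoc, hN, smul_eq_mul]
    field_simp
  refine ⟨w - classInner w (lc 1) • regChar Q, isGenChar_of_inner_int
    (fun g a => by rw [mul_comm' a g, mul_inv_cancel_right]) fun χ hχ => ?_,
    fun v hv => by simp [regChar_of_ne hv, hw v hv]⟩
  obtain ⟨lam, rfl⟩ := isIrr_linear_of_comm hχ
  have hg2 := isGenChar_sub (isIrr_isGenChar (isIrr_linear lam)) (isIrr_isGenChar (isIrr_linear 1))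
  obtain ⟨m, hm⟩ := classInner_isGenChar_int (isGenChar_mul hη hg) hg2
  rw [classInner_sub_left, classInner_smul_left _ (regChar Q), classInner_regChar_left]
  simp only [map_one, Units.val_one, mul_one, ← classInner_sub_right]
  have h1 : IsIntegral ℤ (Nat.card Q * classInner w (lc lam - lc 1)) := by
    rw [card_mul_classInner]
    refine IsIntegral.sum _ fun v _ => ?_
    by_cases hv : v = 1
    · simp [hv, lc, isIntegral_zero]
    · rw [hw v hv, ← isGenChar_inv hg2]
      exact (hε v hv).mul (isGenChar_isIntegral hg2 _)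
  have h2 : classInner w (lc lam - lc 1) = ((-m / N : ℚ) : ℂ) := by
    rw [classInner_smul_left, hm]
    push_cast
    ring
  rw [h2] at h1 ⊢
  suffices h : IsIntegral ℤ ((-m / N : ℚ) : ℂ) by
    obtain ⟨c, hc⟩ := exists_int_of_isIntegral_ratCast h
    exact ⟨c, by rw [hc]; simp⟩
  have h3 : ((-m / N : ℚ) : ℂ) = a * (Nat.card Q * ((-m / N : ℚ) : ℂ)) + b * -m := by
    have : (a : ℂ) * Nat.card Q + b * N = 1 := by exact_mod_cast hab
    push_cast
    field_simp
    linear_combination (m : ℂ) * this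
  rw [h3]
  exact (isIntegral_algebraMap.mul h1).add (isIntegral_algebraMap.mul isIntegral_algebraMap.neg)

theorem exists_sign_linear (hc : IsMulCommutative Q) {f : Q → ℂ} (hf : IsGeneralizedCharacter Q f)
    (h : ∀ v, v ≠ 1 → f v * conj (f v) = 1) :
    ∃ (s : ℤ) (lam : Q →* ℂˣ), (s = 1 ∨ s = -1) ∧ ∀ v, v ≠ 1 → f v = s * lam v := by
  choose b hb using fun lam : Q →* ℂˣ =>
    classInner_isGenChar_int hf (isIrr_isGenChar (isIrr_linear lam))
  have h1 : ∀ v, f v = ∑ lam, b lam * (lam v : ℂ) := fun v => by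
    simp only [apply_eq_sum_lc f v, ← hb]
  have h2 : classInner f f = ∑ lam, (b lam : ℂ) * b lam := by
    conv_lhs => rw [show f = ∑ lam, (b lam : ℂ) • lc lam from funext fun v => by simp [h1 v]]
    simp [classInner_sum_left, classInner_sum_right, classInner_smul_left, classInner_smul_right,
      inner_lc]
  have h3 := card_mul_classInner f f
  rw [h2, ← Finset.add_sum_erase _ _ (Finset.mem_univ (1 : Q)), Finset.sum_congr rfl fun v hv =>
    h v (Finset.mem_erase.1 hv).1, Finset.sum_const, Finset.card_erase_of_mem (Finset.mem_univ _),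
    h1 1, nsmul_eq_mul, Nat.cast_sub (Finset.card_pos.2 ⟨1, Finset.mem_univ _⟩), Finset.card_univ,
    ← Nat.card_eq_fintype_card, ← card_lin_of_comm hc, Nat.card_eq_fintype_card] at h3
  simp only [map_one, Units.val_one, mul_one, map_sum, map_intCast] at h3
  obtain ⟨lam, c, s, hs, hl⟩ := int_shape (b := b) (by
    rw [sub_eq_iff_eq_add']
    exact_mod_cast h3)
  refine ⟨s, lam, hs, fun v hv => ?_⟩
  simp [h1 v, hl, add_mul, Finset.sum_add_distrib, ← Finset.mul_sum, sum_lc_eq_zero hv]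

theorem dvd_of_unit_div (hM : IsPModular p M) (hc : IsMulCommutative Q) (hQ : IsPGroup p Q)
    {η ε : Q → ℂ} (hη : IsGeneralizedCharacter Q η) {k : Q → ℤ}
    (hk : IsGeneralizedCharacter Q fun v => (k v : ℂ)) (hp : ∀ v, v ≠ 1 → ¬ (p : ℤ) ∣ k v)
    (hε : ∀ v, v ≠ 1 → IsIntegral ℤ (ε v)) (hε' : ∀ v, v ≠ 1 → ε v * conj (ε v) = 1)
    (h : ∀ v, v ≠ 1 → η v = ε v * k v) {n : ℤ} (hn : η 1 = n) :
    (Nat.card Q : ℤ) ∣ n - k 1 ∨ (Nat.card Q : ℤ) ∣ -n - k 1 := by
  obtain ⟨f, hf, e⟩ := exists_genChar_div hM hc hQ hη hk hp hε h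
  obtain ⟨s, lam, hs, hl⟩ := exists_sign_linear hc hf fun v hv => by rw [e v hv, hε' v hv]
  obtain ⟨c, hc⟩ := classInner_isGenChar_int (isGenChar_sub (isGenChar_intCast_smul s hη)
    (isGenChar_mul (isIrr_isGenChar (isIrr_linear lam)) hk)) isGenChar_one
  rw [classInner_one_right, Finset.sum_eq_single 1 (fun v _ hv => by
    rcases hs with rfl | rfl <;> simp [h v hv, ← e v hv, hl v hv]) (by simp),
    inv_mul_eq_iff_eq_mul₀ (Nat.cast_ne_zero.2 Nat.card_pos.ne')] at hc
  have h1 : (Nat.card Q : ℤ) ∣ s * n - k 1 := ⟨c, by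
    have : (s : ℂ) * n - k 1 = Nat.card Q * c := by simpa [hn] using hc
    exact_mod_cast this⟩
  rcases hs with rfl | rfl
  · exact Or.inl (by simpa using h1)
  · exact Or.inr (by simpa using h1)

theorem isGenChar_descend (R : Subgroup Q) [R.Normal] {f : Q → ℂ}
    (hf : IsGeneralizedCharacter Q f) (h : ∀ r ∈ R, ∀ v, f (v * r) = f v) :
    IsGeneralizedCharacter (Q ⧸ R) fun q => f q.out := by
  have h1 : ∀ v : Q, f (v : Q ⧸ R).out = f v := fun v => by
    obtain ⟨r, hr⟩ := QuotientGroup.mk_out_eq_mul R v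
    rw [hr, h r r.2]
  refine isGenChar_of_inner_int (fun g a => ?_) fun χ hχ => ?_
  · obtain ⟨g, rfl⟩ := QuotientGroup.mk_surjective g
    obtain ⟨a, rfl⟩ := QuotientGroup.mk_surjective a
    rw [← QuotientGroup.mk_inv, ← QuotientGroup.mk_mul, ← QuotientGroup.mk_mul, h1, h1,
      isGenChar_classFun hf]
  · rw [← classInner_comp_surjective (QuotientGroup.mk' R) (QuotientGroup.mk'_surjective R)]
    simp only [QuotientGroup.mk'_apply, h1]
    exact classInner_isGenChar_int hf (isGenChar_comp (QuotientGroup.mk' R) (isIrr_isGenChar hχ))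

theorem isGenChar_indicator (S : Subgroup Q) [S.Normal] {n : ℤ} (h : (S.index : ℤ) ∣ n) :
    IsGeneralizedCharacter Q fun v => ((if v ∈ S then n else 0 : ℤ) : ℂ) := by
  obtain ⟨c, rfl⟩ := h
  convert isGenChar_intCast_smul c
    (isGenChar_comp (QuotientGroup.mk' S) (isChar_isGenChar isChar_regChar)) using 2 with v
  simp [regChar_apply, index, mul_comm]

theorem val_eq_one_of_mul_conj {z : ℂ} (h : IsIntegral ℤ z) (h1 : z * conj z = 1) :
    val M z = 1 := by
  have h2 := val_le_one_of_isIntegral M (h.map (starRingEnd ℂ).toIntAlgHom)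
  have h3 := congrArg (val M) h1
  rw [map_mul, map_one] at h3
  exact (val_le_one_of_isIntegral M h).antisymm (h3.ge.trans (mul_le_of_le_one_right' h2))

theorem glue_signs (hM : IsPModular p M) (hc : IsMulCommutative Q) (hQ : IsPGroup p Q)
    (m : Subgroup Q → ℤ) (hm : ¬ (p : ℤ) ∣ m ⊤)
    (hloc : ∀ R : Subgroup Q, R ≠ ⊥ → ∃ η ε : Q → ℂ, IsGeneralizedCharacter Q η ∧
      (∀ r ∈ R, ∀ v, η (v * r) = η v) ∧ ∀ v, IsIntegral ℤ (ε v) ∧ ε v * conj (ε v) = 1 ∧
        η v = ε v * m (R ⊔ zpowers v)) :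
    ∃ k : Q → ℤ, IsGeneralizedCharacter Q (fun v => (k v : ℂ)) ∧ (∀ v, v ≠ 1 → ¬ (p : ℤ) ∣ k v) ∧
      (∀ v, v ≠ 1 → k v = m (zpowers v) ∨ k v = -m (zpowers v)) ∧
      (∀ v w, zpowers v = zpowers w → k v = k w) ∧
      ∀ α : MulAut Q, (∀ R, m (R.map α.toMonoidHom) = m R) → ∀ v, k (α v) = k v := by
  have := Fact.mk hM.1
  replace hm : ∀ R, R ≠ ⊥ → ¬ (p : ℤ) ∣ m R := fun R => by
    induction R using WellFoundedGT.induction with | _ R ih => ?_
    intro h0
    rcases eq_or_ne R ⊤ with rfl | h1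
    · exact hm
    obtain ⟨v, hv⟩ : ∃ v, v ∉ R := by simpa [eq_top_iff'] using h1
    have h2 : R < R ⊔ zpowers v := left_lt_sup.2 (by simpa using hv)
    obtain ⟨η, ε, hη, -, h3⟩ := hloc R h0
    have h4 := val_mul_sub_lt_one_of_mem_VC hM (isGenChar_mem_VC hη)
      (IsPGroup.iff_orderOf.1 hQ v) (Commute.one_right v)
    have h5 : ∀ w, val M (η w) = val M (m (R ⊔ zpowers w) : ℂ) := fun w => by
      rw [(h3 w).2.2, map_mul, val_eq_one_of_mul_conj (h3 w).1 (h3 w).2.1, one_mul]
    intro h6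
    have h7 := val_add_lt_one h4 (b := η 1) (by
      rwa [h5, zpowers_one_eq_bot, sup_bot_eq, val_intCast_lt_one_iff hM])
    rw [mul_one, sub_add_cancel, h5, val_intCast_lt_one_iff hM] at h7
    exact ih _ h2 h2.ne_bot h7
  obtain ⟨n, hn⟩ := exists_rec_above fun (R : Subgroup Q) s =>
    if R = ⊥ then 0 else if (R.index : ℤ) ∣ m R - s then m R - s else -m R - s
  let k : Subgroup Q → Q → ℤ := fun R v => ∑ S with R < S, if v ∈ S then n S else 0
  have hk : ∀ R v, v ∉ R → k R v = m (R ⊔ zpowers v) ∨ k R v = -m (R ⊔ zpowers v) := by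
    intro R v hv
    have h1 : R < R ⊔ zpowers v := left_lt_sup.2 (by simpa using hv)
    have h2 : k R v = n (R ⊔ zpowers v) + ∑ S with R ⊔ zpowers v < S, n S := by
      rw [← Finset.sum_insert (by simp), show insert (R ⊔ zpowers v) _ =
        Finset.univ.filter (R ⊔ zpowers v ≤ ·) from Finset.ext fun S => by
          simp only [Finset.mem_insert, Finset.mem_filter, Finset.mem_univ, true_and]
          exact ⟨fun h => h.elim Eq.ge le_of_lt, fun h => h.eq_or_lt.imp_left Eq.symm⟩,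
        Finset.sum_filter]
      simp only [k, Finset.sum_filter, ← ite_and]
      refine Finset.sum_congr rfl fun S _ => if_congr ?_ rfl rfl
      rw [sup_le_iff, zpowers_le]
      exact ⟨fun h => ⟨h.1.le, h.2⟩, fun h => ⟨h.1.lt_of_ne fun e => hv (e ▸ h.2), h.2⟩⟩
    rw [h2, hn, if_neg h1.ne_bot]
    split_ifs <;> simp
  have hg : ∀ R, (∀ S, R < S → (S.index : ℤ) ∣ n S) →
      IsGeneralizedCharacter Q fun v => (k R v : ℂ) := fun R h => by
    have := isGenChar_sum (Finset.univ.filter (R < ·)) fun S hS =>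
      isGenChar_indicator S (h S (Finset.mem_filter.1 hS).2)
    convert this using 2 with v
    simp [k]
  have hd : ∀ R, (R.index : ℤ) ∣ n R := fun R => by
    induction R using WellFoundedGT.induction with | _ R ih => ?_
    rw [hn]
    split_ifs with h0 h1
    · exact dvd_zero _
    · exact h1
    obtain ⟨η, ε, hη, h2, h3⟩ := hloc R h0
    have h4 : ∀ q : Q ⧸ R, q ≠ 1 → q.out ∉ R := fun q hq e =>
      hq (by rw [← q.out_eq', QuotientGroup.eq_one_iff]; exact e)
    have h5 : (1 : Q ⧸ R).out ∈ R := by rw [← QuotientGroup.eq_one_iff, QuotientGroup.out_eq']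
    have h6 : k R (1 : Q ⧸ R).out = ∑ S with R < S, n S := Finset.sum_congr rfl fun S hS =>
      if_pos ((Finset.mem_filter.1 hS).2.le h5)
    have hgη := isGenChar_descend R hη h2
    obtain ⟨j, hj⟩ := isGenChar_degree hgη
    have h7 : j = m R ∨ j = -m R := by
      have := (h3 (1 : Q ⧸ R).out).2
      rw [sup_of_le_left (zpowers_le.2 h5), hj] at this
      rw [← mul_self_eq_mul_self_iff, ← Int.cast_inj (α := ℂ)]
      have h8 := congrArg conj this.2
      rw [map_mul, map_intCast, map_intCast] at h8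
      push_cast
      linear_combination j * this.2 + ε _ * m R * h8 + m R * m R * this.1
    have := dvd_of_unit_div hM (Q := Q ⧸ R) ⟨⟨fun a b => Quotient.inductionOn₂' a b fun a b =>
      congrArg QuotientGroup.mk (mul_comm' a b)⟩⟩ (hQ.to_quotient R) hgη
      (k := fun q => k R q.out) (ε := fun q => ε q.out * (m (R ⊔ zpowers q.out) / k R q.out))
      (isGenChar_descend R (hg R ih) fun r hr v => congrArg _ (Finset.sum_congr rfl fun S hS =>
        if_congr (S.mul_mem_cancel_right ((Finset.mem_filter.1 hS).2.le hr)) rfl rfl))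
      (fun q hq => ?_) (fun q hq => ?_) (fun q hq => ?_) (fun q hq => ?_) hj
    · simp only [h6, ← index_eq_card] at this
      rcases h7 with rfl | rfl
      · exact this.resolve_left h1
      · exact this.resolve_right (by simpa using h1)
    all_goals
      have h8 := hm (R ⊔ zpowers q.out) (ne_bot_of_le_ne_bot h0 le_sup_left)
      have h9 : (m (R ⊔ zpowers q.out) : ℂ) ≠ 0 := Int.cast_ne_zero.2 fun e => h8 (by simp [e])
      obtain ⟨a1, a2, a3⟩ := h3 q.out
      rcases hk R _ (h4 q hq) with e | e <;> simp [e, h8, h9, div_neg, a1, a1.neg, a2, a3]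
  refine ⟨k ⊥, hg ⊥ fun S _ => hd S, fun v hv => by
      have := hm _ (zpowers_ne_bot.2 hv)
      rcases hk ⊥ v (by simpa using hv) with e | e <;> simpa [e] using this,
    fun v hv => by simpa using hk ⊥ v (by simpa using hv),
    fun v w e => Finset.sum_congr rfl fun S _ => if_congr (by
      rw [← zpowers_le, e, zpowers_le]) rfl rfl, fun α hα v => ?_⟩
  have hs : ∀ (R : Subgroup Q) (F : Subgroup Q → ℤ), ∑ S with α.mapSubgroup R < S, F S =
      ∑ S with R < S, F (α.mapSubgroup S) := fun R F =>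
    (Finset.sum_equiv α.mapSubgroup.toEquiv (fun S => by
      simp only [Finset.mem_filter, Finset.mem_univ, true_and]
      exact α.mapSubgroup.lt_iff_lt.symm) fun _ _ => rfl).symm
  have hi : ∀ R, n (α.mapSubgroup R) = n R := fun R => by
    induction R using WellFoundedGT.induction with | _ R ih => ?_
    rw [hn, hn R, hs, Finset.sum_congr rfl fun S hS => ih S (Finset.mem_filter.1 hS).2,
      show m (α.mapSubgroup R) = m R from hα R,
      show (α.mapSubgroup R).index = R.index from index_map_equiv _ _]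
    simp only [_root_.map_eq_bot_iff]
  have := hs ⊥ fun S => if α v ∈ S then n S else 0
  rw [BotHomClass.map_bot] at this
  refine this.trans (Finset.sum_congr rfl fun S _ => if_congr ?_ (hi S) rfl)
  simp

end Cfsg.Agent.Block
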