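import Mathlib
import Cfsg.Agent.Block.OrdP
import Cfsg.Agent.Char.Galois

/-!
Blocks of a group with a Sylow subgroup of order `p`: Galois action, and the count of the
characters of degree prime to `p`.
-/

namespace Cfsg.Agent.Block

open Cfsg Cfsg.Agent.Char Subgroup
open scoped _root_.Classical ComplexConjugate

variable {G : Type*} [Group G] [Fintype G] {p : ℕ} {M : Ideal AlgInt} {P : Subgroup G}

theorem OrdP.exists_conj_eq (h : OrdP p P) {g : G} (hg : p ∣ orderOf g) :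
    ∃ (u : G) (x : P) (y : centralizer (P : Set G)), x ≠ 1 ∧ ¬ p ∣ orderOf y ∧
      u * g * u⁻¹ = x * y := by
  obtain ⟨u, hu⟩ := h.exists_le_zpowers hg
  obtain ⟨y, hy, e⟩ := exists_decomp h.ab ⟨_, mem_centralizer_of_le_zpowers hu⟩
  refine ⟨u, _, y, fun e1 => hy ?_, hy, congrArg Subtype.val e⟩
  rw [e1, map_one, one_mul] at e
  rwa [← e, ← orderOf_coe, orderOf_conj']

theorem OrdP.classFun_ext (h : OrdP p P) {φ ψ : G → ℂ} (hφ : IsClassFunction G φ)
    (hψ : IsClassFunction G ψ) (h1 : ∀ g, ¬ p ∣ orderOf g → φ g = ψ g)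
    (h2 : ∀ x : P, x ≠ 1 → ∀ y : centralizer (P : Set G), ¬ p ∣ orderOf y →
      φ (x * y) = ψ (x * y)) : φ = ψ := by
  funext g
  by_cases hg : p ∣ orderOf g
  · obtain ⟨u, x, y, hx, hy, e⟩ := h.exists_conj_eq hg
    rw [← hφ g u, ← hψ g u, e, h2 x hx y hy]
  · exact h1 g hg

theorem OrdP.card_eq (h : OrdP p P) : Nat.card G = p * P.index := by
  rw [← h.card, card_mul_index]

theorem OrdP.factorization (h : OrdP p P) : (Nat.card G).factorization p = 1 := by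
  rw [h.card_eq, Nat.factorization_mul h.prime.ne_zero index_ne_zero_of_finite, Finsupp.add_apply,
    h.prime.factorization_self, Nat.factorization_eq_zero_of_not_dvd h.ind]

theorem OrdP.orderOf_dvd_index (h : OrdP p P) {g : G} (hg : ¬ p ∣ orderOf g) :
    orderOf g ∣ P.index :=
  ((Nat.Prime.coprime_iff_not_dvd h.prime).2 hg).symm.dvd_of_dvd_mul_left
    (h.card_eq ▸ orderOf_dvd_natCard g)

/-- The Galois conjugate of a nontrivial linear character. -/
def ntMap (σ : ℂ →+* ℂ) (lam : NT P) : NT P :=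
  ⟨(Units.map (σ : ℂ →* ℂ)).comp lam.1, fun e => lam.2 (MonoidHom.ext fun x => Units.ext
    (σ.injective ((congrArg Units.val (DFunLike.congr_fun e x)).trans (map_one σ).symm)))⟩

variable {h : OrdP p P} {B : Set (IrrCharacter G)} {θ : IrrCharacter (centralizer (P : Set G))}
  {δ : ℤ} {ζ : NT P → IrrCharacter G} {a : IrrCharacter G → ℤ} {X : Set (IrrCharacter G)}

theorem OrdP.map_regular (h : OrdP p P) {σ : ℂ →+* ℂ} (hσ : ∀ z : ℂ, z ^ P.index = 1 → σ z = z)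
    {H : Subgroup G} (χ : IrrCharacter H) {y : H} (hy : ¬ p ∣ orderOf y) : σ (χ.1 y) = χ.1 y :=
  Galois.isGenChar_map_eq_self σ (Coh.vc_of_irr χ.2) fun z hz => hσ z (by
    obtain ⟨k, hk⟩ := h.orderOf_dvd_index (g := y) (by rwa [orderOf_coe])
    rw [hk, orderOf_coe, pow_mul, hz, one_pow])

theorem OrdP.map_regular' (h : OrdP p P) {σ : ℂ →+* ℂ} (hσ : ∀ z : ℂ, z ^ P.index = 1 → σ z = z)
    (χ : IrrCharacter G) {y : G} (hy : ¬ p ∣ orderOf y) : σ (χ.1 y) = χ.1 y :=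
  Galois.isGenChar_map_eq_self σ (Coh.vc_of_irr χ.2) fun z hz => hσ z (by
    obtain ⟨k, hk⟩ := h.orderOf_dvd_index hy
    rw [hk, pow_mul, hz, one_pow])

theorem DefOne.mapX (hd : DefOne h B θ δ ζ a X) {σ : ℂ →+* ℂ}
    (hσ : ∀ z : ℂ, z ^ P.index = 1 → σ z = z) {χ : IrrCharacter G} (hχ : χ ∈ X) :
    (fun g => σ (χ.1 g)) = χ.1 := by
  refine h.classFun_ext (classFun_map (irr_classFun χ) σ) (irr_classFun χ)
    (fun g hg => h.map_regular' hσ χ hg) fun x hx y hy => ?_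
  rw [hd.valX χ hχ x hx y hy, map_mul, map_mul, map_intCast, map_inv₀, map_natCast, map_sum]
  exact congrArg _ (congrArg _ (Finset.sum_congr rfl fun n _ =>
    h.map_regular hσ θ (by rwa [orderOf_cH])))

theorem DefOne.mapY (hd : DefOne h B θ δ ζ a X) {σ : ℂ →+* ℂ}
    (hσ : ∀ z : ℂ, z ^ P.index = 1 → σ z = z) (lam : NT P) :
    (fun g => σ ((ζ lam).1 g)) = (ζ (ntMap σ lam)).1 := by
  refine h.classFun_ext (classFun_map (irr_classFun _) σ) (irr_classFun _)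
    (fun g hg => (h.map_regular' hσ _ hg).trans (hd.agree _ _ g hg)) fun x hx y hy => ?_
  rw [hd.valY _ x hx y hy, hd.valY _ x hx y hy, map_mul, map_mul, map_intCast, map_inv₀,
    map_natCast, map_sum]
  refine congrArg _ (congrArg _ (Finset.sum_congr rfl fun n _ => ?_))
  rw [map_mul, h.map_regular hσ θ (by rwa [orderOf_cH])]
  rfl

theorem exists_pow_eq_crt {A : Type*} [Group A] (hp : p.Prime) (hc : Nat.card A = p) {a b : A}
    (ha : a ≠ 1) (hb : b ≠ 1) {n : ℕ} (hn : ¬ p ∣ n) :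
    ∃ j : ℕ, a ^ j = b ∧ j.Coprime (p * n) ∧ j ≡ 1 [MOD n] := by
  have := Fact.mk hp
  have : Finite A := Nat.finite_of_card_ne_zero (hc ▸ hp.ne_zero)
  obtain ⟨k, hk⟩ : ∃ k : ℕ, a ^ k = b := mem_powers_of_prime_card hc ha
  obtain ⟨j, hj1, hj2⟩ := Nat.chineseRemainder ((Nat.Prime.coprime_iff_not_dvd hp).2 hn) k 1
  have ho : orderOf a = p := orderOf_eq_prime (hc ▸ pow_card_eq_one') ha
  have hj3 : a ^ j = b := by rwa [← hk, pow_eq_pow_iff_modEq, ho]
  refine ⟨j, hj3, Nat.Coprime.mul_right ((Nat.Prime.coprime_iff_not_dvd hp).2 fun e => hb ?_).symm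
      (Nat.coprime_of_mul_modEq_one 1 (by rwa [mul_one])), hj2⟩
  rwa [← hj3, ← orderOf_dvd_iff_pow_eq_one, ho]

theorem OrdP.exists_ntMap (h : OrdP p P) (lam μ : NT P) : ∃ σ : ℂ ≃+* ℂ,
    (∀ z : ℂ, z ^ P.index = 1 → σ z = z) ∧ ntMap (σ : ℂ →+* ℂ) lam = μ := by
  obtain ⟨j, hj3, hj4, hj2⟩ := exists_pow_eq_crt h.prime (h.ab.card_hom.trans h.card) lam.2 μ.2
    h.ind
  rw [← h.card_eq] at hj4
  obtain ⟨σ, hσ⟩ := GaloisAut.exists_aut_pow Nat.card_pos.ne' hj4
  refine ⟨σ, fun z hz => ?_, Subtype.ext (MonoidHom.ext fun x => Units.ext ?_)⟩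
  · rw [hσ z (by rw [h.card_eq, mul_comm, pow_mul, hz, one_pow]), ← pow_mod_orderOf,
      (hj2.of_dvd (orderOf_dvd_of_pow_eq_one hz) : j % _ = 1 % _), pow_mod_orderOf, pow_one]
  · rw [← hj3]
    refine (hσ _ ?_).trans (by simp)
    rw [h.card_eq, pow_mul, ← Units.val_pow_eq_pow_val, ← map_pow, ← h.card, pow_card_eq_one',
      map_one, Units.val_one, one_pow]

theorem DefOne.sdiff (hd : DefOne h B θ δ ζ a X) : B \ Set.range ζ = X := by
  rw [hd.union, Set.union_sdiff_right, hd.disj.sdiff_eq_left]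

end Cfsg.Agent.Block
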