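import Mathlib
import Cfsg.Agent.Block.OrdP2
import Cfsg.Agent.Block.AbFrob

/-!
Restrictions of characters to a Sylow subgroup of prime order; weights for the principal block.
-/

namespace Cfsg.Agent.Block

open Cfsg Cfsg.Agent.Char Subgroup
open scoped _root_.Classical ComplexConjugate

variable {G : Type*} [Group G] [Fintype G] {p : ℕ} {M : Ideal AlgInt} {P : Subgroup G}

/-- The multiplicity of the trivial character in the restriction to `P`. -/
noncomputable def fx (P : Subgroup G) (χ : G → ℂ) : ℕ :=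
  ⌊(classInner (fun x : P => χ x) fun _ => 1).re⌋₊

theorem fx_cast {χ : G → ℂ} (hχ : IsCharacter G χ) :
    (fx P χ : ℂ) = classInner (fun x : P => χ x) fun _ => 1 := by
  obtain ⟨n, hn⟩ := classInner_isChar_nat (isChar_res P hχ) isChar_one
  rw [fx, hn]
  simp

theorem card_mul_fx {χ : G → ℂ} (hχ : IsCharacter G χ) :
    (Nat.card P : ℂ) * fx P χ = ∑ x : P, χ x := by
  rw [fx_cast hχ, classInner_one_right, mul_inv_cancel_left₀ card_ne_zero]

theorem sum_mul_eq_zero_of_fx {χ : G → ℂ} (hχ : IsCharacter G χ) (h : fx P χ = 0) (g : G) :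
    ∑ u : P, χ (u * g) = 0 := by
  have h1 := fx_cast (P := P) hχ
  obtain ⟨n, ρ, rfl⟩ := hχ
  have h2 := classInner_character_one (G := P) (ρ.comp P.subtype)
  have h3 : (Representation.invariants (G := P) (ρ.comp P.subtype)) = ⊥ := by
    rw [← Submodule.finrank_eq_zero]
    rw [h, Nat.cast_zero] at h1
    exact_mod_cast h2.symm.trans h1.symm
  have h4 : ∑ u : P, ρ u = 0 := by
    refine LinearMap.ext fun v => ?_
    rw [LinearMap.zero_apply, ← Submodule.mem_bot ℂ, ← h3]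
    intro y
    change (ρ y * ∑ u : P, ρ u) v = _
    rw [Finset.mul_sum]
    congr 1
    exact Fintype.sum_equiv (Equiv.mulLeft y) _ _ fun u => (map_mul ρ _ _).symm
  simp only [Representation.character, map_mul]
  rw [← map_sum, ← Finset.sum_mul, h4, zero_mul, map_zero]

theorem fx_eq_zero_of_constituent {φ ψ : G → ℂ} (hφ : IsCharacter G φ) (hψ : IsIrrCharacter G ψ)
    (h0 : fx P φ = 0) (h : classInner φ ψ ≠ 0) : fx P ψ = 0 := by
  obtain ⟨η, hη, rfl⟩ := Constit.exists_add_of_inner_ne_zero hφ hψ h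
  have h1 := fx_cast (P := P) hφ
  have : (fun x : P => (ψ + η) x) = (fun x : P => ψ x) + fun x : P => η x := rfl
  rw [this, classInner_add_left, ← fx_cast hη, ← fx_cast (isIrr_isChar hψ), h0] at h1
  have : 0 = fx P ψ + fx P η := by exact_mod_cast h1
  omega

theorem inner_eq_add_of_eq_off_one {A : Type*} [Group A] [Fintype A] {φ ψ : A → ℂ}
    (h : ∀ x, x ≠ 1 → φ x = ψ x) (μ : A →* ℂˣ) :
    classInner φ (lc μ) = classInner ψ (lc μ) + (φ 1 - ψ 1) / Nat.card A := by
  have : φ = ψ + ((φ 1 - ψ 1) / Nat.card A) • regChar A := by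
    funext x
    by_cases hx : x = 1
    · subst hx
      simp [regChar_one, card_ne_zero]
    · simp [regChar_of_ne hx, h x hx]
  conv_lhs => rw [this]
  rw [classInner_add_left, classInner_smul_left, classInner_regChar_left]
  simp [lc]

theorem OrdP.abFrob (h : OrdP p P) : AbFrob p P where
  toAbSyl := h.ab
  frob n x hx e y hy := by
    rw [eq_zpowers_of_card_prime h.prime h.card x.2 (fun e => hx (Subtype.ext e))] at hy
    obtain ⟨k, rfl⟩ := hy
    exact (Commute.zpow_right (mul_inv_eq_iff_eq_mul.1 (congrArg Subtype.val e)) k).eq.symm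

/-- The sum of the conjugates of a linear character of `P`. -/
noncomputable def eta (lam : P →* ℂˣ) : P → ℂ := ∑ μ with LRel lam μ, lc μ

theorem inner_eta (lam μ : P →* ℂˣ) :
    classInner (eta lam) (lc μ) = if LRel lam μ then 1 else 0 := by
  simp [eta, classInner_sum_left, inner_lc]

theorem isChar_eta (lam : P →* ℂˣ) : IsCharacter P (eta lam) :=
  isChar_sum _ fun μ _ => isChar_linear μ

theorem AbFrob.eta_one (h : AbFrob p P) {lam : P →* ℂˣ} (hl : lam ≠ 1) :
    eta lam 1 = (centralizer (P : Set G)).relIndex (normalizer (P : Set G)) := by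
  simp [eta, lc, h.card_lRel hl]

theorem AbFrob.sum_cP (h : AbFrob p P) {lam : P →* ℂˣ} (hl : lam ≠ 1) (x : P) :
    (Nat.card (centralizer (P : Set G)) : ℂ)⁻¹ * ∑ n, (lam (cP n x) : ℂ) = eta lam x := by
  rw [inv_mul_eq_iff_eq_mul₀ card_ne_zero, eta, Finset.sum_apply, Finset.mul_sum,
    ← Finset.sum_fiberwise_of_maps_to (t := Finset.univ.filter (LRel lam))
      (g := fun n => lam.comp (cP n)) fun n _ => Finset.mem_filter.2 ⟨Finset.mem_univ _, n, rfl⟩]
  refine Finset.sum_congr rfl fun μ hμ => ?_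
  obtain ⟨n₀, rfl⟩ := (Finset.mem_filter.1 hμ).2
  rw [Finset.sum_congr rfl (g := fun _ => lc (lam.comp (cP n₀)) x) fun n hn => by
    rw [← (Finset.mem_filter.1 hn).2]; rfl, Finset.sum_const, nsmul_eq_mul]
  congr 2
  rw [← Nat.card_congr (subgroupOfEquivOfLe (centralizer_le_normalizer (P : Set G))).toEquiv,
    Nat.card_eq_fintype_card, Fintype.card_subtype]
  refine Finset.card_bij (fun n _ => n * n₀⁻¹) (fun n hn => ?_) (fun a _ b _ e => by simpa using e)
    fun c hc => ⟨c * n₀, ?_, by simp⟩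
  · refine Finset.mem_filter.2 ⟨Finset.mem_univ _, h.free (n := n * n₀⁻¹) hl ?_⟩
    rw [comp_cP_mul, (Finset.mem_filter.1 hn).2, ← comp_cP_mul, mul_inv_cancel, comp_cP_one]
  · refine Finset.mem_filter.2 ⟨Finset.mem_univ _, ?_⟩
    rw [comp_cP_mul]
    congr 1
    exact MonoidHom.ext fun x => congrArg lam (cP_of_mem (Finset.mem_filter.1 hc).2 x)

theorem sum_eta {lam : P →* ℂˣ} (hl : lam ≠ 1) : ∑ x, eta lam x = 0 := by
  have := inner_eta lam 1
  rw [if_neg fun e => LRel.ne_one e hl rfl] at this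
  have h2 : lc (1 : P →* ℂˣ) = fun _ => 1 := rfl
  rwa [h2, classInner_one_right, mul_eq_zero, inv_eq_zero, or_iff_right card_ne_zero] at this

theorem OrdP.exists_nt (h : OrdP p P) : Nonempty (NT P) := by
  have := Finite.one_lt_card_iff_nontrivial.1
    (show 1 < Nat.card (P →* ℂˣ) by rw [h.ab.card_hom, h.card]; exact h.prime.one_lt)
  obtain ⟨lam, hl⟩ := exists_ne (1 : P →* ℂˣ)
  exact ⟨⟨lam, hl⟩⟩

theorem OrdP.of_eta (h : OrdP p P) {χ : G → ℂ} (hχ : IsCharacter G χ) {lam : P →* ℂˣ}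
    (hl : lam ≠ 1) {c : ℤ} (hv : ∀ x : P, x ≠ 1 → χ x = c * eta lam x) :
    (charDegree χ : ℤ) = c * (centralizer (P : Set G)).relIndex (normalizer (P : Set G)) +
      p * fx P χ ∧ 0 ≤ fx P χ + c ∧ ∀ μ, classInner (fun x : P => χ x) (lc μ) =
        fx P χ + if LRel lam μ then (c : ℂ) else 0 := by
  have h1 := fun μ => inner_eq_add_of_eq_off_one (φ := fun x : P => χ x) (ψ := (c : ℂ) • eta lam)
    hv μ
  simp only [classInner_smul_left, inner_eta, Pi.smul_apply, h.abFrob.eta_one hl, h.card,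
    OneMemClass.coe_one, smul_eq_mul, mul_ite, mul_one, mul_zero] at h1
  have h2 := h1 1
  rw [if_neg fun e => LRel.ne_one e hl rfl, zero_add] at h2
  have h3 := (fx_cast (P := P) hχ).trans h2
  have hp : (p : ℂ) ≠ 0 := Nat.cast_ne_zero.2 h.prime.ne_zero
  have h4 : ∀ μ, classInner (fun x : P => χ x) (lc μ) =
      fx P χ + if LRel lam μ then (c : ℂ) else 0 := fun μ => by rw [h1, h3, add_comm]
  refine ⟨?_, ?_, h4⟩
  · rw [eq_div_iff hp, ← charDegree_cast hχ] at h3
    have : (fx P χ : ℤ) * p = charDegree χ -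
      c * (centralizer (P : Set G)).relIndex (normalizer (P : Set G)) := by exact_mod_cast h3
    linarith
  · obtain ⟨n, hn⟩ := classInner_isChar_nat (isChar_res P hχ) (isChar_linear lam)
    have := (h4 lam).symm.trans hn
    rw [if_pos (equivalence_lRel.refl lam)] at this
    have : (fx P χ : ℤ) + c = n := by exact_mod_cast this
    omega

theorem OrdP.of_const (h : OrdP p P) {χ : G → ℂ} (hχ : IsCharacter G χ) {c : ℤ}
    (hv : ∀ x : P, x ≠ 1 → χ x = c) :
    (charDegree χ : ℤ) = c + p * (fx P χ - c) ∧ c ≤ fx P χ := by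
  have h1 := fun μ => inner_eq_add_of_eq_off_one (φ := fun x : P => χ x) (ψ := (c : ℂ) • lc 1)
    (fun x hx => by simp [hv x hx, lc]) μ
  simp only [classInner_smul_left, inner_lc, Pi.smul_apply, h.card, lc, MonoidHom.one_apply,
    Units.val_one, OneMemClass.coe_one, smul_eq_mul, mul_ite, mul_one, mul_zero] at h1
  have h2 := h1 1
  rw [if_pos rfl] at h2
  have h3 := (fx_cast (P := P) hχ).trans h2
  have hp : (p : ℂ) ≠ 0 := Nat.cast_ne_zero.2 h.prime.ne_zero
  constructor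
  · rw [← sub_eq_iff_eq_add', eq_div_iff hp, ← charDegree_cast hχ] at h3
    have : ((fx P χ : ℤ) - c) * p = charDegree χ - c := by exact_mod_cast h3
    linarith
  · obtain ⟨lam, hl⟩ := h.exists_nt.some
    obtain ⟨n, hn⟩ := classInner_isChar_nat (isChar_res P hχ) (isChar_linear lam)
    have h4 := (h1 lam).symm.trans hn
    rw [if_neg hl.symm, zero_add] at h4
    rw [h4] at h3
    have : (fx P χ : ℤ) = c + n := by exact_mod_cast h3
    omega

theorem sum_eq_add_of_off_one {A : Type*} [Group A] [Fintype A] {φ ψ : A → ℂ}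
    (h : ∀ x, x ≠ 1 → φ x = ψ x) : ∑ x, φ x = ∑ x, ψ x + (φ 1 - ψ 1) := by
  rw [← Finset.add_sum_erase _ _ (Finset.mem_univ 1), ← Finset.add_sum_erase _ ψ (Finset.mem_univ 1),
    Finset.sum_congr rfl fun x hx => h x (Finset.ne_of_mem_erase hx)]
  ring

theorem inner_eq_zero_of_supp {α β : G → ℂ} (hα : ∀ g, ¬ p ∣ orderOf g → α g = 0)
    (hβ : ∀ g, p ∣ orderOf g → β g = 0) : classInner α β = 0 := by
  rw [classInner_def, Finset.sum_eq_zero, mul_zero]
  intro g _
  by_cases hg : p ∣ orderOf g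
  · simp [hβ g hg]
  · simp [hα g hg]

/-- The principal block for a Sylow subgroup of order `p`: `X` the non-exceptional, `Y` the
exceptional characters. -/
structure PW (p : ℕ) (P : Subgroup G) (e t : ℕ) (δ : ℤ) (X Y : Finset (IrrCharacter G))
    (a : IrrCharacter G → ℤ) : Prop extends OrdP p P where
  he : (centralizer (P : Set G)).relIndex (normalizer (P : Set G)) = e
  te : t * e + 1 = p
  sign : δ = 1 ∨ δ = -1
  disj : Disjoint X Y
  cardX : X.card = e
  cardY : Y.card = t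
  a_sign : ∀ χ ∈ X, a χ = 1 ∨ a χ = -1
  rel : ∀ ξ ∈ Y, ∀ g, ¬ p ∣ orderOf g → δ * ξ.1 g = ∑ χ ∈ X, (a χ : ℂ) * χ.1 g
  valX : ∀ χ ∈ X, ∀ g, p ∣ orderOf g → χ.1 g = a χ
  valY : ∀ ξ ∈ Y, ∃ lam : P →* ℂˣ, lam ≠ 1 ∧ ∀ x : P, x ≠ 1 → ∀ y ∈ centralizer (P : Set G),
    ¬ p ∣ orderOf y → ξ.1 (x * y) = δ * eta lam x
  surj : ∀ lam : P →* ℂˣ, lam ≠ 1 → ∃ ξ ∈ Y, ∀ x : P, x ≠ 1 → ∀ y ∈ centralizer (P : Set G),
    ¬ p ∣ orderOf y → ξ.1 (x * y) = δ * eta lam x
  sumY : ∀ g, p ∣ orderOf g → ∑ ξ ∈ Y, ξ.1 g = -δ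
  one : oneIrr G ∈ X ∨ oneIrr G ∈ Y
  ker : ∀ χ, χ ∈ X ∨ χ ∈ Y → pPrimeCore p G ≤ charKer χ.1
  out : centralizer (P : Set G) ≤ P → ∀ χ, χ ∉ X → χ ∉ Y → ∀ g, p ∣ orderOf g → χ.1 g = 0

theorem OrdP.dvd_orderOf_mul (h : OrdP p P) {x : P} (hx : x ≠ 1) {y : G}
    (hy : y ∈ centralizer (P : Set G)) (hr : ¬ p ∣ orderOf y) : p ∣ orderOf (x * y) :=
  dvd_orderOf_of_le_zpowers h.card (h.le_zpowers_mul hx (y := ⟨y, hy⟩) (by rwa [← orderOf_coe]))

theorem OrdP.dvd_orderOf (h : OrdP p P) {x : P} (hx : x ≠ 1) : p ∣ orderOf (x : G) := by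
  simpa using h.dvd_orderOf_mul hx (one_mem _) (by simpa using h.prime.one_lt.ne')

theorem OrdP.exists_pW' (h : OrdP p P) (hM : IsPModular p M) : ∃ e t δ X Y a,
    PW p P e t δ X Y a ∧ ∀ χ, χ ∈ principalBlock M G ↔ χ ∈ X ∨ χ ∈ Y := by
  obtain ⟨δ, ζ, a, X, hd⟩ := h.exists_prinOne hM
  have hmem : ∀ χ, χ ∈ principalBlock M G ↔ χ ∈ Finset.univ.filter (· ∈ X) ∨
      χ ∈ Finset.univ.filter (· ∈ Set.range ζ) := fun χ => by
    rw [hd.union]; simp only [Finset.mem_filter, Finset.mem_univ, true_and, Set.mem_union]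
  have hX : ∀ χ ∈ X, ∀ g, p ∣ orderOf g → χ.1 g = a χ := fun χ hχ g hg => by
    obtain ⟨u, x, y, hx, hy, e⟩ := h.exists_conj_eq hg
    rw [← irr_classFun χ g u, e]
    exact hd.valX χ hχ x x.2 (fun e => hx (Subtype.ext e)) y y.2 (by rwa [orderOf_coe])
  have hY : ∀ lam : NT P, ∀ x : P, x ≠ 1 → ∀ y ∈ centralizer (P : Set G),
      ¬ p ∣ orderOf y → (ζ lam).1 (x * y) = δ * eta lam.1 x := fun lam x hx y hy hr => by
    rw [hd.valY lam x hx y hy hr, h.abFrob.sum_cP lam.2]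
  have h1 : ¬ p ∣ orderOf (1 : G) := by simpa using h.prime.one_lt.ne'
  refine ⟨_, _, δ, Finset.univ.filter (· ∈ X), Finset.univ.filter (· ∈ Set.range ζ), a,
    ⟨h, rfl, hd.cardY, hd.sign, ?_, ?_, ?_, fun χ hχ => hd.a_sign χ (by simpa using hχ), ?_,
    fun χ hχ => hX χ (by simpa using hχ), ?_, ?_, ?_, ?_, ?_, ?_⟩, hmem⟩
  · exact Finset.disjoint_filter.2 fun χ _ h1 h2 => Set.disjoint_left.1 hd.disj h1 h2
  · rw [← card_eq_card_filter, hd.cardX]
  · rw [← card_eq_card_filter]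
  · intro ξ hξ g hg
    obtain ⟨lam, rfl⟩ := (Finset.mem_filter.1 hξ).2
    exact hd.rel lam g hg
  · intro ξ hξ
    obtain ⟨lam, rfl⟩ := (Finset.mem_filter.1 hξ).2
    exact ⟨lam.1, lam.2, hY lam⟩
  · exact fun lam hl => ⟨ζ ⟨lam, hl⟩, Finset.mem_filter.2 ⟨Finset.mem_univ _, _, rfl⟩, hY ⟨lam, hl⟩⟩
  · intro g hg
    obtain ⟨lam⟩ := h.exists_nt
    have h2 := congrArg conj (weak_block_orth hM (isV_blockIdem hM isPBlock_principalBlock) h1 hg)
    rw [Finset.sum_filter, Finset.sum_congr rfl (g := fun χ : IrrCharacter G =>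
      (if χ ∈ X then (a χ : ℂ) * χ.1 1 else 0) +
        if χ ∈ Set.range ζ then (ζ lam).1 1 * conj (χ.1 g) else 0), Finset.sum_add_distrib,
      ← Finset.sum_filter, ← Finset.sum_filter, ← hd.rel lam 1 h1, ← Finset.mul_sum, map_add,
      map_mul, map_mul, isChar_conj_one (irr_isChar _), map_intCast, map_zero, map_sum] at h2
    · simp only [Complex.conj_conj] at h2
      apply mul_left_cancel₀ (irr_one_ne_zero (ζ lam))
      linear_combination h2
    · intro χ _
      by_cases h3 : χ ∈ X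
      · rw [if_pos (hd.union ▸ Or.inl h3), if_pos h3, if_neg (Set.disjoint_left.1 hd.disj h3),
          hX χ h3 g hg, map_intCast, add_zero, mul_comm]
      by_cases h4 : χ ∈ Set.range ζ
      · rw [if_pos (hd.union ▸ Or.inr h4), if_neg h3, if_pos h4, zero_add]
        obtain ⟨μ, rfl⟩ := h4
        rw [hd.agree μ lam 1 h1]
      · rw [if_neg (hd.union ▸ not_or.2 ⟨h3, h4⟩), if_neg h3, if_neg h4, add_zero]
  · exact (hmem _).1 (oneIrr_mem_principalBlock hM)
  · exact fun χ hχ => pPrimeCore_le_charKer hM ((hmem χ).2 hχ)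
  · intro hC χ h2 h3 g hg
    obtain ⟨u, x, y, hx, hy, e⟩ := h.exists_conj_eq hg
    have hy1 : ∀ y ∈ centralizer (P : Set G), ¬ p ∣ orderOf y → y = 1 := fun y hy hr =>
      eq_one_of_isPGroup_of_not_dvd h.prime h.ab.pg (hC hy) hr
    have := sum_regular_eq_zero_of_notMem hM (exists_orderOf_eq_pow_of_mem h.prime h.ab.pg x.2)
      (mt (hmem χ).1 (not_or.2 ⟨h2, h3⟩))
    rw [Finset.sum_eq_single_of_mem 1 (by simpa using h.prime.one_lt.ne')] at this
    · rw [← irr_classFun χ g u, e, hy1 y y.2 (by rwa [orderOf_coe])]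
      exact this
    · intro s hs hs1
      refine absurd (Subtype.ext (hy1 s ?_ (by simpa using hs))) hs1
      exact h.abFrob.frob ⟨s, mem_normalizer_of_le_zpowers
        (eq_zpowers_of_card_prime h.prime h.card x.2 fun e => hx (Subtype.ext e)).le (by
          rw [mul_inv_eq_iff_eq_mul.2 (mem_centralizer_singleton_iff.1 s.2)]
          exact (eq_zpowers_of_card_prime h.prime h.card x.2 fun e => hx (Subtype.ext e)).le)⟩ x hx
        (Subtype.ext (mul_inv_eq_iff_eq_mul.2 (mem_centralizer_singleton_iff.1 s.2)))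

theorem OrdP.exists_pW (h : OrdP p P) : ∃ e t δ X Y a, PW p P e t δ X Y a := by
  obtain ⟨M, hM⟩ := exists_isPModular h.prime
  obtain ⟨e, t, δ, X, Y, a, h, -⟩ := h.exists_pW' hM
  exact ⟨e, t, δ, X, Y, a, h⟩

namespace PW

variable {e t : ℕ} {δ : ℤ} {X Y : Finset (IrrCharacter G)} {a : IrrCharacter G → ℤ}
  (h : PW p P e t δ X Y a) {χ ξ : IrrCharacter G}
include h

theorem reg_one : ¬ p ∣ orderOf (1 : G) := by simpa using h.prime.one_lt.ne'

theorem e_pos : 0 < e := h.he ▸ Nat.pos_of_ne_zero index_ne_zero_of_finite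

theorem t_pos : 0 < t := Nat.pos_of_ne_zero fun e => by
  have := h.te
  have := h.prime.one_lt
  simp_all

theorem te' : (t : ℤ) * e + 1 = p := by exact_mod_cast h.te

theorem sq : δ * δ = 1 := by rcases h.sign with e | e <;> simp [e]

theorem a_sq (hχ : χ ∈ X) : a χ * a χ = 1 := by rcases h.a_sign χ hχ with e | e <;> simp [e]

theorem degX (hχ : χ ∈ X) :
    (charDegree χ.1 : ℤ) = a χ + p * (fx P χ.1 - a χ) ∧ a χ ≤ fx P χ.1 :=
  h.of_const (irr_isChar χ) fun _ hx => h.valX χ hχ _ (h.dvd_orderOf hx)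

theorem degY (hξ : ξ ∈ Y) : (charDegree ξ.1 : ℤ) = δ * e + p * fx P ξ.1 ∧ 0 ≤ fx P ξ.1 + δ := by
  obtain ⟨lam, hl, hv⟩ := h.valY ξ hξ
  have := h.of_eta (irr_isChar ξ) hl (c := δ) fun x hx => by
    simpa using hv x hx 1 (one_mem _) h.reg_one
  exact ⟨h.he ▸ this.1, this.2.1⟩

theorem agree {ξ' : IrrCharacter G} (hξ : ξ ∈ Y) (hξ' : ξ' ∈ Y) {g : G} (hg : ¬ p ∣ orderOf g) :
    ξ.1 g = ξ'.1 g := by
  have h0 : (δ : ℂ) ≠ 0 := by rcases h.sign with e | e <;> simp [e]
  exact mul_left_cancel₀ h0 ((h.rel ξ hξ g hg).trans (h.rel ξ' hξ' g hg).symm)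

theorem rel_one (hξ : ξ ∈ Y) :
    δ * (charDegree ξ.1 : ℤ) = ∑ χ ∈ X, a χ * (charDegree χ.1 : ℤ) := by
  have := h.rel ξ hξ 1 h.reg_one
  simp only [← irr_degree_cast] at this
  exact_mod_cast this

theorem exists_Y : ∃ ξ, ξ ∈ Y := Finset.card_pos.1 (h.cardY ▸ h.t_pos)

theorem a_one (h1 : oneIrr G ∈ X) : a (oneIrr G) = 1 := by
  obtain ⟨x, hx⟩ := h.exists_ne_one
  have : (a (oneIrr G) : ℂ) = 1 := (h.valX _ h1 _ (h.dvd_orderOf hx)).symm
  exact_mod_cast this

theorem of_one_mem_Y (h1 : oneIrr G ∈ Y) : t = 1 ∧ δ = -1 := by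
  have h2 := h.degY h1
  have h3 : fx P (oneIrr G).1 = 1 := by
    have := fx_cast (P := P) (irr_isChar (oneIrr G))
    exact_mod_cast this.trans classInner_one_one
  rw [coe_oneIrr, charDegree_one_fun, ← coe_oneIrr, h3] at h2
  have h4 := h.te'
  have h5 : (0 : ℤ) < e := by exact_mod_cast h.e_pos
  have h6 : (0 : ℤ) < t := by exact_mod_cast h.t_pos
  replace h2 := h2.1
  push_cast at h2
  rcases h.sign with rfl | rfl
  · nlinarith
  · refine ⟨?_, rfl⟩
    have : ((t : ℤ) - 1) * e = 0 := by linarith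
    rw [mul_eq_zero] at this
    omega

theorem one_mem_X (ht : t ≠ 1) : oneIrr G ∈ X :=
  h.one.resolve_right fun h1 => ht (h.of_one_mem_Y h1).1

theorem apply_of_fxX (hχ : χ ∈ X) (h0 : fx P χ.1 = 0) {y : G} (hy : y ∈ centralizer (P : Set G))
    (hr : ¬ p ∣ orderOf y) : χ.1 y = χ.1 1 := by
  rw [← sub_eq_zero, ← sum_mul_eq_zero_of_fx (irr_isChar χ) h0 y,
    sum_eq_add_of_off_one (ψ := fun u : P => χ.1 (u * 1)) fun x hx => by
      rw [h.valX χ hχ _ (h.dvd_orderOf_mul hx hy hr),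
        h.valX χ hχ _ (h.dvd_orderOf_mul hx (one_mem _) h.reg_one)],
    sum_mul_eq_zero_of_fx (irr_isChar χ) h0]
  simp

theorem apply_of_fxY (hξ : ξ ∈ Y) (h0 : fx P ξ.1 = 0) {y : G} (hy : y ∈ centralizer (P : Set G))
    (hr : ¬ p ∣ orderOf y) : ξ.1 y = ξ.1 1 := by
  obtain ⟨lam, -, hv⟩ := h.valY ξ hξ
  rw [← sub_eq_zero, ← sum_mul_eq_zero_of_fx (irr_isChar ξ) h0 y,
    sum_eq_add_of_off_one (ψ := fun u : P => ξ.1 (u * 1)) fun x hx => by
      rw [hv x hx y hy hr, hv x hx 1 (one_mem _) h.reg_one],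
    sum_mul_eq_zero_of_fx (irr_isChar ξ) h0]
  simp

theorem innerX {α : G → ℂ} (hα : ∀ g, ¬ p ∣ orderOf g → α g = 0) (hχ : χ ∈ X) :
    classInner α χ.1 = a χ * classInner α fun _ => 1 := by
  have := inner_eq_zero_of_supp hα (β := χ.1 - a χ • fun _ => 1) fun g hg => by
    simp [h.valX χ hχ g hg]
  rwa [classInner_sub_right, classInner_zsmul_right, sub_eq_zero] at this

theorem innerY {α : G → ℂ} (hα : ∀ g, ¬ p ∣ orderOf g → α g = 0) :
    ∑ ξ ∈ Y, classInner α ξ.1 = -δ * classInner α fun _ => 1 := by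
  have := inner_eq_zero_of_supp hα (β := ∑ ξ ∈ Y, ξ.1 + δ • fun _ => 1) fun g hg => by
    simp [h.sumY g hg]
  rw [classInner_add_right, classInner_zsmul_right, classInner_sum_right] at this
  linear_combination this

theorem inner_sing {β : G → ℂ} (hβ : ∀ g, p ∣ orderOf g → β g = 0) (hξ : ξ ∈ Y) :
    δ * classInner β ξ.1 = ∑ χ ∈ X, a χ * classInner β χ.1 := by
  have := classInner_eq_zero_comm.1 (inner_eq_zero_of_supp
    (α := δ • ξ.1 - ∑ χ ∈ X, a χ • χ.1) (fun g hg => by simp [h.rel ξ hξ g hg]) hβ)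
  simpa only [classInner_sub_right, classInner_zsmul_right, classInner_sum_right, sub_eq_zero]
    using this

theorem index_eq {x : P} (hx : x ≠ 1) :
    (centralizer ({(x : G)} : Set G)).index = (centralizer (P : Set G)).index := by
  congr 1
  have e := eq_zpowers_of_card_prime h.prime h.card x.2 fun e => hx (Subtype.ext e)
  refine le_antisymm (fun g hg y hy => ?_) (centralizer_le (Set.singleton_subset_iff.2 x.2))
  rw [e] at hy
  obtain ⟨k, rfl⟩ := hy
  exact (Commute.zpow_left (hg x rfl) k).eq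

theorem dvdX (hχ : χ ∈ X) : charDegree χ.1 ∣ (centralizer (P : Set G)).index := by
  obtain ⟨x, hx⟩ := h.exists_ne_one
  have := isIrr_isIntegral_central χ.2 (x : G)
  rw [h.index_eq hx, h.valX χ hχ _ (h.dvd_orderOf hx), ← irr_degree_cast] at this
  refine nat_dvd_of_isIntegral_div (isIrr_charDegree_ne_zero χ.2) ?_
  rcases h.a_sign χ hχ with e | e <;> rw [e] at this
  · simpa using this
  · simpa [neg_div] using this.neg

theorem dvdY (hξ : ξ ∈ Y) : charDegree ξ.1 ∣ (centralizer (P : Set G)).index := by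
  obtain ⟨lam, hl, hv⟩ := h.valY ξ hξ
  have h1 : IsIntegral ℤ (∑ x : P, ((centralizer (P : Set G)).index : ℂ) * ξ.1 x / ξ.1 1 *
      (conj (lam x : ℂ) - 1)) := by
    refine IsIntegral.sum _ fun x _ => ?_
    by_cases hx : x = 1
    · simp [hx, isIntegral_zero]
    · exact (h.index_eq hx ▸ isIrr_isIntegral_central ξ.2 (x : G)).mul
        ((isIntegral_conj (isChar_isIntegral (isChar_linear lam) x)).sub isIntegral_one)
  have h2 := card_mul_classInner (eta lam) (lc lam)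
  rw [inner_eta, if_pos (equivalence_lRel.refl lam), h.card, mul_one] at h2
  rw [sum_eq_add_of_off_one (ψ := fun x : P => δ * ((centralizer (P : Set G)).index : ℂ) / ξ.1 1 *
    (eta lam x * conj (lam x : ℂ) - eta lam x)) fun x hx => by
      have := hv x hx 1 (one_mem _) h.reg_one
      rw [mul_one] at this
      rw [this]; ring, ← Finset.mul_sum, Finset.sum_sub_distrib, sum_eta hl] at h1
  simp only [lc] at h2
  rw [← h2] at h1
  have h3 : IsIntegral ℤ ((((centralizer (P : Set G)).index * p : ℕ) : ℂ) / charDegree ξ.1) := by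
    rw [irr_degree_cast]
    rcases h.sign with e | e <;> rw [e] at h1
    · convert h1 using 1; simp; ring
    · convert h1.neg using 1; simp; ring
  refine Nat.Coprime.dvd_of_dvd_mul_right ?_
    (nat_dvd_of_isIntegral_div (isIrr_charDegree_ne_zero ξ.2) h3)
  refine ((Nat.Prime.coprime_iff_not_dvd h.prime).2 fun hd => ?_).symm
  have h4 : (p : ℤ) ∣ δ * e := by
    have := Int.natCast_dvd_natCast.2 hd
    rwa [(h.degY hξ).1, dvd_add_left (dvd_mul_right _ _)] at this
  have h5 : (p : ℤ) ∣ 1 := by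
    have := h4.mul_left (δ * t)
    rwa [show δ * t * (δ * e) = δ * δ * (t * e) by ring, h.sq, one_mul,
      eq_sub_of_add_eq h.te', dvd_sub_right (dvd_refl _)] at this
  exact h.prime.one_lt.ne' (by exact_mod_cast Int.eq_one_of_dvd_one (by positivity) h5)

end PW

end Cfsg.Agent.Block
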