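import Mathlib
import Cfsg.Agent.Block.OrdP3

/-!
Faithful characters of small degree for groups with a Sylow subgroup of prime order (Brauer).
-/

namespace Cfsg.Agent.Block

open Cfsg Cfsg.Agent.Char Subgroup
open scoped _root_.Classical ComplexConjugate commutatorElement

variable {G : Type*} [Group G] [Fintype G] {p : ℕ} {P : Subgroup G}

theorem le_charKer_iff_fx {χ : G → ℂ} (hχ : IsCharacter G χ) :
    P ≤ charKer χ ↔ fx P χ = charDegree χ := by
  rw [le_charKer_iff_inner P hχ, ← fx_cast hχ, ← charDegree_cast hχ, Nat.cast_inj]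

theorem sum_degree_le {φ : G → ℂ} (hφ : IsCharacter G φ) {S : Finset (IrrCharacter G)}
    (hS : ∀ χ ∈ S, classInner φ χ.1 ≠ 0) : ∑ χ ∈ S, charDegree χ.1 ≤ charDegree φ := by
  obtain ⟨n, h1, h2⟩ := Constit.isChar_expand_nat hφ
  have h3 := congrFun h2 1
  simp only [Finset.sum_apply, Pi.smul_apply, smul_eq_mul, ← irr_degree_cast,
    ← charDegree_cast hφ] at h3
  have h4 : charDegree φ = ∑ ψ, n ψ * charDegree ψ.1 := by exact_mod_cast h3
  rw [h4]
  refine le_trans (Finset.sum_le_sum fun χ hχ => Nat.le_mul_of_pos_left _ ?_)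
    (Finset.sum_le_sum_of_subset (Finset.subset_univ S))
  exact Nat.pos_of_ne_zero fun e => hS χ hχ (by rw [h1, e, Nat.cast_zero])

theorem OrdP.subgroupOf (h : OrdP p P) {H : Subgroup G} (hH : P ≤ H) :
    OrdP p (P.subgroupOf H) :=
  ⟨h.prime, (Nat.card_congr (subgroupOfEquivOfLe hH).toEquiv).trans h.card,
    h.ab.not_dvd_relIndex H hH⟩

theorem OrdP.le_of_dvd (h : OrdP p P) {K : Subgroup G} [hK : K.Normal] (hd : p ∣ Nat.card K) :
    P ≤ K := by
  have := Fact.mk h.prime
  obtain ⟨u, hu⟩ := exists_prime_orderOf_dvd_card' p hd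
  rw [← orderOf_coe] at hu
  obtain ⟨y, hy⟩ := h.ab.exists_conj_mem (u := u) ⟨1, by rw [hu, pow_one]⟩
  rw [eq_zpowers_of_card_prime h.prime h.card hy fun e => h.prime.one_lt.ne' (by
    rw [← hu, show (u : G) = 1 by simpa using e, orderOf_one]), zpowers_le]
  exact hK.conj_mem _ u.2 y

theorem OrdP.le_pPrimeCore (h : OrdP p P) {K : Subgroup G} [hK : K.Normal] (hd : ¬ P ≤ K) :
    K ≤ pPrimeCore p G :=
  Core.le_pPrimeCore hK ((Nat.Prime.coprime_iff_not_dvd h.prime).2 (mt h.le_of_dvd hd)).symm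

theorem OrdP.relIndex_dvd (h : OrdP p P) :
    (centralizer (P : Set G)).relIndex (normalizer (P : Set G)) ∣ p - 1 :=
  (isCyclic_normalizer_quot h.prime h.card).2

theorem OrdP.normal_of_conj (h : OrdP p P)
    (hc : ∀ x ∈ P, ∀ g : G, g * x * g⁻¹ ∈ normalizer (P : Set G)) : P.Normal :=
  ⟨fun x hx g => h.ab.mem_of_normalizer (by
    rw [show orderOf (g * x * g⁻¹) = orderOf x from (MulAut.conj g).orderOf_eq x]
    exact exists_orderOf_eq_pow_of_mem h.prime h.ab.pg hx) (hc x hx g)⟩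

theorem OrdP.normalClosure_subgroupOf (h : OrdP p P) :
    normalClosure (P.subgroupOf (normalClosure (P : Set G)) : Set (normalClosure (P : Set G))) =
      ⊤ := by
  have h' := (h.subgroupOf le_normalClosure).ab
  refine eq_top_iff.2 fun ⟨g, hg⟩ _ => ?_
  induction hg using closure_induction with
  | mem g hg =>
    obtain ⟨x, hx, hc⟩ := Group.mem_conjugatesOfSet_iff.1 hg
    obtain ⟨y, hy⟩ := h'.exists_conj_mem (u := ⟨g, subset_closure hg⟩) (by
      obtain ⟨k, hk⟩ := exists_orderOf_eq_pow_of_mem h.prime h.ab.pg hx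
      obtain ⟨c, rfl⟩ := isConj_iff.1 hc
      exact ⟨k, (orderOf_coe _).symm.trans (((MulAut.conj c).orderOf_eq x).trans hk)⟩)
    simpa using normalClosure_normal.mem_comm (subset_normalClosure hy)
  | one => exact one_mem _
  | mul a b ha hb ha' hb' => exact mul_mem (ha' trivial) (hb' trivial)
  | inv a ha ha' => exact inv_mem (ha' trivial)

theorem OrdP.normal_of_subgroupOf (h : OrdP p P)
    (hn : (P.subgroupOf (normalClosure (P : Set G))).Normal) : P.Normal :=
  h.normal_of_conj fun _ hx g => (normal_subgroupOf_iff_le_normalizer le_normalClosure).1 hn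
    (normalClosure_normal.conj_mem _ (le_normalClosure hx) g)

theorem le_center_of_gen (hg : normalClosure (P : Set G) = ⊤) {K : Subgroup G} [K.Normal]
    (hK : K ≤ centralizer (P : Set G)) : K ≤ center G := fun k hk =>
  mem_center_iff.2 fun g => (((normalClosure_le_normal (N := centralizer (K : Set G))
    (le_centralizer_iff.1 hK)) (hg ▸ mem_top g)) k hk).symm

theorem eq_one_of_gen (hg : normalClosure (P : Set G) = ⊤) {χ : IrrCharacter G}
    (h : P ≤ charKer χ.1) : χ = oneIrr G :=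
  have := charKer_normal (irr_classFun χ)
  Subtype.ext (isIrr_eq_one_of_charKer_eq_top χ.2 (eq_top_iff.2 (hg ▸ normalClosure_le_normal h)))

theorem OrdP.exists_defOne_of_not_dvd (h : OrdP p P) {ψ : IrrCharacter G}
    (hd : ¬ p ∣ charDegree ψ.1) : ∃ B θ δ ζ a X, KerP θ ∧ DefOne h B θ δ ζ a X ∧ ψ ∈ B := by
  obtain ⟨M, hM⟩ := exists_isPModular h.prime
  have h1 := factorization_degree_add_defect (p := p) (self_mem_blockOf hM ψ)
  rw [Nat.factorization_eq_zero_of_not_dvd hd, h.factorization] at h1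
  obtain ⟨f, θ, hf, hm, hθ⟩ := h.exists_root hM (isPBlock_blockOf ψ) (by omega)
  obtain ⟨δ, ζ, a, X, hd⟩ := h.exists_defOne hM hf hm hθ
  exact ⟨_, θ, δ, ζ, a, X, hθ, hd, self_mem_blockOf hM ψ⟩

theorem DefOne.valY_one {h : OrdP p P} {B θ δ ζ a X} (hd : DefOne h B θ δ ζ a X) (lam : NT P)
    {x : P} (hx : x ≠ 1) : (ζ lam).1 x = (δ * charDegree θ.1 : ℤ) * eta lam.1 x := by
  have := hd.valY lam x hx 1 (by simpa using h.prime.one_lt.ne')
  simp only [OneMemClass.coe_one, mul_one, map_one, ← Finset.sum_mul] at this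
  rw [this, ← mul_assoc (_ : ℂ)⁻¹, h.abFrob.sum_cP lam.2, ← irr_degree_cast]
  push_cast
  ring

/-- An irreducible character of degree less than `p / 2` not containing `P` in its kernel is
exceptional. -/
theorem OrdP.small_exc (h : OrdP p P) {ψ : IrrCharacter G} (hd : 2 * charDegree ψ.1 < p)
    (hk : ¬ P ≤ charKer ψ.1) : ∃ B θ ζ a X lam, KerP θ ∧ DefOne h B θ 1 ζ a X ∧ ψ = ζ lam ∧
      charDegree ψ.1 = (centralizer (P : Set G)).relIndex (normalizer (P : Set G)) *
        charDegree θ.1 ∧ ∀ μ, ∀ x : P, (ζ μ).1 x = charDegree θ.1 * eta μ.1 x := by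
  have h0 := Nat.pos_of_ne_zero (isIrr_charDegree_ne_zero ψ.2)
  obtain ⟨B, θ, δ, ζ, a, X, hθ, hD, hψ⟩ := h.exists_defOne_of_not_dvd (ψ := ψ)
    fun e => by have := Nat.le_of_dvd h0 e; omega
  rw [le_charKer_iff_fx (irr_isChar ψ)] at hk
  have hp : (2 : ℤ) ≤ p := by exact_mod_cast h.prime.two_le
  have hd' : 2 * (charDegree ψ.1 : ℤ) < p := by exact_mod_cast hd
  have hk' : (fx P ψ.1 : ℤ) ≠ charDegree ψ.1 := by exact_mod_cast hk
  rw [hD.union] at hψ
  rcases hψ with hψ | ⟨lam, rfl⟩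
  · obtain ⟨h1, h2⟩ := h.of_const (irr_isChar ψ) fun x hx => hD.valX_one hψ hx
    generalize a ψ * _ = c at h1 h2
    have h3 : (0 : ℤ) ≤ fx P ψ.1 := by positivity
    rcases h2.eq_or_lt with e | e
    · exact absurd (by rw [h1, ← e]; ring) hk'
    · nlinarith
  obtain ⟨h1, h2, -⟩ := h.of_eta (irr_isChar _) lam.2 fun x hx => hD.valY_one lam hx
  have h3 : (0 : ℤ) < charDegree θ.1 := by
    exact_mod_cast Nat.pos_of_ne_zero (isIrr_charDegree_ne_zero θ.2)
  obtain ⟨t, ht⟩ := h.relIndex_dvd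
  have he : 0 < (centralizer (P : Set G)).relIndex (normalizer (P : Set G)) :=
    Nat.pos_of_ne_zero index_ne_zero_of_finite
  generalize hE : (centralizer (P : Set G)).relIndex (normalizer (P : Set G)) = e at h1 ht he ⊢
  have ht' : (p : ℤ) = e * t + 1 := by
    have := h.prime.one_lt
    exact_mod_cast (show p = e * t + 1 by omega)
  have he' : (0 : ℤ) < e := by exact_mod_cast he
  have h4 : (0 : ℤ) ≤ fx P (ζ lam).1 := by positivity
  rcases hD.sign with rfl | rfl
  · have h5 : (fx P (ζ lam).1 : ℤ) = 0 := by nlinarith [mul_pos h3 he']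
    have h6 : charDegree (ζ lam).1 = e * charDegree θ.1 := by
      rw [h5] at h1
      exact_mod_cast (show (charDegree (ζ lam).1 : ℤ) = e * charDegree θ.1 by linarith)
    refine ⟨B, θ, ζ, a, X, lam, hθ, hD, rfl, h6, fun μ x => ?_⟩
    by_cases hx : x = 1
    · rw [hx, h.abFrob.eta_one μ.2, hE, OneMemClass.coe_one,
        hD.agree μ lam 1 (by simpa using h.prime.one_lt.ne'), ← irr_degree_cast, h6]
      push_cast; ring
    · simpa using hD.valY_one μ hx
  · exfalso
    obtain ⟨m, hm⟩ : ∃ m : ℤ, m = fx P (ζ lam).1 - charDegree θ.1 := ⟨_, rfl⟩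
    have h5 : (charDegree (ζ lam).1 : ℤ) = charDegree θ.1 * (p - e) + p * m := by
      rw [h1, hm]; ring
    have ht0 : t ≠ 0 := by rintro rfl; simp at ht'; omega
    have h7 : (1 : ℤ) ≤ t := by omega
    have h6 : m = 0 := by nlinarith [mul_pos h3 (show (0 : ℤ) < p - e by nlinarith)]
    rcases h7.eq_or_lt with e1 | e1
    · exact hk' (by rw [h5, h6, ht', ← e1]; linarith)
    · nlinarith [mul_le_mul_of_nonneg_left (show (2 : ℤ) ≤ t from e1) he'.le]

theorem eta_of_le (hc : normalizer (P : Set G) ≤ centralizer (P : Set G)) (lam : P →* ℂˣ) :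
    eta lam = lc lam := by
  rw [eta, Finset.sum_eq_single_of_mem lam
    (Finset.mem_filter.2 ⟨Finset.mem_univ _, equivalence_lRel.refl lam⟩)]
  rintro μ hμ hne
  obtain ⟨n, rfl⟩ := (Finset.mem_filter.1 hμ).2
  exact (hne (MonoidHom.ext fun x => congrArg lam (cP_of_mem (hc n.2) x))).elim

theorem exists_constituent_not_mem_charCenter {χ : G → ℂ} (hχ : IsCharacter G χ)
    (hk : charKer χ = ⊥) {x : G} (hx : x ∉ center G) : ∃ ψ : IrrCharacter G,
      charDegree ψ.1 ≤ charDegree χ ∧ classInner χ ψ.1 ≠ 0 ∧ x ∉ charCenter ψ.1 := by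
  by_contra hc
  push Not at hc
  refine hx (mem_center_iff.2 fun g => commutatorElement_eq_one_iff_mul_comm.1 ?_)
  rw [← mem_bot, ← hk]
  exact mem_charKer_of_forall_constituent (isChar_classFun hχ) fun ψ hψ hne =>
    commutator_mem_charKer (isIrr_classFun hψ) (hc ⟨ψ, hψ⟩ (Constit.degree_le_of_inner_ne_zero hχ hψ
      hne (charDegree_cast hχ).symm (charDegree_cast (isIrr_isChar hψ)).symm) hne) g

theorem OrdP.le_center_of_small (h : OrdP p P) {χ : G → ℂ} (hχ : IsCharacter G χ)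
    (hk : charKer χ = ⊥) (hd : 2 * charDegree χ < p)
    (hc : normalizer (P : Set G) ≤ centralizer (P : Set G)) : P ≤ center G := by
  intro x hx
  by_contra hx'
  obtain ⟨ψ, h1, -, h2⟩ := exists_constituent_not_mem_charCenter hχ hk hx'
  obtain ⟨B, θ, ζ, a, X, lam, -, -, rfl, -, h3⟩ := h.small_exc (ψ := ψ) (by omega)
    fun e => h2 (charKer_le_charCenter _ (e hx))
  refine h2 ((mem_charCenter_iff (irr_isChar _)).2 ?_)
  have h4 := h3 lam ⟨x, hx⟩
  have h5 := h3 lam 1
  rw [eta_of_le hc] at h4 h5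
  rw [h4, show (ζ lam).1 1 = _ from h5, norm_mul, norm_mul, linear_norm, linear_norm]

theorem faithful_res {χ : G → ℂ} (hχ : IsCharacter G χ) (hk : charKer χ = ⊥) (H : Subgroup G) :
    charKer (fun x : H => χ x) = ⊥ := by
  have := charKer_comp H.subtype hχ
  rwa [hk, MonoidHom.comap_bot, ker_subtype] at this

theorem OrdP.pPrimeCore_le_of_small (h : OrdP p P) {χ : G → ℂ} (hχ : IsCharacter G χ)
    (hk : charKer χ = ⊥) (hd : 2 * charDegree χ < p) :
    pPrimeCore p G ≤ centralizer (P : Set G) := by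
  have hle : P ≤ pPrimeCore p G ⊔ P := le_sup_right
  have := Fact.mk h.prime
  have h1 := (h.subgroupOf hle).le_center_of_small (isChar_res _ hχ) (faithful_res hχ hk _) hd (by
    rintro ⟨g, hg⟩ hn
    rw [mem_normalizer_subgroupOf_iff hle] at hn
    rw [mem_centralizer_subgroupOf_iff hle]
    obtain ⟨k, hk, u, hu, rfl⟩ := mem_sup_of_normal_left.1 hg
    have h2 : k ∈ normalizer (P : Set G) := (mul_mem_cancel_right (le_normalizer hu)).1 hn
    refine mul_mem (fun x hx => ?_) (h.ab.comm hu)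
    refine commutatorElement_eq_one_iff_mul_comm.1 ?_
    refine disjoint_def.1 (Core.disjoint_pPrimeCore_of_isPGroup h.ab.pg) ?_ ?_
    · rw [commutatorElement_def, mul_assoc, mul_assoc, ← mul_assoc k]
      exact mul_mem hx ((mem_normalizer_iff.1 h2 _).1 (inv_mem hx))
    · exact mul_mem (Normal.conj_mem inferInstance _ hk x) (inv_mem hk))
  intro k hk x hx
  exact congrArg Subtype.val (mem_center_iff.1 (h1 (x := ⟨x, hle hx⟩) hx) ⟨k, mem_sup_left hk⟩).symm

theorem AbFrob.exists_not_lRel (h : AbFrob p P)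
    (hm : (centralizer (P : Set G)).relIndex (normalizer (P : Set G)) + 1 < Nat.card P)
    (lam : NT P) : ∃ μ : NT P, ¬ LRel lam.1 μ.1 := by
  obtain ⟨a, b, hab⟩ := h.exists_not_rel hm
  by_contra hc
  push Not at hc
  exact hab (equivalence_lRel.trans (equivalence_lRel.symm (hc a)) (hc b))

theorem inner_eta_eta {lam μ : P →* ℂˣ} (h : ¬ LRel lam μ) : classInner (eta lam) (eta μ) = 0 := by
  conv_lhs => rw [eta.eq_1 μ]
  rw [classInner_sum_right]
  refine Finset.sum_eq_zero fun ν hν => ?_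
  rw [inner_eta, if_neg fun e => h (equivalence_lRel.trans e
    (equivalence_lRel.symm (Finset.mem_filter.1 hν).2))]

namespace PW

variable {e t : ℕ} {δ : ℤ} {X Y : Finset (IrrCharacter G)} {a : IrrCharacter G → ℤ}
  (h : PW p P e t δ X Y a) {χ ξ : IrrCharacter G}
include h

theorem sum_a_mul (hξ : ξ ∈ Y) : ∑ χ ∈ X, a χ * (fx P χ.1 - a χ) = δ * fx P ξ.1 := by
  have h1 := h.rel_one hξ
  rw [(h.degY hξ).1, Finset.sum_congr rfl (g := fun χ => 1 + p * (a χ * (fx P χ.1 - a χ)))
    fun χ hχ => by rw [(h.degX hχ).1]; linear_combination h.a_sq hχ, Finset.sum_add_distrib,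
    ← Finset.mul_sum, Finset.sum_const, h.cardX] at h1
  have hp : (p : ℤ) ≠ 0 := by exact_mod_cast h.prime.ne_zero
  apply mul_left_cancel₀ hp
  simp only [nsmul_eq_mul, mul_one] at h1
  linear_combination -h1 + e * h.sq

theorem le_center_of_fx (hg : normalClosure (P : Set G) = ⊤)
    (hO : pPrimeCore p G ≤ centralizer (P : Set G)) (hχ : χ ∈ X ∨ χ ∈ Y) (h0 : fx P χ.1 = 0)
    {y : G} (hy : y ∈ centralizer (P : Set G)) (hr : ¬ p ∣ orderOf y) : y ∈ center G := by
  have := charKer_normal (irr_classFun χ)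
  refine le_center_of_gen hg hO (h.le_pPrimeCore (K := charKer χ.1) (fun e => ?_)
    ((mem_charKer_iff (irr_isChar χ)).2 ?_))
  · rw [le_charKer_iff_fx (irr_isChar χ), h0] at e
    exact isIrr_charDegree_ne_zero χ.2 e.symm
  · exact hχ.elim (fun hχ => h.apply_of_fxX hχ h0 hy hr) fun hχ => h.apply_of_fxY hχ h0 hy hr

theorem two_le_fx (hg : normalClosure (P : Set G) = ⊤) (hχ : χ ∈ X) (ha : a χ = 1)
    (h1 : χ ≠ oneIrr G) : 2 ≤ fx P χ.1 := by
  obtain ⟨h2, h3⟩ := h.degX hχ
  rw [ha] at h2 h3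
  by_contra hc
  have h4 : fx P χ.1 = 1 := by omega
  refine h1 (eq_one_of_gen hg ((le_charKer_iff_fx (irr_isChar χ)).2 ?_))
  rw [h4] at h2 ⊢
  omega

/-- The counting argument. -/
theorem count (hg : normalClosure (P : Set G) = ⊤) (h1 : oneIrr G ∈ X)
    (h0 : ∀ χ ∈ X, a χ = -1 → fx P χ.1 = 0) (hξ : ξ ∈ Y) :
    (e : ℤ) - 1 ≤ 2 * (X.filter fun χ => a χ = -1).card + δ * fx P ξ.1 := by
  rw [← h.sum_a_mul hξ, ← h.cardX, Finset.card_filter, Finset.card_eq_sum_ones, sub_le_iff_le_add,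
    ← Finset.add_sum_erase _ _ h1, ← Finset.add_sum_erase _ _ h1, ← Finset.add_sum_erase _ _ h1]
  push_cast
  have h2 : ∑ χ ∈ X.erase (oneIrr G), (1 : ℤ) ≤ ∑ χ ∈ X.erase (oneIrr G),
      (2 * (if a χ = -1 then 1 else 0) + a χ * (fx P χ.1 - a χ)) := by
    refine Finset.sum_le_sum fun χ hχ => ?_
    have h3 := Finset.mem_of_mem_erase hχ
    rcases h.a_sign χ h3 with e | e
    · have := h.two_le_fx hg h3 e (Finset.ne_of_mem_erase hχ)
      rw [e]; norm_num; omega
    · rw [h0 χ h3 e, e]; norm_num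
  rw [Finset.sum_add_distrib, ← Finset.mul_sum] at h2
  have h3 := (h.degX h1).2
  rw [h.a_one h1] at h3 ⊢
  generalize fx P (oneIrr G).1 = k at h3 ⊢
  norm_num at h2 ⊢
  omega

end PW

/-- Brauer's theorem on faithful characters of degree less than `p / 2`. -/
theorem OrdP.small_main (h : OrdP p P) (hg : normalClosure (P : Set G) = ⊤) (hn : ¬ P.Normal)
    {χ : G → ℂ} (hχ : IsCharacter G χ) (hk : charKer χ = ⊥) (hd : 2 * charDegree χ < p) :
    (∀ y ∈ centralizer (P : Set G), ¬ p ∣ orderOf y → y ∈ center G) ∧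
    p = 2 * (centralizer (P : Set G)).relIndex (normalizer (P : Set G)) + 1 ∧
    p = 2 * charDegree χ + 1 ∧ IsIrrCharacter G χ := by
  obtain ⟨x, hx⟩ := h.exists_ne_one
  have hxc : (x : G) ∉ center G := fun e => hn (by
    rw [eq_zpowers_of_card_prime h.prime h.card x.2 fun e => hx (Subtype.ext e)]
    exact ⟨fun y hy g => by rwa [mem_center_iff.1 (zpowers_le.2 e hy) g, mul_inv_cancel_right]⟩)
  obtain ⟨ψ, h1, hcon, h2⟩ := exists_constituent_not_mem_charCenter hχ hk hxc
  obtain ⟨B, θ, ζ, b, X', lam, hθ, hD, rfl, h3, h4⟩ := h.small_exc (ψ := ψ) (by omega)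
    fun e => h2 (charKer_le_charCenter _ (e x.2))
  obtain ⟨e, t, δ, X, Y, a, hw⟩ := h.exists_pW
  rw [hw.he] at h3 ⊢
  have hθ0 := Nat.pos_of_ne_zero (isIrr_charDegree_ne_zero θ.2)
  have hp := h.prime.two_le
  have he : 2 * e < p := by nlinarith
  have hte := hw.te
  have ht : t ≠ 1 := by rintro rfl; omega
  have hone := hw.one_mem_X ht
  obtain ⟨μ, hμ⟩ := h.abFrob.exists_not_lRel (by
    rw [hw.he, h.card]
    have := hw.t_pos
    have := hw.e_pos
    nlinarith [show 2 ≤ t by omega]) lam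
  set φ : G → ℂ := (ζ lam).1 * fun g => conj ((ζ lam).1 g) with hφ
  set φ' : G → ℂ := (ζ lam).1 * fun g => conj ((ζ μ).1 g) with hφ'
  have c1 : IsCharacter G φ := isChar_mul (irr_isChar _) (isChar_conj (irr_isChar _))
  have c2 : IsCharacter G φ' := isChar_mul (irr_isChar _) (isChar_conj (irr_isChar _))
  have hα : ∀ g, ¬ p ∣ orderOf g → (φ - φ') g = 0 := fun g hg => by
    simp [hφ, hφ', hD.agree lam μ g hg]
  have h5 : classInner (φ - φ') (fun _ => 1) = 1 := by
    rw [classInner_sub_left, ← classInner_eq_one_right, ← classInner_eq_one_right,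
      classInner_irr_self, classInner_irr_ne, sub_zero]
    exact fun e => hμ (((hD.eq_iff _ _).1 e).imp fun _ => And.right)
  have h6 : fx P φ' = 0 := by
    have := fx_cast (P := P) c2
    rw [show (fun x : P => φ' x) = (fun x : P => (ζ lam).1 x) * fun x : P => conj ((ζ μ).1 x) from rfl,
      ← classInner_eq_one_right, funext (h4 lam), funext (h4 μ)] at this
    change _ = classInner ((charDegree θ.1 : ℂ) • eta lam.1) ((charDegree θ.1 : ℂ) • eta μ.1) at this
    rw [classInner_smul_left, classInner_smul_right, inner_eta_eta hμ, mul_zero,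
      mul_zero] at this
    exact_mod_cast this
  have h7 : ∀ χ ∈ X, a χ = -1 → classInner φ' χ.1 ≠ 0 := fun χ hχ e h0 => by
    have := hw.innerX hα hχ
    obtain ⟨n, hn⟩ := classInner_isChar_nat c1 (irr_isChar χ)
    rw [h5, classInner_sub_left, h0, hn, e] at this
    have : (n : ℤ) - 0 = -1 * 1 := by exact_mod_cast this
    omega
  have h8 : δ = 1 → ∃ ξ ∈ Y, classInner φ' ξ.1 ≠ 0 := fun e => by
    by_contra hc
    push Not at hc
    have := hw.innerY hα
    obtain ⟨n, hn⟩ := classInner_isChar_nat c1 (isChar_sum Y fun ξ _ => irr_isChar ξ)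
    rw [h5, Finset.sum_congr rfl fun ξ hξ => by rw [classInner_sub_left, hc ξ hξ, sub_zero],
      ← classInner_sum_right, hn, e] at this
    have : (n : ℤ) = -1 * 1 := by exact_mod_cast this
    omega
  have h9 : ∀ χ ∈ X, a χ = -1 → fx P χ.1 = 0 := fun χ hχ e =>
    fx_eq_zero_of_constituent c2 χ.2 h6 (h7 χ hχ e)
  have hO := h.pPrimeCore_le_of_small hχ hk hd
  have hS : ∑ χ ∈ X with a χ = -1, charDegree χ.1 = (X.filter fun χ => a χ = -1).card * (p - 1) := by
    refine Finset.sum_const_nat fun χ hχ => ?_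
    have := (hw.degX (Finset.mem_filter.1 hχ).1).1
    rw [h9 χ (Finset.mem_filter.1 hχ).1 (Finset.mem_filter.1 hχ).2, (Finset.mem_filter.1 hχ).2] at this
    omega
  have key : (∀ y ∈ centralizer (P : Set G), ¬ p ∣ orderOf y → y ∈ center G) ∧ ∃ n s : ℕ,
      n * (p - 1) + s * e ≤ charDegree φ' ∧ e ≤ 2 * n + s ∧ s ≤ 1 := by
    rcases hw.sign with e1 | e1
    · obtain ⟨ξ, hξ, h10⟩ := h8 e1
      have h11 := fx_eq_zero_of_constituent c2 ξ.2 h6 h10
      refine ⟨fun y => hw.le_center_of_fx hg hO (Or.inr hξ) h11,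
        (X.filter fun χ => a χ = -1).card, 1, ?_, ?_, le_rfl⟩
      · have := sum_degree_le c2 (S := insert ξ (X.filter fun χ => a χ = -1)) (by
          simp only [Finset.mem_insert, Finset.mem_filter]
          rintro χ (rfl | ⟨h1, h2⟩)
          exacts [h10, h7 χ h1 h2])
        rw [Finset.sum_insert fun e => Finset.disjoint_left.1 hw.disj (Finset.mem_filter.1 e).1 hξ,
          hS] at this
        have h12 := (hw.degY hξ).1
        rw [h11, e1] at h12
        omega
      · have := hw.count hg hone h9 hξ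
        rw [h11] at this
        omega
    · obtain ⟨ξ, hξ⟩ := hw.exists_Y
      have h10 := hw.count hg hone h9 hξ
      have h11 := (hw.degY hξ).2
      have h12 := hw.e_pos
      rw [e1] at h10 h11
      obtain ⟨χ, hχ⟩ : (X.filter fun χ => a χ = -1).Nonempty := Finset.card_pos.1 (by omega)
      rw [Finset.mem_filter] at hχ
      refine ⟨fun y => hw.le_center_of_fx hg hO (Or.inl hχ.1) (h9 χ hχ.1 hχ.2),
        (X.filter fun χ => a χ = -1).card, 0, ?_, by omega, zero_le_one⟩
      have := sum_degree_le c2 (S := X.filter fun χ => a χ = -1) fun χ hχ =>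
        h7 χ (Finset.mem_filter.1 hχ).1 (Finset.mem_filter.1 hχ).2
      omega
  obtain ⟨hK, n, s, k1, k2, k3⟩ := key
  have hθ1 : charDegree θ.1 = 1 := by
    have : IsMulCommutative (centralizer (P : Set G)) := ⟨⟨fun c c' => by
      obtain ⟨y, hy, e⟩ := exists_decomp h.ab c
      have h1 := mem_center_iff.1 (hK y y.2 (by rwa [orderOf_coe])) c'
      have h2 := c'.2 _ (vp h.ab c).2
      rw [e]
      refine Subtype.ext ?_
      simp only [coe_mul, coe_inclusion]
      rw [mul_assoc, ← h1, ← mul_assoc, h2, mul_assoc]⟩⟩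
    exact charDegree_of_eq (by simpa using isIrr_degree_one_of_comm θ.2)
  rw [hθ1, mul_one] at h3
  have h10 : charDegree φ' = e * e := charDegree_of_eq (by
    simp only [hφ', Pi.mul_apply]
    rw [← hD.agree lam μ 1 hw.reg_one, ← irr_degree_cast, h3]
    simp)
  have h11 : e ≠ 1 := by
    rintro rfl
    obtain ⟨l, hl⟩ := isChar_linear_of_degree_one (irr_isChar (ζ lam))
      (by rw [← irr_degree_cast, h3, Nat.cast_one])
    exact h2 ((mem_charCenter_iff (irr_isChar _)).2 (by rw [hl, linear_norm, linear_norm]))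
  have h12 : p - 1 ≤ 2 * e := by
    have := hw.e_pos
    rw [h10] at k1
    interval_cases s
    · nlinarith
    · obtain ⟨e, rfl⟩ : ∃ e', e = e' + 2 := ⟨e - 2, by omega⟩
      nlinarith
  refine ⟨hK, by omega, by omega, ?_⟩
  rw [Constit.eq_of_inner_ne_zero_of_degree hχ (ζ lam).2 hcon (charDegree_cast hχ).symm
    (irr_degree_cast _).symm (by omega)]
  exact (ζ lam).2

theorem OrdP.relIndex_normalClosure_dvd (_ : OrdP p P) {H : Subgroup G} (hH : P ≤ H) :
    (centralizer (P.subgroupOf H : Set H)).relIndex (normalizer (P.subgroupOf H : Set H)) ∣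
      (centralizer (P : Set G)).relIndex (normalizer (P : Set G)) := by
  have h1 : centralizer (P.subgroupOf H : Set H) = (centralizer (P : Set G)).subgroupOf H :=
    Subgroup.ext fun x => mem_centralizer_subgroupOf_iff hH x
  rw [h1, ← subgroupOf_normalizer_eq hH, ← inf_subgroupOf_right (normalizer (P : Set G)),
    relIndex_subgroupOf inf_le_right, ← relIndex_subgroupOf (inf_le_left (b := H))]
  have := normal_subgroupOf_centralizer_normalizer (P : Set G)
  exact relIndex_dvd_index_of_normal _ _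

/-- Brauer's theorem without the generation hypothesis. -/
theorem OrdP.small (h : OrdP p P) (hn : ¬ P.Normal) {χ : G → ℂ} (hχ : IsCharacter G χ)
    (hk : charKer χ = ⊥) (hd : 2 * charDegree χ < p) : p = 2 * charDegree χ + 1 :=
  ((h.subgroupOf le_normalClosure).small_main h.normalClosure_subgroupOf
    (mt h.normal_of_subgroupOf hn) (isChar_res _ hχ) (faithful_res hχ hk _) hd).2.2.1

omit [Fintype G] in
theorem charKer_eq_bot [Finite G] {χ : G → ℂ} (hχ : IsCharacter G χ)
    (h : ∀ g, χ g = χ 1 → g = 1) : charKer χ = ⊥ :=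
  eq_bot_iff.2 fun g hg => h g ((mem_charKer_iff hχ).1 hg)

end Cfsg.Agent.Block
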