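import Mathlib
import Cfsg.Agent.Block.Corr
import Cfsg.Agent.H2.FrobQuot
import Cfsg.Agent.Transfer.Abelian

/-! Cyclic `p`-subgroups with their subgroup of order `p`; Brauer pairs of blocks with cyclic
defect group. -/

set_option autoImplicit false

namespace Cfsg.Agent.Block

open Cfsg Cfsg.Agent.Char MonoidAlgebra Subgroup
open Cfsg.Agent.LocalEven hiding isPGroup_zpowers_of_orderOf

variable {G : Type*} [Group G] [Finite G] {p : ℕ} {M : Ideal AlgInt} {P Q Z T : Subgroup G}

/-- `P` is a cyclic `p`-group and `Z` its subgroup of order `p`. -/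
structure CycP (p : ℕ) (P Z : Subgroup G) : Prop where
  prime : p.Prime
  pg : IsPGroup p P
  cyc : IsCyclic P
  le : Z ≤ P
  card : Nat.card Z = p

theorem exists_le_card_eq (hp : p.Prime) (hP : IsPGroup p P) (h1 : P ≠ ⊥) :
    ∃ Z, Z ≤ P ∧ Nat.card Z = p := by
  have := Fact.mk hp
  obtain ⟨k, hk⟩ := hP.exists_card_eq
  have h0 : k ≠ 0 := by
    rintro rfl
    exact h1 (card_eq_one.1 (by simpa using hk))
  obtain ⟨x, hx⟩ := exists_prime_orderOf_dvd_card' (G := P) p (hk ▸ dvd_pow_self p h0)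
  exact ⟨zpowers (x : G), zpowers_le.2 x.2, by rw [Nat.card_zpowers, orderOf_coe, hx]⟩

theorem exists_cycP (hp : p.Prime) (hP : IsPGroup p P) (h1 : P ≠ ⊥) (hc : IsCyclic P) :
    ∃ Z, CycP p P Z :=
  let ⟨Z, h, h'⟩ := exists_le_card_eq hp hP h1
  ⟨Z, hp, hP, hc, h, h'⟩

namespace CycP

variable (h : CycP p P Z)
include h

theorem ne_bot : Z ≠ ⊥ := fun e => h.prime.one_lt.ne' (by rw [← h.card, e, card_bot])

theorem le_of_ne_bot (hQ : Q ≤ P) (h1 : Q ≠ ⊥) : Z ≤ Q := by
  have := h.cyc
  obtain ⟨Y, hY, hc⟩ := exists_le_card_eq h.prime (h.pg.to_le hQ) h1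
  exact (Transfer.le_of_card_dvd_of_isCyclic h.le (hY.trans hQ) (by rw [hc, h.card])).trans hY

theorem mono (hQ : Q ≤ P) (h1 : Q ≠ ⊥) : CycP p Q Z :=
  ⟨h.prime, h.pg.to_le hQ, have := h.cyc; isCyclic_of_le hQ, h.le_of_ne_bot hQ h1, h.card⟩

theorem self : CycP p Z Z := h.mono h.le h.ne_bot

theorem comm : P ≤ centralizer (P : Set G) := fun x hx => mem_centralizer_iff.2 fun y hy =>
  have := h.cyc
  congrArg Subtype.val (mul_comm' (⟨y, hy⟩ : P) ⟨x, hx⟩)

theorem le_centralizer (hQ : Q ≤ P) : P ≤ centralizer (Q : Set G) :=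
  h.comm.trans (centralizer_le hQ)

theorem normalizer_le' (hQ : Q ≤ P) : normalizer (P : Set G) ≤ normalizer (Q : Set G) :=
  H2.normalizer_le_normalizer_of_isCyclic h.cyc hQ

theorem normalizer_le (hQ : Q ≤ P) (h1 : Q ≠ ⊥) :
    normalizer (Q : Set G) ≤ normalizer (Z : Set G) :=
  (h.mono hQ h1).normalizer_le' (h.le_of_ne_bot hQ h1)

theorem le_zpowers {x : G} (hx : x ∈ P) (h1 : x ≠ 1) : Z ≤ zpowers x :=
  h.le_of_ne_bot (zpowers_le.2 hx) (by simpa using h1)

theorem mem_centralizer_of_commute {x g : G} (hx : x ∈ P) (h1 : x ≠ 1) (hc : Commute g x) :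
    g ∈ centralizer (Z : Set G) := mem_centralizer_iff.2 fun z hz => by
  obtain ⟨k, rfl⟩ := h.le_zpowers hx h1 hz
  exact (hc.zpow_right k).symm

theorem mem_centralizer_of_regular {g : G} (hN : g ∈ normalizer (P : Set G))
    (hg : ¬ p ∣ orderOf g) (hZ : g ∈ centralizer (Z : Set G)) : g ∈ centralizer (P : Set G) := by
  have := Fact.mk h.prime
  have := h.cyc
  obtain ⟨k, hk⟩ := h.pg.exists_card_eq
  refine mem_centralizer_iff.2 fun v hv => (H2.commute_of_commute_prime inferInstance hN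
    (hk ▸ (((Nat.Prime.coprime_iff_not_dvd h.prime).2 hg).symm.pow_right k)) (fun w hw wp => ?_)
    hv).symm
  obtain ⟨m, hm⟩ := exists_orderOf_eq_pow_of_mem h.prime h.pg hw
  have h2 : orderOf w = p := by
    rw [hm] at wp ⊢
    rw [wp.eq_one_of_pow, pow_one]
  exact (mem_centralizer_iff.1 hZ w (Transfer.le_of_card_dvd_of_isCyclic (zpowers_le.2 hw) h.le
    (by rw [Nat.card_zpowers, h2, h.card]) (mem_zpowers w))).symm

theorem mem_centralizer (hT : T ≤ normalizer (P : Set G))
    (hd : ¬ p ∣ (centralizer (P : Set G)).relIndex T) {g : G} (hg : g ∈ T)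
    (hZ : g ∈ centralizer (Z : Set G)) : g ∈ centralizer (P : Set G) := by
  have h1 := isPPart_pp h.prime g
  have h2 : pp p g ∈ centralizer (P : Set G) := le_of_not_dvd_relIndex h.prime
    (hT.trans (normalizer_le_normalizer_centralizer _)) hd (pPart_isPGroup h1)
    (zpowers_le.2 (pPart_mem h.prime h1 hg)) (mem_zpowers _)
  have h3 := h.mem_centralizer_of_regular
    (mul_mem (inv_mem (centralizer_le_normalizer _ h2)) (hT hg)) (pPart_regular h1)
    (mul_mem (inv_mem (centralizer_le h.le h2)) hZ)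
  simpa using mul_mem h2 h3

/-- The action on `Z` of a subgroup of the normaliser of `P`. -/
noncomputable def toAut (hT : T ≤ normalizer (P : Set G)) : T →* MulAut Z :=
  Z.normalizerMonoidHom.comp (inclusion (hT.trans (h.normalizer_le' h.le)))

theorem ker_toAut (hT : T ≤ normalizer (P : Set G))
    (hd : ¬ p ∣ (centralizer (P : Set G)).relIndex T) :
    (h.toAut hT).ker = (centralizer (P : Set G)).subgroupOf T := by
  ext g
  rw [toAut, ← MonoidHom.comap_ker, normalizerMonoidHom_ker, mem_comap, mem_subgroupOf,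
    mem_subgroupOf]
  exact ⟨h.mem_centralizer hT hd g.2, fun e => centralizer_le h.le e⟩

theorem card_mulAut : Nat.card (MulAut Z) = p - 1 := by
  have := h.self.cyc
  rw [IsCyclic.card_mulAut, h.card, Nat.totient_prime h.prime]

theorem isCyclic_mulAut : IsCyclic (MulAut Z) := by
  have := h.self.cyc
  have := Fact.mk (h.card ▸ h.prime : (Nat.card Z).Prime)
  exact isCyclic_of_surjective _ (IsCyclic.mulAutMulEquiv Z).symm.surjective

theorem relIndex_dvd (hT : T ≤ normalizer (P : Set G))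
    (hd : ¬ p ∣ (centralizer (P : Set G)).relIndex T) :
    (centralizer (P : Set G)).relIndex T ∣ p - 1 := by
  rw [relIndex, ← h.ker_toAut hT hd, index_ker, ← h.card_mulAut]
  exact card_subgroup_dvd_card _

theorem isCyclic_quotient (hT : T ≤ normalizer (P : Set G))
    (hd : ¬ p ∣ (centralizer (P : Set G)).relIndex T)
    [((centralizer (P : Set G)).subgroupOf T).Normal] :
    IsCyclic (T ⧸ (centralizer (P : Set G)).subgroupOf T) := by
  have := h.isCyclic_mulAut
  exact isCyclic_of_surjective _ ((QuotientGroup.quotientKerEquivRange (h.toAut hT)).symm.trans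
    (QuotientGroup.quotientMulEquivOfEq (h.ker_toAut hT hd))).surjective

end CycP

variable {B : Set (IrrCharacter G)} {a d : BrauerPairIdx G}

theorem IsMaxBP.not_dvd_of_abelian (hM : IsPModular p M) (hd : IsMaxBP p M B d)
    (hab : d.1 ≤ centralizer (d.1 : Set G)) :
    ¬ p ∣ (centralizer (d.1 : Set G)).relIndex (MulAction.stabilizer G d) := by
  have := hd.not_dvd hM
  rwa [sup_eq_left.2 hab] at this

theorem isMaxBP_of_induced (hM : IsPModular p M) (hP : IsDefectGroup p M B P)
    {c : Set (IrrCharacter (centralizer (P : Set G)))} (hc : IsInducedBlock M _ c B) :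
    IsMaxBP p M B ⟨P, c⟩ :=
  (isMaxBP_iff hM).2 ⟨(isBrauerPairOf_iff_induced hM).2 ⟨isDefectGroup_isPGroup hP, hc⟩, hP⟩

namespace IsMaxBP

variable (hM : IsPModular p M) (hd : IsMaxBP p M B d) (h : CycP p d.1 Z)
include hM hd h

theorem cyc_inf (ha : a.1 ≤ d.1) (h1 : a.1 ≠ ⊥) :
    MulAction.stabilizer G d ⊓ centralizer (a.1 : Set G) = centralizer (d.1 : Set G) :=
  le_antisymm (fun _ hg => h.mem_centralizer (stabilizer_le_normalizer d)
    (hd.not_dvd_of_abelian hM h.comm) hg.1 (centralizer_le (h.le_of_ne_bot ha h1) hg.2))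
    (le_inf (centralizer_le_stabilizer d) (centralizer_le ha))

theorem cyc_nilpotent (ha : PLe p M a d) (h1 : a.1 ≠ ⊥) : IsNilpotentBlock p M a.2 :=
  (hd.nilpotent_local_iff_of_abelian hM h.comm ha).2 (hd.cyc_inf hM h ha.le h1).le

theorem cyc_stabilizer (ha : PLe p M a d) :
    MulAction.stabilizer G a = MulAction.stabilizer G d ⊔ centralizer (a.1 : Set G) := by
  rw [hd.stabilizer_eq_of_abelian hM h.comm ha,
    inf_eq_left.2 ((stabilizer_le_normalizer d).trans (h.normalizer_le' ha.le))]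

theorem cyc_relIndex (ha : PLe p M a d) (h1 : a.1 ≠ ⊥) :
    (centralizer (a.1 : Set G)).relIndex (MulAction.stabilizer G a) =
      (centralizer (d.1 : Set G)).relIndex (MulAction.stabilizer G d) := by
  rw [hd.cyc_stabilizer hM h ha, sup_comm, Core.relIndex_sup_of_le_normalizer
    (((stabilizer_le_normalizer d).trans (h.normalizer_le' ha.le)).trans
      (normalizer_le_normalizer_centralizer _)), ← hd.cyc_inf hM h ha.le h1, inf_comm,
    inf_relIndex_right]

end IsMaxBP

end Cfsg.Agent.Block
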