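import Mathlib
import Cfsg.Agent.Block.Mor
import Cfsg.Agent.Block.Pair

/-!
The modular part of the theory of blocks with cyclic defect groups: graded pieces of the algebra
over the centraliser of the subgroup `Z` of order `p`, and the action on the Tate quotient.
-/

namespace Cfsg.Agent.Block

open MonoidAlgebra Subgroup

variable {k : Type*} [Field k] {G : Type*} [Group G] [Finite G] {p : ℕ}

/-- A sum over an invariant set without fixed points of elements of order `p` vanishes when all
full orbit sums vanish. -/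
theorem sum_eq_zero_of_pfree [Fact p.Prime] (hp : (p : k) = 0) {Γ Ω W : Type*} [Group Γ]
    [Fintype Γ] [AddCommGroup W] [Module k W] (act : Γ → Ω → Ω) (h1 : ∀ q, act 1 q = q)
    (hm : ∀ x y q, act (x * y) q = act x (act y q)) (a : Ω → W) (s : Finset Ω)
    (hs : ∀ y, ∀ q ∈ s, act y q ∈ s) (hfree : ∀ q ∈ s, ∀ u, orderOf u = p → act u q ≠ q)
    (h : ∀ q ∈ s, ∑ y, a (act y q) = 0) : ∑ q ∈ s, a q = 0 := by
  classical
  letI : MulAction Γ Ω := { smul := act, one_smul := h1, mul_smul := hm }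
  have hact : ∀ y q, act y q = y • q := fun _ _ => rfl
  simp only [hact] at hs hfree h
  haveI : CharP k p := (CharP.charP_iff_prime_eq_zero Fact.out).2 hp
  induction s using Finset.strongInduction with
  | H s ih =>
    rcases s.eq_empty_or_nonempty with rfl | ⟨q, hq⟩
    · simp
    let o : Finset Ω := Finset.univ.image fun y : Γ => y • q
    have hos : o ⊆ s := by
      intro z hz
      obtain ⟨y, -, rfl⟩ := Finset.mem_image.1 hz
      exact hs y q hq
    have hqo : q ∈ o := Finset.mem_image.2 ⟨1, Finset.mem_univ _, one_smul _ _⟩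
    have ho : ∑ z ∈ o, a z = 0 := by
      have h2 := h q hq
      rw [Finset.sum_comp a fun y : Γ => y • q] at h2
      have h3 : ∀ z ∈ o, (Finset.univ.filter fun y : Γ => y • q = z).card =
          Nat.card (MulAction.stabilizer Γ q) := by
        intro z hz
        obtain ⟨x, -, rfl⟩ := Finset.mem_image.1 hz
        rw [Nat.card_eq_fintype_card, Fintype.card_subtype]
        refine Finset.card_bij (fun y _ => x⁻¹ * y) (fun y hy => ?_) (fun y _ y' _ h => ?_)
          (fun y hy => ⟨x * y, ?_, by simp⟩)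
        · simp only [Finset.mem_filter, Finset.mem_univ, true_and, MulAction.mem_stabilizer_iff]
            at hy ⊢
          rw [mul_smul, hy, inv_smul_smul]
        · exact mul_left_cancel h
        · simp only [Finset.mem_filter, Finset.mem_univ, true_and, MulAction.mem_stabilizer_iff]
            at hy ⊢
          rw [mul_smul, hy]
      rw [Finset.sum_congr rfl fun z hz => by rw [h3 z hz], ← Finset.smul_sum,
        ← Nat.cast_smul_eq_nsmul k, smul_eq_zero] at h2
      refine h2.resolve_left fun h0 => ?_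
      rw [CharP.cast_eq_zero_iff k p] at h0
      obtain ⟨u, hu⟩ := exists_prime_orderOf_dvd_card' p h0
      exact hfree q hq u (by rw [← hu, orderOf_coe]) u.2
    rw [← Finset.sum_sdiff hos, ho, add_zero]
    refine ih _ (Finset.sdiff_ssubset hos ⟨q, hqo⟩) ?_ ?_ ?_
    · intro y z hz
      rw [Finset.mem_sdiff] at hz ⊢
      refine ⟨hs y z hz.1, fun hz' => hz.2 ?_⟩
      obtain ⟨y', -, hy'⟩ := Finset.mem_image.1 hz'
      refine Finset.mem_image.2 ⟨y⁻¹ * y', Finset.mem_univ _, ?_⟩
      rw [mul_smul, hy', inv_smul_smul]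
    · exact fun z hz => hfree z (Finset.mem_sdiff.1 hz).1
    · exact fun z hz => h z (Finset.mem_sdiff.1 hz).1

theorem cjA_eq_conj (x : G) (y : MonoidAlgebra k G) :
    cjA x y = single x 1 * y * single x⁻¹ 1 :=
  ga_ext fun g => by rw [coeff_cjA, coeff_conj]

theorem single_mul_eq_cjA (x : G) (y : MonoidAlgebra k G) :
    single x 1 * y = cjA x y * single x 1 := by
  rw [cjA_eq_conj, mul_assoc, single_inv_mul_single, mul_one]

theorem mul_single_eq_cjA (x : G) (y : MonoidAlgebra k G) :
    y * single x 1 = single x 1 * cjA x⁻¹ y := by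
  rw [cjA_eq_conj, inv_inv, ← mul_assoc, ← mul_assoc, single_mul_single_inv, one_mul]

/-- Elements supported on the coset `C n`. -/
def Gr (C : Subgroup G) (n : G) (y : MonoidAlgebra k G) : Prop :=
  ∃ w : MonoidAlgebra k C, y = incl C w * single n 1

section Gr

variable {Z C : Subgroup G} {n n' : G} {y y' : MonoidAlgebra k G}

theorem exists_cjA_incl (hn : n ∈ normalizer (Z : Set G))
    (w : MonoidAlgebra k (centralizer (Z : Set G))) :
    ∃ w' : MonoidAlgebra k (centralizer (Z : Set G)), cjA n (incl _ w) = incl _ w' :=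
  ⟨_, (incl_resTo _ fun g hg => by
    rw [coeff_cjA, coeff_incl_of_notMem]
    intro h
    have := (conj_mem_centralizer_iff (inv_mem hn) g).1 (by rwa [inv_inv])
    exact hg this).symm⟩

omit [Finite G] in
theorem gr_incl (w : MonoidAlgebra k C) : Gr C 1 (incl C w) := ⟨w, by rw [← one_def, mul_one]⟩

omit [Finite G] in
theorem gr_single (n : G) : Gr C n (single n (1 : k)) := ⟨1, by rw [map_one, one_mul]⟩

omit [Finite G] in
theorem Gr.congr (h : Gr C n y) (hn : n * n'⁻¹ ∈ C) : Gr C n' y := by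
  obtain ⟨w, rfl⟩ := h
  refine ⟨w * single ⟨_, hn⟩ 1, ?_⟩
  rw [map_mul, incl_single, mul_assoc, single_one_mul_single_one, inv_mul_cancel_right]

omit [Finite G] in
theorem Gr.exists_incl (h : Gr C n y) (hn : n ∈ C) : ∃ w, y = incl C w := by
  obtain ⟨w, hw⟩ := h.congr (n' := 1) (by simpa using hn)
  exact ⟨w, by rw [hw, ← one_def, mul_one]⟩

theorem Gr.mul (h : Gr (centralizer (Z : Set G)) n y) (h' : Gr (centralizer (Z : Set G)) n' y')
    (hn : n ∈ normalizer (Z : Set G)) : Gr (centralizer (Z : Set G)) (n * n') (y * y') := by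
  obtain ⟨w, rfl⟩ := h
  obtain ⟨w', rfl⟩ := h'
  obtain ⟨w'', hw⟩ := exists_cjA_incl hn w'
  refine ⟨w * w'', ?_⟩
  rw [mul_assoc, ← mul_assoc (single n 1), single_mul_eq_cjA, hw, map_mul, mul_assoc, mul_assoc,
    single_one_mul_single_one]

theorem Gr.pow (h : Gr (centralizer (Z : Set G)) n y) (hn : n ∈ normalizer (Z : Set G)) (i : ℕ) :
    Gr (centralizer (Z : Set G)) (n ^ i) (y ^ i) := by
  induction i with
  | zero => simpa using gr_incl (C := centralizer (Z : Set G)) (1 : MonoidAlgebra k _)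
  | succ i ih => rw [pow_succ', pow_succ']; exact h.mul ih hn

theorem Gr.incl_mul (h : Gr C n y) (w : MonoidAlgebra k C) : Gr C n (incl C w * y) := by
  obtain ⟨w', rfl⟩ := h
  exact ⟨w * w', by rw [map_mul, mul_assoc]⟩

theorem Gr.mul_incl (h : Gr (centralizer (Z : Set G)) n y) (hn : n ∈ normalizer (Z : Set G))
    (w : MonoidAlgebra k (centralizer (Z : Set G))) :
    Gr (centralizer (Z : Set G)) n (y * incl _ w) := by
  simpa using h.mul (gr_incl w) hn

theorem Gr.resTo_eq_zero (h : Gr C n y) (hn : n ∉ C) : resTo C y = 0 := by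
  obtain ⟨w, rfl⟩ := h
  rw [resTo_incl_mul]
  have : resTo C (single n (1 : k)) = 0 := ga_ext fun c => by
    rw [coeff_resTo, coeff_single, Finsupp.single_eq_of_ne]
    · rfl
    · rintro rfl; exact hn c.2
  rw [this, mul_zero]

end Gr

/-- `y` normalises the left and right ideals generated by powers of `X`. -/
structure Nm {A : Type*} [Ring A] (X y : A) : Prop where
  right : ∃ y', y * X = X * y'
  left : ∀ r : ℕ, ∃ y', X ^ r * y = y' * X ^ r

section Nm

variable {A : Type*} [Ring A] [Algebra k A] {X y y' : A}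

theorem Commute.nm (h : Commute X y) : Nm X y :=
  ⟨⟨y, h.eq.symm⟩, fun r => ⟨y, (h.pow_left r).eq⟩⟩

theorem Nm.mul (h : Nm X y) (h' : Nm X y') : Nm X (y * y') := by
  refine ⟨?_, fun r => ?_⟩
  · obtain ⟨u, hu⟩ := h.right
    obtain ⟨u', hu'⟩ := h'.right
    exact ⟨u * u', by rw [mul_assoc, hu', ← mul_assoc, hu, mul_assoc]⟩
  · obtain ⟨u, hu⟩ := h.left r
    obtain ⟨u', hu'⟩ := h'.left r
    exact ⟨u * u', by rw [← mul_assoc, hu, mul_assoc, hu', mul_assoc]⟩

theorem Nm.add (h : Nm X y) (h' : Nm X y') : Nm X (y + y') := by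
  refine ⟨?_, fun r => ?_⟩
  · obtain ⟨u, hu⟩ := h.right
    obtain ⟨u', hu'⟩ := h'.right
    exact ⟨u + u', by rw [add_mul, hu, hu', mul_add]⟩
  · obtain ⟨u, hu⟩ := h.left r
    obtain ⟨u', hu'⟩ := h'.left r
    exact ⟨u + u', by rw [mul_add, hu, hu', add_mul]⟩

theorem Nm.smul (h : Nm X y) (c : k) : Nm X (c • y) := by
  refine ⟨?_, fun r => ?_⟩
  · obtain ⟨u, hu⟩ := h.right
    exact ⟨c • u, by rw [smul_mul_assoc, hu, mul_smul_comm]⟩
  · obtain ⟨u, hu⟩ := h.left r
    exact ⟨c • u, by rw [mul_smul_comm, hu, smul_mul_assoc]⟩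

theorem Nm.pow (h : Nm X y) (i : ℕ) : Nm X (y ^ i) := by
  induction i with
  | zero => rw [pow_zero]; exact Commute.nm (Commute.one_right X)
  | succ i ih => rw [pow_succ]; exact ih.mul h

theorem nm_sum {ι : Type*} (s : Finset ι) {f : ι → A} (h : ∀ i ∈ s, Nm X (f i)) :
    Nm X (∑ i ∈ s, f i) :=
  Finset.sum_induction f (Nm X) (fun _ _ => Nm.add) (Commute.nm (Commute.zero_right X)) h

theorem Nm.mul_mul (h : Nm X y) (w : A) : ∃ w', y * (X * w) = X * w' := by
  obtain ⟨u, hu⟩ := h.right
  exact ⟨u * w, by rw [← mul_assoc, hu, mul_assoc]⟩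

end Nm

/-- The algebraic data of a nilpotent block `η` of `C(Z)` with cyclic defect group. -/
structure CycAlg (p : ℕ) (Z T : Subgroup G) (η X : MonoidAlgebra k (centralizer (Z : Set G)))
    (m : ℕ) : Prop where
  card : Nat.card Z = p
  le : centralizer (Z : Set G) ≤ T
  le' : T ≤ normalizer (Z : Set G)
  cen : IsCentral η
  idem : η * η = η
  cenX : IsCentral X
  etaX : η * X = X
  nil : X ^ (m + 1) = 0
  ne : X ^ m ≠ 0
  pos : m ≠ 0
  span : ∀ z, IsCentral z → η * z = z → ∃ (c : k) (u : _), IsCentral u ∧ z = c • η + X * u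
  stab : ∀ n ∈ T, cjA n (incl _ η) = incl _ η
  orth : ∀ n ∈ normalizer (Z : Set G), n ∉ T → incl _ η * cjA n (incl _ η) = 0
  supp : ∀ g u : centralizer (Z : Set G), η.coeff g ≠ 0 → orderOf u = p → Commute u g →
    (u : G) ∈ Z

namespace CycAlg

variable {Z T : Subgroup G} {η X : MonoidAlgebra k (centralizer (Z : Set G))} {m : ℕ}
  (h : CycAlg p Z T η X m)
include h

omit [Finite G] in
theorem isNilpotent : IsNilpotent X := ⟨_, h.nil⟩

omit [Finite G] in
theorem eta_pow : η * X ^ m = X ^ m := by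
  obtain ⟨r, hr⟩ := Nat.exists_eq_succ_of_ne_zero h.pos
  rw [hr, pow_succ', ← mul_assoc, h.etaX]

omit [Finite G] in
theorem eta_ne : η ≠ 0 := fun h0 => h.ne (by rw [← h.eta_pow, h0, zero_mul])

omit [Finite G] in
theorem ne' : X ^ m * η ≠ 0 := by rw [← (h.cen.commute _).eq, h.eta_pow]; exact h.ne

omit [Finite G] in
theorem exists_of_nilpotent {z : MonoidAlgebra k (centralizer (Z : Set G))} (hz : IsCentral z)
    (h1 : η * z = z) (hn : IsNilpotent z) : ∃ u, IsCentral u ∧ z = X * u := by
  obtain ⟨c, u, hu, hz'⟩ := h.span z hz h1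
  have hc : c = 0 := by
    by_contra hc
    refine h.eta_ne (eq_zero_of_idem_of_isNilpotent h.idem ?_)
    have : η = c⁻¹ • (z - X * u) := by
      rw [hz', add_sub_cancel_right, smul_smul, inv_mul_cancel₀ hc, one_smul]
    rw [this]
    exact ((hz.commute _).isNilpotent_sub hn
      ((h.cenX.commute u).isNilpotent_mul_right h.isNilpotent)).smul _
  exact ⟨u, hu, by rw [hz', hc, zero_smul, zero_add]⟩

omit [Finite G] in
theorem exists_of_mul_eq_zero {z : MonoidAlgebra k (centralizer (Z : Set G))} (hz : IsCentral z)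
    (h1 : η * z = z) (h0 : X * z = 0) : ∃ c : k, z = c • X ^ m := by
  have key : ∀ i, i ≤ m → ∃ u, IsCentral u ∧ η * u = u ∧ z = X ^ i * u := by
    intro i
    induction i with
    | zero => exact fun _ => ⟨z, hz, h1, by simp⟩
    | succ i ih =>
      intro hi
      obtain ⟨u, hu, hu1, hu2⟩ := ih (by omega)
      obtain ⟨c, w, hw, hw'⟩ := h.span u hu hu1
      have e : X ^ (m - i) * z = 0 := by
        rw [show m - i = (m - i - 1) + 1 by omega, pow_succ, mul_assoc, h0, mul_zero]
      rw [hu2, ← mul_assoc, ← pow_add, show m - i + i = m by omega, hw', mul_add, ← mul_assoc,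
        ← pow_succ, h.nil, zero_mul, add_zero, mul_smul_comm, smul_eq_zero] at e
      refine ⟨η * w, h.cen.mul hw, by rw [← mul_assoc, h.idem], ?_⟩
      rw [hu2, hw', e.resolve_right h.ne', zero_smul, zero_add, pow_succ, mul_assoc,
        ← mul_assoc X η, ← (h.cen.commute X).eq, h.etaX]
  obtain ⟨u, hu, hu1, hu2⟩ := key m le_rfl
  obtain ⟨c, w, -, hw'⟩ := h.span u hu hu1
  refine ⟨c, ?_⟩
  rw [hu2, hw', mul_add, ← mul_assoc, ← pow_succ, h.nil, zero_mul, add_zero, mul_smul_comm,
    ← (h.cen.commute _).eq, h.eta_pow]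

theorem exists_mor [IsAlgClosed k] :
    ∃ (j : MonoidAlgebra k (centralizer (Z : Set G))) (n : ℕ) (a b : Fin n → _),
      Mor k η X j a b := by
  have key : ∀ τ, TrL η X τ → ∃ c : k, ∀ y, τ y = c * (X ^ m * y).coeff 1 := by
    intro τ hτ
    let z : MonoidAlgebra k (centralizer (Z : Set G)) := ofFun fun g => τ (single g⁻¹ 1)
    have hz : ∀ y, (z * y).coeff 1 = τ y := by
      intro y
      induction y using MonoidAlgebra.induction_linear with
      | zero => simp
      | add a b ha hb => rw [mul_add, coeff_add, Finsupp.add_apply, ha, hb, map_add]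
      | single g r =>
        rw [single_eq_smul_one g r, mul_smul_comm, coeff_smul, Finsupp.smul_apply, map_smul]
        simp [z]
    have hext : ∀ w w' : MonoidAlgebra k (centralizer (Z : Set G)),
        (∀ y, (w * y).coeff 1 = (w' * y).coeff 1) → w = w' := fun w w' hw => ga_ext fun g => by
      simpa using hw (single g⁻¹ 1)
    have hc : IsCentral z := isCentral_ofFun fun g x => by
      rw [mul_inv_rev, mul_inv_rev, inv_inv, ← single_one_mul_single_one, hτ.comm,
        single_one_mul_single_one, mul_assoc, inv_mul_cancel, mul_one]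
    obtain ⟨c, hc'⟩ := h.exists_of_mul_eq_zero hc
      (hext _ _ fun y => by rw [← (hc.commute η).eq, mul_assoc, hz, hz, hτ.eta])
      (hext _ _ fun y => by rw [← (hc.commute X).eq, mul_assoc, hz, hτ.van]; simp)
    exact ⟨c, fun y => by rw [← hz, hc', smul_mul_assoc, coeff_smul, Finsupp.smul_apply,
      smul_eq_mul]⟩
  refine Block.exists_mor h.cen.commute h.idem h.eta_ne h.cenX.commute h.isNilpotent
    fun τ τ' hτ hτ' x hx hx' => ?_
  obtain ⟨c, hc⟩ := key τ hτ
  obtain ⟨c', hc'⟩ := key τ' hτ'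
  rw [hc, mul_eq_zero] at hx
  rw [hc'] at hx'
  have : c = 0 := hx.resolve_right (right_ne_zero_of_mul hx')
  exact LinearMap.ext fun y => by rw [hc, this, zero_mul]; rfl

theorem exists_cjA {n : G} (hn : n ∈ T) : ∃ u, IsCentral u ∧ cjA n (incl _ X) = incl _ (X * u) := by
  obtain ⟨z, hz⟩ := exists_cjA_incl (h.le' hn) X
  have h1 : IsCentral z := by
    rw [isCentral_iff_commute]
    intro y
    obtain ⟨y', hy'⟩ := exists_cjA_incl (inv_mem (h.le' hn)) y
    have e : incl _ y = cjA n (incl _ y') := by rw [← hy', ← cjA_mul, mul_inv_cancel, cjA_one]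
    apply incl_injective
    rw [map_mul, map_mul, ← hz, e, ← map_mul, ← map_mul, ← map_mul, ← map_mul,
      (h.cenX.commute y').eq]
  have h2 : η * z = z := by
    apply incl_injective
    rw [map_mul, ← hz, ← h.stab n hn, ← map_mul, ← map_mul, h.etaX]
  have h3 : IsNilpotent z := by
    refine ⟨m + 1, incl_injective _ ?_⟩
    rw [map_pow, ← hz, ← map_pow, ← map_pow, h.nil, map_zero, map_zero]
  obtain ⟨u, hu, hu'⟩ := h.exists_of_nilpotent h1 h2 h3
  exact ⟨u, hu, by rw [hz, hu']⟩

theorem nm_incl (w : MonoidAlgebra k (centralizer (Z : Set G))) : Nm (incl _ X) (incl _ w) :=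
  Commute.nm ((h.cenX.commute w).map _)

theorem nm_single {n : G} (hn : n ∈ T) : Nm (incl _ X) (single n (1 : k)) := by
  refine ⟨?_, fun r => ?_⟩
  · obtain ⟨u, -, hu⟩ := h.exists_cjA hn
    exact ⟨incl _ u * single n 1, by rw [single_mul_eq_cjA, hu, map_mul, mul_assoc]⟩
  · obtain ⟨u, -, hu⟩ := h.exists_cjA (inv_mem hn)
    refine ⟨single n 1 * incl _ (u ^ r), ?_⟩
    rw [mul_single_eq_cjA, map_pow, hu, ← map_pow, (h.cenX.commute u).mul_pow,
      ((h.cenX.commute (u ^ r)).pow_left r).eq, map_mul, map_pow _ X, mul_assoc]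

theorem nm_of_gr {n : G} (hn : n ∈ T) {y : MonoidAlgebra k G}
    (hy : Gr (centralizer (Z : Set G)) n y) : Nm (incl _ X) y := by
  obtain ⟨w, rfl⟩ := hy
  exact (h.nm_incl w).mul (h.nm_single hn)

end CycAlg

end Cfsg.Agent.Block
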