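import Mathlib
import Cfsg.Agent.Block.Tate3

/-!
The modular part of the theory of blocks with cyclic defect groups: the unit `s` of the graded
piece of a generator of the inertial quotient acts as a scalar on the Tate quotient of a simple
module, and every possible scalar occurs.
-/

namespace Cfsg.Agent.Block

open MonoidAlgebra Subgroup

universe u

variable {k : Type*} [Field k] {G : Type u} [Group G] [Finite G] {p : ℕ}

/-- A unit of `j k[T] j` in the graded piece of `g`. -/
structure SData (C : Subgroup G) (g : G) (j s s' : MonoidAlgebra k G) : Prop where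
  gr : Gr C g s
  gr' : Gr C g⁻¹ s'
  js : j * s = s
  sj : s * j = s
  js' : j * s' = s'
  s'j : s' * j = s'
  ss' : s * s' = j
  s's : s' * s = j

theorem SData.pow_mul_pow {C : Subgroup G} {g : G} {j s s' : MonoidAlgebra k G}
    (h : SData C g j s s') (i : ℕ) :
    s' ^ (i + 1) * s ^ (i + 1) = j ∧ s ^ (i + 1) * s' ^ (i + 1) = j := by
  induction i with
  | zero => simpa using ⟨h.s's, h.ss'⟩
  | succ i ih =>
    constructor
    · rw [pow_succ' s', pow_succ s, mul_assoc, ← mul_assoc (s' ^ (i + 1)), ih.1, h.js, h.s's]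
    · rw [pow_succ' s, pow_succ s', mul_assoc, ← mul_assoc (s ^ (i + 1)), ih.2, h.js', h.ss']

namespace CycAlg

variable {Z T : Subgroup G} {η X j : MonoidAlgebra k (centralizer (Z : Set G))} {m n : ℕ}
  {a b : Fin n → MonoidAlgebra k (centralizer (Z : Set G))}
  (h : CycAlg p Z T η X m) (hM : Mor k η X j a b)
include h hM

omit [Finite G] in
theorem eq_zero_of_smul {c : k} {y : MonoidAlgebra k G}
    (hc : c • incl _ j = incl _ X * y) : c = 0 := by
  refine hM.eq_zero_of_smul h.eta_ne h.cenX.commute h.isNilpotent (y := resTo _ y) ?_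
  have := congrArg (resTo (centralizer (Z : Set G))) hc
  rwa [map_smul, resTo_incl, resTo_incl_mul] at this

omit [Finite G] h in
theorem loc_of_gr {g : G} (hg : g ∈ centralizer (Z : Set G)) {y : MonoidAlgebra k G}
    (hy : Gr (centralizer (Z : Set G)) g y) (h1 : incl _ j * y = y) (h2 : y * incl _ j = y) :
    ∃ (c : k) (r : MonoidAlgebra k (centralizer (Z : Set G))),
      y = c • incl _ j + incl _ X * incl _ r := by
  obtain ⟨w, rfl⟩ := hy.exists_incl hg
  obtain ⟨c, r, hr⟩ := hM.loc w
  refine ⟨c, r, ?_⟩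
  rw [← map_mul, ← map_smul, ← map_add, ← hr, map_mul, map_mul, h1, h2]

theorem exists_sData {g : G} (hg : g ∈ T) :
    ∃ s s', SData (centralizer (Z : Set G)) g (incl _ j) s s' := by
  classical
  set I : MonoidAlgebra k (centralizer (Z : Set G)) →ₐ[k] MonoidAlgebra k G := incl _ with hI
  have hjj : I j * I j = I j := by rw [← map_mul, hM.idem]
  have hN := h.le' hg
  let s : Fin n → MonoidAlgebra k G := fun i => I j * (single g 1 * I (a i)) * I j
  let s' : Fin n → MonoidAlgebra k G := fun i => I j * (I (b i) * single g⁻¹ 1) * I j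
  have hs : ∀ i, Gr _ g (s i) := fun i =>
    (((gr_single g).mul_incl hN _).incl_mul _).mul_incl hN _
  have hs' : ∀ i, Gr _ g⁻¹ (s' i) := fun i =>
    (((gr_single g⁻¹).incl_mul _).incl_mul _).mul_incl (inv_mem hN) _
  have e1 : ∀ y, I j * (I j * y * I j) = I j * y * I j := fun y => by
    rw [← mul_assoc, ← mul_assoc, hjj]
  have e2 : ∀ y, I j * y * I j * I j = I j * y * I j := fun y => by rw [mul_assoc, hjj]
  have hsum : ∑ i, s i * s' i = I j := by
    calc ∑ i, s i * s' i = I j * cjA g (I η) * I j := by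
          rw [← hM.sum, map_sum, cjA_eq_conj, Finset.mul_sum, Finset.sum_mul, Finset.mul_sum,
            Finset.sum_mul]
          refine Finset.sum_congr rfl fun i _ => ?_
          simp only [s, s', map_mul, mul_assoc]
          rw [← mul_assoc (I j) (I j), hjj]
      _ = I j := by rw [h.stab g hg, mul_assoc, ← map_mul, hM.eta, hjj]
  have hw : ∀ i, ∃ w, s i * s' i = I w := fun i =>
    ((hs i).mul (hs' i) hN).exists_incl (by simp)
  choose w hw using hw
  have hw1 : ∀ i, j * w i = w i := fun i => incl_injective _ (by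
    rw [map_mul, ← hI, ← hw, ← mul_assoc, e1])
  have hw2 : ∀ i, w i * j = w i := fun i => incl_injective _ (by
    rw [map_mul, ← hI, ← hw, mul_assoc, e2])
  obtain ⟨i, v, hv1, -, hv3⟩ : ∃ i v, w i * v = j ∧ v * w i = j ∧ v * j = v := by
    by_contra hc
    have : ∀ i, ∃ v, w i = X * v := fun i =>
      (hM.unit_or h.cenX.commute h.isNilpotent (hw1 i) (hw2 i)).resolve_right fun ⟨v, hv⟩ =>
        hc ⟨i, v, hv⟩
    choose v hv using this
    refine one_ne_zero (h.eq_zero_of_smul hM (c := 1) (y := ∑ i, I (v i)) ?_)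
    rw [one_smul, ← hI, ← hsum, Finset.mul_sum]
    exact Finset.sum_congr rfl fun i _ => by rw [hw, hv, map_mul]
  have hss : s i * (s' i * I v) = I j := by rw [← mul_assoc, hw, ← map_mul, hv1]
  have hjt : I j * (s' i * I v) = s' i * I v := by rw [← mul_assoc, e1]
  have htj : s' i * I v * I j = s' i * I v := by rw [mul_assoc, ← map_mul, hv3]
  refine ⟨s i, s' i * I v, hs i, (hs' i).mul_incl (inv_mem hN) _, e1 _, e2 _, hjt, htj, hss, ?_⟩
  obtain ⟨u, hu⟩ := (((hs' i).mul_incl (inv_mem hN) v).mul (hs i) (inv_mem hN)).exists_incl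
    (by simp)
  rw [← hI] at hu
  have hju : j * u = u := incl_injective _ (by rw [map_mul, ← hI, ← hu, ← mul_assoc, hjt])
  have huj : u * j = u := incl_injective _ (by rw [map_mul, ← hI, ← hu, mul_assoc, e2])
  have hsu : s i * I (j - u) = 0 := by
    rw [map_sub, mul_sub, ← hu, ← mul_assoc, hss, e1, e2, sub_self]
  have huu : u * u = u := incl_injective _ (by
    rw [map_mul, ← hI, ← hu, mul_assoc, ← mul_assoc (s i), hss, e1])
  rw [hu]
  congr 1
  rw [eq_comm, ← sub_eq_zero]
  have hid : (j - u) * (j - u) = j - u := by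
    rw [sub_mul, mul_sub, mul_sub, hM.idem, hju, huj, huu, sub_self, sub_zero]
  rcases hM.unit_or h.cenX.commute h.isNilpotent (r := j - u) (by rw [mul_sub, hM.idem, hju])
    (by rw [sub_mul, hM.idem, huj]) with ⟨v', hv'⟩ | ⟨v', hv', -⟩
  · refine eq_zero_of_idem_of_isNilpotent hid ?_
    rw [hv']
    exact (h.cenX.commute _).isNilpotent_mul_right h.isNilpotent
  · exfalso
    have h1 : s i = 0 := by
      have : s i * I j = s i := e2 _
      rw [← this, ← hv', map_mul, ← mul_assoc, hsu, zero_mul]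
    rw [h1, zero_mul] at hss
    exact hM.ne_zero h.eta_ne (incl_injective _ (by rw [← hI, ← hss, map_zero]))

variable {g : G} {s s' : MonoidAlgebra k G}

theorem comm_of_gr (hg : g ∈ T) (hs : SData (centralizer (Z : Set G)) g (incl _ j) s s')
    (hgen : ∀ x ∈ T, ∃ i : ℕ, x * (g ^ (i + 1))⁻¹ ∈ centralizer (Z : Set G)) {x : G} (hx : x ∈ T)
    {y : MonoidAlgebra k G} (hy : Gr (centralizer (Z : Set G)) x y) (h1 : incl _ j * y = y)
    (h2 : y * incl _ j = y) : ∃ w, y * s - s * y = incl _ X * w := by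
  obtain ⟨i, hi⟩ := hgen x hx
  obtain ⟨c, r, hr⟩ := loc_of_gr hM (y := y * s' ^ (i + 1)) hi
    (by simpa only [inv_pow] using hy.mul (hs.gr'.pow (inv_mem (h.le' hg)) (i + 1)) (h.le' hx))
    (by rw [← mul_assoc, h1]) (by rw [pow_succ, mul_assoc, mul_assoc, hs.s'j])
  have e : y = c • s ^ (i + 1) + incl _ X * (incl _ r * s ^ (i + 1)) := by
    rw [← h2, ← (hs.pow_mul_pow i).1, ← mul_assoc, hr, add_mul, smul_mul_assoc, mul_assoc,
      pow_succ' s, ← mul_assoc _ s, hs.js]
  obtain ⟨w, hw⟩ := (h.nm_of_gr hg hs.gr).mul_mul (incl _ r * s ^ (i + 1))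
  refine ⟨incl _ r * s ^ (i + 1) * s - w, ?_⟩
  rw [e, add_mul, mul_add, hw, smul_mul_assoc, mul_smul_comm, ← pow_succ, ← pow_succ', mul_sub]
  simp only [mul_assoc]
  abel

theorem exists_pow_eq (hg : g ∈ T) (hs : SData (centralizer (Z : Set G)) g (incl _ j) s s')
    {e : ℕ} (he : g ^ (e + 1) ∈ centralizer (Z : Set G)) :
    ∃ c : k, c ≠ 0 ∧ ∃ r, s ^ (e + 1) = c • incl _ j + incl _ X * r := by
  obtain ⟨c, r, hr⟩ := loc_of_gr hM he (hs.gr.pow (h.le' hg) (e + 1))
    (by rw [pow_succ', ← mul_assoc, hs.js]) (by rw [pow_succ, mul_assoc, hs.sj])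
  refine ⟨c, fun hc => ?_, _, hr⟩
  refine one_ne_zero (h.eq_zero_of_smul hM (c := 1) (y := incl _ r * s' ^ (e + 1)) ?_)
  rw [one_smul, ← (hs.pow_mul_pow e).2, hr, hc, zero_smul, zero_add, mul_assoc]

theorem proj {V : Type*} [AddCommGroup V] [Module k V] [FiniteDimensional k V]
    (L : MonoidAlgebra k G →ₐ[k] Module.End k V) [Fintype (centralizer (Z : Set G))]
    (ψ : Module.End k V) {v : V} (hv : L (incl _ X ^ m) v = 0) :
    ∃ w, L (incl _ η) (∑ c : centralizer (Z : Set G),
      L (single (c : G) 1) (ψ (L (single (c : G)⁻¹ 1) v))) = L (incl _ X) w := by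
  classical
  let β := Module.finBasis k V
  let α : Module.Dual k V → V → MonoidAlgebra k (centralizer (Z : Set G)) := fun l v =>
    ofFun fun c => l (L (single (c : G)⁻¹ 1) v)
  have hα : ∀ l v y, y * α l v = α l (L (incl _ y) v) := by
    intro l v y
    induction y using MonoidAlgebra.induction_linear with
    | zero => exact ga_ext fun c => by simp [α]
    | add x y hx hy =>
      rw [add_mul, hx, hy]
      exact ga_ext fun c => by simp [α]
    | single x r =>
      refine ga_ext fun c => ?_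
      rw [incl_single, single_eq_smul_one (x : G) r, map_smul]
      simp only [α, coeff_ofFun, coeff_single_mul_apply, LinearMap.smul_apply, map_smul,
        smul_eq_mul]
      rw [← Module.End.mul_apply (L _) (L _), ← map_mul, single_one_mul_single_one]
      simp
  have hw : ∀ l, ∃ w, η * α l v = X * w := fun l =>
    hM.ann h.cen.commute h.cenX.commute h.nil h.ne' (by
      rw [hα, map_pow, hv]
      exact ga_ext fun c => by simp [α])
  choose w hw using hw
  refine ⟨∑ i, L (incl _ (w (β.coord i))) (ψ (β i)), ?_⟩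
  rw [map_sum (L (incl _ X))]
  simp only [← Module.End.mul_apply (L (incl _ X)), ← map_mul, ← hw]
  simp only [map_mul, Module.End.mul_apply]
  rw [← map_sum]
  congr 1
  have : ∀ i, L (incl _ (α (β.coord i) v)) (ψ (β i)) = ∑ c : centralizer (Z : Set G),
      β.coord i (L (single (c : G)⁻¹ 1) v) • L (single (c : G) 1) (ψ (β i)) := fun i => by
    simp only [α]
    rw [ofFun_eq_sum, map_sum, map_sum, LinearMap.sum_apply]
    refine Finset.sum_congr rfl fun c _ => ?_
    rw [incl_single, single_eq_smul_one (c : G), map_smul, LinearMap.smul_apply]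
  simp only [this]
  rw [Finset.sum_comm]
  refine Finset.sum_congr rfl fun c _ => ?_
  conv_lhs => rw [← β.sum_repr (L (single (c : G)⁻¹ 1) v)]
  simp only [map_sum, map_smul, Module.Basis.coord_apply]

omit hM in
theorem tate_out [Fact p.Prime] (hp : (p : k) = 0) {W : Type*} [AddCommGroup W] [Module k W]
    [Fintype G] [Fintype (centralizer (Z : Set G))]
    (f : G → G ⧸ centralizer (Z : Set G) → G → W)
    (hf : ∀ x q y, ∑ c : centralizer (Z : Set G),
      f (c * x * (c : G)⁻¹) (c • q) (c * y * (c : G)⁻¹) = 0)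
    (s : Finset (G ⧸ centralizer (Z : Set G)))
    (hs : ∀ q, q ∈ s ↔ q.out ∉ normalizer (Z : Set G)) :
    ∑ q ∈ s, ∑ x, ∑ y, ((incl _ η).coeff x * (cjA q.out (incl _ η)).coeff y) • f x q y = 0 := by
  classical
  have hinv : InvUnder (centralizer (Z : Set G)) (incl _ η) := h.cen.invUnder_incl
  have hout : ∀ (c : centralizer (Z : Set G)) (q : G ⧸ centralizer (Z : Set G)),
      ∃ d : centralizer (Z : Set G), (c • q).out = c * q.out * d := fun c q => by
    have : c • q = ((c * q.out : G) : G ⧸ centralizer (Z : Set G)) := by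
      conv_lhs => rw [← QuotientGroup.out_eq' q]
      rfl
    rw [this]
    exact QuotientGroup.mk_out_eq_mul _ _
  have hE : ∀ (c : centralizer (Z : Set G)) (q : G ⧸ centralizer (Z : Set G)) (y : G),
      (cjA (c • q).out (incl _ η)).coeff (c * y * (c : G)⁻¹) = (cjA q.out (incl _ η)).coeff y := by
    intro c q y
    obtain ⟨d, hd⟩ := hout c q
    rw [hd, cjA_mul, hinv.cjA_eq d.2, cjA_mul, coeff_cjA]
    congr 1
    group
  let co : (G ⧸ centralizer (Z : Set G)) × G × G → k := fun w =>
    (incl _ η).coeff w.2.1 * (cjA w.1.out (incl _ η)).coeff w.2.2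
  let act : centralizer (Z : Set G) → (G ⧸ centralizer (Z : Set G)) × G × G →
      (G ⧸ centralizer (Z : Set G)) × G × G := fun c w =>
    (c • w.1, c * w.2.1 * (c : G)⁻¹, c * w.2.2 * (c : G)⁻¹)
  have hco : ∀ c w, co (act c w) = co w := fun c w => by
    simp only [co, act, hE, hinv c c.2]
  have key := sum_eq_zero_of_pfree hp act (fun w => by simp [act])
    (fun x y w => by simp [act, mul_smul, mul_assoc]) (fun w => co w • f w.2.1 w.1 w.2.2)
    ((s ×ˢ Finset.univ).filter fun w => co w ≠ 0) (fun c w hw => ?_) (fun w hw u hu hw' => ?_)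
    (fun w _ => by simp only [hco]; rw [← Finset.smul_sum]; simp only [act]; rw [hf, smul_zero])
  · rw [Finset.sum_filter_of_ne (p := fun w => co w ≠ 0)
      (fun w _ hw h0 => hw (by rw [h0, zero_smul])), Finset.sum_product] at key
    simpa only [Fintype.sum_prod_type] using key
  · simp only [Finset.mem_filter, Finset.mem_product, Finset.mem_univ, and_true, hco, hs] at hw ⊢
    refine ⟨fun hc => hw.1 ?_, hw.2⟩
    obtain ⟨d, hd⟩ := hout c w.1
    simp only [act] at hc
    rw [hd] at hc
    have h1 := centralizer_le_normalizer _ c.2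
    have h2 := centralizer_le_normalizer _ d.2
    exact (mul_mem_cancel_left h1).1 ((mul_mem_cancel_right h2).1 hc)
  · simp only [Finset.mem_filter, Finset.mem_product, Finset.mem_univ, and_true, hs] at hw
    obtain ⟨hq, hx, hy⟩ := Prod.ext_iff.1 hw' |>.imp_right Prod.ext_iff.1
    simp only [act] at hq hx hy
    have hsupp : ∀ x v : G, (incl _ η).coeff x ≠ 0 → v ∈ centralizer (Z : Set G) → orderOf v = p →
        v * x * v⁻¹ = x → v ∈ Z := fun x v h1 h2 h3 h4 => by
      have hx : x ∈ centralizer (Z : Set G) := by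
        by_contra hc
        exact h1 (coeff_incl_of_notMem _ _ hc)
      refine h.supp ⟨x, hx⟩ ⟨v, h2⟩ (by rwa [← coeff_incl_of_mem]) (by rw [← h3, ← orderOf_coe])
        (Subtype.ext (mul_inv_eq_iff_eq_mul.1 h4))
    have hu' : orderOf (u : G) = p := by rw [orderOf_coe, hu]
    have h1 : (u : G) ∈ Z := hsupp _ u (left_ne_zero_of_mul hw.2) u.2 hu' hx
    obtain ⟨d, hd⟩ := hout u w.1
    rw [hq] at hd
    set n := w.1.out
    have hd' : n⁻¹ * u * n = (d : G)⁻¹ := by
      rw [eq_inv_iff_mul_eq_one, mul_assoc, mul_assoc, ← mul_assoc (u : G), ← hd, inv_mul_cancel]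
    have ho : orderOf (n⁻¹ * u * n) = p := by
      rw [← hu']; simpa using orderOf_conj' (u : G) n⁻¹
    have h2 : n⁻¹ * u * n ∈ Z := by
      refine hsupp (n⁻¹ * w.2.2 * n) _ (by rw [← coeff_cjA]; exact right_ne_zero_of_mul hw.2)
        (hd' ▸ inv_mem d.2) ho ?_
      conv_rhs => rw [← hy]
      group
    have hz : ∀ v ∈ Z, orderOf v = p → zpowers v = Z := fun v hv hv' =>
      eq_of_le_of_card_ge (zpowers_le.2 hv) (by rw [Nat.card_zpowers, hv', h.card])
    apply hw.1
    rw [← inv_mem_iff]
    refine mem_normalizer_fintype fun z hz' => ?_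
    rw [← hz _ h1 hu', SetLike.mem_coe, mem_zpowers_iff] at hz'
    obtain ⟨i, rfl⟩ := hz'
    rw [← conj_zpow, inv_inv]
    exact zpow_mem h2 i

theorem tate [Fact p.Prime] (hp : (p : k) = 0) (hg : g ∈ T)
    (hs : SData (centralizer (Z : Set G)) g (incl _ j) s s')
    (hgen : ∀ x ∈ T, ∃ i : ℕ, x * (g ^ (i + 1))⁻¹ ∈ centralizer (Z : Set G))
    (he : (((centralizer (Z : Set G)).relIndex T : ℕ) : k) ≠ 0)
    {V : Type*} [AddCommGroup V] [Module k V] [FiniteDimensional k V]
    (L : MonoidAlgebra k G →ₐ[k] Module.End k V)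
    (hS : ∀ φ : Module.End k V, (∀ x, φ * L (single x 1) = L (single x 1) * φ) →
      ∃ c : k, φ = c • 1) :
    ∃ c : k, ∀ v, L (incl _ X ^ m) v = 0 →
      ∃ w, L s v - c • L (incl _ j) v = L (incl _ X) w := by
  classical
  set I : MonoidAlgebra k (centralizer (Z : Set G)) →ₐ[k] MonoidAlgebra k G := incl _ with hI
  letI : Fintype G := Fintype.ofFinite _
  letI : Fintype (centralizer (Z : Set G)) := Fintype.ofFinite _
  letI : Fintype (G ⧸ centralizer (Z : Set G)) := Fintype.ofFinite _
  set t := L (I X) with ht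
  have happ : ∀ x y v, L x (L y v) = L (x * y) v := fun x y v => by
    rw [map_mul, Module.End.mul_apply]
  have hnil : IsNilpotent t := (h.isNilpotent.map I).map L
  have hsN := h.nm_of_gr hg hs.gr
  obtain ⟨φ₀, hφ1, hφ2⟩ := exists_commute_lift hnil (L s) (fun r v hv => by
      obtain ⟨y, hy⟩ := hsN.left r
      rw [ht, ← map_pow] at hv ⊢
      rw [happ, hy, ← happ, hv, map_zero])
    (fun v => by
      obtain ⟨y, hy⟩ := hsN.right
      exact ⟨L y v, by rw [ht, happ, happ, hy]⟩)
  let φ : Module.End k V := ∑ i, L (I (a i * j)) * φ₀ * L (I (j * b i))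
  have hφC : ∀ w, Commute (L (I w)) φ := fun w =>
    hM.commute_ext h.cen.commute h.cenX.commute h.isNilpotent (L.comp I)
      (LinearMap.ext fun v => (hφ1 v).symm) w
  have hjη : j * η = j := by rw [← (h.cen.commute j).eq, hM.eta]
  have hηφ : L (I η) * φ = φ := by
    simp only [φ, Finset.mul_sum]
    refine Finset.sum_congr rfl fun i _ => ?_
    rw [← mul_assoc, ← mul_assoc, ← map_mul, ← map_mul, (h.cen.commute _).eq, mul_assoc _ j, hjη]
  have hφη : φ * L (I η) = φ := by rw [← (hφC η).eq, hηφ]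
  let ρ : G → Module.End k V := fun x => L (single x 1)
  have hρ : ∀ x y, ρ (x * y) = ρ x * ρ y := fun x y => by
    simp only [ρ, ← map_mul, single_one_mul_single_one]
  have hρ1 : ρ 1 = 1 := by simp only [ρ, ← one_def, map_one]
  let F : G ⧸ centralizer (Z : Set G) → Module.End k V := fun q => ρ q.out * φ * ρ q.out⁻¹
  have hF : ∀ x : G, F (x : G ⧸ centralizer (Z : Set G)) = ρ x * φ * ρ x⁻¹ := fun x => by
    obtain ⟨d, hd⟩ := QuotientGroup.mk_out_eq_mul (centralizer (Z : Set G)) x
    have hc : ρ d * φ = φ * ρ d := by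
      have := (hφC (single d 1)).eq
      rwa [hI, incl_single] at this
    simp only [F]
    rw [hd, mul_inv_rev, hρ, hρ, mul_assoc (ρ x), hc, mul_assoc, mul_assoc, ← mul_assoc (ρ d),
      ← hρ, mul_inv_cancel, hρ1, one_mul, mul_assoc]
  have hFs : ∀ (x : G) q, F (x • q) = ρ x * F q * ρ x⁻¹ := by
    intro x q
    obtain ⟨y, rfl⟩ := QuotientGroup.mk_surjective q
    rw [MulAction.Quotient.smul_mk, hF, hF, smul_eq_mul, mul_inv_rev, hρ, hρ]
    simp only [mul_assoc]
  obtain ⟨c, hc⟩ := hS (∑ q, F q) (by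
    intro x
    have : ∑ q, F q = ρ x * (∑ q, F q) * ρ x⁻¹ := by
      rw [Finset.mul_sum, Finset.sum_mul]
      simp_rw [← hFs]
      exact (Equiv.sum_comp (MulAction.toPerm x) F).symm
    change _ * ρ x = ρ x * _
    conv_lhs => rw [this]
    rw [mul_assoc, ← hρ, inv_mul_cancel, hρ1, mul_one])
  let π := (LinearMap.range t).mkQ
  have hπ : ∀ x y, π x = π y ↔ ∃ w, x - y = t w := by
    intro x y
    simp only [π, Submodule.mkQ_apply]
    rw [Submodule.Quotient.eq, LinearMap.mem_range]
    exact ⟨fun ⟨u, hu⟩ => ⟨u, hu.symm⟩, fun ⟨u, hu⟩ => ⟨u, hu.symm⟩⟩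
  have hπN : ∀ y, Nm (I X) y → ∀ u u', π u = π u' → π (L y u) = π (L y u') := by
    intro y hy u u' huu
    obtain ⟨w, hw⟩ := (hπ _ _).1 huu
    obtain ⟨y', hy'⟩ := hy.right
    exact (hπ _ _).2 ⟨L y' w, by rw [← map_sub, hw, ht, happ, happ, hy']⟩
  let e := (Finset.univ.filter fun q : G ⧸ centralizer (Z : Set G) => q.out ∈ T).card
  have hout : ∀ K : Subgroup G, centralizer (Z : Set G) ≤ K → ∀ x : G,
      (x : G ⧸ centralizer (Z : Set G)).out ∈ K ↔ x ∈ K := fun K hK x => by
    obtain ⟨d, hd⟩ := QuotientGroup.mk_out_eq_mul (centralizer (Z : Set G)) x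
    rw [hd, mul_mem_cancel_right (hK d.2)]
  have hee : e = (centralizer (Z : Set G)).relIndex T := by
    have hsm : ∀ x : T, x • ((1 : G) : G ⧸ centralizer (Z : Set G)) = (x : G) := fun x =>
      congrArg _ (mul_one (x : G))
    have h1 : MulAction.stabilizer T ((1 : G) : G ⧸ centralizer (Z : Set G)) =
        (centralizer (Z : Set G)).subgroupOf T := by
      ext x
      rw [MulAction.mem_stabilizer_iff, mem_subgroupOf, hsm, eq_comm, QuotientGroup.eq, inv_one,
        one_mul]
    rw [relIndex, ← h1, MulAction.index_stabilizer]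
    simp only [e]
    rw [← Set.ncard_coe_finset]
    congr 1
    ext q
    obtain ⟨x, rfl⟩ := QuotientGroup.mk_surjective q
    simp only [Finset.coe_filter, Finset.mem_univ, true_and, Set.mem_ofPred_eq, hout T h.le]
    constructor
    · intro hx
      exact ⟨⟨x, hx⟩, hsm _⟩
    · rintro ⟨y, hy⟩
      simp only [hsm] at hy
      rw [← hout T h.le, ← hy, hout T h.le]
      exact y.2
  refine ⟨(e : k)⁻¹ * c, fun v hv => ?_⟩
  have hjj : I j * I j = I j := by rw [← map_mul, hM.idem]
  set v' := L (I j) v with hv'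
  have hνv : L (I X ^ m) v' = 0 := by
    rw [hv', happ, (((h.cenX.commute j).map I).pow_left m).eq, ← happ, hv, map_zero]
  have hT : ∀ x ∈ T, π (L (I j) ((ρ x * φ * ρ x⁻¹) v')) = π (L s v) := by
    intro x hx
    have hN := h.le' hx
    let γ : Fin n → MonoidAlgebra k G := fun i => I j * (single x 1 * I (a i)) * I j
    let γ' : Fin n → MonoidAlgebra k G := fun i => I j * (I (b i) * single x⁻¹ 1) * I j
    have hγ : ∀ i, Gr _ x (γ i) := fun i =>
      (((gr_single x).mul_incl hN _).incl_mul _).mul_incl hN _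
    have e1 : L (I j) ((ρ x * φ * ρ x⁻¹) v') = ∑ i, L (γ i) (φ₀ (L (γ' i) v)) := by
      simp only [φ, ρ, γ, γ', hv', Finset.mul_sum, Finset.sum_mul, LinearMap.sum_apply, map_sum,
        map_mul, Module.End.mul_apply]
    have e2 : ∑ i, γ i * γ' i = I j := by
      calc ∑ i, γ i * γ' i = I j * cjA x (I η) * I j := by
            rw [← hM.sum, map_sum, cjA_eq_conj, Finset.mul_sum, Finset.sum_mul, Finset.mul_sum,
              Finset.sum_mul]
            refine Finset.sum_congr rfl fun i _ => ?_
            simp only [γ, γ', map_mul, mul_assoc]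
            rw [← mul_assoc (I j) (I j), hjj]
        _ = I j := by rw [h.stab x hx, mul_assoc, ← map_mul, hM.eta, hjj]
    rw [e1, map_sum, ← hs.sj, ← e2, Finset.mul_sum, map_sum, LinearMap.sum_apply, map_sum]
    refine Finset.sum_congr rfl fun i _ => ?_
    rw [hπN _ (h.nm_of_gr hx (hγ i)) _ _ ((hπ _ _).2 (hφ2 _)), hπ]
    obtain ⟨w, hw⟩ := h.comm_of_gr hM hg hs hgen hx (hγ i)
      (by simp only [γ]; rw [← mul_assoc, ← mul_assoc, hjj]) (by simp only [γ]; rw [mul_assoc, hjj])
    refine ⟨L (w * γ' i) v, ?_⟩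
    rw [happ, happ, ht, happ, ← LinearMap.sub_apply, ← map_sub, ← mul_assoc (I X), ← hw, sub_mul,
      mul_assoc s]
  have key : π (L (I j) ((∑ q, F q) v')) = (e : k) • π (L s v) := by
    rw [LinearMap.sum_apply, map_sum, map_sum,
      ← Finset.sum_filter_add_sum_filter_not _ (fun q => q.out ∈ T),
      ← Finset.sum_filter_add_sum_filter_not 
        (Finset.univ.filter fun q : G ⧸ centralizer (Z : Set G) => ¬ q.out ∈ T)
        (fun q => q.out ∈ normalizer (Z : Set G)),
      Finset.sum_congr rfl (g := fun _ => π (L s v)) fun q hq => hT _ (Finset.mem_filter.1 hq).2,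
      Finset.sum_const, Nat.cast_smul_eq_nsmul, add_eq_left, Finset.sum_eq_zero, zero_add]
    · rw [← h.tate_out hp (fun x q y => π (L (I j) ((ρ x * F q * ρ y) v'))) (fun x q y => ?_) _
        (fun q => ?_)]
      · refine Finset.sum_congr rfl fun q _ => ?_
        have e1 : L (I j) * F q = L (I j) * (L (I η) * F q * L (cjA q.out (I η))) := by
          have e3 : L (I j) * L (I η) = L (I j) := by rw [← map_mul, ← map_mul, hjη]
          have e4 : ρ q.out⁻¹ * L (cjA q.out (I η)) = L (I η) * ρ q.out⁻¹ := by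
            simp only [ρ, ← map_mul]
            rw [single_mul_eq_cjA, ← cjA_mul, inv_mul_cancel, cjA_one]
          simp only [F]
          rw [mul_assoc (L (I η)), mul_assoc _ (ρ _), e4, ← mul_assoc _ (L (I η)) (ρ _),
            mul_assoc _ φ (L (I η)), hφη, ← mul_assoc _ (L (I η)), e3]
        rw [← Module.End.mul_apply, e1, Module.End.mul_apply]
        have e2 : ∀ y, L y = ∑ x, y.coeff x • ρ x := fun y => by
          conv_lhs => rw [eq_sum_single y, map_sum]
          exact Finset.sum_congr rfl fun x _ => by rw [single_eq_smul_one, map_smul]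
        rw [e2 (I η), e2 (cjA _ _)]
        simp only [Finset.sum_mul, Finset.mul_sum, smul_mul_assoc, mul_smul_comm,
          LinearMap.sum_apply, LinearMap.smul_apply, map_sum, map_smul, Finset.smul_sum, smul_smul]
        rw [Finset.sum_comm]
        simp only [mul_comm]
        rfl
      · obtain ⟨w, hw⟩ := h.proj hM L (ρ x * F q * ρ y) hνv
        have e1 : ∀ c : centralizer (Z : Set G),
            (ρ (c * x * (c : G)⁻¹) * F (c • q) * ρ (c * y * (c : G)⁻¹)) v' =
              L (single (c : G) 1) ((ρ x * F q * ρ y) (L (single (c : G)⁻¹ 1) v')) := fun c => by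
          have hq : c • q = (c : G) • q := by
            obtain ⟨y, rfl⟩ := QuotientGroup.mk_surjective q
            rfl
          rw [hq, hFs, hρ, hρ, hρ, hρ]
          have : ρ (c : G)⁻¹ * ρ c = 1 := by rw [← hρ, inv_mul_cancel, hρ1]
          simp only [mul_assoc]
          rw [← mul_assoc (ρ (c : G)⁻¹), this, one_mul, ← mul_assoc (ρ (c : G)⁻¹), this, one_mul]
          rfl
        simp only [e1]
        rw [← map_sum, ← map_sum, ← hjη, map_mul, ← happ, hw, ← map_zero π, hπ]
        exact ⟨L (I j) w, by rw [sub_zero, ht, happ, happ, ← map_mul, ← map_mul,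
          (h.cenX.commute j).eq]⟩
      · simp only [Finset.mem_filter, Finset.mem_univ, true_and]
        exact ⟨fun h' => h'.2, fun h' => ⟨fun h'' => h' (h.le' h''), h'⟩⟩
    · intro q hq
      simp only [Finset.mem_filter, Finset.mem_univ, true_and] at hq
      have : L (I j) * (ρ q.out * φ) = 0 := by
        have e3 : I j * (single q.out 1 * I η) = 0 := by
          rw [single_mul_eq_cjA, ← hjη, map_mul, mul_assoc, ← mul_assoc (I η), h.orth _ hq.2 hq.1]
          simp
        rw [← hηφ, ← mul_assoc (ρ _), ← map_mul, ← mul_assoc, ← map_mul, e3]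
        simp
      simp only [F]
      rw [← Module.End.mul_apply (L (I j)), ← mul_assoc, this]
      simp
  rw [hc, LinearMap.smul_apply, Module.End.one_apply, map_smul, hv', happ, hjj] at key
  rw [← hπ, mul_smul, map_smul, key, smul_smul, inv_mul_cancel₀ (hee ▸ he), one_smul]

end CycAlg

end Cfsg.Agent.Block
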