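import Mathlib
import Cfsg.Agent.Block.Tate4
import Cfsg.Agent.Block.CycDef
import Cfsg.Agent.Block.OrdP

/-!
The modular part of the theory of blocks with cyclic defect groups: there are at least `e`
simple modules.
-/

namespace Cfsg.Agent.Block

open MonoidAlgebra Subgroup

universe u v

variable {k : Type v} [Field k] {G : Type u} [Group G] [Finite G] {p : ℕ}

theorem exists_traces_of_simple [IsAlgClosed k] [Fact p.Prime] (hp : (p : k) = 0)
    {ε : MonoidAlgebra k G} {ι : Type*} [Finite ι] (S : ι → FMod k (MonoidAlgebra k G))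
    (hS : ∀ i, IsSimpleModule (MonoidAlgebra k G) (S i).V)
    (hhom : ∀ i j, i ≠ j → ∀ f : (S i).V →ₗ[MonoidAlgebra k G] (S j).V, f = 0)
    (hεS : ∀ i (v : (S i).V), ε • v = v) :
    ∃ τ : ι → G → k, LinearIndependent k τ ∧ (∀ i g h, τ i (h * g * h⁻¹) = τ i g) ∧
      (∀ i (g u : G) (n : ℕ), u ^ p ^ n = 1 → Commute u g → τ i (u * g) = τ i g) ∧
      ∀ i y, lin (τ i) (ε * y) = lin (τ i) y := by
  let L : ∀ i, MonoidAlgebra k G →ₐ[k] Module.End k (S i).V := fun i => Algebra.lsmul k k (S i).V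
  let τ : ι → G → k := fun i g => LinearMap.trace k _ (L i (single g 1))
  have hτ : ∀ i y, lin (τ i) y = LinearMap.trace k _ (L i y) := by
    intro i y
    induction y using MonoidAlgebra.induction_linear with
    | zero => simp
    | add a b ha hb => simp only [map_add, ha, hb]
    | single g r => rw [lin_single, single_eq_smul_one, map_smul, map_smul, smul_eq_mul]
  refine ⟨τ, ?_, fun i g h => ?_, fun i g u n hu hc => ?_, fun i y => ?_⟩
  · letI := Fintype.ofFinite ι
    rw [Fintype.linearIndependent_iff]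
    intro c hc i
    obtain ⟨r, hr1, hr2⟩ := exists_trace_sep S hS hhom i
    have := congrArg (fun f => lin f r) hc
    simp only [lin_sum_left, lin_smul_left, lin_zero_left, hτ] at this
    rw [Finset.sum_eq_single i] at this
    · rwa [hr1, mul_one] at this
    · intro j _ hj
      have : L j r = 0 := LinearMap.ext fun v => hr2 j hj v
      rw [this, map_zero, mul_zero]
    · simp
  · simp only [τ]
    rw [← single_one_mul_single_one, ← single_one_mul_single_one, map_mul (L i), map_mul (L i),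
      LinearMap.trace_mul_comm, ← mul_assoc, ← map_mul (L i), single_inv_mul_single, map_one,
      one_mul]
  · simp only [τ]
    rw [← sub_eq_zero, ← map_sub, ← single_one_mul_single_one, map_mul (L i), ← sub_one_mul]
    refine IsNilpotent.eq_zero (LinearMap.isNilpotent_trace_of_isNilpotent ?_)
    refine Commute.isNilpotent_mul_right ?_ (isNilpotent_sub_one (k := k) hp (n := n) ?_)
    · refine Commute.sub_left ?_ (Commute.one_left _)
      change _ * _ = _ * _
      rw [← map_mul, ← map_mul, single_one_mul_single_one, single_one_mul_single_one, hc.eq]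
    · rw [← map_pow, single_pow, hu, one_pow]
      exact map_one _
  · rw [hτ, hτ, map_mul (L i)]
    congr 1
    exact LinearMap.ext fun v => hεS i _

omit [Finite G] in
theorem exists_scalar_of_simple [IsAlgClosed k] (S : FMod k (MonoidAlgebra k G))
    [IsSimpleModule (MonoidAlgebra k G) S.V] (φ : Module.End k S.V)
    (hφ : ∀ x : G, φ * Algebra.lsmul k k S.V (single x (1 : k)) =
      Algebra.lsmul k k S.V (single x (1 : k)) * φ) : ∃ c : k, φ = c • 1 := by
  let L : MonoidAlgebra k G →ₐ[k] Module.End k S.V := Algebra.lsmul k k S.V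
  let φ' : Module.End (MonoidAlgebra k G) S.V :=
    { toFun := φ
      map_add' := φ.map_add
      map_smul' := fun y v => by
        change φ (L y v) = L y (φ v)
        induction y using MonoidAlgebra.induction_linear with
        | zero => simp
        | add a b ha hb => simp only [map_add, LinearMap.add_apply, ha, hb]
        | single g r =>
          rw [single_eq_smul_one, map_smul, LinearMap.smul_apply, LinearMap.smul_apply,
            map_smul]
          congr 1
          exact congrArg (fun z : Module.End k S.V => z v) (hφ g) }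
  obtain ⟨c, hc⟩ := (IsSimpleModule.algebraMap_end_bijective_of_isAlgClosed k
    (A := MonoidAlgebra k G) (V := S.V)).2 φ'
  exact ⟨c, LinearMap.ext fun v =>
    (congrArg (fun z : Module.End (MonoidAlgebra k G) S.V => z v) hc).symm⟩

theorem exists_gen_of_card_prime (hp : p.Prime) {Z T : Subgroup G} (hZ : Nat.card Z = p)
    (h1 : centralizer (Z : Set G) ≤ T) (h2 : T ≤ normalizer (Z : Set G)) :
    ¬ p ∣ (centralizer (Z : Set G)).relIndex T ∧ ∃ g ∈ T,
      (∀ i : ℕ, g ^ i ∈ centralizer (Z : Set G) ↔ (centralizer (Z : Set G)).relIndex T ∣ i) ∧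
      ∀ x ∈ T, ∃ i : ℕ, x * (g ^ (i + 1))⁻¹ ∈ centralizer (Z : Set G) := by
  haveI := Fact.mk hp
  have hc : CycP p Z Z :=
    ⟨hp, IsPGroup.of_card (n := 1) (by rw [pow_one, hZ]), isCyclic_of_prime_card hZ, le_rfl, hZ⟩
  have hd : ¬ p ∣ (centralizer (Z : Set G)).relIndex T := fun hd => by
    have h3 := (isCyclic_normalizer_quot hp hZ).2
    rw [← relIndex_mul_relIndex _ _ _ h1 h2] at h3
    have := Nat.le_of_dvd (by have := hp.two_le; omega) (hd.trans (Dvd.intro _ rfl) |>.trans h3)
    have := hp.pos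
    omega
  refine ⟨hd, ?_⟩
  let f := hc.toAut h2
  have hker : ∀ x : T, f x = 1 ↔ (x : G) ∈ centralizer (Z : Set G) := fun x => by
    rw [← MonoidHom.mem_ker, hc.ker_toAut h2 hd, mem_subgroupOf]
  haveI := hc.isCyclic_mulAut
  obtain ⟨⟨_, g, rfl⟩, hg⟩ := IsCyclic.exists_generator (α := f.range)
  have ho : orderOf (f g) = (centralizer (Z : Set G)).relIndex T := by
    rw [relIndex, ← hc.ker_toAut h2 hd, index_ker,
      ← orderOf_eq_card_of_forall_mem_zpowers hg, ← orderOf_coe]
  refine ⟨g, g.2, fun i => ?_, fun x hx => ?_⟩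
  · rw [← ho, orderOf_dvd_iff_pow_eq_one, ← map_pow, hker, coe_pow]
  · obtain ⟨i, hi⟩ := exists_pow_of_mem_zpowers (hg ⟨f (⟨x, hx⟩ * g⁻¹), _, rfl⟩)
    have hi' : f (⟨x, hx⟩ * g⁻¹) = f g ^ i := congrArg Subtype.val hi
    refine ⟨i, (hker (⟨x, hx⟩ * (g ^ (i + 1))⁻¹)).1 ?_⟩
    rw [pow_succ, mul_inv_rev, ← mul_assoc, map_mul, hi', map_inv, map_pow, mul_inv_cancel]

namespace CycAlg

variable {Z T : Subgroup G} {η X j : MonoidAlgebra k (centralizer (Z : Set G))} {m n : ℕ}
  {a b : Fin n → MonoidAlgebra k (centralizer (Z : Set G))}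
  (h : CycAlg p Z T η X m) (hM : Mor k η X j a b)
include h

theorem exists_single_mul [Fact p.Prime] (hp : (p : k) = 0) {z : G} (hz : z ∈ Z) :
    ∃ u : MonoidAlgebra k (centralizer (Z : Set G)),
      single z 1 * incl _ η = incl _ η + incl _ X * incl _ u ∧
      incl _ η * single z 1 = incl _ η + incl _ X * incl _ u := by
  haveI := isCyclic_of_prime_card h.card
  have hzC : z ∈ centralizer (Z : Set G) := fun y hy =>
    congrArg Subtype.val (IsMulCommutative.is_comm.comm (⟨y, hy⟩ : Z) ⟨z, hz⟩)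
  have hc : IsCentral (single (⟨z, hzC⟩ : centralizer (Z : Set G)) (1 : k)) := by
    rw [isCentral_iff_commute]
    intro y
    refine ((commute_single_iff y _).2 fun g => ?_)
    congr 1
    exact Subtype.ext (by simp [g.2 z hz])
  obtain ⟨u, -, hu⟩ := h.exists_of_nilpotent ((hc.sub isCentral_one).mul h.cen)
    (by rw [← ((hc.sub isCentral_one).commute η).left_comm, h.idem])
    (((hc.sub isCentral_one).commute η).isNilpotent_mul_right
      (isNilpotent_sub_one (k := k) hp (n := 1) (by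
        rw [pow_one, single_pow, one_pow, one_def]
        congr 1
        exact Subtype.ext (by
          have := congrArg Subtype.val (pow_card_eq_one' (x := (⟨z, hz⟩ : Z)))
          rwa [h.card] at this))))
  rw [sub_mul, one_mul, sub_eq_iff_eq_add'] at hu
  have e := congrArg (incl (centralizer (Z : Set G))) hu
  have e' := congrArg (incl (centralizer (Z : Set G))) ((hc.commute η).eq.symm.trans hu)
  rw [map_mul, map_add, map_mul, incl_single] at e e'
  exact ⟨u, e, e'⟩

include hM

theorem exists_proj {g : G} (hg : g ∈ T) {u r : MonoidAlgebra k G}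
    (hu : Gr (centralizer (Z : Set G)) g u) (h2 : u * incl _ j = u) (h1 : incl _ j * u = u) {e : ℕ}
    (he : (e : k) ≠ 0) (hge : ∀ i, g ^ i ∈ centralizer (Z : Set G) → e ∣ i)
    (hue : u ^ e = incl _ j + incl _ X * r) :
    ∃ π : MonoidAlgebra k G, Nm (incl _ X) π ∧ incl _ j * π = π ∧ π * incl _ j = π ∧
      (∃ w, u * π - π = incl _ X * w) ∧ (∃ w, π * π - π = incl _ X * w) ∧
      resTo _ π = (e : k)⁻¹ • j := by
  set I : MonoidAlgebra k (centralizer (Z : Set G)) →ₐ[k] MonoidAlgebra k G := incl _ with hI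
  have hjj : I j * I j = I j := by rw [← map_mul, hM.idem]
  have huN := h.nm_of_gr hg hu
  let π : MonoidAlgebra k G := (e : k)⁻¹ • ∑ i ∈ Finset.range e, u ^ i * I j
  have hjπ : I j * π = π := by
    simp only [π, mul_smul_comm, Finset.mul_sum]
    congr 1
    refine Finset.sum_congr rfl fun i _ => ?_
    rw [← mul_assoc, ((show Commute (I j) u from h1.trans h2.symm).pow_right i).eq, mul_assoc, hjj]
  have h3 : ∃ w, u * π - π = I X * w := by
    refine ⟨(e : k)⁻¹ • (r * I j), ?_⟩
    simp only [π]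
    rw [mul_smul_comm, ← smul_sub, mul_smul_comm, Finset.mul_sum, ← Finset.sum_sub_distrib]
    simp only [← mul_assoc, ← pow_succ']
    rw [Finset.sum_range_sub fun i => u ^ i * I j, hue, add_mul, hjj, pow_zero, one_mul,
      add_sub_cancel_left]
  have h4 : ∀ i : ℕ, ∃ w, u ^ i * π - π = I X * w := by
    intro i
    induction i with
    | zero => exact ⟨0, by simp⟩
    | succ i ih =>
      obtain ⟨w, hw⟩ := ih
      obtain ⟨w', hw'⟩ := h3
      obtain ⟨w'', hw''⟩ := huN.mul_mul w
      refine ⟨w'' + w', ?_⟩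
      rw [mul_add, ← hw'', ← hw, ← hw', mul_sub, pow_succ', mul_assoc]
      abel
  refine ⟨π, (nm_sum _ fun i _ => (huN.pow i).mul (h.nm_incl j)).smul _, hjπ, ?_, h3, ?_, ?_⟩
  · simp only [π, smul_mul_assoc, Finset.sum_mul, mul_assoc, hjj]
  · choose w hw using h4
    refine ⟨(e : k)⁻¹ • ∑ i ∈ Finset.range e, w i, ?_⟩
    rw [mul_smul_comm (e : k)⁻¹ (I X), Finset.mul_sum]
    simp only [← hw]
    rw [Finset.sum_sub_distrib, Finset.sum_const, Finset.card_range, smul_sub,
      ← Nat.cast_smul_eq_nsmul k, smul_smul, inv_mul_cancel₀ he, one_smul]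
    congr 1
    change ((e : k)⁻¹ • ∑ i ∈ Finset.range e, u ^ i * I j) * π = _
    simp only [smul_mul_assoc, Finset.sum_mul, mul_assoc, hjπ]
  · simp only [π, map_smul, map_sum]
    congr 1
    have he0 : 0 < e := Nat.pos_of_ne_zero fun h0 => he (by rw [h0, Nat.cast_zero])
    rw [Finset.sum_eq_single 0]
    · rw [pow_zero, one_mul, hI, resTo_incl]
    · intro i hi hi0
      refine ((hu.pow (h.le' hg) i).mul_incl (pow_mem (h.le' hg) i) j).resTo_eq_zero fun hc => ?_
      exact hi0 (Nat.eq_zero_of_dvd_of_lt (hge i hc) (Finset.mem_range.1 hi))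
    · intro h0
      exact absurd (Finset.mem_range.2 he0) h0

theorem exists_simple [Fact p.Prime] (hp : (p : k) = 0) {ε π : MonoidAlgebra k G}
    (hε : IsCentral ε) (hεε : ε * ε = ε) (hη : η * resTo _ ε = η) (hN : Nm (incl _ X) π)
    (hπj : π * incl _ j = π) (hππ : ∃ w, π * π - π = incl _ X * w) {c : k} (hc : c ≠ 0)
    (hres : resTo _ π = c • j) :
    ∃ S : FMod.{max u v} k (MonoidAlgebra k G), IsSimpleModule (MonoidAlgebra k G) S.V ∧
      HNe (incl _ X) (incl _ X ^ m) (π * ε) S.V := by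
  classical
  set I : MonoidAlgebra k (centralizer (Z : Set G)) →ₐ[k] MonoidAlgebra k G := incl _ with hI
  letI : Fintype G := Fintype.ofFinite _
  letI : Fintype (centralizer (Z : Set G)) := Fintype.ofFinite _
  let J : Ideal (MonoidAlgebra k G) := Ideal.span {I X}
  haveI : FiniteDimensional k (MonoidAlgebra k G ⧸ J) :=
    .of_surjective (J.mkQ.restrictScalars k) J.mkQ_surjective
  have hN' := hN.mul (Commute.nm (hε.commute (I X)).symm)
  refine exists_simple_hne ?_ hN'.right (hN'.left m) ?_ ⟨MonoidAlgebra k G ⧸ J⟩ ?_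
  · rw [← pow_succ, ← map_pow, h.nil, map_zero]
  · obtain ⟨w, hw⟩ := hππ
    refine ⟨w * ε, ?_⟩
    rw [← mul_assoc (I X), ← hw, sub_mul, mul_assoc, ← mul_assoc ε, (hε.commute _).eq,
      mul_assoc _ ε, hεε, mul_assoc]
  refine ⟨J.mkQ 1, ?_, fun w hw => ?_⟩
  · change I X ^ m • J.mkQ 1 = 0
    rw [← map_smul, smul_eq_mul, mul_one, Submodule.mkQ_apply, Submodule.Quotient.mk_eq_zero]
    obtain ⟨r, hr⟩ := Nat.exists_eq_succ_of_ne_zero h.pos
    exact Ideal.mem_span_singleton'.2 ⟨I X ^ r, by rw [hr, pow_succ]⟩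
  obtain ⟨w, rfl⟩ := J.mkQ_surjective w
  change (π * ε) • J.mkQ 1 = I X • J.mkQ w at hw
  rw [← map_smul, ← map_smul, Submodule.mkQ_apply, Submodule.mkQ_apply,
    Submodule.Quotient.eq] at hw
  obtain ⟨w', hw'⟩ := Ideal.mem_span_singleton'.1 hw
  simp only [smul_eq_mul, mul_one] at hw'
  obtain ⟨l, hl, hl0⟩ := Submodule.exists_dual_map_eq_bot_of_notMem
    (p := LinearMap.range (LinearMap.mulLeft k X)) (x := j) (by
      rintro ⟨y, hy⟩
      exact one_ne_zero (hM.eq_zero_of_smul h.eta_ne h.cenX.commute h.isNilpotent (c := 1)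
        (by rw [one_smul]; exact hy.symm))) inferInstance
  have hlX : ∀ y, l (X * y) = 0 := fun y => by
    have : l (X * y) ∈ (LinearMap.range (LinearMap.mulLeft k X)).map l := ⟨_, ⟨y, rfl⟩, rfl⟩
    rwa [hl0] at this
  let μ : MonoidAlgebra k G →ₗ[k] k := l.comp (resTo _)
  have hμ1 : ∀ y, μ (I X * y) = 0 := fun y => by
    simp only [μ, LinearMap.comp_apply, hI, resTo_incl_mul, hlX]
  have hμ2 : ∀ y, μ (y * I X) = 0 := fun y => by
    simp only [μ, LinearMap.comp_apply, hI, resTo_mul_incl, ← (h.cenX.commute _).eq, hlX]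
  have hπη : π * I η = π := by
    rw [← hπj, mul_assoc, ← map_mul, ← (h.cen.commute j).eq, hM.eta]
  have hηη : I η * I η = I η := by rw [← map_mul, h.idem]
  let y := I η * ε - I η
  have hy : InvUnder Z y := by
    have := invUnder_incl_centralizer Z η
    exact (this.mul (hε.invUnder Z)).sub this
  have hy0 : ∀ c : centralizer (Z : Set G), y.coeff c = 0 := fun c => by
    rw [← coeff_resTo, map_sub, hI, resTo_incl_mul, resTo_incl, hη, sub_self]
    rfl
  have key : μ (π * y * I η) = 0 := by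
    conv_lhs => rw [eq_sum_single y, Finset.mul_sum, Finset.sum_mul, map_sum]
    have e : ∀ x, μ (π * single x (y.coeff x) * I η) = y.coeff x * μ (π * single x 1 * I η) :=
      fun x => by rw [single_eq_smul_one, mul_smul_comm, smul_mul_assoc, map_smul, smul_eq_mul]
    simp only [e]
    rw [sum_eq_sum_centralizer hp (IsPGroup.of_card (n := 1) (by rw [pow_one, h.card]))
      (fun x => y.coeff x * μ (π * single x 1 * I η)) fun z hz x => ?_]
    · simp only [hy0, zero_mul, Finset.sum_const_zero]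
    obtain ⟨u, -, hu⟩ := h.exists_single_mul hp hz
    obtain ⟨u', hu', -⟩ := h.exists_single_mul hp (inv_mem hz)
    rw [← hI] at hu hu'
    obtain ⟨v, hv⟩ := hN.mul_mul (I u)
    have e1 : π * single z 1 = π + I X * v := by
      rw [← hv, ← hπη, mul_assoc, hu, mul_add, hπη]
    rw [hy z hz, ← single_one_mul_single_one, ← single_one_mul_single_one, ← mul_assoc,
      ← mul_assoc, e1, mul_assoc _ _ (I η), hu', add_mul, add_mul, mul_assoc (I X), mul_assoc (I X),
      map_add, hμ1, add_zero, mul_add, map_add, ((h.cenX.commute u').map I).eq, ← mul_assoc _ (I u'),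
      hμ2, add_zero]
  have e : π * y * I η = π * ε - π := by
    simp only [y]
    rw [mul_sub, sub_mul, ← mul_assoc, hπη, hπη, mul_assoc, (hε.commute _).eq, ← mul_assoc, hπη]
  rw [e, map_sub, eq_sub_iff_add_eq.1 hw' |>.symm, map_add, hμ1, hμ2] at key
  simp only [μ, LinearMap.comp_apply, hres, map_smul, smul_eq_mul] at key
  exact mul_ne_zero hc hl (by simpa using key)

omit hM in
theorem exists_indep_traces [IsAlgClosed k] [Fact p.Prime] (hp : (p : k) = 0)
    {ε : MonoidAlgebra k G} (hε : IsCentral ε) (hεε : ε * ε = ε) (hη : η * resTo _ ε = η) :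
    ∃ τ : Fin ((centralizer (Z : Set G)).relIndex T) → G → k, LinearIndependent k τ ∧
      (∀ i g h, τ i (h * g * h⁻¹) = τ i g) ∧
      (∀ i (g u : G) (n : ℕ), u ^ p ^ n = 1 → Commute u g → τ i (u * g) = τ i g) ∧
      ∀ i y, lin (τ i) (ε * y) = lin (τ i) y := by
  obtain ⟨j, n, a, b, hM⟩ := h.exists_mor
  obtain ⟨hd, g, hg, hge, hgen⟩ := exists_gen_of_card_prime Fact.out h.card h.le h.le'
  haveI : CharP k p := (CharP.charP_iff_prime_eq_zero Fact.out).2 hp
  have he : (((centralizer (Z : Set G)).relIndex T : ℕ) : k) ≠ 0 := by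
    rwa [Ne, CharP.cast_eq_zero_iff k p]
  obtain ⟨s, s', hs⟩ := h.exists_sData hM hg
  have htate := fun (S : FMod.{max u v} k (MonoidAlgebra k G))
      (_ : IsSimpleModule (MonoidAlgebra k G) S.V) =>
    h.tate hM hp hg hs hgen he (Algebra.lsmul k k S.V) (exists_scalar_of_simple S)
  generalize (centralizer (Z : Set G)).relIndex T = e at *
  haveI : NeZero (e : k) := ⟨he⟩
  obtain ⟨e', rfl⟩ := Nat.exists_eq_succ_of_ne_zero (NeZero.of_neZero_natCast k (n := e)).out
  obtain ⟨c, hc, r, hr⟩ := h.exists_pow_eq hM hg hs ((hge _).2 dvd_rfl)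
  obtain ⟨ζ, hζ⟩ := HasEnoughRootsOfUnity.exists_primitiveRoot k (e' + 1)
  obtain ⟨ω₀, hω₀⟩ := IsAlgClosed.exists_pow_nat_eq c (Nat.succ_pos e')
  let ω : Fin (e' + 1) → k := fun i => ω₀ * ζ ^ (i : ℕ)
  have hω : ∀ i, ω i ^ (e' + 1) = c := fun i => by
    simp only [ω]
    rw [mul_pow, hω₀, ← pow_mul, mul_comm (i : ℕ), pow_mul, hζ.pow_eq_one, one_pow, mul_one]
  have hω0 : ∀ i, ω i ≠ 0 := fun i h0 => hc (by rw [← hω i, h0, zero_pow (Nat.succ_ne_zero _)])
  have hωi : Function.Injective ω := fun i i' hi => Fin.ext (hζ.pow_inj i.2 i'.2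
    (mul_left_cancel₀ (left_ne_zero_of_mul (hω0 i)) hi))
  have hπ := fun i => h.exists_proj hM hg (u := (ω i)⁻¹ • s) (r := c⁻¹ • r) (e := e' + 1)
    (by obtain ⟨w, hw⟩ := hs.gr; exact ⟨(ω i)⁻¹ • w, by rw [hw, map_smul, smul_mul_assoc]⟩)
    (by rw [smul_mul_assoc, hs.sj]) (by rw [mul_smul_comm, hs.js]) he (fun i => (hge i).1)
    (by rw [smul_pow, inv_pow, hω, hr, smul_add, smul_smul, inv_mul_cancel₀ hc, one_smul,
      mul_smul_comm])
  choose π hπN hjπ hπj hsπ hππ hres using hπ
  choose S hS hSne using fun i =>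
    h.exists_simple hM hp hε hεε hη (hπN i) (hπj i) (hππ i) (inv_ne_zero he) (hres i)
  haveI := hS
  have hεS : ∀ i (v : (S i).V), ε • v = v := by
    intro i
    obtain ⟨v, -, hv⟩ := hSne i
    refine smul_eq_of_central_idem hε.commute hεε (v := v) fun h => hv 0 ?_
    rw [mul_smul, h, smul_zero, smul_zero]
  choose κ hκ using fun i => htate (S i) (hS i)
  have hκ' : ∀ i i', HNe (incl _ X) (incl _ X ^ m) (π i') (S i).V → κ i = ω i' := by
    rintro i i' ⟨v, hv, hv'⟩
    obtain ⟨y, hy⟩ := (hπN i').left m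
    obtain ⟨w, hw⟩ := hκ i (π i' • v) (by
      change incl _ X ^ m • π i' • v = 0
      rw [smul_smul, hy, mul_smul, hv, smul_zero])
    change s • π i' • v - κ i • incl _ j • π i' • v = incl _ X • w at hw
    obtain ⟨w', hw'⟩ := hsπ i'
    have e1 : s • π i' • v = ω i' • π i' • v + incl _ X • ω i' • w' • v := by
      rw [smul_comm (incl _ X), smul_smul (incl _ X), ← hw', sub_smul, smul_sub, smul_mul_assoc,
        smul_assoc, smul_smul (ω i') (ω i')⁻¹, mul_inv_cancel₀ (hω0 i'), one_smul, mul_smul s]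
      abel
    rw [smul_smul (incl _ j), hjπ, e1] at hw
    by_contra hne
    have hne' : ω i' - κ i ≠ 0 := sub_ne_zero.2 (Ne.symm hne)
    refine hv' ((ω i' - κ i)⁻¹ • (w - ω i' • w' • v)) ?_
    rw [smul_comm, smul_sub, ← hw, eq_inv_smul_iff₀ hne', sub_smul]
    abel
  have hSne' : ∀ i, HNe (incl _ X) (incl _ X ^ m) (π i) (S i).V := by
    intro i
    obtain ⟨v, hv, hv'⟩ := hSne i
    exact ⟨v, hv, fun u => by have := hv' u; rwa [mul_smul, hεS] at this⟩
  refine exists_traces_of_simple hp S hS (fun i i' hii f => ?_) hεS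
  by_contra hf
  have hb := LinearMap.bijective_of_ne_zero hf
  obtain ⟨v, hv, hv'⟩ := hSne' i
  refine hii (hωi ((hκ' i' i ⟨f v, by rw [← map_smul, hv, map_zero], fun u hu => ?_⟩).symm.trans
    (hκ' i' i' (hSne' i'))))
  obtain ⟨u, rfl⟩ := hb.2 u
  rw [← map_smul, ← map_smul] at hu
  exact hv' u (hb.1 hu)

end CycAlg

end Cfsg.Agent.Block
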