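import Mathlib
import Cfsg.Agent.Block.Tate5
import Cfsg.Agent.Block.Misc
import Cfsg.Agent.Block.Nilp

/-!
A block with a nontrivial cyclic defect group and inertial index `e` has rank at least `e`.
-/

namespace Cfsg.Agent.Block

open Cfsg Cfsg.Agent.Char MonoidAlgebra Subgroup
open Cfsg.Agent.LocalEven hiding isPGroup_zpowers_of_orderOf

theorem linearIndependent_pow_mul {k A : Type*} [Field k] [Ring A] [Algebra k A] {X η : A}
    (hn : IsNilpotent X) {m : ℕ} (hm : X ^ m * η ≠ 0) :
    LinearIndependent k fun i : Fin (m + 1) => X ^ (i : ℕ) * η := by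
  classical
  have hex : ∃ N, X ^ N * η = 0 := by
    obtain ⟨N, hN⟩ := hn
    exact ⟨N, by rw [hN, zero_mul]⟩
  have h1 : ∀ i, Nat.find hex ≤ i → X ^ i * η = 0 := fun i hi => by
    rw [← Nat.sub_add_cancel hi, pow_add, mul_assoc, Nat.find_spec hex, mul_zero]
  have h2 : m < Nat.find hex := lt_of_not_ge fun h => hm (h1 m h)
  have h3 := Nat.find_min hex (m := Nat.find hex - 1) (by omega)
  rw [Fintype.linearIndependent_iff]
  intro c hc i
  induction i using Fin.strong_induction_on with
  | h i ih =>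
    have := congrArg (X ^ (Nat.find hex - 1 - i) * ·) hc
    simp only [Finset.mul_sum, mul_smul_comm, mul_zero, ← mul_assoc, ← pow_add] at this
    rw [Finset.sum_eq_single i, Nat.sub_add_cancel (by omega), smul_eq_zero] at this
    · exact this.resolve_right h3
    · intro j _ hj
      rcases lt_or_gt_of_ne hj with hj | hj
      · rw [ih j hj, zero_smul]
      · rw [h1 _ (by have : (i : ℕ) < j := hj; omega), smul_zero]
    · simp

theorem sub_one_pow_eq_geom_sum {k A : Type*} [Field k] [Ring A] [Algebra k A] {p : ℕ}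
    [Fact p.Prime] (hp : (p : k) = 0) (n : ℕ) (x : A) :
    (x - 1) ^ (p ^ n - 1) = ∑ i ∈ Finset.range (p ^ n), x ^ i := by
  haveI : CharP k p := (CharP.charP_iff_prime_eq_zero Fact.out).2 hp
  have h0 : (Polynomial.X - 1 : Polynomial k) ≠ 0 := by
    simpa using Polynomial.X_sub_C_ne_zero (1 : k)
  have : (Polynomial.X - 1 : Polynomial k) ^ (p ^ n - 1) =
      ∑ i ∈ Finset.range (p ^ n), Polynomial.X ^ i := by
    refine mul_left_cancel₀ h0 ?_
    rw [mul_geom_sum, ← pow_succ', Nat.sub_add_cancel (Nat.one_le_pow _ _ (Fact.out : p.Prime).pos),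
      sub_pow_char_pow, one_pow]
  simpa using congrArg (Polynomial.aeval x) this

variable {G : Type*} [Group G] [Finite G] {p : ℕ} {M : Ideal AlgInt} {B : Set (IrrCharacter G)}

theorem card_le_card_block (hB : IsV M (blockIdem B)) {ι : Type*}
    {y : ι → MonoidAlgebra (F M) G} (hli : LinearIndependent (F M) y) (hc : ∀ i, IsCentral (y i))
    (he : ∀ i, eB M B * y i = y i) : Nat.card ι ≤ Nat.card B := by
  classical
  haveI := hli.finite
  letI := Fintype.ofFinite ι
  let z : ι → MonoidAlgebra ℂ G := fun i => blockIdem B * liftG M (y i)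
  have hzc : ∀ i, IsCentral (z i) := fun i => (isCentral_blockIdem B).mul (hc i).liftG
  have hzV : ∀ i, IsV M (z i) := fun i => hB.mul (isV_liftG _)
  have hzr : ∀ i, redG M (z i) = y i := fun i => by
    rw [redG_mul hB (isV_liftG _), redG_liftG]; exact he i
  refine card_le_of_linearIndependent (k := ℂ) (v := fun i (χ : B) => omega χ.1.1 (z i)) ?_
  rw [Fintype.linearIndependent_iff]
  intro c hc0 i₁
  by_contra h1
  obtain ⟨i₀, -, hi₀⟩ := Finset.exists_max_image Finset.univ (fun i => val M (c i))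
    ⟨i₁, Finset.mem_univ _⟩
  have h0 : c i₀ ≠ 0 := by
    intro h
    have := hi₀ i₁ (Finset.mem_univ _)
    rw [h, map_zero, le_zero_iff, map_eq_zero] at this
    exact h1 this
  have hm : ∀ i, c i / c i₀ ∈ V M := fun i => by
    rw [mem_V_iff, map_div₀]
    exact div_le_one_of_le₀ (hi₀ i (Finset.mem_univ _)) zero_le
  have h2 : ∑ i, c i • z i = 0 := by
    refine (isCentral_sum _ fun i _ => (hzc i).smul _).zero_of_omega fun χ => ?_
    rw [map_sum]
    by_cases hχ : χ ∈ B
    · simpa using congrFun hc0 ⟨χ, hχ⟩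
    · refine Finset.sum_eq_zero fun i _ => ?_
      rw [map_smul, omega_central_mul χ.2 (isCentral_blockIdem B), omega_blockIdem_of_notMem hχ,
        zero_mul, smul_zero]
  have h3 : ∑ i, (c i / c i₀) • z i = 0 := by
    simp only [div_eq_inv_mul, mul_smul]
    rw [← Finset.smul_sum, h2, smul_zero]
  have h4 := congrArg (redG M) h3
  rw [redG_sum _ fun i _ => (hzV i).smul (hm i), redG_zero] at h4
  simp only [redG_smul (hm _) (hzV _), hzr] at h4
  have := Fintype.linearIndependent_iff.1 hli _ h4 i₀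
  rw [div_self h0, red_one] at this
  exact one_ne_zero this

theorem center_span_of_card_le (hB : IsV M (blockIdem B)) {X : MonoidAlgebra (F M) G}
    (hX : IsCentral X) (hn : IsNilpotent X) {m : ℕ} (hm : X ^ m * eB M B ≠ 0)
    (hc : Nat.card B ≤ m + 1) : X ^ (m + 1) * eB M B = 0 ∧
      ∀ z, IsCentral z → eB M B * z = z →
        ∃ (c : F M) (u : _), IsCentral u ∧ z = c • eB M B + X * u := by
  have h1 : ∀ i : ℕ, IsCentral (X ^ i * eB M B) := fun i => (hX.pow i).mul (isCentral_eB B)
  have h2 : ∀ i : ℕ, eB M B * (X ^ i * eB M B) = X ^ i * eB M B := fun i => by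
    rw [((isCentral_eB B).commute _).left_comm, eB_mul_self hB]
  refine ⟨by_contra fun h => ?_, fun z hz hz' => ?_⟩
  · have := card_le_card_block hB (linearIndependent_pow_mul hn h) (fun i => h1 i) fun i => h2 i
    rw [Nat.card_fin] at this
    omega
  have hli := linearIndependent_pow_mul (k := F M) hn hm
  have hz2 : z ∈ Submodule.span (F M) (Set.range fun i : Fin (m + 1) => X ^ (i : ℕ) * eB M B) := by
    by_contra h
    have := card_le_card_block hB (linearIndependent_finCons.2 ⟨hli, h⟩)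
      (fun i => Fin.cases hz (fun i => h1 i) i) fun i => Fin.cases hz' (fun i => h2 i) i
    rw [Nat.card_fin] at this
    omega
  obtain ⟨c, rfl⟩ := (Submodule.mem_span_range_iff_exists_fun _).1 hz2
  refine ⟨c 0, ∑ i : Fin m, c i.succ • (X ^ (i : ℕ) * eB M B),
    isCentral_sum _ fun i _ => (h1 i).smul _, ?_⟩
  rw [Fin.sum_univ_succ, Finset.mul_sum]
  simp [pow_succ', mul_assoc]

variable {a b d : BrauerPairIdx G}

theorem IsMaxBP.fst_eq_of_br (hM : IsPModular p M) (hd : IsMaxBP p M B d) (hb : IsMaxBP p M B b)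
    {u : G} (hu : b.1 = zpowers u) (h : br d.1 (single u 1 * fid M b) ≠ 0) : b.1 = d.1 := by
  obtain ⟨c, hc, hc'⟩ := br_ne_zero_iff.1 h
  rw [coeff_single_mul_apply, one_mul] at hc'
  have ht : u⁻¹ * c ∈ centralizer (b.1 : Set G) := by
    by_contra hn
    exact hc' (coeff_fid_of_notMem b hn)
  have hreg : ¬ p ∣ orderOf (u⁻¹ * c) := by
    rw [fid, coeff_incl_of_mem _ _ ht] at hc'
    simpa using regular_of_coeff_eB hM (isV_blockIdem hM hb.bp.2) hc'
  have hub : u ∈ b.1 := hu ▸ mem_zpowers u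
  haveI := Fact.mk hM.1
  have hpp := pp_mul hM.1 (by simpa using IsPGroup.iff_orderOf.1 hb.bp.1 ⟨u, hub⟩) hreg
    (ht u hub)
  rw [mul_inv_cancel_left] at hpp
  have huD : u ∈ centralizer (d.1 : Set G) := pPart_mem hM.1 ((pp_eq_iff hM.1).1 hpp) hc
  obtain ⟨x, hx, hx'⟩ := hd.exists_smul_le_of_br hM hb.of (R := d.1) (fun g hg =>
    smul_eq_of_mem_centralizer (by
      rw [hu, centralizer_zpowers, mem_centralizer_singleton_iff]
      exact huD g hg)) hd.bp.1
    (br_ne_zero_iff.2 ⟨_, mul_mem (inv_mem huD) hc, hc'⟩)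
  have h1 := (hb.smul hM x).is_eq_of_le hM hx
  have h2 : cj x d.1 = d.1 := eq_of_le_of_card_ge hx' (card_cj _ _).ge
  rw [← cj_inj (g := x), h2, ← fst_smul, h1]

theorem exists_cyc_elt (hM : IsPModular p M) (hd : IsMaxBP p M B d) (h : CycP p d.1 a.1)
    {x : G} (hx : d.1 = zpowers x) : ∃ y : MonoidAlgebra (F M) G,
      InvUnder (centralizer (a.1 : Set G)) y ∧ (∀ g ∉ centralizer (a.1 : Set G), y.coeff g = 0) ∧
      incl _ (br d.1 y) * fid M d = single x 1 * fid M d := by
  classical
  let C := centralizer (a.1 : Set G)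
  let w := single x (1 : F M) * fid M d
  have hxd : x ∈ d.1 := hx ▸ mem_zpowers x
  have hw : ∀ g ∈ C, ∀ g' ∈ C, g • d = g' • d → cjA g w = cjA g' w := fun g hg g' hg' e => by
    have h1 : g'⁻¹ * g ∈ centralizer (d.1 : Set G) := by
      rw [← hd.cyc_inf hM h h.le h.ne_bot]
      exact mem_inf.2 ⟨by rw [MulAction.mem_stabilizer_iff, mul_smul, e, inv_smul_smul],
        mul_mem (inv_mem hg') hg⟩
    have h2 : cjA (g'⁻¹ * g) w = w := by
      rw [map_mul, (invUnder_fid d).cjA_eq h1, cjA_eq_conj, single_one_mul_single_one,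
        single_one_mul_single_one, ← h1 x hxd, mul_inv_cancel_right]
    rw [← mul_inv_cancel_left g' g, cjA_mul, h2]
  choose! t ht using fun b (hb : b ∈ orb C d) => mem_orb.1 hb
  have hcj : ∀ g, cjA g w = single (g * x * g⁻¹) 1 * fid M (g • d) := fun g => by
    rw [map_mul, fid_smul, cjA_eq_conj g (single x 1), single_one_mul_single_one,
      single_one_mul_single_one]
  refine ⟨∑ b ∈ orb C d, cjA (t b) w, invUnder_iff_cjA.2 fun g hg => ?_, fun g hg => ?_, ?_⟩
  · rw [map_sum]
    refine Finset.sum_nbij' (fun b => g • b) (fun b => g⁻¹ • b) (fun b hb => smul_mem_orb hb hg)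
      (fun b hb => smul_mem_orb hb (inv_mem hg)) (fun b _ => inv_smul_smul g b)
      (fun b _ => smul_inv_smul g b) fun b hb => ?_
    rw [← cjA_mul]
    exact hw _ (mul_mem hg (ht b hb).1) _ (ht _ (smul_mem_orb hb hg)).1
      (by rw [mul_smul, (ht b hb).2, (ht _ (smul_mem_orb hb hg)).2])
  · rw [coeff_sum_apply]
    refine Finset.sum_eq_zero fun b hb => ?_
    rw [coeff_cjA, coeff_single_mul_apply, one_mul, coeff_fid_of_notMem]
    intro hc
    have h1 := mul_mem (h.le_centralizer h.le hxd) (centralizer_le h.le hc)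
    rw [mul_inv_cancel_left, mul_mem_cancel_right (ht b hb).1,
      mul_mem_cancel_left (inv_mem (ht b hb).1)] at h1
    exact hg h1
  · have hbr : ∀ u ∈ d.1, ∀ b : BrauerPairIdx G, b.1 = d.1 →
        incl _ (br d.1 (single u 1 * fid M b)) = single u 1 * fid M b := fun u hu b hb =>
      incl_resTo _ fun g hg => by
        rw [coeff_single_mul_apply, coeff_fid_of_notMem, mul_zero]
        rw [hb, mul_mem_cancel_left (inv_mem (h.comm hu))]
        exact hg
    rw [map_sum, map_sum, Finset.sum_mul, Finset.sum_eq_single_of_mem d (self_mem_orb C d)]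
    · rw [hw _ (ht d (self_mem_orb C d)).1 1 (one_mem _)
        (by rw [(ht d (self_mem_orb C d)).2, one_smul]), cjA_one, hbr x hxd d rfl, mul_assoc,
        fid_mul_self hM hd.bp.2]
    intro b hb hne
    rw [hcj, (ht b hb).2]
    have hb' : IsMaxBP p M B b := (ht b hb).2 ▸ hd.smul hM _
    have hb1 : b.1 = zpowers (t b * x * (t b)⁻¹) := by
      rw [← cj_zpowers', ← hx, ← fst_smul, (ht b hb).2]
    by_cases h0 : br d.1 (single (t b * x * (t b)⁻¹) 1 * fid M b) = 0
    · rw [h0, map_zero, zero_mul]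
    have h1 := hd.fst_eq_of_br hM hb' hb1 h0
    rw [hbr _ (by rw [← h1, hb1]; exact mem_zpowers _) b h1, mul_assoc,
      fid_mul_of_ne hM hb'.bp.2 hd.bp.2 h1 hne, mul_zero]

theorem cyc_defect (hM : IsPModular p M) (hd : IsMaxBP p M B d) (ha : PLe p M a d)
    (hC : d.1 ≤ centralizer (a.1 : Set G)) : IsDefectGroup p M a.2 (d.1.subgroupOf _) := by
  obtain ⟨b, hb1, -, hb⟩ := hd.exists_local_max hM ha hC
  exact hb1 ▸ hb.defect hM

theorem cyc_card_le (hM : IsPModular p M) (hd : IsMaxBP p M B d) {Z : Subgroup G}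
    (h : CycP p d.1 Z) (ha : PLe p M a d) (h1 : a.1 ≠ ⊥) : Nat.card a.2 ≤ Nat.card d.1 := by
  rw [card_of_nilpotent hM (hd.cyc_nilpotent hM h ha h1)
    (cyc_defect hM hd ha (h.le_centralizer ha.le)),
    ← Nat.card_congr (subgroupOfEquivOfLe (h.le_centralizer ha.le)).toEquiv]
  exact Nat.card_le_card_of_surjective _ ConjClasses.mk_surjective

theorem exists_cycAlg (hM : IsPModular p M) (hd : IsMaxBP p M B d) (h : CycP p d.1 a.1)
    (ha : PLe p M a d) : ∃ X m, CycAlg p a.1 (MulAction.stabilizer G a) (eB M a.2) X m := by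
  classical
  haveI := Fact.mk hM.1
  have hp := pF_eq_zero hM
  have hab := ha.left hd.bp
  have hV := isV_blockIdem hM hab.2
  have hVd := isV_blockIdem hM hd.bp.2
  obtain ⟨x, hx⟩ : ∃ x, d.1 = zpowers x := by
    obtain ⟨x, hx⟩ := isCyclic_iff_exists_zpowers_eq_top.1 h.cyc
    refine ⟨x, ?_⟩
    have := congrArg (map d.1.subtype) hx
    rwa [MonoidHom.map_zpowers, ← MonoidHom.range_eq_map, range_subtype, eq_comm] at this
  have hxd : x ∈ d.1 := hx ▸ mem_zpowers x
  obtain ⟨n, hn⟩ := h.pg.exists_card_eq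
  have hxo : orderOf x = p ^ n := by rw [← Nat.card_zpowers, ← hx, hn]
  have hn1 : 1 < p ^ n := hn ▸ (one_lt_card_iff_ne_bot _).2 fun h0 => h.ne_bot
    (eq_bot_iff.2 (h0 ▸ h.le))
  obtain ⟨y, hy1, hy2, hy3⟩ := exists_cyc_elt hM hd h hx
  have hC := h.le_centralizer h.le
  let x' : centralizer (d.1 : Set G) := ⟨x, h.comm hxd⟩
  have hx'c : IsCentral (single x' (1 : F M)) := by
    rw [isCentral_iff_commute]
    intro y
    refine ((commute_single_iff y _).2 fun g => ?_)
    congr 1
    exact Subtype.ext (by simp [x', g.2 x hxd])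
  have hy4 : br d.1 y * eB M d.2 = single x' 1 * eB M d.2 :=
    incl_injective _ (by rw [map_mul, map_mul, incl_single]; exact hy3)
  have hyd : InvUnder d.1 y := hy1.mono hC
  have hyc : IsCentral (br d.1 y) := (hy1.mono (centralizer_le h.le)).isCentral_resTo
  let X := (resTo (centralizer (a.1 : Set G)) y - 1) * eB M a.2
  have hXc : IsCentral X := (hy1.isCentral_resTo.sub isCentral_one).mul (isCentral_eB _)
  have hXn : IsNilpotent X := by
    refine isNilpotent_mul_eB hV (hy1.isCentral_resTo.sub isCentral_one) fun ξ hξ => ?_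
    obtain ⟨ψ, hψ⟩ := block_nonempty hM hd.bp.2
    have h1 := congrArg (lam M ψ.1) hy4
    rw [lam_mul _ hyc (isCentral_eB _), lam_mul _ hx'c (isCentral_eB _), lam_eB_of_mem hVd hψ,
      mul_one, mul_one] at h1
    have h2 := lam_eq_zero_of_isNilpotent (M := M) ψ (hx'c.sub isCentral_one)
      (isNilpotent_sub_one (k := F M) hp (n := n) (by
        rw [single_pow, one_pow, one_def, ← hxo]
        congr 1
        exact Subtype.ext (pow_orderOf_eq_one x)))
    rw [map_sub, lam_one] at h2
    rw [map_sub, ← mu_eq hM hab.2 hξ, ← ha.mu_eq_mu hM hyd hy1, mu_eq hM hd.bp.2 hψ, h1, lam_one,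
      h2]
  have hXe : X * eB M a.2 = X := by rw [mul_assoc, eB_mul_self hV]
  have hXm : X ^ (p ^ n - 1) ≠ 0 := by
    intro h0
    have hns := ha.nsub hM hd.bp (h.normalizer_le' h.le |>.trans' le_normalizer)
    have e1 : eB M d.2 * br d.1 (fid M a) = eB M d.2 := incl_injective _ (by
      rw [map_mul]
      exact ((fid_mul_br hM hd.bp hns.linv (fid_mul_self hM hab.2)).resolve_right fun h' =>
        one_ne_zero ((hns.mu_fid hM).symm.trans h'.1)).2)
    have e2 : incl _ X = (y - 1) * fid M a := by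
      rw [map_mul, map_sub, incl_resTo _ hy2, map_one, fid]
    have e3 : br d.1 (incl _ X) * eB M d.2 = (single x' 1 - 1) * eB M d.2 := by
      rw [e2, br_mul hp hd.bp.1 (hyd.sub (invUnder_one _)) hns.linv.1, mul_assoc,
        ← ((isCentral_eB _).commute _).eq, e1, map_sub, resTo_one, sub_mul, sub_mul, hy4]
    have e4 := congrArg (· ^ (p ^ n - 1)) e3
    have hi : eB M d.2 ^ (p ^ n - 1) = eB M d.2 :=
      IsIdempotentElem.pow_eq (eB_mul_self hVd) (by omega)
    simp only [((isCentral_eB d.2).commute _).symm.mul_pow, hi] at e4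
    rw [← br_pow hp hd.bp.1 (hXc.invUnder_incl.mono hC), ← map_pow, h0, map_zero, map_zero,
      zero_mul, sub_one_pow_eq_geom_sum hp, Finset.sum_mul] at e4
    refine eB_ne_zero hVd (block_nonempty hM hd.bp.2) (ga_ext fun g => by_contra fun hg => hg ?_)
    have e5 := congrArg (·.coeff g) e4
    simp only [coeff_sum_apply, single_pow, one_pow, coeff_single_mul_apply, one_mul] at e5
    rw [Finset.sum_eq_single 0] at e5
    · simpa using e5.symm
    · intro i hi hi0
      by_contra hc
      have r1 := regular_of_coeff_eB hM hVd hc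
      have r2 := regular_of_coeff_eB hM hVd hg
      have hxi : ∃ k : ℕ, orderOf (x' ^ i)⁻¹ = p ^ k := by
        rw [orderOf_inv]
        refine ((Nat.dvd_prime_pow hM.1 (m := n)).1 ((orderOf_pow_dvd i).trans ?_)).imp fun _ h => h.2
        exact (show orderOf x' = p ^ n by rw [← hxo, ← orderOf_coe]).dvd
      have := pp_mul hM.1 hxi r2 (Commute.inv_left (Commute.pow_left
        (Subtype.ext (g.2 x hxd)) i))
      rw [pp_of_regular hM.1 r1, eq_comm, inv_eq_one, ← orderOf_dvd_iff_pow_eq_one,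
        ← orderOf_coe] at this
      exact hi0 (Nat.eq_zero_of_dvd_of_lt (hxo ▸ this) (Finset.mem_range.1 hi))
    · intro h0
      exact absurd (Finset.mem_range.2 (by omega)) h0
  have hXme : ∀ i, i ≠ 0 → X ^ i * eB M a.2 = X ^ i := fun i hi => by
    obtain ⟨r, rfl⟩ := Nat.exists_eq_succ_of_ne_zero hi
    rw [pow_succ, mul_assoc, hXe]
  obtain ⟨h1, h2⟩ := center_span_of_card_le hV hXc hXn (m := p ^ n - 1)
    (by rw [hXme _ (by omega)]; exact hXm)
    ((cyc_card_le hM hd h ha h.ne_bot).trans (by omega))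
  refine ⟨X, p ^ n - 1, h.card, centralizer_le_stabilizer a, stabilizer_le_normalizer a,
    isCentral_eB _, eB_mul_self hV, hXc, by rw [((isCentral_eB _).commute _).eq, hXe],
    by rwa [hXme _ (by omega)] at h1, hXm, by omega, h2, fun g hg => ?_, fun g hg hg' => ?_,
    fun g u hg hu hc => ?_⟩
  · change cjA g (fid M a) = fid M a
    rw [← fid_smul, hg]
  · change fid M a * cjA g (fid M a) = 0
    rw [← fid_smul]
    exact fid_mul_of_ne hM hab.2 (isBP_smul hab g).2 (cj_eq_of_mem_normalizer hg).symm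
      (Ne.symm hg')
  · obtain ⟨c, hc'⟩ := le_defect_of_coeff hM hab.2 (cyc_defect hM hd ha hC) hg
      (Q := zpowers u) (IsPGroup.of_card (n := 1) (by rw [pow_one, Nat.card_zpowers, hu]))
      (zpowers_le.2 (mem_centralizer_singleton_iff.2 hc))
    have h3 : ((c * u * c⁻¹ : centralizer (a.1 : Set G)) : G) ∈ d.1 :=
      mem_subgroupOf.1 (hc' (conj_mem_cj (mem_zpowers u)))
    have h4 : orderOf ((c * u * c⁻¹ : centralizer (a.1 : Set G)) : G) = p := by
      rw [orderOf_coe, orderOf_conj', hu]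
    have h5 := eq_of_le_of_card_ge (h.le_zpowers h3 fun h0 => by
      rw [h0, orderOf_one] at h4; exact hM.1.one_lt.ne h4) (by rw [Nat.card_zpowers, h4, h.card])
    have h6 : ((c * u * c⁻¹ : centralizer (a.1 : Set G)) : G) ∈ a.1 :=
      h5.ge (mem_zpowers _)
    have h7 := c.2 _ h6
    simp only [coe_mul, coe_inv, inv_mul_cancel_right, mul_right_inj] at h7
    rw [h7]
    simpa [mul_assoc] using h6

theorem cyc_le_blockRank (hM : IsPModular p M) (hd : IsMaxBP p M B d) {Z : Subgroup G}
    (h : CycP p d.1 Z) :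
    (centralizer (d.1 : Set G)).relIndex (MulAction.stabilizer G d) ≤ blockRank p B := by
  obtain ⟨a, rfl, ha⟩ := exists_ple hM hd.bp h.le
  haveI := Fact.mk hM.1
  haveI := isAlgClosed_F M
  have hB := isV_blockIdem hM hd.of.block
  obtain ⟨X, m, hX⟩ := exists_cycAlg hM hd h ha
  obtain ⟨τ, h1, h2, h3, h4⟩ := hX.exists_indep_traces (pF_eq_zero hM) (isCentral_eB B)
    (eB_mul_self hB) (incl_injective _ (by
      rw [map_mul]; exact (hd.of.down hM ha).fid_mul hM))
  rw [← hd.cyc_relIndex hM h ha h.ne_bot]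
  simpa using card_le_blockRank_of_traces hM hB h1 h2 h3 h4

end Cfsg.Agent.Block
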