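import Mathlib

/-! Symmetric local algebras with a small centre. -/

namespace Cfsg.Agent.Block

open Module Submodule

variable {k A : Type*} [Field k]

section Lin

variable [AddCommGroup A] [Module k A] [FiniteDimensional k A] {U W : Submodule k A}

theorem exists_finrank_sup (hWU : W ≤ U) {n : ℕ} (h : finrank k U ≤ finrank k W + (n + 1)) :
    ∃ x ∈ U, finrank k U ≤ finrank k (span k {x} ⊔ W : Submodule k A) + n := by
  by_cases hle : U ≤ W
  · refine ⟨0, zero_mem _, (finrank_mono (hle.trans le_sup_right)).trans (Nat.le_add_right _ _)⟩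
  obtain ⟨x, hx, hx'⟩ := SetLike.not_le_iff_exists.1 hle
  have : finrank k W < finrank k (span k {x} ⊔ W : Submodule k A) :=
    finrank_lt_finrank_of_lt (lt_of_le_of_ne le_sup_right fun e =>
      hx' (e ▸ mem_sup_left (mem_span_singleton_self x)))
  exact ⟨x, hx, by omega⟩

theorem exists_le_span_sup (hWU : W ≤ U) (h : finrank k U ≤ finrank k W + 1) :
    ∃ x ∈ U, U ≤ span k {x} ⊔ W := by
  obtain ⟨x, hx, h1⟩ := exists_finrank_sup hWU (n := 0) h
  exact ⟨x, hx, (eq_of_le_of_finrank_le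
    (sup_le ((span_singleton_le_iff_mem _ _).2 hx) hWU) h1).ge⟩

theorem exists_le_span_sup₂ (hWU : W ≤ U) (h : finrank k U ≤ finrank k W + 2) :
    ∃ x ∈ U, ∃ y ∈ U, U ≤ span k {x} ⊔ (span k {y} ⊔ W) := by
  obtain ⟨y, hy, h1⟩ := exists_finrank_sup hWU (n := 1) h
  obtain ⟨x, hx, h2⟩ := exists_le_span_sup (sup_le ((span_singleton_le_iff_mem _ _).2 hy) hWU) h1
  exact ⟨x, hx, y, hy, h2⟩

omit [FiniteDimensional k A] in
theorem mem_span_sup {x a : A} : a ∈ span k {x} ⊔ W ↔ ∃ c : k, a - c • x ∈ W := by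
  rw [mem_sup]
  constructor
  · rintro ⟨y, hy, w, hw, rfl⟩
    obtain ⟨c, rfl⟩ := mem_span_singleton.1 hy
    exact ⟨c, by rwa [add_sub_cancel_left]⟩
  · rintro ⟨c, hc⟩
    exact ⟨_, smul_mem _ c (mem_span_singleton_self x), _, hc, add_sub_cancel _ _⟩

end Lin

variable [Ring A] [Algebra k A]

/-- `A = k ⊕ J` is a local algebra with the symmetrizing form `s`. -/
structure SymLoc (J : Submodule k A) (s : A →ₗ[k] k) : Prop where
  tr : ∀ a b, s (a * b) = s (b * a)
  nd : ∀ a, (∀ b, s (a * b) = 0) → a = 0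
  dec : ∀ a : A, ∃ c : k, a - c • 1 ∈ J
  mul : J * J ≤ J
  nil : IsNilpotent J

variable (k A) in
/-- The span of the commutators. -/
def comms : Submodule k A := span k {x | ∃ a b : A, a * b - b * a = x}

theorem sub_mem_comms (a b : A) : a * b - b * a ∈ comms k A := subset_span ⟨a, b, rfl⟩

theorem comms_le {W : Submodule k A} : comms k A ≤ W ↔ ∀ a b : A, a * b - b * a ∈ W :=
  ⟨fun h a b => h (sub_mem_comms a b), fun h => span_le.2 fun _ ⟨a, b, e⟩ => e ▸ h a b⟩

theorem mul_mem_pow_add {J : Submodule k A} {a b : A} {m n : ℕ} (ha : a ∈ J ^ m)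
    (hb : b ∈ J ^ n) : a * b ∈ J ^ (m + n) := pow_add J m n ▸ mul_mem_mul ha hb

theorem mul_mem_pow_succ {J : Submodule k A} {a b : A} {m : ℕ} (ha : a ∈ J ^ m)
    (hb : b ∈ J) : a * b ∈ J ^ (m + 1) := pow_succ J m ▸ mul_mem_mul ha hb

theorem mul_mem_pow_succ' {J : Submodule k A} {a b : A} {m : ℕ} (ha : a ∈ J)
    (hb : b ∈ J ^ m) : a * b ∈ J ^ (m + 1) := pow_succ' J m ▸ mul_mem_mul ha hb

theorem mul_mem_sq {J : Submodule k A} {a b : A} (ha : a ∈ J) (hb : b ∈ J) : a * b ∈ J ^ 2 :=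
  sq J ▸ mul_mem_mul ha hb

namespace SymLoc

variable {J : Submodule k A} {s : A →ₗ[k] k} (h : SymLoc J s)
include h

theorem pow_succ_le (n : ℕ) : J ^ (n + 2) ≤ J ^ (n + 1) := by
  rw [pow_add, pow_succ J n, sq]
  exact mul_le_mul_right h.mul _

theorem pow_le {m n : ℕ} (hm : 0 < m) (hmn : m ≤ n) : J ^ n ≤ J ^ m := by
  induction n, hmn using Nat.le_induction with
  | base => exact le_rfl
  | succ n hn ih =>
    obtain ⟨n, rfl⟩ : ∃ l, n = l + 1 := ⟨n - 1, by omega⟩
    exact (h.pow_succ_le n).trans ih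

theorem sq_le : J ^ 2 ≤ J := sq J ▸ h.mul

theorem mul_right {n : ℕ} {a : A} (ha : a ∈ J ^ (n + 1)) (b : A) : a * b ∈ J ^ (n + 1) := by
  obtain ⟨c, hc⟩ := h.dec b
  have := add_mem (h.pow_succ_le n (mul_mem_pow_succ ha hc)) (smul_mem _ c ha)
  rwa [mul_sub, mul_smul_comm, mul_one, sub_add_cancel] at this

theorem pow_bot_of_le {n : ℕ} (hn : J ^ n ≤ J ^ (n + 1)) : J ^ n = ⊥ := by
  obtain ⟨N, hN⟩ := h.nil
  have : ∀ m, J ^ n ≤ J ^ (n + m) := fun m => by
    induction m with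
    | zero => exact le_rfl
    | succ m ih =>
      refine hn.trans ?_
      rw [pow_succ, ← add_assoc, pow_succ]
      exact mul_le_mul_left ih _
  have h1 := this N
  rwa [pow_add, hN, mul_zero, zero_eq_bot, le_bot_iff] at h1

theorem exists_ne_zero {n : ℕ} (hn : J ^ (n + 1) ≠ ⊥) : ∃ w ∈ J ^ (n + 1), s w ≠ 0 := by
  obtain ⟨a, ha, h0⟩ := (Submodule.ne_bot_iff _).1 hn
  obtain ⟨b, hb⟩ := not_forall.1 (mt (h.nd a) h0)
  exact ⟨_, h.mul_right ha b, hb⟩

theorem comms_le_of {W : Submodule k A} (hW : ∀ a ∈ J, ∀ b ∈ J, a * b - b * a ∈ W) :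
    comms k A ≤ W := comms_le.2 fun a b => by
  obtain ⟨c, hc⟩ := h.dec a
  obtain ⟨d, hd⟩ := h.dec b
  convert hW _ hc _ hd using 1
  simp only [mul_sub, sub_mul, mul_smul_comm, smul_mul_assoc, mul_one, one_mul, smul_sub,
    smul_comm c d]
  abel

theorem comms_le_sq : comms k A ≤ J ^ 2 :=
  h.comms_le_of fun _ ha _ hb => sub_mem (mul_mem_sq ha hb) (mul_mem_sq hb ha)

theorem comms_le_ker : comms k A ≤ LinearMap.ker s :=
  comms_le.2 fun a b => by rw [LinearMap.mem_ker, map_sub, h.tr, sub_self]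

/-- A commutator annihilated by the radical vanishes. -/
theorem eq_zero_of_mem_comms {z : A} (hz : z ∈ comms k A) (h0 : ∀ b ∈ J, z * b = 0) : z = 0 :=
  h.nd z fun b => by
    obtain ⟨c, hc⟩ := h.dec b
    have := h0 _ hc
    rw [mul_sub, mul_smul_comm, mul_one, sub_eq_zero] at this
    rw [this, map_smul, h.comms_le_ker hz, smul_zero]

theorem comms_of_cube (h3 : J ^ 3 = ⊥) : comms k A = ⊥ :=
  eq_bot_iff.2 fun _ hz => h.eq_zero_of_mem_comms hz fun _ hb =>
    (mem_bot k).1 (h3 ▸ mul_mem_pow_succ (h.comms_le_sq hz) hb)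

theorem le_of_le_sup {C : Submodule k A} (hC : C * C ≤ C) (hCJ : C ≤ J) (hJ : J ≤ C ⊔ J ^ 2) :
    J ≤ C := by
  obtain ⟨N, hN⟩ := h.nil
  have : ∀ m, J ≤ C ⊔ J ^ (m + 2) := fun m => by
    induction m with
    | zero => exact hJ
    | succ m ih =>
      refine hJ.trans (sup_le le_sup_left ?_)
      rw [sq]
      refine (mul_le_mul' ih ih).trans ?_
      rw [Submodule.sup_mul, Submodule.mul_sup, Submodule.mul_sup]
      refine sup_le (sup_le (hC.trans le_sup_left) (le_sup_of_le_right ?_))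
        (le_sup_of_le_right (sup_le ?_ ?_))
      · exact (mul_le_mul_left hCJ _).trans (pow_succ' J _).ge
      · exact (mul_le_mul_right hCJ _).trans (pow_succ J _).ge
      · exact (pow_add J _ _).ge.trans (h.pow_le (by omega) (by omega))
  have h1 := this N
  rwa [pow_add, hN, zero_mul, zero_eq_bot, sup_bot_eq] at h1

theorem comms_of_gen {x : A} (hx : x ∈ J) (hJ : J ≤ span k {x} ⊔ J ^ 2) : comms k A = ⊥ := by
  have key : ∀ T : Subalgebra k A, x ∈ T → J ≤ T.toSubmodule := fun T hT =>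
    (h.le_of_le_sup (C := T.toSubmodule ⊓ J) (mul_le.2 fun a ha b hb =>
      ⟨T.mul_mem ha.1 hb.1, h.mul (mul_mem_mul ha.2 hb.2)⟩) inf_le_right
      (hJ.trans (sup_le_sup_right ((span_singleton_le_iff_mem _ _).2 (mem_inf.2 ⟨hT, hx⟩)) _))).trans
      inf_le_left
  have h1 := key (Subalgebra.centralizer k {x}) (by simp [Subalgebra.mem_centralizer_iff])
  have h2 := key (Subalgebra.centralizer k J) fun a ha => (h1 ha x rfl).symm
  exact eq_bot_iff.2 (h.comms_le_of fun a ha b hb => sub_eq_zero.2 (h2 hb a ha))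

omit h in
/-- If `J² / J³` is cyclic, the product `J / J² × J / J² → J² / J³` is symmetric or `J³ = J⁴`. -/
theorem cube_le_or {z : A} (hz : z ∈ J ^ 2) (hJ : J ^ 2 ≤ span k {z} ⊔ J ^ 3) :
    J ^ 3 ≤ J ^ 4 ∨ ∀ u ∈ J, ∀ v ∈ J, u * v - v * u ∈ J ^ 3 := by
  by_cases h0 : ∀ w ∈ J, z * w ∈ J ^ 4
  · refine .inl ?_
    rw [pow_succ]
    refine mul_le.2 fun a ha w hw => ?_
    obtain ⟨c, hc⟩ := mem_span_sup.1 (hJ ha)
    have := add_mem (mul_mem_pow_succ hc hw) (smul_mem _ c (h0 w hw))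
    rwa [sub_mul, smul_mul_assoc, sub_add_cancel] at this
  push Not at h0
  obtain ⟨w, hw, h0⟩ := h0
  obtain ⟨φ, h1, h2⟩ := exists_dual_map_eq_bot_of_notMem h0 inferInstance
  have h3 : ∀ a ∈ J ^ 4, φ a = 0 := fun a ha => (mem_bot k).1 (h2 ▸ mem_map_of_mem ha)
  choose! β hβ using fun u (hu : u ∈ J) v (hv : v ∈ J) => mem_span_sup.1 (hJ (mul_mem_sq hu hv))
  have h4 : ∀ u ∈ J, ∀ v ∈ J, β u v * φ (z * w) = β v w * φ (u * z) := fun u hu v hv => by
    have e1 := h3 _ (mul_mem_pow_succ (hβ u hu v hv) hw)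
    have e2 := h3 _ (mul_mem_pow_succ' hu (hβ v hv w hw))
    rw [sub_mul, smul_mul_assoc, map_sub, map_smul, sub_eq_zero] at e1
    rw [mul_sub, mul_smul_comm, map_sub, map_smul, sub_eq_zero, ← mul_assoc] at e2
    exact e1.symm.trans e2
  refine .inr fun u hu v hv => ?_
  have h5 : β u v = β v u := by
    refine mul_right_cancel₀ (mul_ne_zero h1 h1) ?_
    linear_combination φ (z * w) * h4 u hu v hv + φ (u * z) * h4 v hv w hw -
      φ (z * w) * h4 v hv u hu - φ (v * z) * h4 u hu w hw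
  have := sub_mem (hβ u hu v hv) (hβ v hv u hu)
  rwa [h5, sub_sub_sub_cancel_right] at this

theorem comms_le_of_gens {x y : A} (hx : x ∈ J) (hy : y ∈ J)
    (hJ : J ≤ span k {x} ⊔ (span k {y} ⊔ J ^ 2)) :
    comms k A ≤ span k {x * y - y * x} ⊔ J ^ 3 := h.comms_le_of fun a ha b hb => by
  obtain ⟨a₁, h1⟩ := mem_span_sup.1 (hJ ha)
  obtain ⟨a₂, h2⟩ := mem_span_sup.1 h1
  obtain ⟨b₁, h3⟩ := mem_span_sup.1 (hJ hb)
  obtain ⟨b₂, h4⟩ := mem_span_sup.1 h3
  have hb' := add_mem (smul_mem _ b₁ hx) (smul_mem _ b₂ hy)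
  refine mem_span_sup.2 ⟨a₁ * b₂ - a₂ * b₁, ?_⟩
  convert add_mem (sub_mem (mul_mem_pow_succ h2 hb') (mul_mem_pow_succ' hb' h2))
    (sub_mem (mul_mem_pow_succ' ha h4) (mul_mem_pow_succ h4 ha)) using 1
  simp only [mul_sub, sub_mul, mul_add, add_mul, mul_smul_comm, smul_mul_assoc, smul_sub, smul_add,
    sub_smul, smul_smul]
  module

variable [FiniteDimensional k A]

theorem finrank_comms : finrank k (comms k A) + finrank k (Subalgebra.center k A) = finrank k A := by
  let B : LinearMap.BilinForm k A := (LinearMap.mul k A).compr₂ s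
  have h1 := B.finrank_add_finrank_orthogonal' (comms k A)
  have h2 : B.ker = ⊥ := eq_bot_iff.2 fun a ha => h.nd a fun b => LinearMap.congr_fun ha b
  have h3 : B.orthogonal (comms k A) = (Subalgebra.center k A).toSubmodule := by
    ext z
    rw [Subalgebra.mem_toSubmodule, Subalgebra.mem_center_iff]
    constructor
    · intro hz b
      refine sub_eq_zero.1 (h.nd _ fun a => ?_)
      have : s ((a * b - b * a) * z) = 0 := hz _ (sub_mem_comms a b)
      rw [sub_mul, map_sub] at this ⊢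
      rwa [h.tr _ a, ← mul_assoc, mul_assoc z, h.tr z]
    · intro hz a ha
      refine h.comms_le_ker (?_ : a * z ∈ comms k A)
      refine (comms_le (W := (comms k A).comap (LinearMap.mulRight k z))).2 (fun a b => ?_) ha
      rw [mem_comap, LinearMap.mulRight_apply, sub_mul, mul_assoc, mul_assoc b, hz a, ← mul_assoc b]
      exact sub_mem_comms a (b * z)
  rwa [h2, inf_bot_eq, finrank_bot, add_zero, h3] at h1

theorem finrank_rad [Nontrivial A] : finrank k J + 1 ≤ finrank k A := by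
  refine finrank_lt fun e => ?_
  obtain ⟨N, hN⟩ := h.nil
  have := pow_mem_pow J (e ▸ mem_top : (1 : A) ∈ J) N
  rw [hN, one_pow] at this
  exact one_ne_zero ((mem_bot k).1 this)

theorem sup_le_of_finrank {W : Submodule k A} (hW : comms k A ≤ W) {n : ℕ}
    (hn : J ^ (n + 1) ≠ ⊥) (hle : J ^ (n + 1) ≤ W)
    (hr : finrank k W ≤ finrank k (comms k A) + 1) : W ≤ comms k A ⊔ J ^ (n + 1) := by
  obtain ⟨w, hw, h0⟩ := h.exists_ne_zero hn
  refine (eq_of_le_of_finrank_le (sup_le hW hle) (hr.trans (finrank_lt_finrank_of_lt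
    (lt_of_le_of_ne le_sup_left fun e => h0 (h.comms_le_ker ?_))))).ge
  exact e ▸ mem_sup_right hw

theorem finrank_comms_lt {n : ℕ} (hn : J ^ (n + 1) ≠ ⊥) {W : Submodule k A} (hW : comms k A ≤ W)
    (hle : J ^ (n + 1) ≤ W) : finrank k (comms k A) < finrank k W := by
  obtain ⟨w, hw, h0⟩ := h.exists_ne_zero hn
  exact finrank_lt_finrank_of_lt (lt_of_le_of_ne hW fun e => h0 (h.comms_le_ker (e ▸ hle hw)))

/-- A symmetric local algebra whose centre has dimension at most four is commutative. -/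
theorem comms_of_center (hZ : finrank k (Subalgebra.center k A) ≤ 4) : comms k A = ⊥ := by
  by_contra h0
  have : Nontrivial A := by
    by_contra h1
    rw [not_nontrivial_iff_subsingleton] at h1
    exact h0 (Subsingleton.elim _ _)
  have h3 := mt h.comms_of_cube h0
  have h1 := h.finrank_comms
  have h2 := h.finrank_rad
  have h4 := h.finrank_comms_lt h3 h.comms_le_sq (h.pow_succ_le 1)
  have h5 : ¬ finrank k J ≤ finrank k (J ^ 2 : Submodule k A) + 1 := fun h5 => by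
    obtain ⟨x, hx, h6⟩ := exists_le_span_sup h.sq_le h5
    exact h0 (h.comms_of_gen hx h6)
  obtain ⟨x, hx, y, hy, h6⟩ := exists_le_span_sup₂ h.sq_le (by omega)
  have h7 := h.sup_le_of_finrank h.comms_le_sq h3 (h.pow_succ_le 1) (by omega)
  rcases cube_le_or (h.comms_le_sq (sub_mem_comms x y))
    (h7.trans (sup_le (h.comms_le_of_gens hx hy h6) le_sup_right)) with h8 | h8
  · exact h3 (h.pow_bot_of_le h8)
  · have h9 := h.pow_bot_of_le (h7.trans (sup_le (h.comms_le_of h8) le_rfl))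
    exact h3 (le_bot_iff.1 ((h.pow_succ_le 1).trans h9.le))

end SymLoc

end Cfsg.Agent.Block
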