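import Mathlib
import Cfsg.Agent.Block.OT
import Cfsg.Agent.Block.Cyc3
import Cfsg.Agent.Block.SymLoc

/-! The basic algebra of a block with one Brauer character. -/

namespace Cfsg.Agent.Block

open Cfsg Cfsg.Agent.Char MonoidAlgebra Subgroup Module
open scoped _root_.Classical ComplexConjugate

section Corner

variable (k : Type*) {A : Type*} [Field k] [Ring A] [Algebra k A]

/-- The corner `jAj`. -/
def cornerS (j : A) : NonUnitalSubalgebra k A where
  carrier := {x | j * x = x ∧ x * j = x}
  add_mem' ha hb := ⟨by rw [mul_add, ha.1, hb.1], by rw [add_mul, ha.2, hb.2]⟩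
  zero_mem' := ⟨mul_zero j, zero_mul j⟩
  mul_mem' ha hb := ⟨by rw [← mul_assoc, ha.1], by rw [mul_assoc, hb.2]⟩
  smul_mem' c x hx := ⟨by rw [mul_smul_comm, hx.1], by rw [smul_mul_assoc, hx.2]⟩

/-- The corner `jAj` as an algebra with unit `j`. -/
def Cor {j : A} (_ : j * j = j) : Type _ := cornerS k j

variable {j : A} (hj : j * j = j)

instance : Ring (Cor k hj) :=
  { (inferInstance : NonUnitalRing (cornerS k j)) with
    one := ⟨j, hj, hj⟩
    one_mul := fun x => Subtype.ext x.2.1
    mul_one := fun x => Subtype.ext x.2.2 }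

instance : Module k (Cor k hj) := inferInstanceAs (Module k (cornerS k j))

instance : Algebra k (Cor k hj) :=
  Algebra.ofModule (fun c x y => Subtype.ext (smul_mul_assoc c x.1 y.1))
    fun c x y => Subtype.ext (mul_smul_comm c x.1 y.1)

/-- The inclusion of the corner. -/
def Cor.val : Cor k hj →ₗ[k] A where
  toFun x := x.1
  map_add' _ _ := rfl
  map_smul' _ _ := rfl

/-- The element `jxj` of the corner. -/
def Cor.mk (x : A) : Cor k hj :=
  ⟨j * x * j, by rw [← mul_assoc, ← mul_assoc, hj], by rw [mul_assoc, hj]⟩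

variable {k hj}

theorem Cor.val_mul (x y : Cor k hj) : val k hj (x * y) = val k hj x * val k hj y := rfl

theorem Cor.val_one : val k hj 1 = j := rfl

theorem Cor.val_mk (x : A) : val k hj (mk k hj x) = j * x * j := rfl

theorem Cor.left (x : Cor k hj) : j * val k hj x = val k hj x := x.2.1

theorem Cor.right (x : Cor k hj) : val k hj x * j = val k hj x := x.2.2

theorem Cor.val_injective : Function.Injective (val k hj) := Subtype.val_injective

instance [FiniteDimensional k A] : FiniteDimensional k (Cor k hj) :=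
  .of_injective _ Cor.val_injective

theorem Cor.range_val :
    LinearMap.range (val k hj) = LinearMap.range (LinearMap.mulLeftRight k (j, j)) := by
  ext x
  exact ⟨fun ⟨y, hy⟩ => ⟨x, by rw [LinearMap.mulLeftRight_apply, ← hy, left, right]⟩,
    fun ⟨y, hy⟩ => ⟨mk k hj y, hy⟩⟩

theorem Cor.symLoc {E : Type*} [Ring E] [Algebra k E] (π : A →ₐ[k] E)
    (hπ : IsNilpotent (RingHom.ker π)) (h1 : ∀ x, ∃ c : k, π (j * x * j) = c • π j)
    {s : A →ₗ[k] k} (htr : ∀ a b, s (a * b) = s (b * a))
    (hnd : ∀ a, (∀ b, s (a * b) = 0) → a = 0) :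
    SymLoc (LinearMap.ker (π.toLinearMap ∘ₗ val k hj)) (s ∘ₗ val k hj) where
  tr a b := htr _ _
  nd a h := val_injective (hnd _ fun b => by
    have := h (mk k hj b)
    rwa [LinearMap.comp_apply, val_mul, val_mk, ← mul_assoc, ← mul_assoc, right, htr, ← mul_assoc,
      left] at this)
  dec a := by
    obtain ⟨c, hc⟩ := h1 (val k hj a)
    rw [left, right] at hc
    exact ⟨c, by simp [hc, val_one]⟩
  mul := Submodule.mul_le.2 fun a ha b _ => by
    rw [LinearMap.mem_ker, LinearMap.comp_apply, val_mul, AlgHom.toLinearMap_apply, map_mul,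
      show π (val k hj a) = 0 from ha, zero_mul]
  nil := by
    obtain ⟨N, hN⟩ := hπ
    have : ∀ n, ∀ x ∈ LinearMap.ker (π.toLinearMap ∘ₗ val k hj) ^ (n + 1),
        val k hj x ∈ RingHom.ker π ^ (n + 1) := fun n => by
      induction n with
      | zero => simp [Submodule.pow_one]
      | succ n ih =>
        intro x hx
        rw [pow_succ] at hx
        refine Submodule.mul_induction_on hx (fun a ha b hb => ?_) fun a b ha hb => ?_
        · rw [Submodule.pow_succ]
          exact Ideal.mul_mem_mul (ih a ha) hb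
        · exact add_mem ha hb
    refine ⟨N + 1, eq_bot_iff.2 fun x hx => val_injective ?_⟩
    have h2 := this N x hx
    rwa [Submodule.pow_succ, hN, Submodule.zero_eq_bot, Ideal.bot_mul] at h2

/-- The centre of the corner at a full idempotent embeds in the centre. -/
theorem Cor.exists_center {η : A} (hη : ∀ y, Commute η y) (h1 : η * j = j) {n : ℕ}
    {a b : Fin n → A} (h : ∑ i, a i * j * b i = η) :
    ∃ T : Subalgebra.center k (Cor k hj) →ₗ[k] A, Function.Injective T ∧
      (∀ z y, Commute (T z) y) ∧ ∀ z, η * T z = T z := by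
  let T : Cor k hj →ₗ[k] A := (∑ i, LinearMap.mulLeftRight k (a i, b i)) ∘ₗ val k hj
  have hT : ∀ z, T z = ∑ i, a i * val k hj z * b i := fun z => by simp [T]
  have hc : ∀ (z : Subalgebra.center k (Cor k hj)) (y : A),
      j * y * val k hj z = val k hj z * y * j := fun z y => by
    have := congrArg (val k hj) (Subalgebra.mem_center_iff.1 z.2 (mk k hj y))
    rwa [val_mul, val_mul, val_mk, mul_assoc _ j, left, ← mul_assoc, ← mul_assoc, right] at this
  have hL : ∀ (z : Cor k hj) x y, η * (x * val k hj z * y) = x * val k hj z * y := fun z x y => by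
    rw [← mul_assoc, ← mul_assoc, (hη x).eq, mul_assoc x, ← left z, ← mul_assoc η, h1]
  have hR : ∀ (z : Cor k hj) x y, x * val k hj z * y * η = x * val k hj z * y := fun z x y => by
    rw [← (hη _).eq, hL]
  have h2 : ∀ z : Subalgebra.center k (Cor k hj), j * T z = val k hj z := fun z => by
    have := hR z 1 1
    rw [one_mul, mul_one, ← h, Finset.mul_sum] at this
    rw [← this]
    simp only [hT, Finset.mul_sum, ← mul_assoc, hc]
  refine ⟨T ∘ₗ (Subalgebra.val _).toLinearMap, fun z z' e => Subtype.ext (val_injective ?_),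
    fun z y => ?_, fun z => ?_⟩
  · rw [← h2, ← h2]
    exact congrArg (j * ·) e
  · change T z * y = y * T z
    calc T z * y = ∑ i, ∑ l, a i * (val k hj z * (b i * y * a l) * j) * b l := by
          rw [hT, Finset.sum_mul]
          refine Finset.sum_congr rfl fun i _ => ?_
          rw [mul_assoc, ← hR, ← h, Finset.mul_sum]
          simp only [mul_assoc]
      _ = y * T z := by
          rw [Finset.sum_comm, hT, Finset.mul_sum]
          refine Finset.sum_congr rfl fun l _ => ?_
          rw [← mul_assoc, ← mul_assoc, ← hL, ← h, Finset.sum_mul]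
          simp only [← hc, mul_assoc]
  · change η * T z = T z
    simp only [hT, Finset.mul_sum, hL]

end Corner

variable {G : Type*} [Group G] [Finite G] {p : ℕ} {M : Ideal AlgInt} {B : Set (IrrCharacter G)}

theorem linearIndependent_of_redG {ι : Type*} [Finite ι] {z : ι → MonoidAlgebra ℂ G}
    (hz : ∀ i, IsV M (z i)) (hli : LinearIndependent (F M) fun i => redG M (z i)) :
    LinearIndependent ℂ z := by
  have := Fintype.ofFinite ι
  rw [Fintype.linearIndependent_iff]
  intro c h2 i₁
  by_contra h1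
  obtain ⟨i₀, -, hi₀⟩ := Finset.exists_max_image Finset.univ (fun i => val M (c i))
    ⟨i₁, Finset.mem_univ _⟩
  have h0 : c i₀ ≠ 0 := by
    intro h
    have := hi₀ i₁ (Finset.mem_univ _)
    rw [h, map_zero, le_zero_iff, map_eq_zero] at this
    exact h1 this
  have hm : ∀ i, c i / c i₀ ∈ V M := fun i => by
    rw [mem_V_iff, map_div₀]
    exact div_le_one_of_le₀ (hi₀ i (Finset.mem_univ _)) zero_le
  have h3 : ∑ i, (c i / c i₀) • z i = 0 := by
    simp only [div_eq_inv_mul, mul_smul]
    rw [← Finset.smul_sum, h2, smul_zero]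
  have h4 := congrArg (redG M) h3
  rw [redG_sum _ fun i _ => (hz i).smul (hm i), redG_zero] at h4
  simp only [redG_smul (hm _) (hz _)] at h4
  have := Fintype.linearIndependent_iff.1 hli _ h4 i₀
  rw [div_self h0, red_one] at this
  exact one_ne_zero this

theorem exists_linearIndependent_range {k U W : Type*} [Field k] [AddCommGroup U] [Module k U]
    [AddCommGroup W] [Module k W] [FiniteDimensional k W] (T : U →ₗ[k] W) :
    ∃ y : Fin (finrank k (LinearMap.range T)) → W, (∀ i, ∃ w, T w = y i) ∧ LinearIndependent k y :=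
  ⟨_, fun i => (finBasis k (LinearMap.range T) i).2,
    (finBasis k (LinearMap.range T)).linearIndependent.map' _ (Submodule.ker_subtype _)⟩

theorem finrank_range_red_le {T : End ℂ (MonoidAlgebra ℂ G)} {T' : End (F M) (MonoidAlgebra (F M) G)}
    (h : ∀ x, IsV M x → IsV M (T x) ∧ redG M (T x) = T' (redG M x)) :
    finrank (F M) (LinearMap.range T') ≤ finrank ℂ (LinearMap.range T) := by
  obtain ⟨y, hy, h0⟩ : ∃ y : Fin (finrank (F M) (LinearMap.range T')) → MonoidAlgebra (F M) G,
      (∀ i, ∃ w, T' w = y i) ∧ LinearIndependent (F M) y :=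
    exists_linearIndependent_range T'
  choose w hw using hy
  have h1 := linearIndependent_of_redG (z := fun i => T (liftG M (w i)))
    (fun i => (h _ (isV_liftG _)).1) (by
      convert h0 using 2 with i
      rw [(h _ (isV_liftG _)).2, redG_liftG, hw])
  rw [← Fintype.card_fin (finrank (F M) _), ← finrank_span_eq_card h1]
  exact Submodule.finrank_mono (Submodule.span_le.2 fun _ ⟨i, e⟩ => ⟨_, e⟩)

theorem finrank_monoidAlgebra (k : Type*) [Field k] :
    finrank k (MonoidAlgebra k G) = Nat.card G := finrank_eq_nat_card_basis (basis G k)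

theorem finrank_range_red {T : End ℂ (MonoidAlgebra ℂ G)} {T' : End (F M) (MonoidAlgebra (F M) G)}
    (hT : IsIdempotentElem T) (hT' : IsIdempotentElem T')
    (h : ∀ x, IsV M x → IsV M (T x) ∧ redG M (T x) = T' (redG M x)) :
    (finrank (F M) (LinearMap.range T') : ℂ) = LinearMap.trace ℂ _ T := by
  have h1 := finrank_range_red_le h
  have h2 := finrank_range_red_le (T := 1 - T) (T' := 1 - T') fun x hx =>
    ⟨hx.sub (h x hx).1, by
      rw [LinearMap.sub_apply, End.one_apply, redG_sub hx (h x hx).1, (h x hx).2]; rfl⟩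
  rw [← LinearMap.IsIdempotentElem.ker_eq_range_one_sub hT,
    ← LinearMap.IsIdempotentElem.ker_eq_range_one_sub hT'] at h2
  have h3 := T.finrank_range_add_finrank_ker
  have h4 := T'.finrank_range_add_finrank_ker
  rw [finrank_monoidAlgebra] at h3 h4
  rw [(LinearMap.IsIdempotentElem.isProj_range T hT).trace]
  congr 1
  omega

theorem trace_mulLeftRight (u v : MonoidAlgebra ℂ G) :
    LinearMap.trace ℂ _ (LinearMap.mulLeftRight ℂ (u, v)) =
      ∑ χ : IrrCharacter G, lin χ.1 u * lin χ.1 v := by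
  have := Fintype.ofFinite G
  have h0 : ∀ u v : MonoidAlgebra ℂ G, LinearMap.trace ℂ _ (LinearMap.mulLeftRight ℂ (u, v)) =
      ∑ g, (u * single g 1 * v).coeff g := fun u v => by
    rw [LinearMap.trace_eq_matrix_trace ℂ (basis G ℂ)]
    simp [Matrix.trace, LinearMap.toMatrix_apply, basis]
  rw [h0]
  induction u using MonoidAlgebra.induction_linear with
  | zero => simp
  | add x y hx hy => simp [add_mul, Finset.sum_add_distrib, ← hx, ← hy]
  | single a r =>
  induction v using MonoidAlgebra.induction_linear with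
  | zero => simp
  | add x y hx hy => simp only [mul_add, map_add, Finset.sum_add_distrib, ← hx, ← hy, coeff_add,
      Finsupp.add_apply]
  | single b t =>
  have hc : (Nat.card G : ℂ) ≠ 0 := Nat.cast_ne_zero.2 Nat.card_pos.ne'
  have h1 : ∀ χ : IrrCharacter G, χ.1 a * χ.1 b =
      (Nat.card G : ℂ)⁻¹ * ∑ x, χ.1 1 * χ.1 (x * a * x⁻¹ * b) := fun χ => by
    rw [← Finset.mul_sum, isIrr_sum_conj_mul χ.2]
    have := irr_one_ne_zero χ
    field_simp
  simp only [lin_single, mul_mul_mul_comm r _ t, h1]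
  rw [← Finset.mul_sum, ← Finset.mul_sum, Finset.sum_comm, Finset.mul_sum, Finset.mul_sum,
    ← Equiv.sum_comp (Equiv.inv G)]
  refine Finset.sum_congr rfl fun x _ => ?_
  rw [sum_irr_one_mul, single_mul_single, single_mul_single, coeff_single, Finsupp.single_apply,
    regChar]
  have : a * Equiv.inv G x * b = Equiv.inv G x ↔ x * a * x⁻¹ * b = 1 := by
    rw [Equiv.inv_apply, ← mul_eq_one_iff_eq_inv', ← mul_assoc, ← mul_assoc]
  split_ifs with h2 h3 h3
  · rw [inv_mul_cancel₀ hc, mul_one, mul_one]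
  · exact absurd (this.1 h2) h3
  · exact absurd (this.2 h3) h2
  · rw [mul_zero, mul_zero]

theorem finrank_range_idem {u v : MonoidAlgebra ℂ G} (hu : IsV M u) (hv : IsV M v)
    (huu : u * u = u) (hvv : v * v = v) :
    (finrank (F M) (LinearMap.range (LinearMap.mulLeftRight (F M) (redG M u, redG M v))) : ℂ) =
      ∑ χ : IrrCharacter G, lin χ.1 u * lin χ.1 v := by
  have key : ∀ {k : Type _} [Field k] {u v : MonoidAlgebra k G}, u * u = u → v * v = v →
      IsIdempotentElem (LinearMap.mulLeftRight k (u, v)) := fun h1 h2 => LinearMap.ext fun x => by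
    simp only [End.mul_apply, LinearMap.mulLeftRight_apply, ← mul_assoc, h1]
    rw [mul_assoc _ _ _, h2]
  rw [← trace_mulLeftRight]
  refine finrank_range_red (key huu hvv) (key (by rw [← redG_mul hu hu, huu])
    (by rw [← redG_mul hv hv, hvv])) fun x hx => ⟨(hu.mul hx).mul hv, ?_⟩
  rw [LinearMap.mulLeftRight_apply, redG_mul (hu.mul hx) hv, redG_mul hu hx]
  rfl

namespace MS

variable (S : MS M G)

theorem redG_e_mul_self (i : Fin S.S.n) : redG M (S.e i) * redG M (S.e i) = redG M (S.e i) := by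
  rw [← redG_mul (S.isV_e i) (S.isV_e i), S.e_mul_self]

/-- The endomorphism algebra of a projective indecomposable module. -/
abbrev BA (i : Fin S.S.n) : Type _ := Cor (F M) (S.redG_e_mul_self i)

theorem exists_symLoc (i : Fin S.S.n) :
    ∃ (J : Submodule (F M) (S.BA i)) (s : S.BA i →ₗ[F M] F M), SymLoc J s := by
  refine ⟨_, _, Cor.symLoc S.π S.nil (fun x => ⟨_, by
    rw [map_mul, map_mul, S.π_e, S.S.E0_mul_mul]⟩)
    (s := lin fun g => if g = 1 then 1 else 0) (fun a b => ?_) fun a h => ?_⟩
  · exact lin_mul_comm (fun g h => by simp only [mul_inv_eq_one, mul_eq_left]) a b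
  · have := Fintype.ofFinite G
    ext g
    simpa [lin_mul_single, mul_inv_eq_one] using h (single g⁻¹ 1)

theorem finrank_BA (i : Fin S.S.n) : finrank (F M) (S.BA i) = ∑ χ, S.dn χ i ^ 2 := by
  have h := finrank_range_idem (S.isV_e i) (S.isV_e i) (S.e_mul_self i) (S.e_mul_self i)
  rw [← Cor.range_val (hj := S.redG_e_mul_self i),
    LinearMap.finrank_range_of_inj Cor.val_injective] at h
  simp only [S.lin_e, ← sq] at h
  exact_mod_cast h

theorem exists_sum_eq_eB (hB : IsV M (blockIdem B)) {i : Fin S.S.n} (hi : ∀ l ∈ S.IB B, l = i) :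
    ∃ (n : ℕ) (a b : Fin n → MonoidAlgebra (F M) G), ∑ l, a l * redG M (S.e i) * b l = eB M B := by
  obtain ⟨η, hη⟩ := hB.exists_toC
  obtain ⟨n, a, b, h⟩ := S.S.induction (Φ := fun e => blockIdem B * toC M G e = toC M G e →
    ∃ (n : ℕ) (a b : Fin n → _), ∑ l, a l * S.S.ε i * b l = e)
    (fun _ => ⟨0, ![], ![], rfl⟩) (by
      rintro e f l - hf hef - ⟨a, b, hab, hba⟩ ih he
      have h1 : blockIdem B * toC M G f = toC M G f := by
        rw [← hef, map_mul, ← mul_assoc, he]
      obtain ⟨n, a', b', h2⟩ := ih (by rw [map_sub, mul_sub, he, h1])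
      have h3 : S.S.ε l = b * f * a := by
        rw [← S.S.ε_mul_self, ← hba, ← hab]
        simp only [mul_assoc]
      obtain rfl := hi l (S.mem_IB.2 (by
        rw [MS.e, h3, map_mul, map_mul, ← mul_assoc, ← mul_assoc,
          (isCentral_blockIdem B).commute _, mul_assoc (toC M G b), h1]))
      refine ⟨n + 1, Fin.cons a a', Fin.cons b b', ?_⟩
      simp only [Fin.sum_univ_succ, Fin.cons_zero, Fin.cons_succ, h2]
      rw [← hba, ← mul_assoc, mul_assoc _ a, hab, hf, add_sub_cancel]) (e := η)
    (toC_injective (by rw [map_mul, hη, blockIdem_mul_self])) (by rw [hη, blockIdem_mul_self])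
  refine ⟨n, fun l => toF M G (a l), fun l => toF M G (b l), ?_⟩
  rw [eB, ← hη, redG_toC, ← h, MS.e, redG_toC]
  simp only [map_sum, map_mul]

theorem finrank_center_BA (hB : IsV M (blockIdem B)) {i : Fin S.S.n} (hi : S.IB B = {i}) :
    finrank (F M) (Subalgebra.center (F M) (S.BA i)) ≤ Nat.card B := by
  obtain ⟨n, a, b, h⟩ := S.exists_sum_eq_eB hB fun l hl => Finset.mem_singleton.1 (hi ▸ hl)
  obtain ⟨T, h1, h2, h3⟩ := Cor.exists_center (k := F M) (hj := S.redG_e_mul_self i)
    (isCentral_eB B).commute (by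
      rw [eB, ← redG_mul hB (S.isV_e i), S.mem_IB.1 (hi ▸ Finset.mem_singleton_self i)]) h
  simpa using card_le_card_block hB ((finBasis (F M) _).linearIndependent.map' T
    (LinearMap.ker_eq_bot.2 h1)) (fun l => isCentral_iff_commute.2 (h2 _)) fun l => h3 _

theorem irr_regular_of_single (hM : IsPModular p M) (hB : IsV M (blockIdem B)) {i : Fin S.S.n}
    (hi : S.IB B = {i}) {χ : IrrCharacter G} (hχ : χ ∈ B) {g : G} (hg : ¬ p ∣ orderOf g) :
    χ.1 g = S.dn χ i * S.φ i g := by
  rw [S.irr_regular hM hB hχ hg, hi, Finset.sum_singleton]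

theorem dn_pos (hM : IsPModular p M) (hB : IsV M (blockIdem B)) {i : Fin S.S.n}
    (hi : S.IB B = {i}) {χ : IrrCharacter G} (hχ : χ ∈ B) : 0 < S.dn χ i :=
  Nat.pos_of_ne_zero fun h => irr_one_ne_zero χ (by
    rw [S.irr_regular_of_single hM hB hi hχ (one_regular hM.1), h, Nat.cast_zero, zero_mul])

theorem finrank_BA_eq {i : Fin S.S.n} (hi : i ∈ S.IB B) :
    finrank (F M) (S.BA i) = ∑ χ with χ ∈ B, S.dn χ i ^ 2 := by
  rw [S.finrank_BA, Finset.sum_filter]
  refine Finset.sum_congr rfl fun χ _ => ?_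
  split_ifs with h
  · rfl
  · rw [S.dn_of_notMem h hi, zero_pow two_ne_zero]

theorem unif_of_comms (hM : IsPModular p M) (hB : IsV M (blockIdem B)) {i : Fin S.S.n}
    (hi : S.IB B = {i}) (h : comms (F M) (S.BA i) = ⊥) : Unif p B := by
  have h1 := S.finrank_center_BA hB hi
  have h2 : Subalgebra.center (F M) (S.BA i) = ⊤ := eq_top_iff.2 fun z _ =>
    Subalgebra.mem_center_iff.2 fun b => sub_eq_zero.1 (comms_le.1 h.le b z)
  rw [h2, Subalgebra.topEquiv.toLinearEquiv.finrank_eq,
    S.finrank_BA_eq (hi ▸ Finset.mem_singleton_self i), 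
    Nat.subtype_card (Finset.univ.filter (· ∈ B)) (by simp), Finset.card_eq_sum_ones] at h1
  have h3 := fun χ (hχ : χ ∈ Finset.univ.filter (· ∈ B)) =>
    Nat.one_le_pow 2 _ (S.dn_pos hM hB hi (Finset.mem_filter.1 hχ).2)
  have h4 := fun χ (hχ : χ ∈ B) => Nat.pow_eq_one.1 ((Finset.sum_eq_sum_iff_of_le h3).1
    (le_antisymm (Finset.sum_le_sum h3) h1) χ (by simpa using hχ)).symm
  intro χ hχ ψ hψ g hg
  rw [S.irr_regular_of_single hM hB hi hχ hg, S.irr_regular_of_single hM hB hi hψ hg,
    (h4 χ hχ).resolve_right two_ne_zero, (h4 ψ hψ).resolve_right two_ne_zero]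

end MS

theorem unif_of_card_le_four (hM : IsPModular p M) (hB : IsPBlock M B) (hl : blockRank p B = 1)
    (hk : Nat.card B ≤ 4) : Unif p B := by
  obtain ⟨S⟩ := exists_ms M G
  have hV := isV_blockIdem hM hB
  obtain ⟨i, hi⟩ := Finset.card_eq_one.1 ((S.blockRank_eq hM hV).symm.trans hl)
  obtain ⟨J, s, h⟩ := S.exists_symLoc i
  exact S.unif_of_comms hM hV hi (h.comms_of_center ((S.finrank_center_BA hV hi).trans hk))

end Cfsg.Agent.Block
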