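import Mathlib
import Cfsg.Agent.Block.SmallDeg
import Cfsg.Agent.Char.IndTI
import Cfsg.Agent.S1230

/-!
Groups with a self-centralising Sylow subgroup of prime order: the action on the conjugates.
-/

namespace Cfsg.Agent.Block

open Cfsg Cfsg.Agent.Char Subgroup MulAction
open scoped _root_.Classical ComplexConjugate MatrixGroups

variable {G : Type*} [Group G] {p : ℕ} {P : Subgroup G}

theorem smul_coe_eq_iff {H : Subgroup G} {y g : G} :
    y • (g : G ⧸ H) = g ↔ g⁻¹ * y * g ∈ H := by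
  rw [MulAction.Quotient.smul_coe, eq_comm, QuotientGroup.eq, smul_eq_mul, mul_assoc]

theorem smul_one_eq_iff {H : Subgroup G} {y : G} : y • ((1 : G) : G ⧸ H) = (1 : G) ↔ y ∈ H := by
  rw [smul_coe_eq_iff, inv_one, one_mul, mul_one]

theorem card_conj_mem (H : Subgroup G) (y : G) :
    Nat.card {g // g⁻¹ * y * g ∈ H} = Nat.card H * Nat.card (fixedBy (G ⧸ H) y) := by
  rw [← QuotientGroup.card_preimage_mk]
  exact Nat.card_congr (Equiv.subtypeEquivRight fun g => smul_coe_eq_iff.symm)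

theorem card_fixedBy_conj (X : Type*) [MulAction G X] (g y : G) :
    Nat.card (fixedBy X (g * y * g⁻¹)) = Nat.card (fixedBy X y) :=
  Nat.card_congr ((MulAction.toPerm g⁻¹).subtypeEquiv fun x => by
    simp only [mem_fixedBy, toPerm_apply, mul_smul, ← eq_inv_smul_iff])

theorem sq_eq_one_of_index {A : Type*} [Group A] [Finite A] {H : Subgroup A} (h3 : 3 ≤ H.index)
    (h : ∀ g, g ∉ H → g * g = 1) (z : A) : z * z = 1 := by
  by_cases hz : z ∉ H
  · exact h z hz
  rw [not_not] at hz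
  have := Fintype.ofFinite (A ⧸ H)
  obtain ⟨a, -, ha⟩ := Finset.exists_mem_notMem_of_card_lt_card (s := {((1 : A) : A ⧸ H)})
    (t := Finset.univ) (by rw [Finset.card_univ, Fintype.card_eq_nat_card, ← index_eq_card]; simp; omega)
  obtain ⟨g, rfl⟩ := QuotientGroup.mk_surjective a
  obtain ⟨b, -, hb⟩ := Finset.exists_mem_notMem_of_card_lt_card
    (s := {((1 : A) : A ⧸ H), (g : A ⧸ H)}) (t := Finset.univ) (by
      rw [Finset.card_univ, Fintype.card_eq_nat_card, ← index_eq_card]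
      exact Finset.card_le_two.trans_lt h3)
  obtain ⟨k, rfl⟩ := QuotientGroup.mk_surjective b
  simp only [Finset.mem_insert, Finset.mem_singleton, QuotientGroup.eq, mul_one, inv_mem_iff,
    not_or] at ha hb
  have inv : ∀ g, g ∉ H → g * z * g = z⁻¹ := fun g hg =>
    eq_inv_of_mul_eq_one_left (by
      simpa only [mul_assoc] using h (g * z) fun e => hg ((mul_mem_cancel_right hz).1 e))
  have h1 := inv _ hb.2
  have h2 := h _ hb.2
  rw [inv_eq_of_mul_eq_one_right (h k hb.1)] at h1 h2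
  have h4 : k * g = g * k := by
    rw [eq_inv_of_mul_eq_one_left h2, mul_inv_rev, inv_eq_of_mul_eq_one_right (h k hb.1),
      inv_eq_of_mul_eq_one_right (h g ha)]
  have h5 : k * (g * z * g) * k = z⁻¹ := by
    rw [← h1]; simp only [mul_assoc, ← h4]
  have h6 := congrArg (·⁻¹) (inv k hb.1)
  simp only [mul_inv_rev, inv_inv, inv_eq_of_mul_eq_one_right (h k hb.1), ← mul_assoc] at h6
  rw [inv g ha, h6] at h5
  exact mul_eq_one_iff_eq_inv.2 h5

/-- A self-centralising Sylow subgroup of order `p`. -/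
structure SC (p : ℕ) (P : Subgroup G) : Prop extends OrdP p P where
  le : centralizer (P : Set G) ≤ P

/-- Every element of `N(P) \\ P` normalises exactly `n + 1` of the `1 + n p` conjugates of `P`. -/
structure LinSp (p : ℕ) (P : Subgroup G) (n : ℕ) : Prop where
  ind : (normalizer (P : Set G)).index = 1 + n * p
  fix : ∀ y ∈ normalizer (P : Set G), y ∉ P →
    Nat.card (fixedBy (G ⧸ normalizer (P : Set G)) y) = n + 1

namespace SC

variable [Fintype G] (h : SC p P)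
include h

local notation "N" => normalizer (P : Set G)

theorem cent : centralizer (P : Set G) = P := le_antisymm h.le h.ab.comm

theorem regular {y : G} (hN : y ∈ N) (hy : y ∉ P) : ¬ p ∣ orderOf y := fun hd =>
  hy (h.le (mem_centralizer_of_le_zpowers (h.le_zpowers hd (h.ab.mem_of_normalizer
    (pp_order h.prime y) (zpowers_le.2 hN (pPart_mem_zpowers h.prime (isPPart_pp h.prime y)))))))

theorem eq_one {y u : G} (hN : y ∈ N) (hy : y ∉ P) (hu : u ∈ P) (hc : y * u = u * y) : u = 1 := by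
  by_contra h1
  exact hy (h.le (h.abFrob.frob ⟨y, hN⟩ ⟨u, hu⟩ (fun e => h1 (congrArg Subtype.val e))
    (Subtype.ext (mul_inv_eq_iff_eq_mul.2 hc))))

theorem exists_conj_eq_mul {z u : G} (hN : z ∈ N) (hz : z ∉ P) (hu : u ∈ P) :
    ∃ w ∈ P, w * z * w⁻¹ = u * z := by
  have h1 : Function.Injective fun w : P => w * (cP ⟨z, hN⟩ w)⁻¹ := by
    intro a b e
    have e' : a * (cP ⟨z, hN⟩ a)⁻¹ = b * (cP ⟨z, hN⟩ b)⁻¹ := e
    have h2 : cP ⟨z, hN⟩ (b⁻¹ * a) = b⁻¹ * a := by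
      rw [map_mul, map_inv, eq_inv_mul_iff_mul_eq, ← mul_assoc, ← e', inv_mul_cancel_right]
    exact (inv_mul_eq_one.1 (Subtype.ext (h.eq_one hN hz (b⁻¹ * a).2
      (mul_inv_eq_iff_eq_mul.1 (congrArg Subtype.val h2))))).symm
  obtain ⟨w, hw⟩ := Finite.surjective_of_injective h1 ⟨u, hu⟩
  refine ⟨w, w.2, ?_⟩
  have : (w : G) * (z * w * z⁻¹)⁻¹ = u := congrArg Subtype.val hw
  rw [← this]; group

theorem apply_mul {φ : G → ℂ} (hφ : IsClassFunction G φ) {z u : G} (hN : z ∈ N) (hz : z ∉ P)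
    (hu : u ∈ P) : φ (u * z) = φ z := by
  obtain ⟨w, -, e⟩ := h.exists_conj_eq_mul hN hz hu
  rw [← e, hφ]

theorem apply_eq_zero {χ : G → ℂ} (hχ : IsCharacter G χ) (h0 : fx P χ = 0) {z : G} (hN : z ∈ N)
    (hz : z ∉ P) : χ z = 0 := by
  have := sum_mul_eq_zero_of_fx hχ h0 z
  rw [Finset.sum_congr rfl fun u _ => h.apply_mul (isChar_classFun hχ) hN hz u.2] at this
  simpa using this

theorem exists_gen : ∃ y ∈ N, ∀ z ∈ N, ∃ (j : ℤ), ∃ u ∈ P, z = u * y ^ j := by
  obtain ⟨q, hq⟩ := (isCyclic_normalizer_quot h.prime h.card).1.exists_generator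
  obtain ⟨y, rfl⟩ := QuotientGroup.mk_surjective q
  refine ⟨y, y.2, fun z hz => ?_⟩
  obtain ⟨j, hj⟩ := hq (⟨z, hz⟩ : N)
  have : (y ^ j)⁻¹ * ⟨z, hz⟩ ∈ (centralizer (P : Set G)).subgroupOf N := QuotientGroup.eq.1 hj
  refine ⟨j, z * ((y : G) ^ j)⁻¹, ?_, by simp⟩
  have h2 := (mem_normalizer_iff.1 (zpow_mem y.2 j) _).1 (h.le (mem_subgroupOf.1 this))
  simpa using h2

omit h in
theorem _root_.Cfsg.Agent.Block.OrdP.mem_of_conj_mem (h : OrdP p P) {x g : G} (hx : x ∈ P)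
    (h1 : x ≠ 1) (hg : g⁻¹ * x * g ∈ N) : g ∈ N := by
  have h2 : g⁻¹ * x * g⁻¹⁻¹ ∈ P := h.ab.mem_of_normalizer (by
    rw [show orderOf (g⁻¹ * x * g⁻¹⁻¹) = orderOf x from (MulAut.conj g⁻¹).orderOf_eq x]
    exact exists_orderOf_eq_pow_of_mem h.prime h.ab.pg hx) (by rwa [inv_inv])
  exact inv_mem_iff.1 (mem_normalizer_of_le_zpowers (eq_zpowers_of_card_prime h.prime h.card hx h1).le
    (eq_zpowers_of_card_prime h.prime h.card h2 fun e => h1 (conj_eq_one_iff.1 e)).le)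

omit h in
theorem _root_.Cfsg.Agent.Block.OrdP.one_of_smul_eq (h : OrdP p P) {x : G} (hx : x ∈ P)
    {ω : G ⧸ N} (hω : ω ≠ (1 : G)) (e : x • ω = ω) : x = 1 := by
  obtain ⟨g, rfl⟩ := QuotientGroup.mk_surjective ω
  by_contra h1
  exact hω (QuotientGroup.eq.2 (by simpa using h.mem_of_conj_mem hx h1 (smul_coe_eq_iff.1 e)))

theorem card_fixedBy_sing {g : G} (hg : p ∣ orderOf g) : Nat.card (fixedBy (G ⧸ N) g) = 1 := by
  obtain ⟨u, x, y, hx, hy, e⟩ := h.exists_conj_eq hg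
  rw [eq_one_of_isPGroup_of_not_dvd h.prime h.ab.pg (h.le y.2) (by rwa [orderOf_coe]), mul_one] at e
  rw [← card_fixedBy_conj _ u, e, Nat.card_eq_one_iff_exists]
  refine ⟨⟨(1 : G), smul_one_eq_iff.2 (le_normalizer x.2)⟩, fun ω => Subtype.ext ?_⟩
  by_contra hω
  exact hx (Subtype.ext (h.one_of_smul_eq x.2 hω ω.2))

theorem card_normalizer_zpowers {y : G} (hN : y ∈ N) (hy : y ∉ P)
    (hg : ∀ z ∈ N, ∃ (j : ℤ), ∃ u ∈ P, z = u * y ^ j) :
    Nat.card (normalizer (zpowers y : Set G)) * p = Nat.card N * Nat.card (fixedBy (G ⧸ N) y) := by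
  rw [← card_conj_mem, ← h.card, ← Nat.card_prod]
  have hr := h.regular hN hy
  refine Nat.card_eq_of_bijective (fun ku => ⟨ku.1 * ku.2, ?_⟩) ⟨?_, ?_⟩
  · have h1 := zpowers_le.2 hN ((mem_normalizer_iff''.1 ku.1.2 y).1 (mem_zpowers y))
    simpa [mul_assoc] using mul_mem (mul_mem (inv_mem (le_normalizer ku.2.2)) h1)
      (le_normalizer ku.2.2)
  · rintro ⟨k, u⟩ ⟨k', u'⟩ e
    have e' : (k : G) * u = k' * u' := congrArg Subtype.val e
    have h1 : (u : G) * (u' : G)⁻¹ = (k : G)⁻¹ * k' := by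
      rw [mul_inv_eq_iff_eq_mul, mul_assoc, ← e', inv_mul_cancel_left]
    have h2 : (u : G) * (u' : G)⁻¹ ∈ P := mul_mem u.2 (inv_mem u'.2)
    have h3 : (u : G) * (u' : G)⁻¹ ∈ normalizer (zpowers y : Set G) :=
      h1 ▸ mul_mem (inv_mem k.2) k'.2
    generalize (u : G) * (u' : G)⁻¹ = w at h1 h2 h3
    have h4 : w * y * w⁻¹ * y⁻¹ = 1 := eq_one_of_isPGroup_of_not_dvd h.prime h.ab.pg (by
      simpa [mul_assoc] using mul_mem h2 ((mem_normalizer_iff.1 hN _).1 (inv_mem h2)))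
      fun hd => hr (hd.trans (orderOf_dvd_of_mem_zpowers (mul_mem
        ((mem_normalizer_iff.1 h3 y).1 (mem_zpowers y)) (inv_mem (mem_zpowers y)))))
    have h5 : w = 1 := h.eq_one hN hy h2 (mul_inv_eq_iff_eq_mul.1 (mul_inv_eq_one.1 h4)).symm
    have h6 : k = k' := Subtype.ext (inv_mul_eq_one.1 (h1.symm.trans h5))
    subst h6
    rw [Subtype.ext (mul_left_cancel e' : (u : G) = u')]
  · rintro ⟨g, hz⟩
    obtain ⟨j, u, hu, e⟩ := hg _ hz
    have h1 : y ^ j ∉ P := fun h1 => hy (by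
      have := eq_one_of_isPGroup_of_not_dvd h.prime h.ab.pg (e ▸ mul_mem hu h1) (by
        rwa [show orderOf (g⁻¹ * y * g) = orderOf y by simpa using (MulAut.conj g⁻¹).orderOf_eq y])
      rw [show y = 1 by simpa [mul_assoc] using congrArg (fun z => g * z * g⁻¹) this]
      exact one_mem _)
    obtain ⟨w, hw, e'⟩ := h.exists_conj_eq_mul (zpow_mem hN j) h1 hu
    refine ⟨(⟨g * w, inv_mem_iff.1 (mem_normalizer_fintype ?_)⟩, ⟨w⁻¹, inv_mem hw⟩), by simp⟩
    rintro _ ⟨k, rfl⟩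
    have h2 : (g * w)⁻¹ * y * (g * w)⁻¹⁻¹ = y ^ j := by
      rw [← e] at e'
      simp only [mul_inv_rev, inv_inv]
      rw [mul_assoc w⁻¹, mul_assoc w⁻¹, ← mul_assoc (g⁻¹ * y), ← e']; group
    simp only
    rw [← conj_zpow, h2]
    exact zpow_mem (zpow_mem (mem_zpowers y) j) k

theorem card_N : Nat.card N = p * (centralizer (P : Set G)).relIndex N := by
  rw [h.cent, ← h.card, Core.card_mul_relIndex le_normalizer]

section Invol

variable {n : ℕ} (hp : p ≠ 2)
include hp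

theorem not_mem {j : G} (h2 : j * j = 1) (h1 : j ≠ 1) : j ∉ P := fun hj => by
  have h3 := orderOf_dvd_natCard P hj
  rw [orderOf_eq_prime (p := 2) (by rwa [pow_two]) h1, h.card] at h3
  exact hp ((Nat.prime_dvd_prime_iff_eq Nat.prime_two h.prime).1 h3).symm

theorem inverts {j x : G} (hN : j ∈ N) (h2 : j * j = 1) (h1 : j ≠ 1) (hx : x ∈ P) :
    j * x * j⁻¹ = x⁻¹ := by
  have h3 := (mem_normalizer_iff.1 hN x).1 hx
  refine eq_inv_of_mul_eq_one_right (h.eq_one hN (h.not_mem hp h2 h1) (mul_mem hx h3) ?_)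
  calc j * (x * (j * x * j⁻¹)) = (j * x * j⁻¹) * (j * j) * x * (j * j)⁻¹ * j := by group
    _ = _ := by rw [h2, mul_one, inv_one, mul_one, h.ab.comm h3 x hx]

theorem mul_mem' {i j : G} (hi : i ∈ N) (i2 : i * i = 1) (i1 : i ≠ 1) (hj : j ∈ N) (j2 : j * j = 1)
    (j1 : j ≠ 1) : j * i ∈ P := h.le fun x hx => by
  have h1 := h.inverts hp hj j2 j1 (inv_mem hx)
  rw [inv_inv, ← h.inverts hp hi i2 i1 hx] at h1
  exact (mul_inv_eq_iff_eq_mul.1 (show j * i * x * (j * i)⁻¹ = x by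
    conv_rhs => rw [← h1]
    group)).symm

theorem isConj {i j : G} (hi : i ∈ N) (i2 : i * i = 1) (i1 : i ≠ 1) (hj : j ∈ N) (j2 : j * j = 1)
    (j1 : j ≠ 1) : IsConj i j := by
  obtain ⟨w, -, e⟩ := h.exists_conj_eq_mul hi (h.not_mem hp i2 i1) (h.mul_mem' hp hi i2 i1 hj j2 j1)
  exact isConj_iff.2 ⟨w, by rw [e, mul_assoc, i2, mul_one]⟩

theorem eq_of_mul_eq_one {i j : G} (i2 : i * i = 1) (e : j * i = 1) : j = i := by
  rw [eq_inv_of_mul_eq_one_left e, inv_eq_of_mul_eq_one_right i2]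

theorem eq_of_commute {i j : G} (hi : i ∈ N) (i2 : i * i = 1) (i1 : i ≠ 1) (hj : j ∈ N)
    (j2 : j * j = 1) (j1 : j ≠ 1) (hc : i * j = j * i) : j = i :=
  h.eq_of_mul_eq_one hp i2 (h.eq_one hi (h.not_mem hp i2 i1) (h.mul_mem' hp hi i2 i1 hj j2 j1)
    (by rw [← mul_assoc, hc]))

theorem uniq {i j : G} (i2 : i * i = 1) (i1 : i ≠ 1) (j2 : j * j = 1) (j1 : j ≠ 1)
    {ω ω' : G ⧸ N} (hne : ω ≠ ω') (a1 : i • ω = ω) (a2 : i • ω' = ω') (b1 : j • ω = ω)
    (b2 : j • ω' = ω') : j = i := by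
  obtain ⟨g, rfl⟩ := QuotientGroup.mk_surjective ω
  have c : ∀ {i : G}, i * i = 1 → g⁻¹ * i * g * (g⁻¹ * i * g) = 1 := fun {i} i2 => by
    simp [mul_assoc, ← mul_assoc i i, i2]
  have d : ∀ {i : G}, i ≠ 1 → g⁻¹ * i * g ≠ 1 := fun {i} i1 e =>
    i1 (conj_eq_one_iff.1 (by rwa [inv_inv]))
  have h1 := h.one_of_smul_eq (h.mul_mem' hp (smul_coe_eq_iff.1 a1) (c i2) (d i1)
    (smul_coe_eq_iff.1 b1) (c j2) (d j1)) (ω := g⁻¹ • ω') (fun e => hne (by
      rw [inv_smul_eq_iff.1 e, MulAction.Quotient.smul_coe, smul_eq_mul, mul_one])) (by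
      simp only [mul_smul, smul_inv_smul, a2, b2])
  simpa using h.eq_of_mul_eq_one hp (c i2) h1

variable (hL : LinSp p P n)
include hL

theorem card_fix {j : G} (j2 : j * j = 1) (j1 : j ≠ 1) {ω : G ⧸ N} (e : j • ω = ω) :
    Nat.card (fixedBy (G ⧸ N) j) = n + 1 := by
  obtain ⟨g, rfl⟩ := QuotientGroup.mk_surjective ω
  rw [← card_fixedBy_conj _ g⁻¹, inv_inv]
  exact hL.fix _ (smul_coe_eq_iff.1 e) (h.not_mem hp (j := g⁻¹ * j * g)
    (by simp [mul_assoc, ← mul_assoc j j, j2]) fun e => j1 (conj_eq_one_iff.1 (by rwa [inv_inv])))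

theorem exists_fix {i : G} (hi : i ∈ N) (i2 : i * i = 1) (i1 : i ≠ 1) {ω ω' : G ⧸ N}
    (hne : ω ≠ ω') : ∃ j, IsConj i j ∧ j • ω = ω ∧ j • ω' = ω' := by
  have key : ∀ ω : G ⧸ N, ω ≠ (1 : G) → ∃ u ∈ P, (u * i * u⁻¹) • ω = ω := by
    have hP : ∀ u : P, (u : G) • ((1 : G) : G ⧸ N) = (1 : G) := fun u =>
      smul_one_eq_iff.2 (le_normalizer u.2)
    let F : P × {ω : fixedBy (G ⧸ N) i // ω ≠ ⟨(1 : G), smul_one_eq_iff.2 hi⟩} →
        {ω : G ⧸ N // ω ≠ (1 : G)} := fun a => ⟨(a.1 : G) • a.2.1.1, fun e =>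
      a.2.2 (Subtype.ext (smul_left_cancel (a.1 : G) (e.trans (hP _).symm)))⟩
    have hF : Function.Bijective F := by
      rw [Nat.bijective_iff_injective_and_card]
      constructor
      · rintro ⟨u, ⟨ω, h1⟩, h2⟩ ⟨u', ⟨ω', h1'⟩, h2'⟩ e
        have e' : (u : G) • ω = (u' : G) • ω' := congrArg Subtype.val e
        have h3 : ω' = ((u'⁻¹ * u : P) : G) • ω := by
          rw [coe_mul, mul_smul, e', coe_inv, inv_smul_smul]
        generalize hw : u'⁻¹ * u = w at h3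
        have h4 : (w : G) * i * (w : G)⁻¹ = i := h.uniq hp i2 i1
          (by simp [mul_assoc, ← mul_assoc i i, i2]) (fun e => i1 (conj_eq_one_iff.1 e))
          (ω := (1 : G)) (ω' := ω') (fun e => h2' (Subtype.ext e.symm)) (smul_one_eq_iff.2 hi) h1'
          (smul_one_eq_iff.2 (mul_mem (mul_mem (le_normalizer w.2) hi) (inv_mem (le_normalizer w.2))))
          (by rw [h3, mul_smul, inv_smul_smul, mul_smul, show i • ω = ω from h1])
        have h5 : w = 1 := Subtype.ext (h.eq_one hi (h.not_mem hp i2 i1) w.2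
          (mul_inv_eq_iff_eq_mul.1 h4).symm)
        subst h5
        obtain rfl := inv_mul_eq_one.1 hw
        obtain rfl : ω' = ω := by simpa using h3
        rfl
      · rw [Nat.card_prod, h.card]
        have h1 := hL.fix i hi (h.not_mem hp i2 i1)
        have hv := hL.ind
        rw [index_eq_card] at hv
        have := Fintype.ofFinite (G ⧸ N)
        simp only [Nat.card_eq_fintype_card, Fintype.card_subtype_compl, Fintype.card_unique]
          at hv h1 ⊢
        rw [hv, h1]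
        simp [mul_comm]
    intro ω hω
    obtain ⟨⟨u, ω', hω'⟩, e⟩ := hF.2 ⟨ω, hω⟩
    refine ⟨u, u.2, ?_⟩
    have e' : (u : G) • ω'.1 = ω := congrArg Subtype.val e
    rw [← e', mul_smul, inv_smul_smul, mul_smul,
      show i • ω'.1 = ω' from ω'.2]
  obtain ⟨g, rfl⟩ := QuotientGroup.mk_surjective ω
  obtain ⟨u, hu, e⟩ := key (g⁻¹ • ω') fun e => hne (by
    rw [inv_smul_eq_iff.1 e, MulAction.Quotient.smul_coe, smul_eq_mul, mul_one])
  refine ⟨g * (u * i * u⁻¹) * g⁻¹, isConj_iff.2 ⟨g * u, by group⟩, smul_coe_eq_iff.2 ?_, ?_⟩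
  · simpa [mul_assoc] using mul_mem (mul_mem (le_normalizer hu) hi) (inv_mem (le_normalizer hu))
  · rw [mul_smul, mul_smul, e, smul_inv_smul]

theorem centralizer_invol {i : G} (hi : i ∈ N) (i2 : i * i = 1) (i1 : i ≠ 1) {e : ℕ}
    (he : (centralizer (P : Set G)).relIndex N = e) (hte : (n + 1) * e + 1 = p) (hn : n ≠ 0) :
    (∀ j ∈ centralizer ({i} : Set G), j ∉ N → IsConj i j) ∧
      (N).relIndex (centralizer ({i} : Set G)) = n + 1 ∧
      Nat.card ((N).subgroupOf (centralizer ({i} : Set G))) = e := by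
  set A := centralizer ({i} : Set G) with hA
  have := Fintype.ofFinite (G ⧸ N)
  have sq : ∀ {j}, IsConj i j → j * j = 1 ∧ j ≠ 1 := fun {j} hj => by
    obtain ⟨c, rfl⟩ := isConj_iff.1 hj
    exact ⟨by simp [mul_assoc, ← mul_assoc i i, i2], fun e => i1 (conj_eq_one_iff.1 e)⟩
  let T : Finset (G ⧸ N) := Finset.univ.filter fun ω => ω ∉ fixedBy (G ⧸ N) i
  let S : Finset A := Finset.univ.filter fun j => j ∉ (N).subgroupOf A
  let S' : Finset A := S.filter fun j => IsConj i j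
  have h1 : ∀ ω : G ⧸ N, ∃ j : A, ω ∈ T → j ∈ S' ∧ (j : G) • ω = ω := by
    intro ω
    by_cases hω : i • ω = ω
    · exact ⟨1, fun hT => absurd hω (Finset.mem_filter.1 hT).2⟩
    obtain ⟨j, hj, e1, e2⟩ := h.exists_fix hp hL hi i2 i1 (Ne.symm hω)
    have h2 : i * j * i⁻¹ = j := h.uniq hp (sq hj).1 (sq hj).2
      (sq (hj.trans (isConj_iff.2 ⟨i, rfl⟩))).1 (sq (hj.trans (isConj_iff.2 ⟨i, rfl⟩))).2 (Ne.symm hω)
      e1 e2 (by rw [inv_eq_of_mul_eq_one_right i2, mul_smul, mul_smul, e2, ← mul_smul, i2, one_smul])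
      (by rw [mul_smul, mul_smul, inv_smul_smul, e1])
    have h3 := mul_inv_eq_iff_eq_mul.1 h2
    refine ⟨⟨j, mem_centralizer_singleton_iff.2 h3.symm⟩, fun _ => ⟨?_, e1⟩⟩
    simp only [S', S, Finset.mem_filter, Finset.mem_univ, true_and, mem_subgroupOf]
    exact ⟨fun hN => hω (h.eq_of_commute hp hi i2 i1 hN (sq hj).1 (sq hj).2 h3 ▸ e1), hj⟩
  choose f hf using h1
  have h2 : T.card ≤ (n + 1) * S'.card := by
    refine Finset.card_le_mul_card_image_of_maps_to (f := f) (fun ω hω => (hf ω hω).1) _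
      fun j hj => ?_
    rcases (T.filter fun ω => f ω = j).eq_empty_or_nonempty with e | ⟨ω, hω⟩
    · simp [e]
    have h3 := sq (Finset.mem_filter.1 hj).2
    rw [← h.card_fix hp hL h3.1 h3.2 ((Finset.mem_filter.1 hω).2 ▸
      (hf ω (Finset.mem_filter.1 hω).1).2), ← card_filter_eq_card (s := fixedBy (G ⧸ N) (j : G))
      fun _ => Iff.rfl]
    exact Finset.card_le_card fun ω hω => Finset.mem_filter.2 ⟨Finset.mem_univ _,
      (Finset.mem_filter.1 hω).2 ▸ (hf ω (Finset.mem_filter.1 hω).1).2⟩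
  have h3 : T.card + (n + 1) = 1 + n * p := by
    rw [← hL.ind, ← hL.fix i hi (h.not_mem hp i2 i1), index_eq_card, Nat.card_eq_fintype_card (α := G ⧸ N),
      ← card_filter_eq_card (s := fixedBy (G ⧸ N) i) fun _ => Iff.rfl, add_comm,
      Finset.card_filter_add_card_filter_not, Finset.card_univ]
  have h4 : (N).relIndex A ≤ n + 1 := by
    have h5 : (N).subgroupOf A = stabilizer A ((1 : G) : G ⧸ N) :=
      Subgroup.ext fun j => mem_subgroupOf.trans (smul_one_eq_iff (H := N)).symm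
    rw [relIndex, h5, index_stabilizer, ← hL.fix i hi (h.not_mem hp i2 i1), Nat.card_coe_set_eq]
    refine Set.ncard_le_ncard ?_
    rintro _ ⟨j, rfl⟩
    change i • (j : G) • ((1 : G) : G ⧸ N) = (j : G) • ((1 : G) : G ⧸ N)
    rw [← mul_smul, ← mem_centralizer_singleton_iff.1 j.2, mul_smul, smul_one_eq_iff.2 hi]
  have h5 : Nat.card ((N).subgroupOf A) ≤ e := by
    have h6 : P.subgroupOf ((N) ⊓ A) = ⊥ := eq_bot_iff.2 fun u hu => Subtype.ext
      (h.eq_one hi (h.not_mem hp i2 i1) hu (mem_centralizer_singleton_iff.1 u.2.2).symm)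
    rw [← inf_subgroupOf_right, Nat.card_congr (subgroupOfEquivOfLe inf_le_right).toEquiv,
      ← index_bot, ← h6, ← he, h.cent]
    exact relIndex_le_of_le_right inf_le_left index_ne_zero_of_finite
  have h6 : S.card + Nat.card ((N).subgroupOf A) = Nat.card ((N).subgroupOf A) * (N).relIndex A := by
    rw [relIndex, card_mul_index, add_comm, Nat.card_eq_fintype_card, Nat.card_eq_fintype_card,
      Fintype.card_subtype, ← Finset.card_univ]
    exact Finset.card_filter_add_card_filter_not _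
  have h7 : S'.card ≤ S.card := Finset.card_filter_le _ _
  have h8 : n * e ≤ S'.card := by
    refine Nat.le_of_mul_le_mul_left (c := n + 1) ?_ n.succ_pos
    nlinarith
  generalize Nat.card ((N).subgroupOf A) = c at h5 h6 ⊢
  generalize (N).relIndex A = o at h4 h6 ⊢
  have hn' := Nat.pos_of_ne_zero hn
  have he' : 0 < e := he ▸ Nat.pos_of_ne_zero index_ne_zero_of_finite
  have h9 : c = e := by
    by_contra hc
    nlinarith [show c + 1 ≤ e by omega, Nat.mul_le_mul_left c h4]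
  subst h9
  have h10 : o = n + 1 := by nlinarith
  subst h10
  have h11 : S' = S := Finset.eq_of_subset_of_card_le (Finset.filter_subset _ _) (by nlinarith)
  refine ⟨fun j hj hN => ?_, rfl, rfl⟩
  have : (⟨j, hj⟩ : A) ∈ S' := h11 ▸ Finset.mem_filter.2 ⟨Finset.mem_univ _, hN⟩
  exact (Finset.mem_filter.1 this).2

theorem sl2_case (hO : pPrimeCore p G = ⊥) {i : G} (hi : i ∈ N) (i2 : i * i = 1) (i1 : i ≠ 1)
    {e : ℕ} (he : (centralizer (P : Set G)).relIndex N = e) (hte : (n + 1) * e + 1 = p)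
    (hn : 2 ≤ n) : ∃ (m : ℕ) (F : Type) (_ : Field F) (_ : Fintype F), Fintype.card F = 2 ^ m ∧
      p = 2 ^ m + 1 ∧ 3 < p ∧ Nonempty (G ≃* PSL(2, F)) := by
  obtain ⟨h1, h2, h3⟩ := h.centralizer_invol hp hL hi i2 i1 he hte (by omega)
  set A := centralizer ({i} : Set G) with hA
  have sq : ∀ {j}, IsConj i j → j * j = 1 := fun {j} hj => by
    obtain ⟨c, rfl⟩ := isConj_iff.1 hj
    simp [mul_assoc, ← mul_assoc i i, i2]
  have h4 : ∀ z ∈ A, z * z = 1 := fun z hz => congrArg Subtype.val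
    (sq_eq_one_of_index (H := (N).subgroupOf A) (by rw [← relIndex]; omega)
      (fun g hg => Subtype.ext (sq (h1 g g.2 hg))) ⟨z, hz⟩)
  have h5 : ∀ z ∈ A, z ≠ 1 → IsConj i z := fun z hz z1 => by
    by_cases hN : z ∈ N
    · exact h.isConj hp hi i2 i1 hN (h4 z hz) z1
    · exact h1 z hz hN
  have hiA : i ∈ A := mem_centralizer_singleton_iff.2 rfl
  have h6 : e = 2 := by
    rw [← h3, Nat.card_eq_two_iff' 1]
    refine ⟨⟨⟨i, hiA⟩, hi⟩, fun e => i1 (congrArg (fun x => x.1.1) e), fun z hz => ?_⟩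
    exact Subtype.ext (Subtype.ext (h.eq_of_commute hp hi i2 i1 z.2 (h4 _ z.1.2)
      (fun e => hz (Subtype.ext (Subtype.ext e))) (mem_centralizer_singleton_iff.1 z.1.2).symm))
  subst h6
  have h7 : Nat.card A = 2 * (n + 1) := by rw [← h2, ← h3, relIndex, card_mul_index]
  have := Fact.mk Nat.prime_two
  have h8 : IsPGroup 2 A := fun z => ⟨1, Subtype.ext (by simpa [pow_two] using h4 z z.2)⟩
  have h9 : A.index = p * (2 * n + 1) := by
    have := (N).card_mul_index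
    rw [← A.card_mul_index, h7, h.card_N, he, hL.ind] at this
    refine Nat.eq_of_mul_eq_mul_left (show 0 < 2 * (n + 1) by omega) (this.symm.trans ?_)
    rw [← hte]; ring
  let T : Sylow 2 G := h8.toSylow (by
    rw [h9, Nat.prime_two.dvd_mul, ← hte]; omega)
  obtain ⟨m, hm⟩ := IsPGroup.iff_card.1 h8
  obtain ⟨F, _, _, hF, e⟩ := S1230.result T (fun hc => by
      have := Inv.card_le_two_of_cyclic_exp hc h4
      change Nat.card A ≤ 2 at this
      omega)
    (fun hc => i1 (mem_bot.1 (hO ▸ Core.le_pPrimeCore (p := p) hc (by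
      change (Nat.card A).Coprime p
      rw [hm]
      exact ((Nat.coprime_primes Nat.prime_two h.prime).2 hp.symm).pow_left m) hiA)))
    (fun s hs => by
      obtain ⟨Q, hQ⟩ := (IsPGroup.of_card (n := 1) (by
        rw [Nat.card_zpowers, hs, pow_one]) : IsPGroup 2 (zpowers s)).exists_le_sylow
      obtain ⟨g, rfl⟩ := exists_smul_eq G T Q
      obtain ⟨z, hz, rfl⟩ := hQ (mem_zpowers s)
      obtain ⟨c, hc⟩ := isConj_iff.1 ((h5 z hz (by rintro rfl; simp at hs)).trans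
        (isConj_iff.2 ⟨g, rfl⟩))
      change c * i * c⁻¹ = g * z * g⁻¹ at hc
      have key : ∀ y ∈ centralizer ({g * z * g⁻¹} : Set G), y * y = 1 := fun y hy => by
        have h10 := h4 (c⁻¹ * y * c) (mem_centralizer_singleton_iff.2 (by
          have := congrArg (fun w => c⁻¹ * w * c) (mem_centralizer_singleton_iff.1 hy)
          simpa [← hc, mul_assoc] using this))
        simpa [mul_assoc] using congrArg (fun w => c * w * c⁻¹) h10
      exact ⟨⟨⟨fun a b => Subtype.ext (Inv.commute_of_mul_self (key a a.2) (key b b.2)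
        (key _ (mul_mem a.2 b.2)))⟩⟩, fun c hc => by rw [pow_two]; exact key c hc⟩)
  exact ⟨m, F, inferInstance, inferInstance, hF.trans hm, by omega, by omega, e⟩

end Invol

end SC

end Cfsg.Agent.Block
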