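import Mathlib
import Cfsg.Agent.Block.SelfC
import Cfsg.Agent.Perm.Zass10

/-!
The theorem of Brauer and Reynolds on perfect groups with a Sylow subgroup of prime order.
-/

namespace Cfsg.Agent.Block

open Cfsg Cfsg.Agent.Char Cfsg.Agent.Char.Ind Subgroup MulAction
open scoped _root_.Classical ComplexConjugate MatrixGroups commutatorElement

variable {G : Type*} [Group G] [Fintype G] {p : ℕ} {P : Subgroup G}

/-- The divisors `≡ 1 (mod p)` of `(p - 1) (1 + n p)` are the trivial ones. -/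
def TrivDiv (p n : ℕ) : Prop := ∀ u, u * p + 1 ∣ (p - 1) * (1 + n * p) → u = 0 ∨ u = n

theorem TrivDiv.neg {n : ℕ} (h : TrivDiv p n) (hp : 1 < p) {d u : ℕ} (hu : d + 1 = u * p)
    (hd : d ∣ (p - 1) * (1 + n * p)) : d + 1 = p ∨ d = (p - 1) * (1 + n * p) := by
  obtain ⟨c, hc⟩ := hd
  obtain ⟨q, rfl⟩ : ∃ q, p = q + 1 := ⟨p - 1, by omega⟩
  rw [Nat.add_sub_cancel] at hc ⊢
  have h0 : c ≠ 0 := by rintro rfl; simp at hc; omega
  obtain ⟨k, hk⟩ : q + 1 ∣ c - 1 := by
    obtain ⟨c, rfl⟩ : ∃ c', c = c' + 1 := ⟨c - 1, by omega⟩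
    refine (Nat.dvd_add_right (Dvd.intro (1 + q * n) rfl)).1 ⟨u * (c + 1), ?_⟩
    rw [Nat.add_sub_cancel]
    nlinarith
  have h1 : c = k * (q + 1) + 1 := by rw [mul_comm]; omega
  rcases h k (by rw [← h1, Nat.add_sub_cancel, hc]; exact Dvd.intro_left _ rfl) with e | e
  · right; rw [hc, h1, e]; simp
  · left
    rw [h1, e, add_comm (n * _)] at hc
    rw [Nat.eq_of_mul_eq_mul_right (by omega) hc]

theorem trivDiv_of_not {n : ℕ} (hp : 1 < p)
    (h : ¬ ∃ k u : ℕ, 0 < k ∧ 0 < u ∧ n * (u + 1) = k * u * p + u ^ 2 + u + k) : TrivDiv p n := by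
  rintro u ⟨c, hc⟩
  by_contra hne
  push Not at hne
  obtain ⟨q, rfl⟩ : ∃ q, p = q + 1 := ⟨p - 1, by omega⟩
  rw [Nat.add_sub_cancel] at hc
  obtain ⟨w, hw⟩ : q + 1 ∣ c + 1 :=
    (Nat.dvd_add_right (Dvd.intro (u * c) rfl)).1 ⟨1 + q * n, by nlinarith⟩
  have h1 : 1 + q * n = u * c + w := Nat.eq_of_mul_eq_mul_left q.succ_pos (by nlinarith)
  obtain ⟨w, rfl⟩ : ∃ w', w = w' + 1 := ⟨w - 1, by rcases w with _ | w <;> simp at hw ⊢⟩
  have h2 : q * n = q * (u * (w + 1)) + w * (u + 1) := by nlinarith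
  obtain ⟨k, hk⟩ : ∃ k, n = u * (w + 1) + k :=
    Nat.exists_eq_add_of_le (Nat.le_of_mul_le_mul_left (c := q) (by omega) (by omega))
  have h3 : q * k = w * (u + 1) := by rw [hk] at h2; nlinarith
  refine h ⟨k, u, Nat.pos_of_ne_zero ?_, Nat.pos_of_ne_zero hne.1, by rw [hk]; nlinarith⟩
  rintro rfl
  have : w = 0 := by simpa using h3.symm
  exact hne.2 (by simp [hk, this])

theorem OrdP.not_le_of_perfect (h : OrdP p P) (hG : commutator G = ⊤) :
    ¬ normalizer (P : Set G) ≤ centralizer (P : Set G) := fun hc => by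
  have := Fact.mk h.prime
  obtain ⟨Q, K, hK, hKQ⟩ := Transfer.hasNormalPComplement_of_normalizer_le_centralizer
    (h.ab.pg.toSylow h.ind) hc
  have h1 : K.index = p := by
    rw [hKQ.symm.index_eq_card, Q.card_eq_multiplicity, h.factorization, pow_one]
  have := isCyclic_of_prime_card (α := G ⧸ K) h1
  have h2 : commutator G ≤ K := commutator_le.2 fun a _ b _ => by
    rw [← QuotientGroup.eq_one_iff, ← QuotientGroup.mk'_apply, map_commutatorElement,
      commutatorElement_eq_one_iff_mul_comm, mul_comm']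
  rw [hG, top_le_iff] at h2
  exact h.prime.one_lt.ne (by rw [← h1, h2, index_top])

theorem OrdP.not_normal_of_perfect (h : OrdP p P) (hG : commutator G = ⊤) : ¬ P.Normal := fun hn =>
  h.not_le_of_perfect hG (le_top.trans (hG ▸ commutator_le.2 fun a _ b _ => by
    have := (isCyclic_normalizer_quot h.prime h.card).1
    have ha : ∀ a, a ∈ normalizer (P : Set G) := fun a => normalizer_eq_top P ▸ mem_top a
    have h1 : ⁅(⟨a, ha a⟩ : normalizer (P : Set G)), ⟨b, ha b⟩⁆ ∈
        (centralizer (P : Set G)).subgroupOf (normalizer (P : Set G)) := by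
      rw [← QuotientGroup.eq_one_iff, ← QuotientGroup.mk'_apply, map_commutatorElement,
        commutatorElement_eq_one_iff_mul_comm, mul_comm']
    exact h1))

theorem eq_one_of_perfect (hG : commutator G = ⊤) {χ : IrrCharacter G} (h : charDegree χ.1 = 1) :
    χ = oneIrr G :=
  Subtype.ext (isIrr_eq_one_of_charKer_eq_top χ.2 (top_le_iff.1 (hG ▸ commutator_le_charKer
    (irr_isChar χ) (by rw [← irr_degree_cast, h, Nat.cast_one]))))

theorem fx_one : fx P (oneIrr G).1 = 1 := by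
  have := fx_cast (P := P) (irr_isChar (oneIrr G))
  exact_mod_cast this.trans classInner_one_one

theorem eq_sum_of_degree {D : G → ℂ} (hD : IsCharacter G D) {S : Finset (IrrCharacter G)}
    {m : IrrCharacter G → ℕ} (h1 : ∀ χ ∈ S, classInner D χ.1 = m χ)
    (h2 : charDegree D = ∑ χ ∈ S, m χ * charDegree χ.1) (g : G) :
    D g = ∑ χ ∈ S, (m χ : ℂ) * χ.1 g := by
  obtain ⟨n, h3, h4⟩ := Constit.isChar_expand_nat hD
  have h5 := congrFun h4 1
  simp only [Finset.sum_apply, Pi.smul_apply, smul_eq_mul, ← irr_degree_cast,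
    ← charDegree_cast hD] at h5
  have h6 : charDegree D = ∑ ψ, n ψ * charDegree ψ.1 := by exact_mod_cast h5
  have h7 : ∀ χ ∈ S, n χ = m χ := fun χ hχ => by exact_mod_cast (h3 χ).symm.trans (h1 χ hχ)
  rw [← Finset.sum_sdiff (Finset.subset_univ S), h2, Finset.sum_congr rfl fun χ hχ => by
    rw [← h7 χ hχ], right_eq_add, Finset.sum_eq_zero_iff] at h6
  rw [h4, Finset.sum_apply, ← Finset.sum_subset (Finset.subset_univ S)]
  · exact Finset.sum_congr rfl fun χ hχ => by simp [h7 χ hχ]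
  · intro χ _ hχ
    simp [(mul_eq_zero.1 (h6 χ (by simpa using hχ))).resolve_right (isIrr_charDegree_ne_zero χ.2)]

/-- The degree types in the principal block. -/
structure Typ (p : ℕ) (P : Subgroup G) (e t : ℕ) (δ : ℤ) (X Y : Finset (IrrCharacter G))
    (a : IrrCharacter G → ℤ) (n : ℕ) : Prop extends PW p P e t δ X Y a where
  hv : (normalizer (P : Set G)).index = 1 + n * p
  tX : ∀ χ ∈ X, χ ≠ oneIrr G → a χ = 1 ∧ fx P χ.1 = n + 1 ∨ a χ = -1 ∧ fx P χ.1 = 0
  tY : ∀ ξ ∈ Y, ξ ≠ oneIrr G → δ = -1 ∧ t * fx P ξ.1 = n + 1 ∨ δ = 1 ∧ fx P ξ.1 = 0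

variable {e t n : ℕ} {δ : ℤ} {X Y : Finset (IrrCharacter G)} {a : IrrCharacter G → ℤ}

theorem PW.typ (h : PW p P e t δ X Y a) (hG : commutator G = ⊤)
    (hv : (normalizer (P : Set G)).index = 1 + n * p) (hD : TrivDiv p n) :
    Typ p P e t δ X Y a n := by
  have hp := h.prime.one_lt
  have hn : n ≠ 0 := by
    rintro rfl
    exact h.not_normal_of_perfect hG (normalizer_eq_top_iff.1 (index_eq_one.1 (by simpa using hv)))
  have hC : (centralizer (P : Set G)).index = e * (1 + n * p) := by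
    rw [← relIndex_mul_index (centralizer_le_normalizer _), h.he, hv]
  have hte : p - 1 = t * e := by have := h.te; omega
  have hte' := h.te'
  have he := h.e_pos
  have ht := h.t_pos
  have hp' : (p : ℤ) ≠ 0 := by omega
  have tX : ∀ χ ∈ X, χ ≠ oneIrr G → a χ = 1 ∧ fx P χ.1 = n + 1 ∨ a χ = -1 ∧
      (fx P χ.1 = 0 ∨ t = 1 ∧ fx P χ.1 = e * n) := by
    intro χ hχ h1
    obtain ⟨h2, h3⟩ := h.degX hχ
    have h4 := h.dvdX hχ
    rw [hC] at h4
    have h5 : charDegree χ.1 ∣ (p - 1) * (1 + n * p) := by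
      rw [hte, mul_assoc]; exact h4.mul_left t
    refine (h.a_sign χ hχ).imp (fun e1 => ⟨e1, ?_⟩) fun e1 => ⟨e1, ?_⟩ <;> rw [e1] at h2 h3
    · obtain ⟨u, hu⟩ : ∃ u, fx P χ.1 = u + 1 := ⟨fx P χ.1 - 1, by omega⟩
      have h6 : charDegree χ.1 = u * p + 1 := by
        rw [hu] at h2; push_cast at h2; exact_mod_cast (by linarith : (charDegree χ.1 : ℤ) = u * p + 1)
      rcases hD u (h6 ▸ h5) with rfl | rfl
      · exact absurd (eq_one_of_perfect hG (by simpa using h6)) h1
      · exact hu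
    · rcases hD.neg hp (u := fx P χ.1 + 1) (by
        exact_mod_cast (by linarith : (charDegree χ.1 : ℤ) + 1 = (fx P χ.1 + 1) * p)) h5 with e2 | e2
      · left
        have : (p : ℤ) * fx P χ.1 = 0 := by rw [← e2] at h2 ⊢; push_cast at h2 ⊢; linarith
        simpa [h.prime.ne_zero] using this
      · right
        rw [e2, hte] at h4 h2
        have h6 : t = 1 := by
          have := Nat.le_of_dvd he (Nat.dvd_of_mul_dvd_mul_right (by omega) h4)
          nlinarith
        subst h6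
        push_cast at h2 hte'
        exact ⟨rfl, by exact_mod_cast mul_left_cancel₀ hp' (by linarith :
          (p : ℤ) * fx P χ.1 = p * (e * n))⟩
  have tY : ∀ ξ ∈ Y, ξ ≠ oneIrr G → δ = -1 ∧ t * fx P ξ.1 = n + 1 ∨ δ = 1 ∧
      (fx P ξ.1 = 0 ∨ fx P ξ.1 = e * n) := by
    intro ξ hξ h1
    obtain ⟨h2, h3⟩ := h.degY hξ
    have h5 : t * charDegree ξ.1 ∣ (p - 1) * (1 + n * p) := by
      rw [hte, mul_assoc, ← hC]; exact mul_dvd_mul_left t (h.dvdY hξ)
    refine h.sign.symm.imp (fun e1 => ⟨e1, ?_⟩) fun e1 => ⟨e1, ?_⟩ <;> rw [e1] at h2 h3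
    · obtain ⟨u, hu⟩ : ∃ u, t * fx P ξ.1 = u + 1 :=
        ⟨t * fx P ξ.1 - 1, by have := Nat.mul_pos ht (show 0 < fx P ξ.1 by omega); omega⟩
      have hu' : (t : ℤ) * fx P ξ.1 = u + 1 := by exact_mod_cast hu
      have h6 : t * charDegree ξ.1 = u * p + 1 := by
        exact_mod_cast (by rw [h2]; linear_combination p * hu' - hte' :
          (t : ℤ) * charDegree ξ.1 = u * p + 1)
      rcases hD u (h6 ▸ h5) with rfl | rfl
      · exact absurd (eq_one_of_perfect hG (Nat.eq_one_of_mul_eq_one_left (by simpa using h6))) h1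
      · exact hu
    · rcases hD.neg hp (u := t * fx P ξ.1 + 1) (by
        exact_mod_cast (by rw [h2]; linear_combination hte' :
          (t : ℤ) * charDegree ξ.1 + 1 = (t * fx P ξ.1 + 1) * p)) h5 with e2 | e2
      · left
        have e3 : (t : ℤ) * charDegree ξ.1 + 1 = p := by exact_mod_cast e2
        have : (p : ℤ) * (t * fx P ξ.1) = 0 := by rw [h2] at e3; linear_combination e3 - hte'
        simpa [h.prime.ne_zero, ht.ne'] using this
      · right
        rw [hte, mul_assoc] at e2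
        rw [Nat.eq_of_mul_eq_mul_left ht e2] at h2
        push_cast at h2
        exact_mod_cast mul_left_cancel₀ hp' (by linarith : (p : ℤ) * fx P ξ.1 = p * (e * n))
  have hle : ∀ χ ∈ X, a χ * (fx P χ.1 - a χ) ≤ n := fun χ hχ => by
    by_cases h1 : χ = oneIrr G
    · rw [h1, h.a_one (h1 ▸ hχ), fx_one]; simp
    · rcases tX χ hχ h1 with ⟨e1, e2⟩ | ⟨e1, -⟩
      · simp [e1, e2]
      · rw [e1]; omega
  have hsum : ∀ S ⊆ X, ∀ ξ ∈ Y, δ * fx P ξ.1 + S.card * n ≤
      ∑ χ ∈ S, a χ * (fx P χ.1 - a χ) + e * n := fun S hS ξ hξ => by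
    rw [← h.sum_a_mul hξ, ← Finset.sum_sdiff hS, ← h.cardX, ← Finset.card_sdiff_add_card_eq_card hS]
    have := Finset.sum_le_card_nsmul _ _ _ fun χ (hχ : χ ∈ X \ S) => hle χ (Finset.mem_sdiff.1 hχ).1
    rw [nsmul_eq_mul] at this
    push_cast
    linarith
  have hn' : (0 : ℤ) < n := by omega
  have h1X : oneIrr G ∈ X → a (oneIrr G) * (fx P (oneIrr G).1 - a (oneIrr G)) = 0 := fun h1 => by
    rw [h.a_one h1, fx_one]; simp
  refine ⟨h, hv, fun χ hχ h1 => (tX χ hχ h1).imp_right fun ⟨e1, e2⟩ =>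
      ⟨e1, e2.resolve_right fun ⟨e3, e4⟩ => ?_⟩,
    fun ξ hξ h1 => (tY ξ hξ h1).imp_right fun ⟨e1, e2⟩ => ⟨e1, e2.resolve_right fun e3 => ?_⟩⟩
  · rcases h.one with h2 | h2
    · obtain ⟨ξ, hξ⟩ := h.exists_Y
      have h3 := hsum {χ, oneIrr G} (by simp [Finset.insert_subset_iff, hχ, h2]) ξ hξ
      rw [Finset.sum_pair h1, Finset.card_pair h1, h1X h2, e1, e4] at h3
      push_cast at h3
      rcases tY ξ hξ fun e => Finset.disjoint_left.1 h.disj h2 (e ▸ hξ) with ⟨e5, e6⟩ | ⟨e5, -⟩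
      · rw [e3, one_mul] at e6
        rw [e5, e6] at h3
        push_cast at h3
        linarith
      · rw [e5] at h3
        have : (0 : ℤ) ≤ fx P ξ.1 := by positivity
        linarith
    · have h3 := hsum {χ} (by simpa using hχ) _ h2
      rw [Finset.sum_singleton, Finset.card_singleton, (h.of_one_mem_Y h2).2, fx_one, e1, e4] at h3
      push_cast at h3
      linarith
  · have h2 := h.one.resolve_right fun h2 => by rw [(h.of_one_mem_Y h2).2] at e1; omega
    have h3 := hsum {oneIrr G} (by simpa using h2) _ hξ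
    rw [Finset.sum_singleton, Finset.card_singleton, h1X h2, e1, e3] at h3
    push_cast at h3
    linarith

namespace Typ

variable (h : Typ p P e t δ X Y a n)
include h

local notation "N" => normalizer (P : Set G)

theorem exists_fx : ∃ χ, (χ ∈ X ∨ χ ∈ Y) ∧ fx P χ.1 = 0 := by
  by_contra hc
  push Not at hc
  obtain ⟨ξ, hξ⟩ := h.exists_Y
  have h1 : δ = -1 := by
    by_cases h2 : ξ = oneIrr G
    · exact (h.of_one_mem_Y (h2 ▸ hξ)).2
    · exact ((h.tY ξ hξ h2).resolve_right fun e => hc ξ (Or.inr hξ) e.2).1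
  have h2 := h.sum_a_mul hξ
  have h3 := (h.degY hξ).2
  have h4 : 0 ≤ ∑ χ ∈ X, a χ * (fx P χ.1 - a χ) := Finset.sum_nonneg fun χ hχ => by
    by_cases h2 : χ = oneIrr G
    · rw [h2, h.a_one (h2 ▸ hχ), fx_one]; simp
    · obtain ⟨e1, e2⟩ := (h.tX χ hχ h2).resolve_right fun e => hc χ (Or.inl hχ) e.2
      simp [e1, e2]
  rw [h1] at h2 h3
  omega

theorem sc (hO : pPrimeCore p G = ⊥) : SC p P := ⟨h.toOrdP, fun c hc => by
  obtain ⟨χ, hχ, h0⟩ := h.exists_fx
  have := charKer_normal (irr_classFun χ)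
  obtain ⟨y, hy, e⟩ := exists_decomp h.ab ⟨c, hc⟩
  have hy' : ¬ p ∣ orderOf (y : G) := by rwa [orderOf_coe]
  have h1 : (y : G) = 1 := mem_bot.1 (hO ▸ h.le_pPrimeCore (K := charKer χ.1) (fun e => by
      rw [le_charKer_iff_fx (irr_isChar χ), h0] at e
      exact isIrr_charDegree_ne_zero χ.2 e.symm) ((mem_charKer_iff (irr_isChar χ)).2
    (hχ.elim (fun hχ => h.apply_of_fxX hχ h0 y.2 hy') fun hχ => h.apply_of_fxY hχ h0 y.2 hy')))
  have h2 : c = vp h.ab ⟨c, hc⟩ * y := congrArg Subtype.val e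
  rw [h2, h1, mul_one]
  exact Subtype.prop _⟩

/-- The basic count: `e - 1 = k (n + 1) + m`. -/
theorem arith : ∃ k : ℕ, ∑ χ ∈ X.erase (oneIrr G), fx P χ.1 = k * (n + 1) ∧
    ∑ χ ∈ X.erase (oneIrr G), fx P χ.1 * charDegree χ.1 = k * (n + 1) * (1 + n * p) ∧
    ∀ ξ ∈ Y, e = 1 + k * (n + 1) + if ξ = oneIrr G then 0 else fx P ξ.1 := by
  have h0 : ∀ F : IrrCharacter G → ℤ, ∀ c d : ℤ, (∀ χ ∈ X, χ ≠ oneIrr G →
      (a χ = 1 → fx P χ.1 = n + 1 → F χ = c) ∧ (a χ = -1 → fx P χ.1 = 0 → F χ = d)) →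
      ∑ χ ∈ X.erase (oneIrr G), F χ = ((X.erase (oneIrr G)).filter fun χ => a χ = 1).card * c +
        ((X.erase (oneIrr G)).filter fun χ => ¬ a χ = 1).card * d := by
    intro F c d hF
    rw [← nsmul_eq_mul, ← nsmul_eq_mul, ← Finset.sum_const, ← Finset.sum_const, ← Finset.sum_ite]
    refine Finset.sum_congr rfl fun χ hχ => ?_
    obtain ⟨h1, h2⟩ := Finset.mem_erase.1 hχ
    rcases h.tX χ h2 h1 with ⟨e1, e2⟩ | ⟨e1, e2⟩
    · rw [if_pos e1, (hF χ h2 h1).1 e1 e2]
    · rw [if_neg (by omega), (hF χ h2 h1).2 e1 e2]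
  have h1 := h0 (fun χ => fx P χ.1) (n + 1) 0 fun χ _ _ => ⟨fun _ e => by simp [e], fun _ e => by simp [e]⟩
  have h2 := h0 (fun χ => fx P χ.1 * charDegree χ.1) ((n + 1) * (1 + n * p)) 0 fun χ hχ _ =>
    ⟨fun e1 e => by rw [(h.degX hχ).1, e1, e]; push_cast; ring, fun _ e => by simp [e]⟩
  have h3 := h0 (fun χ => a χ * (fx P χ.1 - a χ)) n (-1) fun χ hχ _ =>
    ⟨fun e1 e => by simp [e, e1], fun e1 e => by simp [e, e1]⟩
  have h4 := h0 (fun _ => 1) 1 1 fun χ hχ _ => ⟨fun _ _ => rfl, fun _ _ => rfl⟩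
  generalize ((X.erase (oneIrr G)).filter fun χ => a χ = 1).card = k at h1 h2 h3 h4
  generalize ((X.erase (oneIrr G)).filter fun χ => ¬ a χ = 1).card = b at h1 h2 h3 h4
  refine ⟨k, by exact_mod_cast (h1.trans (by ring) : _ = (k : ℤ) * (n + 1)),
    by exact_mod_cast (h2.trans (by ring) : _ = (k : ℤ) * (n + 1) * (1 + n * p)), fun ξ hξ => ?_⟩
  have h5 := h.sum_a_mul hξ
  rw [Finset.sum_const, nsmul_eq_mul] at h4
  rcases h.one with h6 | h6
  · have h7 : ξ ≠ oneIrr G := fun e => Finset.disjoint_left.1 h.disj h6 (e ▸ hξ)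
    rw [← Finset.add_sum_erase _ _ h6, h3, h.a_one h6, fx_one] at h5
    rw [Finset.card_erase_of_mem h6, h.cardX, Nat.cast_sub h.e_pos] at h4
    rw [if_neg h7]
    zify
    rcases h.tY ξ hξ h7 with ⟨e1, -⟩ | ⟨e1, e2⟩
    · rw [e1] at h5; push_cast at h5 h4; linarith
    · rw [e2] at h5 ⊢; push_cast at h5 h4 ⊢; linarith
  · have h7 : oneIrr G ∉ X := fun e => Finset.disjoint_left.1 h.disj e h6
    obtain rfl := Finset.card_le_one.1 (h.cardY.trans (h.of_one_mem_Y h6).1).le _ h6 _ hξ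
    rw [Finset.erase_eq_of_notMem h7] at h3 h4
    rw [h3, (h.of_one_mem_Y h6).2, fx_one] at h5
    rw [h.cardX] at h4
    rw [if_pos rfl]
    zify
    push_cast at h5 h4
    linarith

theorem linSp (hs : SC p P) : LinSp p P n := by
  refine ⟨h.hv, fun y hN hy => ?_⟩
  have hr := hs.regular hN hy
  have hle : P ≤ N := le_normalizer
  obtain ⟨η, hη, e1⟩ := Constit.exists_add_of_inner_ne_zero
    (IndRep.isChar_indFun (P.subgroupOf N) isChar_one) isIrr_one (by
      rw [inner_indFun_left _ _ (classFun_const 1), classInner_one_one]; exact one_ne_zero)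
  have e2 : indFun P (fun _ => 1) = indFun N (fun _ => 1) + indFun N η := by
    rw [← indFun_add, ← e1, indFun_trans P N hle fun _ => 1]
  set π := indFun N (fun _ => 1) with hπ
  set D := indFun N η
  have cπ : IsCharacter G π := IndRep.isChar_indFun _ isChar_one
  have cD : IsCharacter G D := IndRep.isChar_indFun _ hη
  have h1 : ∀ χ : IrrCharacter G, classInner π χ.1 + classInner D χ.1 = fx P χ.1 := fun χ => by
    rw [← classInner_add_left, ← e2, inner_indFun_left _ _ (irr_classFun χ), fx_cast (irr_isChar χ),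
      classInner_isChar_comm isChar_one (isChar_res _ (irr_isChar χ))]
  choose c hc using fun χ : IrrCharacter G => classInner_isChar_nat cπ (irr_isChar χ)
  have h2 : ∀ χ : IrrCharacter G, fx P χ.1 = 0 → c χ = 0 := fun χ h0 => by
    obtain ⟨d, hd⟩ := classInner_isChar_nat cD (irr_isChar χ)
    have := h1 χ
    rw [hc, hd, h0] at this
    have : c χ + d = 0 := by exact_mod_cast this
    omega
  have h3 : ∀ χ : IrrCharacter G, classInner (π - fun _ => 1) χ.1 =
      if χ = oneIrr G then 0 else (c χ : ℂ) := fun χ => by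
    rw [classInner_sub_left, ← coe_oneIrr, classInner_irr]
    split_ifs with e1 e2 e2
    · rw [e2, coe_oneIrr, inner_indFun_left _ _ (classFun_const 1), classInner_one_one, sub_self]
    · exact absurd e1.symm e2
    · exact absurd e2.symm e1
    · rw [hc, sub_zero]
  have h4 : ∀ ξ ∈ Y, (∀ χ ∈ X, χ ≠ oneIrr G → c χ = 0) ∧ (ξ ≠ oneIrr G → c ξ = 0) := by
    intro ξ hξ
    have h5 := h.inner_sing (β := π - fun _ => 1) (fun g hg => by
      rw [Pi.sub_apply, hπ, IndTI.indFun_one_eq_card_fixedBy, hs.card_fixedBy_sing hg]; simp) hξ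
    have h6 : δ * (if ξ = oneIrr G then 0 else c ξ : ℕ) =
        ∑ χ ∈ X, ((if χ = oneIrr G then 0 else c χ : ℕ) : ℤ) := by
      simp only [h3] at h5
      rw [Finset.sum_congr rfl (g := fun χ => ((if χ = oneIrr G then 0 else c χ : ℕ) : ℂ))] at h5
      · exact_mod_cast h5
      · intro χ hχ
        split_ifs with e1
        · simp
        · rcases h.tX χ hχ e1 with ⟨e2, -⟩ | ⟨-, e2⟩
          · simp [e2]
          · simp [h2 χ e2]
    rw [← Nat.cast_sum] at h6
    have h7 : (if ξ = oneIrr G then 0 else c ξ) = 0 := by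
      split_ifs at h6 ⊢ with e1
      · rfl
      · rcases h.tY ξ hξ e1 with ⟨e2, -⟩ | ⟨-, e2⟩
        · rw [e2] at h6; omega
        · exact h2 ξ e2
    rw [h7, Nat.cast_zero, mul_zero, eq_comm, Nat.cast_eq_zero, Finset.sum_eq_zero_iff] at h6
    exact ⟨fun χ hχ e => by simpa [e] using h6 χ hχ, fun e => by simpa [e] using h7⟩
  obtain ⟨ξ, hξ⟩ := h.exists_Y
  obtain ⟨k, k1, k2, k3⟩ := h.arith
  have hd : Disjoint (X.erase (oneIrr G)) (Y.erase (oneIrr G)) :=
    h.disj.mono (Finset.erase_subset _ _) (Finset.erase_subset _ _)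
  have hY : ∀ F : IrrCharacter G → ℂ, (∀ ξ' ∈ Y, F ξ' = F ξ) →
      ∑ ξ' ∈ Y.erase (oneIrr G), F ξ' = if ξ = oneIrr G then 0 else t * F ξ := fun F hF => by
    rcases h.one with h6 | h6
    · have h7 : oneIrr G ∉ Y := Finset.disjoint_left.1 h.disj h6
      rw [Finset.erase_eq_of_notMem h7, if_neg fun e : ξ = oneIrr G => h7 (e ▸ hξ),
        Finset.sum_congr rfl hF,
        Finset.sum_const, h.cardY, nsmul_eq_mul]
    · have h7 := Finset.card_le_one.1 (h.cardY.trans (h.of_one_mem_Y h6).1).le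
      rw [if_pos (h7 _ hξ _ h6)]
      exact Finset.sum_eq_zero fun ξ' hξ' =>
        absurd (h7 _ (Finset.mem_erase.1 hξ').2 _ h6) (Finset.mem_erase.1 hξ').1
  have hdeg : ∀ ξ' ∈ Y, charDegree ξ'.1 = charDegree ξ.1 := fun ξ' hξ' =>
    charDegree_of_eq (by rw [h.agree hξ' hξ h.reg_one, irr_degree_cast])
  have hfx : ∀ ξ' ∈ Y, fx P ξ'.1 = fx P ξ.1 := fun ξ' hξ' => by
    have := (h.degY hξ').1
    rw [hdeg ξ' hξ', (h.degY hξ).1, add_right_inj] at this
    exact_mod_cast (mul_left_cancel₀ (by exact_mod_cast h.prime.ne_zero) this).symm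
  have h5 := eq_sum_of_degree cD (S := X.erase (oneIrr G) ∪ Y.erase (oneIrr G))
    (m := fun χ => fx P χ.1) (fun χ hχ => by
      have h0 : c χ = 0 := by
        rcases Finset.mem_union.1 hχ with hχ | hχ <;> rw [Finset.mem_erase] at hχ
        exacts [(h4 ξ hξ).1 χ hχ.2 hχ.1, (h4 χ hχ.2).2 hχ.1]
      rw [← h1, hc, h0, Nat.cast_zero, zero_add]) (by
      have h6 := congrFun e2 1
      rw [Pi.add_apply, indFun_one, hπ, indFun_one, ← charDegree_cast cD, ← relIndex_mul_index hle,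
        show P.relIndex N = e by rw [← h.he, hs.cent], h.hv] at h6
      have h7 := hY (fun ξ => fx P ξ.1 * charDegree ξ.1) fun ξ' hξ' => by rw [hdeg ξ' hξ', hfx ξ' hξ']
      rw [Finset.sum_union hd, k2]
      apply Nat.cast_injective (R := ℂ)
      have h8 := congrArg (Nat.cast : ℕ → ℂ) (k3 ξ hξ)
      push_cast at h6 h8 ⊢
      rw [h7]
      split_ifs at h8 ⊢ with e1
      · rw [h8] at h6; linear_combination -h6
      · have h9 := congrArg (Int.cast : ℤ → ℂ) (h.degY hξ).1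
        have h10 := congrArg (Nat.cast : ℕ → ℂ) h.te
        push_cast at h9 h10
        rcases h.tY ξ hξ e1 with ⟨e3, e4⟩ | ⟨-, e4⟩
        · have e5 := congrArg (Nat.cast : ℕ → ℂ) e4
          rw [e3] at h9
          push_cast at e5 h9
          rw [h9]
          linear_combination -h6 + (1 + n * p) * h8 - fx P ξ.1 * p * e5 + fx P ξ.1 * h10
        · rw [e4] at h8 ⊢
          rw [h8] at h6
          push_cast at h6 ⊢
          linear_combination -h6) y
  have h6 := congrFun e2 y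
  rw [indFun_eq_zero _ _ fun g hg => hy (by
      rw [show y = 1 from conj_eq_one_iff.1 (eq_one_of_isPGroup_of_not_dvd h.prime h.ab.pg
        (by rwa [inv_inv] : g⁻¹ * y * g⁻¹⁻¹ ∈ P) (by
          rwa [show orderOf (g⁻¹ * y * g⁻¹⁻¹) = orderOf y from (MulAut.conj g⁻¹).orderOf_eq y]))]
      exact one_mem _), Pi.add_apply, hπ, IndTI.indFun_one_eq_card_fixedBy, h5, Finset.sum_union hd,
    hY _ fun ξ' hξ' => by rw [hfx ξ' hξ', h.agree hξ' hξ hr],
    Finset.sum_congr rfl (g := fun χ => (n + 1 : ℂ) * (a χ * χ.1 y)) fun χ hχ => by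
      rcases h.tX χ (Finset.mem_erase.1 hχ).2 (Finset.mem_erase.1 hχ).1 with ⟨e1, e2⟩ | ⟨-, e2⟩
      · simp [e1, e2]
      · simp [hs.apply_eq_zero (irr_isChar χ) e2 hN hy], ← Finset.mul_sum] at h6
  have h7 := h.rel ξ hξ y hr
  apply Nat.cast_injective (R := ℂ)
  push_cast
  rcases h.one with h8 | h8
  · have h9 : ξ ≠ oneIrr G := fun e => Finset.disjoint_left.1 h.disj h8 (e ▸ hξ)
    rw [← Finset.add_sum_erase _ _ h8, h.a_one h8, coe_oneIrr] at h7
    rw [if_neg h9] at h6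
    rcases h.tY ξ hξ h9 with ⟨e3, e4⟩ | ⟨-, e4⟩
    · have e5 := congrArg (Nat.cast : ℕ → ℂ) e4
      rw [e3] at h7
      push_cast at e5 h7
      linear_combination -h6 + (n + 1) * h7 - ξ.1 y * e5
    · rw [hs.apply_eq_zero (irr_isChar ξ) e4 hN hy] at h6 h7
      push_cast at h7
      linear_combination -h6 + (n + 1) * h7
  · obtain rfl := Finset.card_le_one.1 (h.cardY.trans (h.of_one_mem_Y h8).1).le _ h8 _ hξ
    rw [Finset.erase_eq_of_notMem fun e => Finset.disjoint_left.1 h.disj e h8, if_pos rfl, ← h7,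
      (h.of_one_mem_Y h8).2, coe_oneIrr] at h6
    push_cast at h6
    linear_combination -h6

end Typ

theorem OrdP.faithful (h : OrdP p P) (hO : pPrimeCore p G = ⊥) (hn : ¬ P.Normal) :
    FaithfulSMul G (G ⧸ normalizer (P : Set G)) := by
  have h1 : (normalizer (P : Set G)).normalCore = ⊥ := le_bot_iff.1 (hO ▸ h.le_pPrimeCore
    fun e => hn (h.normal_of_conj fun x hx g => e hx g))
  rw [normalCore_eq_ker, MonoidHom.ker_eq_bot_iff] at h1
  exact ⟨fun e => h1 (Equiv.ext e)⟩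

theorem SC.psl_of_index (h : SC p P) (hO : pPrimeCore p G = ⊥)
    (hv : (normalizer (P : Set G)).index = p + 1)
    (he : 2 * (centralizer (P : Set G)).relIndex (normalizer (P : Set G)) + 1 = p) :
    Nonempty (G ≃* PSL(2, ZMod p)) := by
  have := Fact.mk h.prime
  have hp := h.prime.two_le
  have := h.faithful hO fun e => by
    rw [normalizer_eq_top, index_top] at hv; omega
  have h0 : (centralizer (P : Set G)).relIndex (normalizer (P : Set G)) ≠ 0 :=
    index_ne_zero_of_finite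
  rcases Perm.classify_succ_prime (G := G) (Ω := G ⧸ normalizer (P : Set G)) hv
    (d := (centralizer (P : Set G)).relIndex (normalizer (P : Set G)))
    (by rw [← (normalizer (P : Set G)).index_mul_card, hv, h.card_N, mul_assoc]) (by omega) with
    ⟨h1, -⟩ | ⟨-, h1⟩ | ⟨q, hq, -, -, ⟨K, hK, h1⟩, -⟩
  · omega
  · exact h1
  · have h2 : K = ⊥ := le_bot_iff.1 (hO ▸ Core.le_pPrimeCore hK (by
      rw [h1]
      exact ((Nat.coprime_primes Nat.prime_two h.prime).2 (by omega)).pow_left q))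
    rw [h2, card_bot] at h1
    exact absurd h1 (Nat.one_lt_two_pow hq.ne_zero).ne

theorem SC.exists_invol (h : SC p P)
    (he : 2 ∣ (centralizer (P : Set G)).relIndex (normalizer (P : Set G))) :
    ∃ i ∈ normalizer (P : Set G), i * i = 1 ∧ i ≠ 1 := by
  have := Fact.mk Nat.prime_two
  obtain ⟨i, hi⟩ := exists_prime_orderOf_dvd_card' (G := normalizer (P : Set G)) 2
    (h.card_N ▸ he.mul_left p)
  refine ⟨i, i.2, congrArg Subtype.val (show i * i = 1 by rw [← pow_two, ← hi, pow_orderOf_eq_one]),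
    fun e => ?_⟩
  simp [show i = 1 from Subtype.ext e] at hi

theorem SC.succ_dvd (h : SC p P) (hL : LinSp p P n)
    (hc : ¬ normalizer (P : Set G) ≤ centralizer (P : Set G)) : n + 1 ∣ p * (p - 1) := by
  obtain ⟨y, hy, hg⟩ := h.exists_gen
  have hyP : y ∉ P := fun e => hc fun z hz => by
    obtain ⟨j, u, hu, rfl⟩ := hg z hz
    exact h.ab.comm (mul_mem hu (zpow_mem e j))
  have h1 := h.card_normalizer_zpowers hy hyP hg
  have h2 := card_subgroup_dvd_card (normalizer (zpowers y : Set G))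
  rw [hL.fix y hy hyP, h.card_N, mul_comm, mul_assoc] at h1
  rw [Nat.eq_of_mul_eq_mul_left h.prime.pos h1, ← (normalizer (P : Set G)).card_mul_index,
    h.card_N, hL.ind, mul_comm p, mul_assoc] at h2
  have h3 := Nat.dvd_of_mul_dvd_mul_left (Nat.pos_of_ne_zero index_ne_zero_of_finite) h2
  refine (Nat.dvd_add_right h3).1 ⟨p * p, ?_⟩
  obtain ⟨q, rfl⟩ : ∃ q, p = q + 1 := ⟨p - 1, by have := h.prime.pos; omega⟩
  rw [Nat.add_sub_cancel]; ring

/-- The theorem of Brauer and Reynolds. -/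
theorem OrdP.brauer_reynolds (h : OrdP p P) (hG : commutator G = ⊤) (hO : pPrimeCore p G = ⊥)
    (hv : (normalizer (P : Set G)).index = 1 + n * p) (hD : TrivDiv p n) :
    (3 < p ∧ Nonempty (G ≃* PSL(2, ZMod p))) ∨
    ∃ (m : ℕ) (F : Type) (_ : Field F) (_ : Fintype F), Fintype.card F = 2 ^ m ∧
      p = 2 ^ m + 1 ∧ 3 < p ∧ Nonempty (G ≃* PSL(2, F)) := by
  obtain ⟨e, t, δ, X, Y, a, hw⟩ := h.exists_pW
  have hT := hw.typ hG hv hD
  have hs := hT.sc hO
  have hL := hT.linSp hs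
  have hc := h.not_le_of_perfect hG
  have hn : n ≠ 0 := by
    rintro rfl
    exact h.not_normal_of_perfect hG (normalizer_eq_top_iff.1 (index_eq_one.1 (by simpa using hv)))
  have he : 2 ≤ e := by
    have := hw.e_pos
    have : e ≠ 1 := fun e1 => hc (relIndex_eq_one.1 (hw.he.trans e1))
    omega
  have hte := hw.te
  have ht := hw.t_pos
  obtain ⟨ξ, hξ⟩ := hw.exists_Y
  obtain ⟨k, -, -, hk⟩ := hT.arith
  replace hk := hk ξ hξ
  obtain ⟨m, hk, hm⟩ : ∃ m, e = 1 + k * (n + 1) + m ∧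
      (t * m = n + 1 ∨ m = 0 ∧ (t = 1 ∨ t = 2)) := by
    refine ⟨_, hk, ?_⟩
    split_ifs with h1
    · exact Or.inr ⟨rfl, Or.inl (hw.of_one_mem_Y (h1 ▸ hξ)).1⟩
    refine (hT.tY ξ hξ h1).imp And.right fun ⟨e1, e2⟩ => ⟨e2, or_iff_not_imp_left.2 fun t1 => ?_⟩
    have h2 := (hw.degY hξ).1
    rw [e1, e2] at h2
    have h3 : charDegree ξ.1 = e := by omega
    have := charKer_normal (irr_classFun ξ)
    have h4 := h.small (h.not_normal_of_perfect hG) (irr_isChar ξ) (le_bot_iff.1 (hO ▸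
      h.le_pPrimeCore fun e => by rw [le_charKer_iff_fx (irr_isChar ξ)] at e; omega))
      (by rw [h3]; nlinarith [show 2 ≤ t by omega])
    rw [h3] at h4
    exact Nat.eq_of_mul_eq_mul_right hw.e_pos (by omega)
  have h1 : n + 1 < p := by
    rcases Nat.eq_zero_or_pos k with rfl | k0
    · rcases hm with hm | hm
      · nlinarith
      · omega
    · nlinarith
  have h2 : n + 1 ∣ t * e := by
    rw [show t * e = p - 1 by omega]
    exact (Nat.Coprime.dvd_of_dvd_mul_left ((Nat.coprime_of_lt_prime (by omega) h1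
      h.prime).symm) (hs.succ_dvd hL hc))
  have h3 : n = 1 ∧ t = 2 → 3 < p ∧ Nonempty (G ≃* PSL(2, ZMod p)) := fun ⟨n1, t2⟩ =>
    ⟨by subst t2; omega, hs.psl_of_index hO (by rw [hv, n1]; omega) (by rw [hw.he, ← t2, hte])⟩
  rcases hm with hm | ⟨rfl, rfl | rfl⟩
  · have h4 : m ∣ e := Nat.dvd_of_mul_dvd_mul_left ht (hm ▸ h2)
    have h5 : m = 1 := by
      rw [hk, ← hm, add_assoc, Nat.dvd_add_left (by
        exact dvd_add ((dvd_mul_left m t).mul_left k) dvd_rfl)] at h4
      exact Nat.dvd_one.1 h4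
    subst h5
    rw [mul_one] at hm
    subst hm
    by_cases n1 : n = 1
    · exact Or.inl (h3 ⟨n1, by omega⟩)
    have hp2 : p ≠ 2 := by rintro rfl; nlinarith
    have h6 : 2 ∣ e := by
      have h7 : 2 ∣ (n + 1) * e := by
        have := h.prime.eq_two_or_odd.resolve_left hp2
        omega
      rcases Nat.prime_two.dvd_mul.1 h7 with h8 | h8
      · rw [hk, add_right_comm]; exact dvd_add dvd_rfl (h8.mul_left k)
      · exact h8
    obtain ⟨i, hi, i2, i1⟩ := hs.exists_invol (hw.he ▸ h6)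
    exact Or.inr (hs.sl2_case hp2 hL hO hi i2 i1 hw.he hte (by omega))
  · rw [one_mul, hk, add_zero, Nat.dvd_add_left (dvd_mul_left _ _), Nat.dvd_one] at h2
    omega
  · rw [hk, add_zero, mul_add, Nat.dvd_add_left ((dvd_mul_left _ _).mul_left 2)] at h2
    have := Nat.le_of_dvd two_pos h2
    exact Or.inl (h3 ⟨by omega, rfl⟩)

theorem OrdP.map_mk (h : OrdP p P) (K : Subgroup G) [K.Normal] (hK : ¬ p ∣ Nat.card K) :
    OrdP p (P.map (QuotientGroup.mk' K)) := by
  have := Fact.mk h.prime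
  refine ⟨h.prime, ?_, fun e => h.ind (e.trans (index_map_dvd _ (QuotientGroup.mk'_surjective K)))⟩
  rcases (Nat.dvd_prime h.prime).1 (h.card ▸ card_map_dvd P (QuotientGroup.mk' K)) with e | e
  · rw [card_eq_one, Subgroup.map_eq_bot_iff, QuotientGroup.ker_mk'] at e
    exact absurd (h.card ▸ card_dvd_of_le e) hK
  · exact e

omit [Fintype G] in
theorem perfect_quotient (hG : commutator G = ⊤) (K : Subgroup G) [K.Normal] :
    commutator (G ⧸ K) = ⊤ := by
  rw [commutator_def, ← map_top_of_surjective _ (QuotientGroup.mk'_surjective K), ← map_commutator,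
    ← commutator_def, hG]

omit [Fintype G] in
theorem index_normalizer_map_dvd (K : Subgroup G) [K.Normal] :
    (normalizer (P.map (QuotientGroup.mk' K) : Set (G ⧸ K))).index ∣
      (normalizer (P : Set G)).index := by
  rw [← index_comap_of_surjective _ (QuotientGroup.mk'_surjective K)]
  exact index_dvd_of_le (map_le_iff_le_comap.1 (le_normalizer_map _))

theorem OrdP.exists_index_eq (h : OrdP p P) : ∃ n, (normalizer (P : Set G)).index = 1 + n * p := by
  have := Fact.mk h.prime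
  have h1 := card_sylow_modEq_one p G
  rw [(h.ab.pg.toSylow h.ind).card_eq_index_normalizer] at h1
  obtain ⟨n, hn⟩ := (Nat.modEq_iff_dvd' (Nat.pos_of_ne_zero index_ne_zero_of_finite)).1 h1.symm
  have : (normalizer (P : Set G)).index ≠ 0 := index_ne_zero_of_finite
  exact ⟨n, by change (normalizer (P : Set G)).index - 1 = _ at hn; rw [mul_comm]; omega⟩

/-- The theorem of Brauer and Reynolds modulo `O_{p'}(G)`. -/
theorem OrdP.brauer_reynolds' (h : OrdP p P) (hG : commutator G = ⊤)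
    (hv : (normalizer (P : Set G)).index = 1 + n * p) (hD : TrivDiv p n) :
    (normalizer (P.map (QuotientGroup.mk' (pPrimeCore p G)) : Set (G ⧸ pPrimeCore p G))).index =
      1 + n * p ∧ ((3 < p ∧ Nonempty (G ⧸ pPrimeCore p G ≃* PSL(2, ZMod p))) ∨
    ∃ (m : ℕ) (F : Type) (_ : Field F) (_ : Fintype F), Fintype.card F = 2 ^ m ∧
      p = 2 ^ m + 1 ∧ 3 < p ∧ Nonempty (G ⧸ pPrimeCore p G ≃* PSL(2, F))) := by
  have := Fintype.ofFinite (G ⧸ pPrimeCore p G)
  have h' := h.map_mk _ (Core.not_dvd_card_pPrimeCore h.prime)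
  have hG' := perfect_quotient hG (pPrimeCore p G)
  obtain ⟨n', hn'⟩ := h'.exists_index_eq
  have h1 := index_normalizer_map_dvd (P := P) (pPrimeCore p G)
  rw [hn', hv, add_comm] at h1
  rcases hD n' (h1.mul_left _) with rfl | rfl
  · exact absurd (normalizer_eq_top_iff.1 (index_eq_one.1 (by simpa using hn')))
      (h'.not_normal_of_perfect hG')
  · exact ⟨hn', h'.brauer_reynolds hG' (Core.pPrimeCore_quotient_pPrimeCore p) hn' hD⟩

theorem OrdP.le_centralizer_of_le_normalizer (h : OrdP p P) {K : Subgroup G} [hK : K.Normal]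
    (hd : ¬ p ∣ Nat.card K) (hN : K ≤ normalizer (P : Set G)) : K ≤ centralizer (P : Set G) :=
  fun k hk x hx => commutatorElement_eq_one_iff_mul_comm.1
    (eq_one_of_isPGroup_of_not_dvd h.prime h.ab.pg (by
      rw [commutatorElement_def, mul_assoc, mul_assoc, ← mul_assoc k]
      exact mul_mem hx ((mem_normalizer_iff.1 (hN hk) _).1 (inv_mem hx)))
    fun e => hd (e.trans (orderOf_dvd_natCard K (mul_mem (hK.conj_mem _ hk x) (inv_mem hk)))))

theorem le_normalizer_of_index_eq (K : Subgroup G) [K.Normal]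
    (h : (normalizer (P.map (QuotientGroup.mk' K) : Set (G ⧸ K))).index =
      (normalizer (P : Set G)).index) : K ≤ normalizer (P : Set G) := by
  rw [← index_comap_of_surjective _ (QuotientGroup.mk'_surjective K)] at h
  have h1 := map_le_iff_le_comap.1 (le_normalizer_map (H := P) (QuotientGroup.mk' K))
  have h2 := relIndex_mul_index h1
  rw [← h, mul_eq_right₀ index_ne_zero_of_finite, relIndex_eq_one] at h2
  exact le_trans (fun k hk => by
    rw [mem_comap, QuotientGroup.mk'_apply, (QuotientGroup.eq_one_iff k).2 hk]; exact one_mem _) h2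

theorem two_eq_zero_of_card {F : Type*} [Field F] [Fintype F] {m : ℕ} (h : Fintype.card F = 2 ^ m) :
    (2 : F) = 0 := by
  have := FiniteField.cast_card_eq_zero F
  rw [h] at this
  push_cast at this
  exact pow_eq_zero_iff'.1 this |>.1

theorem OrdP.two_le_relIndex (h : OrdP p P) (hG : commutator G = ⊤) :
    2 ≤ (centralizer (P : Set G)).relIndex (normalizer (P : Set G)) := by
  have : (centralizer (P : Set G)).relIndex (normalizer (P : Set G)) ≠ 0 := index_ne_zero_of_finite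
  have := mt relIndex_eq_one.1 (h.not_le_of_perfect hG)
  omega

theorem trivDiv_of_lt (hp : 1 < p) (h : 2 * n < p + 3) : TrivDiv p n :=
  trivDiv_of_not hp fun ⟨k, u, hk, hu, e⟩ => by
    obtain ⟨k, rfl⟩ := Nat.exists_eq_add_of_lt hk
    obtain ⟨u, rfl⟩ := Nat.exists_eq_add_of_lt hu
    nlinarith [Nat.mul_le_mul_right (0 + u + 1 + 1) h, Nat.zero_le (k * u * p), Nat.zero_le (k * p),
      Nat.zero_le (u * p), Nat.zero_le (u * u)]

/-- Perfect groups of order less than `p ^ 3`. -/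
theorem psl_of_card_lt [hp : Fact p.Prime] (hG : commutator G = ⊤) (hdvd : p ∣ Nat.card G)
    (hbig : Nat.card G < p ^ 3) (P : Sylow p G) (hP : ¬ (P : Subgroup G).Normal)
    (h2 : ∀ N : Subgroup G, N.Normal → Nat.card N ≠ 2) :
    (3 < p ∧ Nonempty (G ≃* PSL(2, ZMod p))) ∨
    ∃ (m : ℕ) (F : Type) (_ : Field F) (_ : Fintype F), Fintype.card F = 2 ^ m ∧
      p = 2 ^ m + 1 ∧ 3 < p ∧ Nonempty (G ≃* PSL(2, F)) := by
  have hp1 := hp.out.one_lt
  have h := ordP_sylow P (card_sylow_of_not_sq_dvd hdvd (fun hsq => hP (by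
    have h1 : p ^ 2 ∣ Nat.card P := by
      rw [P.card_eq_multiplicity]
      exact pow_dvd_pow _ ((hp.out.pow_dvd_iff_le_factorization Nat.card_pos.ne').1 hsq)
    have h3 := (P : Subgroup G).card_mul_index
    have h4 := Nat.le_of_dvd Nat.card_pos h1
    have h5 : (P : Subgroup G).index < p := by nlinarith
    have h6 := Nat.le_of_dvd (Nat.pos_of_ne_zero index_ne_zero_of_finite) (P.card_dvd_index)
    have h7 := (card_sylow_modEq_one p G).eq_of_lt_of_lt (by omega) hp1
    rw [P.card_eq_index_normalizer, index_eq_one] at h7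
    exact normalizer_eq_top_iff.1 h7)) P)
  obtain ⟨n, hv⟩ := h.exists_index_eq
  have h3 := h.two_le_relIndex hG
  have h4 := (normalizer ((P : Subgroup G) : Set G)).card_mul_index
  have h5 := Core.card_mul_relIndex (centralizer_le_normalizer ((P : Subgroup G) : Set G))
  have h6 := card_le_of_le h.ab.comm
  rw [h.card] at h6
  have h7 : p * 2 * (1 + n * p) < p ^ 3 := by
    rw [← hv]
    exact lt_of_le_of_lt (h4 ▸ h5 ▸ Nat.mul_le_mul_right _ (Nat.mul_le_mul h6 h3)) hbig
  have h8 : 2 * n < p + 3 := by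
    by_contra hc
    nlinarith [Nat.mul_le_mul_right (p * p) (not_lt.1 hc)]
  obtain ⟨-, h9⟩ := h.brauer_reynolds' hG hv (trivDiv_of_lt hp1 h8)
  have h10 := (pPrimeCore p G).card_mul_index
  have h11 : Nat.card (pPrimeCore p G) < 3 := by
    by_contra hc
    have h12 : 3 * Nat.card (G ⧸ pPrimeCore p G) < p ^ 3 :=
      lt_of_le_of_lt (h10 ▸ Nat.mul_le_mul_right _ (not_lt.1 hc)) hbig
    rcases h9 with ⟨p3, ⟨e⟩⟩ | ⟨m, F, _, _, hF, hm, p3, ⟨e⟩⟩
    · have := Classical.SLBasic.card_PSL_two (F := ZMod p)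
      rw [← Nat.card_congr e.toEquiv, Nat.card_zmod] at this
      have h13 := Nat.le_of_dvd two_pos (Nat.gcd_dvd_left 2 (p - 1))
      obtain ⟨k, hk⟩ : ∃ k, p ^ 2 = k + 1 := ⟨p ^ 2 - 1, by have := Nat.one_lt_pow two_ne_zero hp1; omega⟩
      rw [hk, Nat.add_sub_cancel] at this
      rw [pow_succ, hk] at h12
      nlinarith [Nat.mul_le_mul_right (Nat.card (G ⧸ pPrimeCore p G)) h13]
    · have := Classical.SLBasic.card_PSL_two (F := F)
      rw [← Nat.card_congr e.toEquiv, Classical.PSL2Basic.gcd_eq_one (two_eq_zero_of_card hF),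
        Nat.card_eq_fintype_card (α := F), hF, one_mul] at this
      generalize 2 ^ m = q at hm this
      obtain ⟨k, rfl⟩ : ∃ k, q = k + 1 := ⟨q - 1, by omega⟩
      have h13 : (k + 1) ^ 2 - 1 = k * (k + 2) := Nat.sub_eq_of_eq_add (by ring)
      rw [this, hm, h13] at h12
      nlinarith [Nat.mul_le_mul_right (k * k) (show 2 ≤ k by omega)]
  have h12 : pPrimeCore p G = ⊥ := by
    have := h2 (pPrimeCore p G) inferInstance
    have : 0 < Nat.card (pPrimeCore p G) := Nat.card_pos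
    exact card_eq_one.1 (by omega)
  exact h.brauer_reynolds hG h12 hv (trivDiv_of_lt hp1 h8)

end Cfsg.Agent.Block
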