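import Mathlib
import Cfsg.Agent.Block.Mod1
import Cfsg.Agent.Block.SymLoc

/-! Bilinear maps on spaces of dimension at most three. -/

namespace Cfsg.Agent.Block.CK

open Module Submodule

variable {k V W : Type*} [Field k] [AddCommGroup V] [Module k V] [AddCommGroup W] [Module k W]

theorem exists_rank_two (m : V →ₗ[k] V →ₗ[k] W) (hr : ∀ v, (∀ u, m u v = 0) → v = 0)
    (hW : ∀ w, ¬ ∀ u v, m u v ∈ span k {w}) : ∃ a x y, LinearIndependent k ![m a x, m a y] := by
  by_contra! H
  have H' : ∀ a x y, m a x ≠ 0 → m a y ∈ span k {m a x} := fun a x y h => by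
    have := H a x y
    rw [LinearIndependent.pair_iff' h] at this
    push Not at this
    exact mem_span_singleton.2 this
  obtain ⟨a, v, h0⟩ : ∃ a v, m a v ≠ 0 := by simpa using hW 0
  obtain ⟨b, v', h1⟩ : ∃ b v', m b v' ∉ span k {m a v} := by simpa using hW (m a v)
  have key : ∀ x, m a x = 0 → ∀ u v', m u v' ∉ span k {m a v} → m u x = 0 := fun x hx u v' hu => by
    by_contra h2
    have h3 := H' (a + u) x v (by simpa [hx] using h2)
    simp only [map_add, LinearMap.add_apply, hx, zero_add] at h3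
    obtain ⟨t, ht⟩ := mem_span_singleton.1 ((Submodule.add_mem_iff_left _ (H' u x v h2)).1 h3)
    have ht0 : t ≠ 0 := fun e => h0 (by rw [← ht, e, zero_smul])
    refine hu ((span_singleton_le_iff_mem _ _).2 ?_ (H' u x v' h2))
    exact mem_span_singleton.2 ⟨t⁻¹, by rw [← ht, inv_smul_smul₀ ht0]⟩
  have hinj : ∀ x, m a x = 0 → x = 0 := fun x hx => hr x fun u => by
    by_cases hu : m u v' ∈ span k {m a v}
    · have h2 := key x hx (u + b) v' (by
        rw [map_add, LinearMap.add_apply]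
        exact fun h => h1 ((Submodule.add_mem_iff_right _ hu).1 h))
      rwa [map_add, LinearMap.add_apply, key x hx b v' h1, add_zero] at h2
    · exact key x hx u v' hu
  have h2 : ∀ x, ∃ t : k, t • v = x := fun x => by
    obtain ⟨t, ht⟩ := mem_span_singleton.1 (H' a v x h0)
    exact ⟨t, sub_eq_zero.1 (hinj _ (by rw [map_sub, map_smul, ht, sub_self]))⟩
  refine hW (m v v) fun u x => ?_
  obtain ⟨s, rfl⟩ := h2 u
  obtain ⟨t, rfl⟩ := h2 x
  simp only [map_smul, LinearMap.smul_apply]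
  exact smul_mem _ _ (smul_mem _ _ (mem_span_singleton_self _))

theorem exists_surj_two [FiniteDimensional k W] (m : V →ₗ[k] V →ₗ[k] W)
    (hr : ∀ v, (∀ u, m u v = 0) → v = 0) (hs : ∀ U : Submodule k W, (∀ u v, m u v ∈ U) → U = ⊤)
    (hW : finrank k W ≤ 2) : ∃ a, Function.Surjective (m a) := by
  by_cases h : ∃ w, ∀ u v, m u v ∈ span k {w}
  · obtain ⟨w, hw⟩ := h
    by_cases h0 : ∀ u v, m u v = 0
    · exact ⟨0, fun x => ⟨0, by
        rw [map_zero, (mem_bot k).1 (hs ⊥ (fun u v => (mem_bot k).2 (h0 u v)) ▸ mem_top : x ∈ ⊥)]⟩⟩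
    push Not at h0
    obtain ⟨a, v, h0⟩ := h0
    obtain ⟨t, ht⟩ := mem_span_singleton.1 (hw a v)
    have ht0 : t ≠ 0 := fun e => h0 (by rw [← ht, e, zero_smul])
    refine ⟨a, fun x => ?_⟩
    obtain ⟨c, rfl⟩ := mem_span_singleton.1 (hs _ hw ▸ mem_top : x ∈ span k {w})
    exact ⟨(c * t⁻¹) • v, by rw [map_smul, ← ht, smul_smul, inv_mul_cancel_right₀ ht0]⟩
  · obtain ⟨a, x, y, h1⟩ := exists_rank_two m hr (not_exists.1 h)
    refine ⟨a, LinearMap.range_eq_top.1 (eq_top_of_finrank_eq (le_antisymm (finrank_le _) ?_))⟩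
    refine hW.trans ?_
    rw [← Fintype.card_fin 2, ← finrank_span_eq_card h1]
    exact finrank_mono (span_le.2 (by rintro _ ⟨i, rfl⟩; fin_cases i <;> simp))

theorem exists_factor {c₁ c₂ : k} (hc : c₁ ≠ 0 ∨ c₂ ≠ 0) {f g : V →ₗ[k] k}
    (h : ∀ u, f u * c₂ = g u * c₁) : ∃ γ : V →ₗ[k] k, ∀ u, f u = γ u * c₁ ∧ g u = γ u * c₂ := by
  rcases hc with hc | hc
  · refine ⟨c₁⁻¹ • f, fun u => ?_⟩
    simp only [LinearMap.smul_apply, smul_eq_mul]
    exact ⟨by field_simp, by field_simp; linear_combination -h u⟩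
  · refine ⟨c₂⁻¹ • g, fun u => ?_⟩
    simp only [LinearMap.smul_apply, smul_eq_mul]
    exact ⟨by field_simp; linear_combination h u, by field_simp⟩

theorem mul_three_ne_zero [Infinite k] {f g h : V →ₗ[k] k} (hf : ∃ u, f u ≠ 0) (hg : ∃ u, g u ≠ 0)
    (hh : ∃ u, h u ≠ 0) : ∃ u, f u * g u * h u ≠ 0 := by
  obtain ⟨u, hu⟩ := Dual.exists_forall_ne_zero_of_forall_exists ![f, g, h] (by
    intro i; fin_cases i <;> assumption)
  exact ⟨u, mul_ne_zero (mul_ne_zero (hu 0) (hu 1)) (hu 2)⟩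

/-- A three-dimensional space of singular `3 × 3` matrices, in coordinates. -/
theorem sing_matrix [Infinite k] [FiniteDimensional k V] (hV : finrank k V ≤ 3)
    (f : Fin 3 → Fin 3 → V →ₗ[k] k) {a : V} (ha : ∀ i j, f i j a = !![1, 0, 0; 0, 1, 0; 0, 0, 0] i j)
    (hdet : ∀ u, (Matrix.of fun i j => f i j u).det = 0)
    (hc : ∃ u, f 0 2 u ≠ 0 ∨ f 1 2 u ≠ 0) (hd : ∃ u, f 2 0 u ≠ 0 ∨ f 2 1 u ≠ 0) :
    (∃ c₁ c₂ : k, (c₁ ≠ 0 ∨ c₂ ≠ 0) ∧ ∀ u, (∃ t, ∀ i, f i 2 u = t * ![c₁, c₂, 0] i) ∧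
      ∃ t, ∀ i, f i 0 u * c₁ + f i 1 u * c₂ = t * ![c₁, c₂, 0] i) ∨
    ∃ g : Fin 3 → V →ₗ[k] k, (∀ u, (∀ j, g j u = 0) → u = 0) ∧ ∀ u i, ∑ j, f i j u * g j u = 0 := by
  classical
  obtain ⟨τ, hτ⟩ := Infinite.exists_notMem_finset ({0, 1} : Finset k)
  simp only [Finset.mem_insert, Finset.mem_singleton, not_or] at hτ
  have hτ1 := sub_ne_zero.2 hτ.2
  have D : ∀ u, f 0 0 u * f 1 1 u * f 2 2 u - f 0 0 u * f 1 2 u * f 2 1 u
      - f 0 1 u * f 1 0 u * f 2 2 u + f 0 1 u * f 1 2 u * f 2 0 u + f 0 2 u * f 1 0 u * f 2 1 u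
      - f 0 2 u * f 1 1 u * f 2 0 u = 0 := fun u => by simpa [Matrix.det_fin_three] using hdet u
  have E : ∀ u, f 2 2 u = 0 ∧ f 0 2 u * f 2 0 u + f 1 2 u * f 2 1 u = 0 := fun u => by
    have h0 := D u
    have h1 := D (u + a)
    have h2 := D (u + τ • a)
    simp [ha] at h1 h2
    have h3 : f 2 2 u = 0 := by
      refine mul_left_cancel₀ (mul_ne_zero hτ.1 hτ1) ?_
      linear_combination h2 - τ * h1 + (τ - 1) * h0
    refine ⟨h3, ?_⟩
    rw [h3] at h0 h1
    linear_combination h0 - h1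
  by_cases hA : ∀ p q, f 0 2 p * f 1 2 q = f 1 2 p * f 0 2 q
  · obtain ⟨p, hp⟩ := hc
    obtain ⟨γ, hγ⟩ := exists_factor hp fun u => hA u p
    have hγ0 : ∃ u, γ u ≠ 0 := ⟨p, fun e => by
      have := hγ p
      rw [e, zero_mul, zero_mul] at this
      tauto⟩
    have h1 : ∀ u, f 2 0 u * f 0 2 p + f 2 1 u * f 1 2 p = 0 := by
      by_contra! h1
      obtain ⟨u, hu⟩ := mul_three_ne_zero hγ0 hγ0 (h := f 0 2 p • f 2 0 + f 1 2 p • f 2 1)
        (by simpa [mul_comm] using h1)
      refine hu ?_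
      have := (E u).2
      rw [(hγ u).1, (hγ u).2] at this
      simp only [LinearMap.add_apply, LinearMap.smul_apply, smul_eq_mul]
      linear_combination γ u * this
    obtain ⟨δ, hδ⟩ := exists_factor (c₁ := -f 1 2 p) (c₂ := f 0 2 p) (f := f 2 0) (g := f 2 1)
      (by rw [neg_ne_zero]; tauto) fun u => by linear_combination h1 u
    have hδ0 : ∃ u, δ u ≠ 0 := hd.imp fun u hu e => by
      have := hδ u
      rw [e, zero_mul, zero_mul] at this
      tauto
    have h2 : ∀ u, (f 0 2 p • f 0 0 + f 1 2 p • f 0 1) u * f 1 2 p =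
        (f 0 2 p • f 1 0 + f 1 2 p • f 1 1) u * f 0 2 p := by
      by_contra! h2
      obtain ⟨u, hu⟩ := mul_three_ne_zero hγ0 hδ0
        (h := f 1 2 p • (f 0 2 p • f 0 0 + f 1 2 p • f 0 1) -
          f 0 2 p • (f 0 2 p • f 1 0 + f 1 2 p • f 1 1))
        (by simpa [mul_comm, sub_eq_zero, mul_add] using h2)
      refine hu ?_
      have := D u
      rw [(hγ u).1, (hγ u).2, (hδ u).1, (hδ u).2, (E u).1] at this
      simp only [LinearMap.add_apply, LinearMap.sub_apply, LinearMap.smul_apply, smul_eq_mul]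
      linear_combination -this
    obtain ⟨η, hη⟩ := exists_factor hp h2
    refine .inl ⟨_, _, hp, fun u => ⟨⟨γ u, fun i => ?_⟩, ⟨η u, fun i => ?_⟩⟩⟩
    · fin_cases i
      · exact (hγ u).1
      · exact (hγ u).2
      · simpa using (E u).1
    · fin_cases i
      · simpa [mul_comm] using (hη u).1
      · simpa [mul_comm] using (hη u).2
      · simpa using h1 u
  push Not at hA
  obtain ⟨p', q', hA⟩ := hA
  have hΔ := sub_ne_zero.2 hA
  obtain ⟨p, hp1, hp2⟩ : ∃ p, f 0 2 p = 1 ∧ f 1 2 p = 0 :=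
    ⟨(f 0 2 p' * f 1 2 q' - f 1 2 p' * f 0 2 q')⁻¹ • (f 1 2 q' • p' - f 1 2 p' • q'), by
      simp only [map_smul, map_sub, smul_eq_mul]
      constructor <;> field_simp <;> ring⟩
  obtain ⟨q, hq1, hq2⟩ : ∃ q, f 0 2 q = 0 ∧ f 1 2 q = 1 :=
    ⟨(f 0 2 p' * f 1 2 q' - f 1 2 p' * f 0 2 q')⁻¹ • (f 0 2 p' • q' - f 0 2 q' • p'), by
      simp only [map_smul, map_sub, smul_eq_mul]
      constructor <;> field_simp <;> ring⟩
  have hsp : ∀ u, ∃ x y z : k, x • p + y • q + z • a = u := fun u => by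
    have hli : LinearIndependent k ![p, q, a] := Fintype.linearIndependent_iff.2 fun g hg => by
      have e1 := congrArg (f 0 2) hg
      have e2 := congrArg (f 1 2) hg
      have e3 := congrArg (f 0 0) hg
      simp [Fin.sum_univ_three, hp1, hp2, hq1, hq2, ha] at e1 e2 e3
      intro i
      fin_cases i
      · exact e1
      · exact e2
      · simpa [e1, e2] using e3
    have := eq_top_of_finrank_eq (le_antisymm (finrank_le (span k (Set.range ![p, q, a])))
      (by rw [finrank_span_eq_card hli]; simpa using hV))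
    obtain ⟨c, hc⟩ := (mem_span_range_iff_exists_fun k).1 (this ▸ mem_top : u ∈ _)
    exact ⟨c 0, c 1, c 2, by simpa [Fin.sum_univ_three] using hc⟩
  have e1 : f 2 0 p = 0 := by simpa [hp1, hp2] using (E p).2
  have e2 : f 2 1 q = 0 := by simpa [hq1, hq2] using (E q).2
  have e3 : f 2 0 q = -f 2 1 p := by
    have := (E (p + q)).2
    simp [hp1, hp2, hq1, hq2, e1, e2] at this
    linear_combination this
  have hl : f 2 1 p ≠ 0 := fun e => by
    obtain ⟨u, hu⟩ := hd
    obtain ⟨x, y, z, rfl⟩ := hsp u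
    simp [e1, e2, e3, e, ha] at hu
  have e4 : f 1 0 p = 0 := by simpa [hp1, hp2, e1, (E p).1, hl] using D p
  have e5 : f 0 1 q = 0 := by simpa [hq1, hq2, e2, e3, (E q).1, hl] using D q
  have d1 := D (p + q)
  have d2 := D (p + τ • q)
  simp [hp1, hp2, hq1, hq2, e1, e2, e3, e4, e5, (E p).1, (E q).1] at d1 d2
  have e6 : f 1 1 q = f 0 1 p + f 0 0 q := by
    refine mul_left_cancel₀ (mul_ne_zero hl (mul_ne_zero hτ.1 hτ1)) ?_
    linear_combination d2 - τ * d1
  have e7 : f 1 0 q = f 0 0 p - f 1 1 p := by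
    refine mul_left_cancel₀ hl ?_
    rw [e6] at d1
    linear_combination d1
  refine .inr ⟨![f 0 2, f 1 2, -(f 0 0 + f 0 1 p • f 1 2)], fun u hu => ?_, fun u i => ?_⟩
  · obtain ⟨x, y, z, rfl⟩ := hsp u
    have h0 := hu 0
    have h1 := hu 1
    have h2 := hu 2
    simp [hp1, hp2, hq1, hq2, ha] at h0 h1
    simp [h0, h1, ha] at h2
    simp [h0, h1, h2]
  · obtain ⟨x, y, z, rfl⟩ := hsp u
    fin_cases i <;>
    simp [Fin.sum_univ_three, hp1, hp2, hq1, hq2, e1, e2, e3, e4, e5, e6, e7, (E p).1, (E q).1,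
      ha] <;> ring

theorem linearIndependent_triple {x y z : V} (h : ∀ r s t : k, r • x + s • y + t • z = 0 →
    r = 0 ∧ s = 0 ∧ t = 0) : LinearIndependent k ![x, y, z] :=
  Fintype.linearIndependent_iff.2 fun g hg i => by
    have := h (g 0) (g 1) (g 2) (by simpa [Fin.sum_univ_three] using hg)
    fin_cases i
    exacts [this.1, this.2.1, this.2.2]

theorem sing_space [Infinite k] [FiniteDimensional k V] [FiniteDimensional k W]
    (m : V →ₗ[k] V →ₗ[k] W) (hV : finrank k V = 3) (hW : finrank k W = 3)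
    (hr : ∀ v, (∀ u, m u v = 0) → v = 0) (hs : ∀ U : Submodule k W, (∀ u v, m u v ∈ U) → U = ⊤)
    (h : ∀ a, ¬ Function.Surjective (m a)) :
    (∃ b c w, LinearIndependent k ![b, c] ∧ ∀ u, m u b ∈ span k {w} ∧ m u c ∈ span k {w}) ∨
      ∃ g : V ≃ₗ[k] V, ∀ u, m u (g u) = 0 := by
  have hi : ∀ a, ¬ Function.Injective (m a) := fun a e =>
    h a ((LinearMap.injective_iff_surjective_of_finrank_eq_finrank (hV.trans hW.symm)).1 e)
  obtain ⟨a, x, y, hxy⟩ := exists_rank_two m hr fun w hw => by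
    have h1 := (finrank_span_le_card (R := k) ({w} : Set W)).trans_eq (by simp : _ = 1)
    rw [hs _ hw, finrank_top] at h1
    omega
  obtain ⟨κ, hκ, hκ0⟩ : ∃ κ, m a κ = 0 ∧ κ ≠ 0 := by
    simpa [injective_iff_map_eq_zero] using hi a
  obtain ⟨w, hw⟩ : ∃ w, w ∉ span k (Set.range ![m a x, m a y]) := by
    by_contra! hw
    have h1 := finrank_span_eq_card hxy
    rw [eq_top_iff'.2 hw, finrank_top, hW] at h1
    simp at h1
  have hxy' := LinearIndependent.pair_iff.1 hxy
  let bV : Basis (Fin 3) k V := basisOfLinearIndependentOfCardEqFinrank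
    (linearIndependent_triple (k := k) (x := x) (y := y) (z := κ) fun r s t e => by
      obtain ⟨rfl, rfl⟩ := hxy' r s (by simpa [hκ] using congrArg (m a) e)
      simpa [hκ0] using e) (by simp [hV])
  let bW : Basis (Fin 3) k W := basisOfLinearIndependentOfCardEqFinrank
    (linearIndependent_triple (k := k) (x := m a x) (y := m a y) (z := w) fun r s t e => by
      obtain rfl : t = 0 := by
        by_contra ht
        refine hw ((smul_mem_iff _ ht).1 ?_)
        rw [eq_neg_of_add_eq_zero_right e]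
        exact neg_mem (add_mem (smul_mem _ _ (subset_span ⟨0, rfl⟩))
          (smul_mem _ _ (subset_span ⟨1, rfl⟩)))
      simpa using hxy' r s (by simpa using e)) (by simp [hW])
  have hbV : ∀ j, bV j = ![x, y, κ] j := fun j => by simp [bV]
  have hbW : ∀ j, bW j = ![m a x, m a y, w] j := fun j => by simp [bW]
  let f : Fin 3 → Fin 3 → V →ₗ[k] k := fun i j => bW.coord i ∘ₗ m.flip (bV j)
  have hf : ∀ i j u, f i j u = bW.repr (m u (bV j)) i := fun _ _ _ => rfl
  have D : ∀ u, (Matrix.of fun i j => f i j u).det = 0 := fun u => by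
    by_contra h0
    refine hi u (LinearEquiv.ofIsUnitDet (v := bV) (v' := bW) (f := m u) (Ne.isUnit ?_)).injective
    convert h0 using 2
    ext i j
    simp [LinearMap.toMatrix_apply, hf]
  have ha : ∀ i j, f i j a = !![1, 0, 0; 0, 1, 0; 0, 0, 0] i j := fun i j => by
    have e0 : m a (bV 0) = bW 0 := by simp [hbV, hbW]
    have e1 : m a (bV 1) = bW 1 := by simp [hbV, hbW]
    have e2 : m a (bV 2) = 0 := by simp [hbV, hκ]
    fin_cases i <;> fin_cases j <;> simp [hf, e0, e1, e2]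
  have E : ∀ u, f 2 2 u = 0 := fun u => by
    classical
    obtain ⟨τ, hτ⟩ := Infinite.exists_notMem_finset ({0, 1} : Finset k)
    simp only [Finset.mem_insert, Finset.mem_singleton, not_or] at hτ
    have h0 := D u
    have h1 := D (u + a)
    have h2 := D (u + τ • a)
    simp [ha, Matrix.det_fin_three] at h0 h1 h2
    refine mul_left_cancel₀ (mul_ne_zero hτ.1 (sub_ne_zero.2 hτ.2)) ?_
    linear_combination h2 - τ * h1 + (τ - 1) * h0
  rcases sing_matrix hV.le f ha D (by
      by_contra! h1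
      refine hκ0 (hr κ fun u => bW.ext_elem fun i => ?_)
      rw [show κ = bV 2 from (hbV 2).symm, ← hf, map_zero]
      fin_cases i
      exacts [(h1 u).1, (h1 u).2, E u]) (by
      by_contra! h1
      have h2 := hs (LinearMap.ker (bW.coord 2)) fun u v => by
        rw [← bV.sum_repr v, map_sum]
        refine sum_mem fun j _ => ?_
        rw [map_smul]
        refine smul_mem _ _ ?_
        fin_cases j
        exacts [(h1 u).1, (h1 u).2, E u]
      simpa using (h2 ▸ mem_top : bW 2 ∈ LinearMap.ker (bW.coord 2))) with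
    ⟨c₁, c₂, hc, h1⟩ | ⟨g, h1, h2⟩
  · have hw : ∀ (z : W) (t : k), (∀ i, bW.repr z i = t * ![c₁, c₂, 0] i) →
        z ∈ span k {c₁ • bW 0 + c₂ • bW 1} := fun z t hz =>
      mem_span_singleton.2 ⟨t, bW.ext_elem fun i => by rw [hz]; fin_cases i <;> simp⟩
    refine .inl ⟨c₁ • bV 0 + c₂ • bV 1, bV 2, c₁ • bW 0 + c₂ • bW 1,
      LinearIndependent.pair_iff.2 fun s t e => ?_, fun u => ⟨?_, ?_⟩⟩
    · have e0 := congrArg (bV.coord 0) e
      have e1 := congrArg (bV.coord 1) e
      have e2 := congrArg (bV.coord 2) e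
      simp at e0 e1 e2
      tauto
    · obtain ⟨t, ht⟩ := (h1 u).2
      exact hw _ t fun i => by simpa [hf, mul_comm] using ht i
    · obtain ⟨t, ht⟩ := (h1 u).1
      exact hw _ t ht
  · let G : V →ₗ[k] V := ∑ j, (g j).smulRight (bV j)
    have hG : ∀ u, G u = ∑ j, g j u • bV j := fun u => by simp [G]
    refine .inr ⟨.ofInjectiveEndo G ((injective_iff_map_eq_zero _).2 fun u hu => h1 u
      (Fintype.linearIndependent_iff.1 bV.linearIndependent _ (hG u ▸ hu))),
      fun u => bW.ext_elem fun i => ?_⟩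
    simpa [hG, hf, mul_comm] using h2 u i

theorem comm_mem_span (m : V →ₗ[k] V →ₗ[k] W) {b c e : V}
    (h : ⊤ ≤ span k {b} ⊔ (span k {c} ⊔ span k {e})) (u v : V) :
    m u v - m v u ∈ span k {m b c - m c b} ⊔ (span k {m b e - m e b} ⊔ span k {m c e - m e c}) := by
  have key : ∀ u, ∃ r s t : k, r • b + s • c + t • e = u := fun u => by
    obtain ⟨r, h1⟩ := mem_span_sup.1 (h (mem_top : u ∈ _))
    obtain ⟨s, h2⟩ := mem_span_sup.1 h1
    obtain ⟨t, h3⟩ := mem_span_singleton.1 h2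
    exact ⟨r, s, t, by rw [h3]; abel⟩
  obtain ⟨r, s, t, rfl⟩ := key u
  obtain ⟨r', s', t', rfl⟩ := key v
  refine mem_span_sup.2 ⟨r * s' - s * r', mem_span_sup.2 ⟨r * t' - t * r',
    mem_span_singleton.2 ⟨s * t' - t * s', ?_⟩⟩⟩
  simp only [map_add, map_smul, LinearMap.add_apply, LinearMap.smul_apply]
  module

theorem finrank_sup_span_le [FiniteDimensional k W] (w : W) (U : Submodule k W) :
    finrank k (span k {w} ⊔ U : Submodule k W) ≤ finrank k U + 1 := by
  have h1 := (finrank_span_le_card (R := k) ({w} : Set W)).trans_eq (by simp : _ = 1)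
  have := finrank_add_le_finrank_add_finrank (span k {w}) U
  omega

/-- A product on a space of dimension at most three whose commutators span the target. -/
theorem trichotomy [Infinite k] [FiniteDimensional k V] [FiniteDimensional k W]
    (m : V →ₗ[k] V →ₗ[k] W) (hV : finrank k V ≤ 3) (hr : ∀ v, (∀ u, m u v = 0) → v = 0)
    (hs : ∀ U : Submodule k W, (∀ u v, m u v - m v u ∈ U) → U = ⊤) :
    (∃ a, Function.Surjective (m a)) ∨
      (∃ b c w, m b c ≠ m c b ∧ ∀ u, m u b ∈ span k {w} ∧ m u c ∈ span k {w}) ∨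
      ∃ g : V ≃ₗ[k] V, ∀ u, m u (g u) = 0 := by
  have hs' : ∀ U : Submodule k W, (∀ u v, m u v ∈ U) → U = ⊤ := fun U hU =>
    hs U fun u v => sub_mem (hU u v) (hU v u)
  by_cases hW : finrank k W ≤ 2
  · exact .inl (exists_surj_two m hr hs' hW)
  have h1 : ∀ w : W, finrank k (span k {w}) ≤ 1 := fun w =>
    (finrank_span_le_card (R := k) ({w} : Set W)).trans_eq (by simp)
  have key : ∀ b c e, ⊤ ≤ span k {b} ⊔ (span k {c} ⊔ span k {e}) →
      finrank k W ≤ 3 ∧ m b c ≠ m c b := fun b c e h => by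
    have h2 := hs _ (comm_mem_span m h)
    have h3 := finrank_sup_span_le (k := k) (m b e - m e b) (span k {m c e - m e c})
    have h4 := h1 (m c e - m e c)
    refine ⟨?_, fun h5 => ?_⟩
    · have := finrank_sup_span_le (k := k) (m b c - m c b) (span k {m b e - m e b} ⊔
        span k {m c e - m e c})
      rw [h2, finrank_top] at this
      omega
    · rw [h5, sub_self, span_zero_singleton, bot_sup_eq] at h2
      rw [h2, finrank_top] at h3
      omega
  have hV3 : finrank k V = 3 := by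
    by_contra h2
    obtain ⟨c, -, e, -, h3⟩ := exists_le_span_sup₂ (k := k) (U := (⊤ : Submodule k V)) bot_le
      (by rw [finrank_top]; omega)
    exact (key 0 c e (by simpa using h3)).2 (by simp)
  by_cases h : ∃ a, Function.Surjective (m a)
  · exact .inl h
  obtain ⟨e, -, h2⟩ := exists_finrank_sup (k := k) (U := (⊤ : Submodule k V)) bot_le (n := 2)
    (by rw [finrank_top]; omega)
  obtain ⟨b, -, c, -, h3⟩ := exists_le_span_sup₂ le_top h2
  rcases sing_space m hV3 (by have := (key b c e (by simpa using h3)).1; omega) hr hs'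
    (not_exists.1 h) with ⟨b, c, w, h4, h5⟩ | h4
  · obtain ⟨e, -, h6⟩ := exists_le_span_sup (k := k) (U := ⊤) (W := span k (Set.range ![b, c]))
      le_top (by rw [finrank_top, finrank_span_eq_card h4]; simp [hV3])
    refine .inr (.inl ⟨b, c, w, (key b c e ?_).2, h5⟩)
    rwa [Matrix.range_cons, Matrix.range_cons_empty, span_union, sup_comm, sup_assoc] at h6
  · exact .inr (.inr h4)

/-- An automorphism of an algebra of dimension at most three has a short orbit on characters. -/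
theorem exists_orbit [IsAlgClosed k] {E : Type*} [Ring E] [Algebra k E] [FiniteDimensional k E]
    [Nontrivial E] (hE : finrank k E ≤ 3) (σ : E ≃ₐ[k] E) :
    ∃ (r : ℕ) (χ : ℕ → E →ₐ[k] k), 0 < r ∧ r ≤ finrank k E ∧ (∀ i u, χ (i + 1) u = χ i (σ u)) ∧
      χ r = χ 0 ∧ LinearIndependent k fun i : Fin r => (χ i).toLinearMap := by
  obtain ⟨n, d, hd, π, hπ, hn⟩ := exists_wedderburn k E
  obtain ⟨χ⟩ : Nonempty (E →ₐ[k] k) := by
    rcases n with _ | n
    · obtain ⟨N, hN⟩ := isNilpotent_of_mem_nilpotent hn (x := 1) (Subsingleton.elim _ _)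
      simp at hN
    have h1 := LinearMap.finrank_le_finrank_of_surjective
      (f := ((Pi.evalAlgHom k _ 0).comp π).toLinearMap) ((Function.surjective_eval 0).comp hπ)
    rw [Module.finrank_matrix, finrank_self, Fintype.card_fin] at h1
    have h2 : d 0 = 1 := by nlinarith [hd 0]
    have h3 := Algebra.finrank_eq_one_iff_bijective_algebraMap.1
      (show finrank k (Matrix (Fin (d 0)) (Fin (d 0)) k) = 1 by simp [Module.finrank_matrix, h2])
    exact ⟨(AlgEquiv.ofBijective (Algebra.ofId k _) h3).symm.toAlgHom.comp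
      ((Pi.evalAlgHom k _ 0).comp π)⟩
  let F : (E →ₐ[k] k) → (E →ₐ[k] k) := fun ψ => ψ.comp σ.toAlgHom
  have hF : Function.Injective F := fun ψ ψ' e => AlgHom.ext fun u => by
    simpa [F] using DFunLike.congr_fun e (σ.symm u)
  have := Fintype.ofFinite (E →ₐ[k] k)
  refine ⟨Function.minimalPeriod F χ, fun i => F^[i] χ,
    Function.minimalPeriod_pos_of_mem_periodicPts (hF.mem_periodicPts χ),
    Function.minimalPeriod_le_card.trans (by simpa using card_algHom_le_finrank k E k),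
    fun i u => by simp only [Function.iterate_succ_apply']; rfl, Function.iterate_minimalPeriod,
    (linearIndependent_algHom_toLinearMap k E k).comp _ fun i j e => Fin.ext ?_⟩
  exact Function.iterate_injOn_Iio_minimalPeriod i.2 j.2 e

end Cfsg.Agent.Block.CK
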