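import Mathlib
import Cfsg.Agent.Block.CK1

/-! The graded symmetric quotient of a symmetric local algebra. -/

namespace Cfsg.Agent.Block.CK

open Module Submodule

section Chars

variable {k V : Type*} [Field k] [AddCommGroup V] [Module k V]

theorem exists_chars [IsAlgClosed k] [FiniteDimensional k V] [Nontrivial V] (hV : finrank k V ≤ 3)
    (T : V →ₗ[k] V →ₗ[k] V) (a : V) (h1 : ∀ v, T a v = v) (h2 : Function.Injective (T.flip a))
    (h3 : ∀ u v w, T (T u v) w = T (T u a) (T v w)) :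
    ∃ (r : ℕ) (ρ : ℕ → V →ₗ[k] k), 0 < r ∧ r ≤ finrank k V ∧ (∀ i, ρ i a = 1) ∧
      (∀ i u v, ρ i (T u v) = ρ (i + 1) u * ρ i v) ∧ (∀ i, ρ (r + i) = ρ i) ∧
      LinearIndependent k fun i : Fin r => ρ i := by
  let σ := LinearEquiv.ofInjectiveEndo (T.flip a) h2
  have hσ : ∀ u, σ u = T u a := fun _ => rfl
  have hτ : ∀ u, T (σ.symm u) a = u := fun u => σ.apply_symm_apply u
  have ha : σ.symm a = a := by rw [LinearEquiv.symm_apply_eq, hσ, h1]
  have h4 : ∀ u v, σ.symm (T u v) = T (σ.symm u) (σ.symm v) := fun u v => by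
    rw [LinearEquiv.symm_apply_eq, hσ, h3, hτ, hτ]
  letI : Ring V :=
    { (inferInstance : AddCommGroup V) with
      mul := fun u v => T (σ.symm u) v
      one := a
      left_distrib := fun u v w => map_add _ v w
      right_distrib := fun u v w => by
        change T (σ.symm (u + v)) w = T (σ.symm u) w + T (σ.symm v) w
        simp
      zero_mul := fun u => by
        change T (σ.symm 0) u = 0
        simp
      mul_zero := fun u => map_zero (T (σ.symm u))
      mul_assoc := fun u v w => by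
        change T (σ.symm (T (σ.symm u) v)) w = T (σ.symm u) (T (σ.symm v) w)
        rw [h4, h3, hτ]
      one_mul := fun u => by
        change T (σ.symm a) u = u
        rw [ha, h1]
      mul_one := hτ }
  letI : Algebra k V := Algebra.ofModule (fun c u v => by
    change T (σ.symm (c • u)) v = c • T (σ.symm u) v
    simp) fun c u v => map_smul (T (σ.symm u)) c v
  have hm : ∀ u v, σ u * v = T u v := fun u v => by
    change T (σ.symm (σ u)) v = T u v
    rw [σ.symm_apply_apply]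
  obtain ⟨r, χ, h5, h6, h7, h8, h9⟩ := exists_orbit (k := k) (E := V) hV
    (AlgEquiv.ofLinearEquiv σ (h1 a) fun u v => by
      rw [hm]
      change T (T (σ.symm u) v) a = T u (T v a)
      rw [h3, hτ])
  refine ⟨r, fun i => (χ i).toLinearMap, h5, h6, fun i => map_one (χ i), fun i u v => ?_,
    fun i => ?_, h9⟩
  · rw [← hm]
    exact (map_mul (χ i) _ _).trans (congrArg (· * χ i v) (h7 i u).symm)
  · induction i with
    | zero => exact congrArg _ h8
    | succ i ih => exact LinearMap.ext fun u =>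
        (h7 (r + i) u).trans ((LinearMap.congr_fun ih _).trans (h7 i u).symm)

end Chars

variable {k A : Type*} [Field k] [Ring A] [Algebra k A]

/-- The annihilator of `J ^ m`. -/
def ann (J : Submodule k A) (m : ℕ) : Submodule k A where
  carrier := {x | ∀ y ∈ J ^ m, x * y = 0}
  add_mem' ha hb y hy := by rw [add_mul, ha y hy, hb y hy, add_zero]
  zero_mem' y _ := zero_mul y
  smul_mem' c x hx y hy := by rw [smul_mul_assoc, hx y hy, smul_zero]

variable {J : Submodule k A} {s : A →ₗ[k] k}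

theorem mul_mem_ann {m : ℕ} {x : A} (hx : x ∈ ann J m) (u : A) : u * x ∈ ann J m :=
  fun y hy => by rw [mul_assoc, hx y hy, mul_zero]

theorem mul_pow_mem_ann {i m : ℕ} {x u : A} (hx : x ∈ ann J (i + m)) (hu : u ∈ J ^ i) :
    x * u ∈ ann J m := fun y hy => by rw [mul_assoc, hx _ (mul_mem_pow_add hu hy)]

theorem mul_mem_ann_pred {m : ℕ} {x u : A} (hx : x ∈ ann J (m + 1)) (hu : u ∈ J) :
    x * u ∈ ann J m := fun y hy => by rw [mul_assoc, hx _ (mul_mem_pow_succ' hu hy)]

theorem pow_le_ann {i m : ℕ} (h0 : J ^ (i + m) = ⊥) : J ^ i ≤ ann J m :=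
  fun _ hx _ hy => (mem_bot k).1 (h0 ▸ mul_mem_pow_add hx hy)

theorem eq_zero_of_ann {x : A} (hx : x ∈ ann J 0) : x = 0 := by
  simpa using hx 1 (by simp [one_le.1 le_rfl])

variable (h : SymLoc J s)
include h

theorem mul_left {n : ℕ} {a : A} (ha : a ∈ J ^ (n + 1)) (b : A) : b * a ∈ J ^ (n + 1) := by
  obtain ⟨c, hc⟩ := h.dec b
  have := add_mem (h.pow_succ_le n (mul_mem_pow_succ' hc ha)) (smul_mem _ c ha)
  rwa [sub_mul, smul_mul_assoc, one_mul, sub_add_cancel] at this

theorem mem_ann_of {m : ℕ} {x : A} (hx : ∀ y ∈ J ^ (m + 1), s (x * y) = 0) : x ∈ ann J (m + 1) :=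
  fun y hy => h.nd _ fun b => by rw [mul_assoc]; exact hx _ (h.mul_right hy b)

theorem pow_mul_mem_ann {i m : ℕ} {x u : A} (hu : u ∈ J ^ i) (hx : x ∈ ann J (m + i)) :
    u * x ∈ ann J m := by
  rcases i with _ | i
  · exact mul_mem_ann hx u
  · refine fun y hy => h.nd _ fun b => ?_
    rw [mul_assoc, mul_assoc, h.tr, mul_assoc, mul_assoc,
      hx _ (mul_mem_pow_add hy (mul_left h hu b)), map_zero]

theorem mul_mem_ann_pred' {m : ℕ} {x u : A} (hu : u ∈ J) (hx : x ∈ ann J (m + 1)) :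
    u * x ∈ ann J m := pow_mul_mem_ann h (i := 1) (by rwa [pow_one]) hx

theorem ann_succ_of {m : ℕ} {x : A} (hx : ∀ u ∈ J, u * x ∈ ann J m) : x ∈ ann J (m + 1) :=
  mem_ann_of h fun y hy => by
    rw [pow_succ] at hy
    refine Submodule.mul_induction_on hy (fun y hy u hu => ?_) fun y z hy hz => ?_
    · rw [← mul_assoc, h.tr, ← mul_assoc, hx u hu y hy, map_zero]
    · rw [mul_add, map_add, hy, hz, add_zero]

theorem finrank_ann [FiniteDimensional k A] (m : ℕ) :
    finrank k (J ^ m : Submodule k A) + finrank k (ann J m) ≤ finrank k A := by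
  let B : LinearMap.BilinForm k A := (LinearMap.mul k A).compr₂ s
  have h1 := B.finrank_add_finrank_orthogonal' (J ^ m)
  have h2 : B.ker = ⊥ := eq_bot_iff.2 fun a ha => h.nd a fun b => LinearMap.congr_fun ha b
  rw [h2, inf_bot_eq, finrank_bot, add_zero] at h1
  rw [← h1]
  refine Nat.add_le_add_left (finrank_mono fun x hx y hy => ?_) _
  change s (y * x) = 0
  rw [h.tr, hx y hy, map_zero]

omit h in
/-- `V` represents the degree one part of the graded symmetric quotient. -/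
structure Top (J V : Submodule k A) (M : ℕ) : Prop where
  ne : J ^ (M + 4) ≠ ⊥
  nil : J ^ (M + 5) = ⊥
  le : V ≤ J
  dec : ∀ x ∈ J, ∃ v : V, x - v ∈ ann J (M + 3)
  disj : ∀ v : V, (v : A) ∈ ann J (M + 3) → v = 0

theorem exists_top {n : ℕ} (hn : J ^ (n + 4) ≠ ⊥) : ∃ M V, n ≤ M ∧ Top J V M := by
  obtain ⟨M, h1, h2, h3⟩ : ∃ M, n ≤ M ∧ J ^ (M + 4) ≠ ⊥ ∧ J ^ (M + 5) = ⊥ := by
    by_contra! h1
    obtain ⟨N, hN⟩ := h.nil
    have : ∀ m, J ^ (n + m + 4) ≠ ⊥ := fun m => by
      induction m with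
      | zero => exact hn
      | succ m ih => exact h1 _ (Nat.le_add_right _ _) ih
    refine this N ?_
    rw [add_right_comm, pow_add, hN, mul_zero, zero_eq_bot]
  obtain ⟨V, h4, h5⟩ := IsModularLattice.exists_disjoint_and_sup_eq
    (inf_le_right : ann J (M + 3) ⊓ J ≤ J)
  have h6 : V ≤ J := le_sup_right.trans h5.le
  refine ⟨M, V, h1, h2, h3, h6, fun x hx => ?_, fun v hv => Subtype.ext ?_⟩
  · obtain ⟨y, hy, v, hv, rfl⟩ := mem_sup.1 (h5.ge hx)
    exact ⟨⟨v, hv⟩, by simpa using hy.1⟩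
  · exact disjoint_def.1 h4 _ ⟨hv, h6 v.2⟩ v.2

namespace Top

variable {V : Submodule k A} {M : ℕ} (t : Top J V M)
include t

omit h in
theorem mem (v : V) : (v : A) ∈ J := t.le v.2

omit h in
theorem pow_le {i j : ℕ} (hij : i + j = M + 5) : J ^ i ≤ ann J j := pow_le_ann (hij ▸ t.nil)

omit h in
theorem not_le {i j : ℕ} (hij : i + j = M + 4) : ¬ J ^ i ≤ ann J j := fun e => t.ne (by
  rw [← hij, pow_add, eq_bot_iff]
  exact mul_le.2 fun x hx y hy => e hx y hy)

omit h in
theorem nontrivial : Nontrivial V := by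
  by_contra h1
  rw [not_nontrivial_iff_subsingleton] at h1
  refine t.not_le (i := 1) (j := M + 3) (by omega) fun x hx => ?_
  obtain ⟨v, hv⟩ := t.dec x (by rwa [pow_one] at hx)
  simpa [Subsingleton.elim v 0] using hv

theorem mul_dec {x y : A} (hx : x ∈ J) (hy : y ∈ J) :
    ∃ u v : V, x * y - u * v ∈ ann J (M + 2) ∧ y * x - v * u ∈ ann J (M + 2) := by
  obtain ⟨u, hu⟩ := t.dec x hx
  obtain ⟨v, hv⟩ := t.dec y hy
  refine ⟨u, v, ?_, ?_⟩
  · convert add_mem (mul_mem_ann_pred hu hy) (mul_mem_ann_pred' h (t.mem u) hv) using 1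
    noncomm_ring
  · convert add_mem (mul_mem_ann_pred hv hx) (mul_mem_ann_pred' h (t.mem v) hu) using 1
    noncomm_ring

theorem ann_succ {m i : ℕ} (hm : m + i = M + 3) {z : A} (hz : z ∈ J ^ i)
    (hV : ∀ u : V, u * z ∈ ann J m) : z ∈ ann J (m + 1) := ann_succ_of h fun x hx => by
  obtain ⟨u, hu⟩ := t.dec x hx
  have := add_mem (mul_pow_mem_ann (m := m) (by rwa [add_comm, hm]) hz) (hV u)
  rwa [sub_mul, sub_add_cancel] at this

theorem pow_dec (i : ℕ) : J ^ (i + 1) ≤ V ^ (i + 1) ⊔ ann J (M + 3 - i) := by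
  induction i with
  | zero =>
    rw [pow_one, pow_one]
    intro x hx
    obtain ⟨v, hv⟩ := t.dec x hx
    exact mem_sup.2 ⟨v, v.2, _, hv, add_sub_cancel _ _⟩
  | succ i ih =>
    by_cases hi : M + 3 ≤ i
    · rw [le_bot_iff.1 ((h.pow_le (by omega) (by omega)).trans t.nil.le : J ^ (i + 1 + 1) ≤ ⊥)]
      exact bot_le
    rw [pow_succ J]
    refine mul_le.2 fun x hx y hy => ?_
    obtain ⟨x', hx', z, hz, rfl⟩ := mem_sup.1 (ih hx)
    obtain ⟨v, hv⟩ := t.dec y hy
    rw [show M + 3 - i = M + 3 - (i + 1) + 1 by omega] at hz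
    refine mem_sup.2 ⟨x' * v, mul_mem_pow_succ hx' v.2, _, add_mem (mul_mem_ann_pred hz hy)
      (pow_mul_mem_ann h (pow_le_pow_left' t.le _ hx') (by
        rwa [show M + 3 - (i + 1) + (i + 1) = M + 3 by omega])), ?_⟩
    noncomm_ring

section Gen

variable {a : V} (hs : ∀ u v : V, ∃ w : V, (u * v - a * w : A) ∈ ann J (M + 2))
include hs

theorem step {i j : ℕ} (hij : i + j = M + 3) {x : A} (hx : x ∈ J ^ (i + 1)) :
    ∃ w : V, x - a ^ i * w ∈ ann J j := by
  induction i generalizing j x with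
  | zero =>
    obtain rfl : j = M + 3 := by omega
    simpa using t.dec x (by simpa using hx)
  | succ i ih =>
    rw [pow_succ] at hx
    refine Submodule.mul_induction_on hx (fun y hy z hz => ?_) ?_
    · obtain ⟨w, hw⟩ := ih (j := j + 1) (by omega) hy
      obtain ⟨v, hv⟩ := t.dec z hz
      obtain ⟨w', hw'⟩ := hs w v
      have ha := pow_mem_pow J (t.mem a) i
      refine ⟨w', ?_⟩
      convert add_mem (add_mem (mul_mem_ann_pred hw hz) (pow_mul_mem_ann h (m := j)
        (mul_mem_pow_succ ha (t.mem w)) (by rwa [show j + (i + 1) = M + 3 by omega])))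
        (pow_mul_mem_ann h (m := j) ha (by rwa [show j + i = M + 2 by omega])) using 1
      rw [pow_succ]
      noncomm_ring
    · rintro y z ⟨w, hw⟩ ⟨w', hw'⟩
      refine ⟨w + w', ?_⟩
      convert add_mem hw hw' using 1
      rw [coe_add]
      noncomm_ring

theorem eq_zero_of_mul {y : V} (hy : ∀ x : V, s (a ^ (M + 2) * x * y) = 0) : y = 0 :=
  t.disj y (mem_ann_of h fun z hz => by
    obtain ⟨w, hw⟩ := t.step h hs (j := 1) rfl hz
    have := hw y (by rw [pow_one]; exact t.mem y)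
    rw [sub_mul, sub_eq_zero] at this
    rw [h.tr, this, hy])

theorem eq_zero_of_mul_gen {u : V} (hu : (u * a : A) ∈ ann J (M + 2)) : u = 0 :=
  t.eq_zero_of_mul h hs fun x => by
    rw [h.tr, pow_succ', mul_assoc, ← mul_assoc,
      hu _ (mul_mem_pow_succ (pow_mem_pow J (t.mem a) _) (t.mem x)), map_zero]

variable [FiniteDimensional k A]

theorem inj {i j : ℕ} (hij : i + j = M + 2) {v : V} (hv : (a ^ i * v : A) ∈ ann J (j + 1)) :
    v = 0 := by
  let B : V →ₗ[k] V →ₗ[k] k := (((LinearMap.mul k A).compr₂ s).compl₁₂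
    (LinearMap.mulLeft k (a ^ (M + 2) : A) ∘ₗ V.subtype) V.subtype)
  have h1 : Function.Injective B.flip := (injective_iff_map_eq_zero _).2 fun y hy =>
    t.eq_zero_of_mul h hs fun x => LinearMap.congr_fun hy x
  rw [LinearMap.flip_injective_iff₁, ← LinearMap.injective_iff_surjective_of_finrank_eq_finrank
    (Subspace.dual_finrank_eq).symm] at h1
  refine (injective_iff_map_eq_zero _).1 h1 v (LinearMap.ext fun y => ?_)
  have h2 := pow_mul_mem_ann h (m := 1) (pow_mem_pow J (t.mem a) j) (by rwa [add_comm])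
  rw [← mul_assoc, ← pow_add, add_comm, hij] at h2
  exact (congrArg s (h2 y (by rw [pow_one]; exact t.mem y))).trans (map_zero s)

theorem finrank_le {i : ℕ} (hi : i ≤ M + 2) :
    finrank k V + finrank k (J ^ (i + 2) : Submodule k A) ≤
      finrank k (J ^ (i + 1) : Submodule k A) := by
  obtain ⟨j, hj⟩ := Nat.exists_eq_add_of_le hi
  let f := LinearMap.mulLeft k (a ^ i : A) ∘ₗ V.subtype
  have h1 : ∀ v, f v ∈ J ^ (i + 2) → v = 0 := fun v hv =>
    t.inj h hs hj.symm (t.pow_le (by omega) hv)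
  have h2 := finrank_sup_add_finrank_inf_eq (LinearMap.range f) (J ^ (i + 2))
  rw [LinearMap.finrank_range_of_inj ((injective_iff_map_eq_zero _).2 fun v hv =>
    h1 v (hv ▸ zero_mem _)), (eq_bot_iff.2 (by
      rintro _ ⟨⟨v, rfl⟩, hv⟩
      rw [h1 v hv, map_zero]
      exact zero_mem _) : LinearMap.range f ⊓ J ^ (i + 2) = ⊥), finrank_bot, add_zero] at h2
  rw [← h2]
  refine finrank_mono (sup_le ?_ (h.pow_succ_le i))
  rintro _ ⟨v, rfl⟩
  exact mul_mem_pow_succ (pow_mem_pow J (t.mem a) i) (t.mem v)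

theorem exists_T : ∃ T : V →ₗ[k] V →ₗ[k] V, ∀ u v : V, (u * v - a * T u v : A) ∈ ann J (M + 2) := by
  choose T hT using hs
  have key : ∀ {x : A} {w w' : V}, x - a * w ∈ ann J (M + 2) → x - a * w' ∈ ann J (M + 2) →
      w = w' := fun {x w w'} h1 h2 => sub_eq_zero.1 (t.inj h (fun u v => ⟨_, hT u v⟩) (i := 1)
        (j := M + 1) (by omega) (by
          convert sub_mem h2 h1 using 1
          rw [Submodule.coe_sub]
          noncomm_ring))
  refine ⟨LinearMap.mk₂ k T (fun u u' v => key (hT _ _) ?_) (fun c u v => key (hT _ _) ?_)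
    (fun u v v' => key (hT _ _) ?_) (fun c u v => key (hT _ _) ?_), hT⟩
  · convert add_mem (hT u v) (hT u' v) using 1
    simp only [coe_add]
    noncomm_ring
  · simpa [smul_sub] using smul_mem _ c (hT u v)
  · convert add_mem (hT u v) (hT u v') using 1
    simp only [coe_add]
    noncomm_ring
  · simpa [smul_sub] using smul_mem _ c (hT u v)

end Gen

section Tw

variable [FiniteDimensional k A] {a : V} {T : V →ₗ[k] V →ₗ[k] V}
  (hT : ∀ u v : V, (u * v - a * T u v : A) ∈ ann J (M + 2))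
include hT

theorem cube (u v w : V) : (u * v * w - a ^ 2 * T (T u v) w : A) ∈ ann J (M + 1) ∧
    (u * v * w - a ^ 2 * T (T u a) (T v w) : A) ∈ ann J (M + 1) := by
  constructor
  · convert add_mem (mul_mem_ann_pred (hT u v) (t.mem w))
      (mul_mem_ann_pred' h (t.mem a) (hT (T u v) w)) using 1
    noncomm_ring
  · convert add_mem (add_mem (mul_mem_ann_pred' h (t.mem u) (hT v w))
      (mul_mem_ann_pred (hT u a) (t.mem (T v w))))
      (mul_mem_ann_pred' h (t.mem a) (hT (T u a) (T v w))) using 1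
    noncomm_ring

theorem chars [IsAlgClosed k] (hV : finrank k V ≤ 3) :
    ∃ (r : ℕ) (ρ : ℕ → V →ₗ[k] k), 0 < r ∧ r ≤ finrank k V ∧ (∀ i, ρ i a = 1) ∧
      (∀ i u v, ρ i (T u v) = ρ (i + 1) u * ρ i v) ∧ (∀ i, ρ (r + i) = ρ i) ∧
      LinearIndependent k fun i : Fin r => ρ i := by
  have hs := fun u v : V => (⟨_, hT u v⟩ : ∃ w : V, (u * v - a * w : A) ∈ ann J (M + 2))
  have := t.nontrivial
  refine exists_chars hV T a (fun v => (sub_eq_zero.1 (t.inj h hs (i := 1) (j := M + 1) (by omega)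
    (by simpa [mul_sub] using hT a v))).symm) ((injective_iff_map_eq_zero _).2 fun u hu =>
      t.eq_zero_of_mul_gen h hs (by simpa [show T u a = 0 from hu] using hT u a))
    fun u v w => sub_eq_zero.1 (t.inj h hs (i := 2) (j := M) (by omega) ?_)
  convert sub_mem (t.cube h hT u v w).2 (t.cube h hT u v w).1 using 1
  rw [Submodule.coe_sub]
  noncomm_ring

theorem eq_zero_of_le {i j : ℕ} (hij : i + j = M + 2) {f : V →ₗ[k] k} {K : Submodule k A}
    (hK : J ^ (i + 1) ≤ K ⊔ J ^ (i + 2))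
    (hf : K ≤ (LinearMap.ker f).map (LinearMap.mulLeft k (a ^ i : A) ∘ₗ V.subtype) ⊔
      ann J (j + 1)) : f = 0 := LinearMap.ext fun v => by
  obtain ⟨_, ⟨w, hw, rfl⟩, z, hz, e⟩ := mem_sup.1 ((hK.trans (sup_le hf
    ((t.pow_le (by omega)).trans le_sup_right)))
    (mul_mem_pow_succ (pow_mem_pow J (t.mem a) i) (t.mem v)))
  obtain rfl : v = w := sub_eq_zero.1 (t.inj h (fun u v => ⟨_, hT u v⟩) hij (by
    rw [Submodule.coe_sub, mul_sub, ← e]
    simpa using hz))
  exact hw

theorem deg_two (hK : J ^ 2 ≤ comms k A ⊔ J ^ 3) {f : V →ₗ[k] k}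
    (hf : ∀ u v, f (T u v) = f (T v u)) : f = 0 := by
  refine t.eq_zero_of_le h hT (i := 1) (j := M + 1) (by omega) hK
    (h.comms_le_of fun x hx y hy => ?_)
  obtain ⟨u, v, h1, h2⟩ := t.mul_dec h hx hy
  refine mem_sup.2 ⟨_, ⟨T u v - T v u, by simp [hf u v], rfl⟩, _,
    sub_mem (add_mem h1 (hT u v)) (add_mem h2 (hT v u)), ?_⟩
  simp only [LinearMap.comp_apply, subtype_apply, LinearMap.mulLeft_apply, Submodule.coe_sub]
  noncomm_ring

theorem deg_three
    (hK : J ^ 3 ≤ span k {z | ∃ x ∈ J, ∃ w ∈ J ^ 2, x * w - w * x = z} ⊔ J ^ 4) {f : V →ₗ[k] k}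
    (hf : ∀ u v, f (T (T u a) v) = f (T (T a v) u)) : f = 0 := by
  refine t.eq_zero_of_le h hT (i := 2) (j := M) (by omega) hK (span_le.2 ?_)
  rintro _ ⟨x, hx, w, hw, rfl⟩
  obtain ⟨u, hu⟩ := t.dec x hx
  obtain ⟨v, hv⟩ := t.step h (fun u v => ⟨_, hT u v⟩) (i := 1) (j := M + 2) (by omega) hw
  refine mem_sup.2 ⟨_, ⟨T (T u a) v - T (T a v) u, by simp [hf u v], rfl⟩, _, sub_mem
    (add_mem (add_mem (mul_pow_mem_ann (m := M + 1) (by rwa [show 2 + (M + 1) = M + 3 by omega]) hw)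
      (mul_mem_ann_pred' h (t.mem u) hv)) (t.cube h hT u a v).1)
    (add_mem (add_mem (pow_mul_mem_ann h (m := M + 1) hw hu)
      (mul_mem_ann_pred hv (t.mem u))) (t.cube h hT a v u).1), ?_⟩
  simp only [LinearMap.comp_apply, subtype_apply, LinearMap.mulLeft_apply, Submodule.coe_sub]
  noncomm_ring

end Tw

end Top

end Cfsg.Agent.Block.CK
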