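import Mathlib
import Cfsg.Agent.Block.CK2

/-! Symmetric local algebras with a five-dimensional centre (Chlebowitz–Külshammer). -/

namespace Cfsg.Agent.Block.CK

open Module Submodule

theorem alt_four {r : ℕ} (hr : r ≤ 3) {Q : Type*} [AddCommGroup Q]
    (F : Fin r → Fin r → Fin r → Fin r → Q) (h1 : ∀ i l n, F i i l n = 0)
    (h2 : ∀ i j n, F i j j n = 0) (h3 : ∀ i j l, F i j l l = 0)
    (s1 : ∀ i j l n, F i j l n + F j i l n = 0) (s3 : ∀ i j l n, F i j l n + F i j n l = 0)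
    (s2 : ∀ i j l n, F i j l n + F i l j n = 0) (i j l n : Fin r) : F i j l n = 0 := by
  have h13 : ∀ i j n, F i j i n = 0 := fun i j n => by simpa [h2] using s1 i j i n
  have h24 : ∀ i j l, F i j l j = 0 := fun i j l => by simpa [h3] using s2 i j l j
  have h14 : ∀ i j l, F i j l i = 0 := fun i j l => by simpa [h13] using s3 i j l i
  have : i = j ∨ i = l ∨ i = n ∨ j = l ∨ j = n ∨ l = n := by
    simp only [Fin.ext_iff]
    omega
  rcases this with rfl | rfl | rfl | rfl | rfl | rfl <;> simp [*]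

variable {k A : Type*} [Field k] [Ring A] [Algebra k A] {J : Submodule k A} {s : A →ₗ[k] k}
  (h : SymLoc J s)
include h

namespace Top

variable {V : Submodule k A} {M : ℕ} (t : Top J V M)
include t

omit h in
/-- The product of the graded quotient in degree one. -/
noncomputable def pm : V →ₗ[k] V →ₗ[k] (J ^ 2).map (ann J (M + 2)).mkQ :=
  LinearMap.codRestrict₂ (((LinearMap.mul k A).domRestrict₁₂ V V).compr₂ (ann J (M + 2)).mkQ)
    (Submodule.subtype _) (injective_subtype _) fun u v =>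
      ⟨⟨_, mem_map_of_mem (mul_mem_sq (t.mem u) (t.mem v))⟩, rfl⟩

omit h in
theorem pm_apply (u v : V) : (t.pm u v : A ⧸ ann J (M + 2)) = (ann J (M + 2)).mkQ (u * v) :=
  LinearMap.codRestrict₂_apply (((LinearMap.mul k A).domRestrict₁₂ V V).compr₂ (ann J (M + 2)).mkQ)
    (Submodule.subtype _) _ _ u v

omit h in
theorem pm_inj {u v u' v' : V} :
    t.pm u v = t.pm u' v' ↔ (u * v - u' * v' : A) ∈ ann J (M + 2) := by
  rw [Subtype.ext_iff, pm_apply, pm_apply, mkQ_apply, mkQ_apply, Submodule.Quotient.eq]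

theorem pm_nd (v : V) (hv : ∀ u, t.pm u v = 0) : v = 0 :=
  t.disj v (t.ann_succ h (i := 1) rfl (by rw [pow_one]; exact t.mem v) fun u => by
    simpa using t.pm_inj.1 ((hv u).trans (map_zero (t.pm 0)).symm))

omit h t in
theorem top_of_le {U : Submodule k ((J ^ 2).map (ann J (M + 2)).mkQ)}
    (hU : J ^ 2 ≤ (U.map (Submodule.subtype _)).comap (ann J (M + 2)).mkQ) : U = ⊤ :=
  eq_top_iff.2 fun ⟨_, x, hx, rfl⟩ _ => by
    obtain ⟨y, hy, e⟩ := hU hx
    exact (Subtype.ext e : y = ⟨_, x, hx, rfl⟩) ▸ hy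

omit h t in
theorem mem_comap_of {U : Submodule k (A ⧸ ann J (M + 2))} {x y : A}
    (hxy : x - y ∈ ann J (M + 2)) (hy : (ann J (M + 2)).mkQ y ∈ U) :
    x ∈ U.comap (ann J (M + 2)).mkQ := by
  rwa [mem_comap, mkQ_apply, (Submodule.Quotient.eq _).2 hxy]

omit h in
theorem gen_of_surj {a : V} (ha : Function.Surjective (t.pm a)) (u v : V) :
    ∃ w : V, (u * v - a * w : A) ∈ ann J (M + 2) :=
  (ha (t.pm u v)).imp fun _ hw => t.pm_inj.1 hw.symm

theorem not_compress {b c : V} {w : (J ^ 2).map (ann J (M + 2)).mkQ} (h1 : t.pm b c ≠ t.pm c b)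
    (h2 : ∀ u, t.pm u b ∈ span k {w} ∧ t.pm u c ∈ span k {w}) : False := by
  have hz : (b * c - c * b : A) ∉ ann J (M + 2) := mt t.pm_inj.2 h1
  have hz2 : (b * c - c * b : A) ∈ J ^ 2 :=
    sub_mem (mul_mem_sq (t.mem b) (t.mem c)) (mul_mem_sq (t.mem c) (t.mem b))
  obtain ⟨r, hr⟩ := mem_span_singleton.1 (sub_mem (h2 b).2 (h2 c).1)
  have hr0 : r ≠ 0 := fun e => h1 (sub_eq_zero.1 (by rw [← hr, e, zero_smul]))
  have h3 : ∀ (u : V) (i : Fin 2), ∃ β : k,
      (u * (![b, c] i : V) - β • (b * c - c * b) : A) ∈ ann J (M + 2) := fun u i => by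
    obtain ⟨r', hr'⟩ : ∃ r' : k, r' • w = t.pm u (![b, c] i) := by
      fin_cases i
      exacts [mem_span_singleton.1 (h2 u).1, mem_span_singleton.1 (h2 u).2]
    refine ⟨r' * r⁻¹, (Submodule.Quotient.eq _).1 ?_⟩
    rw [← mkQ_apply, ← mkQ_apply, map_smul, map_sub, ← pm_apply t, ← pm_apply t, ← pm_apply t,
      ← hr', ← Submodule.coe_sub, ← hr, ← coe_smul, smul_smul, inv_mul_cancel_right₀ hr0]
  generalize hzz : (b * c - c * b : A) = z at *
  choose β hβ using h3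
  have h4 : ∀ (x : V) i j, β (![b, c] i) j • (x * z : A) - β x i • (z * (![b, c] j : V)) ∈
      ann J (M + 1) := fun x i j => by
    convert sub_mem (mul_mem_ann_pred (hβ x i) (t.mem (![b, c] j)))
      (mul_mem_ann_pred' h (t.mem x) (hβ (![b, c] i) j)) using 1
    simp only [mul_sub, sub_mul, mul_smul_comm, smul_mul_assoc, mul_assoc]
    abel
  have h5 : β b 1 - β c 0 = 1 := by
    by_contra h5
    refine hz ((smul_mem_iff _ (sub_ne_zero.2 (Ne.symm h5))).1 ?_)
    convert sub_mem (hβ b 1) (hβ c 0) using 1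
    simp only [Matrix.cons_val_one, Matrix.cons_val_zero, sub_smul, one_smul]
    rw [sub_sub_sub_comm, hzz]
  have h6 : ∀ j, z * (![b, c] j : V) ∈ ann J (M + 1) := fun j => by
    by_contra h6
    obtain ⟨φ, h7, h8⟩ := exists_dual_map_eq_bot_of_notMem h6 inferInstance
    have h9 : ∀ l i j, β (![b, c] i) j * φ ((![b, c] l : V) * z) =
        β (![b, c] l) i * φ (z * (![b, c] j : V)) := fun l i j => by
      have := (mem_bot k).1 (h8 ▸ mem_map_of_mem (h4 (![b, c] l) i j))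
      rwa [map_sub, map_smul, map_smul, sub_eq_zero] at this
    refine mul_ne_zero h7 h7 ?_
    have h5' : β (![b, c] 0) 1 - β (![b, c] 1) 0 = 1 := h5
    linear_combination -(φ (z * (![b, c] j : V)) * h9 0 1 j + φ ((![b, c] 0 : V) * z) * h9 1 j j -
      φ (z * (![b, c] j : V)) * h9 1 0 j - φ ((![b, c] 1 : V) * z) * h9 0 j j) -
      φ (z * (![b, c] j : V)) ^ 2 * h5'
  refine hz (t.ann_succ h (i := 2) rfl hz2 fun x => ?_)
  have := sub_mem (add_mem (h4 x 0 1) (smul_mem _ (β x 0) (h6 1)))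
    (add_mem (h4 x 1 0) (smul_mem _ (β x 1) (h6 0)))
  simpa [← sub_smul, h5] using this

variable [FiniteDimensional k A]

theorem not_alt (hV : finrank k V ≤ 3) (g : V ≃ₗ[k] V) (hg : ∀ u, t.pm u (g u) = 0) : False := by
  have h1 : ∀ u : V, (u * g u : A) ∈ ann J (M + 2) := fun u => by
    simpa using t.pm_inj.1 ((hg u).trans (map_zero (t.pm 0)).symm)
  have h2 : ∀ u v : V, (u * g v + v * g u : A) ∈ ann J (M + 2) := fun u v => by
    convert sub_mem (sub_mem (h1 (u + v)) (h1 u)) (h1 v) using 1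
    simp only [map_add, coe_add]
    noncomm_ring
  have l1 : ∀ {x : A}, x ∈ ann J (M + 2) → ∀ u v : V, x * u * v ∈ ann J M := fun hx u v =>
    mul_mem_ann_pred (mul_mem_ann_pred hx (t.mem u)) (t.mem v)
  have l2 : ∀ {x : A}, x ∈ ann J (M + 2) → ∀ u v : V, u * x * v ∈ ann J M := fun hx u v =>
    mul_mem_ann_pred (mul_mem_ann_pred' h (t.mem u) hx) (t.mem v)
  have l3 : ∀ {x : A}, x ∈ ann J (M + 2) → ∀ u v : V, u * v * x ∈ ann J M := fun hx u v =>
    pow_mul_mem_ann h (mul_mem_sq (t.mem u) (t.mem v)) hx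
  let e := finBasis k V
  have h3 : ∀ f : V ≃ₗ[k] V, V = span k (Set.range fun i => (f (e i) : A)) := fun f => by
    have := congrArg (Submodule.map V.subtype) (e.map f).span_eq
    rw [map_subtype_top, map_span, ← Set.range_comp] at this
    exact this.symm
  have h0 : ∀ x, (ann J M).mkQ x = 0 ↔ x ∈ ann J M := fun x => Submodule.Quotient.mk_eq_zero _
  have h4 := alt_four hV (fun i j l n => (ann J M).mkQ
    (e i * g (e j) * g (g (e l)) * g (g (g (e n))))) (fun i l n => (h0 _).2 (l1 (h1 _) _ _))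
    (fun i j n => (h0 _).2 (by simpa [mul_assoc] using l2 (h1 (g (e j))) (e i) _))
    (fun i j l => (h0 _).2 (by simpa [mul_assoc] using l3 (h1 (g (g (e l)))) (e i) _))
    (fun i j l n => by rw [← map_add, h0, ← add_mul, ← add_mul]; exact l1 (h2 _ _) _ _)
    (fun i j l n => by
      rw [← map_add, h0]
      simpa [mul_assoc, mul_add] using l3 (h2 (g (g (e l))) (g (g (e n)))) (e i) _)
    (fun i j l n => by
      rw [← map_add, h0]
      simpa [mul_assoc, mul_add, add_mul] using l2 (h2 (g (e j)) (g (e l))) (e i) _)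
  refine t.not_le (i := 4) (j := M) (add_comm _ _) ((t.pow_dec h 3).trans (sup_le ?_ le_rfl))
  rw [pow_succ, pow_succ, pow_succ, pow_succ, pow_zero, one_mul]
  conv_lhs => rw [congrArg₂ (· * ·) (congrArg₂ (· * ·) (congrArg₂ (· * ·) (h3 (.refl _ _)) (h3 g))
    (h3 (g.trans g))) (h3 ((g.trans g).trans g))]
  rw [span_mul_span, span_mul_span, span_mul_span, span_le]
  rintro _ ⟨_, ⟨_, ⟨_, ⟨i, rfl⟩, _, ⟨j, rfl⟩, rfl⟩, _, ⟨l, rfl⟩, rfl⟩, _, ⟨n, rfl⟩, rfl⟩
  exact (h0 _).1 (h4 i j l n)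

theorem exists_gen_three [Infinite k] (hV : finrank k V ≤ 3) (hK : J ^ 2 ≤ comms k A ⊔ J ^ 3) :
    ∃ a : V, ∀ u v : V, ∃ w : V, (u * v - a * w : A) ∈ ann J (M + 2) := by
  rcases trichotomy t.pm hV (t.pm_nd h) fun U hU => top_of_le (hK.trans (sup_le
    (h.comms_le_of fun x hx y hy => by
      obtain ⟨u, v, h1, h2⟩ := t.mul_dec h hx hy
      exact mem_comap_of (y := u * v - v * u) (by simpa [sub_sub_sub_comm] using sub_mem h1 h2)
        ⟨_, hU u v, by simp [pm_apply]⟩) fun x hx => mem_comap_of (y := 0)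
      (by simpa using t.pow_le (by omega) hx) (by simp))) with ⟨a, ha⟩ | ⟨b, c, w, h1, h2⟩ | ⟨g, hg⟩
  · exact ⟨a, t.gen_of_surj ha⟩
  · exact (t.not_compress h h1 h2).elim
  · exact (t.not_alt h hV g hg).elim

theorem exists_gen_two
    (h2 : finrank k (J ^ 2 : Submodule k A) ≤ finrank k (J ^ 3 : Submodule k A) + 2) :
    ∃ a : V, ∀ u v : V, ∃ w : V, (u * v - a * w : A) ∈ ann J (M + 2) := by
  obtain ⟨a, ha⟩ := exists_surj_two t.pm (t.pm_nd h) (fun U hU => top_of_le (by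
    refine (sq J).le.trans (mul_le.2 fun x hx y hy => ?_)
    obtain ⟨u, v, h1, -⟩ := t.mul_dec h hx hy
    exact mem_comap_of h1 ⟨_, hU u v, t.pm_apply u v⟩)) (by
    obtain ⟨p, -, q, -, h3⟩ := exists_le_span_sup₂ (h.pow_succ_le 1) h2
    have h4 := map_mono (f := (ann J (M + 2)).mkQ) (h3.trans (sup_le_sup_left (sup_le_sup_left
      (t.pow_le (j := M + 2) (by omega)) _) _))
    rw [Submodule.map_sup, Submodule.map_sup, mkQ_map_self, map_span, map_span, Set.image_singleton,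
      Set.image_singleton] at h4
    have h5 := finrank_sup_span_le (k := k) ((ann J (M + 2)).mkQ q) ⊥
    rw [finrank_bot] at h5
    exact (finrank_mono h4).trans ((finrank_sup_span_le _ _).trans (by omega)))
  exact ⟨a, t.gen_of_surj ha⟩

theorem finrank_add_le : finrank k V + finrank k (J ^ 2 : Submodule k A) ≤ finrank k J := by
  have h2 := finrank_sup_add_finrank_inf_eq V (J ^ 2)
  rw [(eq_bot_iff.2 fun v hv => congrArg Subtype.val (t.disj ⟨v, hv.1⟩
    (t.pow_le (by omega) hv.2)) : V ⊓ J ^ 2 = ⊥), finrank_bot, add_zero] at h2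
  exact h2 ▸ finrank_mono (sup_le t.le h.sq_le)

end Top

theorem comms_le_three {x y z : A} (hx : x ∈ J) (hy : y ∈ J) (hz : z ∈ J)
    (hJ : J ≤ span k {x} ⊔ (span k {y} ⊔ (span k {z} ⊔ J ^ 2))) :
    comms k A ≤ span k {x * y - y * x} ⊔ (span k {x * z - z * x} ⊔ (span k {y * z - z * y} ⊔
      span k {c | ∃ x ∈ J, ∃ w ∈ J ^ 2, x * w - w * x = c})) := h.comms_le_of fun a ha b hb => by
  obtain ⟨a₁, h1⟩ := mem_span_sup.1 (hJ ha)
  obtain ⟨a₂, h2⟩ := mem_span_sup.1 h1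
  obtain ⟨a₃, h3⟩ := mem_span_sup.1 h2
  obtain ⟨b₁, h4⟩ := mem_span_sup.1 (hJ hb)
  obtain ⟨b₂, h5⟩ := mem_span_sup.1 h4
  obtain ⟨b₃, h6⟩ := mem_span_sup.1 h5
  have hb' := add_mem (add_mem (smul_mem _ b₁ hx) (smul_mem _ b₂ hy)) (smul_mem _ b₃ hz)
  refine mem_span_sup.2 ⟨a₁ * b₂ - a₂ * b₁, mem_span_sup.2 ⟨a₁ * b₃ - a₃ * b₁,
    mem_span_sup.2 ⟨a₂ * b₃ - a₃ * b₂, ?_⟩⟩⟩
  have key : ∀ x ∈ J, ∀ w ∈ J ^ 2,
      x * w - w * x ∈ span k {c | ∃ x ∈ J, ∃ w ∈ J ^ 2, x * w - w * x = c} :=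
    fun x hx w hw => subset_span ⟨x, hx, w, hw, rfl⟩
  convert sub_mem (key a ha _ h6) (key _ hb' _ h3) using 1
  simp only [mul_sub, sub_mul, mul_add, add_mul, mul_smul_comm, smul_mul_assoc, smul_sub, smul_add,
    sub_smul, smul_smul]
  module

omit h in
theorem span_comm_le :
    span k {c | ∃ x ∈ J, ∃ w ∈ J ^ 2, x * w - w * x = c} ≤ comms k A ⊓ J ^ 3 := span_le.2 (by
  rintro _ ⟨x, hx, w, hw, rfl⟩
  exact ⟨sub_mem_comms _ _, sub_mem (mul_mem_pow_succ' hx hw) (mul_mem_pow_succ hw hx)⟩)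

theorem cube_le [FiniteDimensional k A] (h4 : J ^ 4 ≠ ⊥)
    (hr : finrank k (J ^ 3 : Submodule k A) ≤
      finrank k (span k {c | ∃ x ∈ J, ∃ w ∈ J ^ 2, x * w - w * x = c}) + 1) :
    J ^ 3 ≤ span k {c | ∃ x ∈ J, ∃ w ∈ J ^ 2, x * w - w * x = c} ⊔ J ^ 4 := by
  obtain ⟨w, hw, h0⟩ := h.exists_ne_zero h4
  exact (eq_of_le_of_finrank_le (sup_le (span_comm_le.trans inf_le_right) (h.pow_succ_le 2))
    (hr.trans (finrank_lt_finrank_of_lt (lt_of_le_of_ne le_sup_left fun e => h0 (h.comms_le_ker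
      (span_comm_le (e ▸ mem_sup_right hw)).1))))).ge

theorem three [IsAlgClosed k] [FiniteDimensional k A]
    (hn : finrank k J ≤ finrank k (J ^ 2 : Submodule k A) + 3)
    (hK : finrank k (J ^ 2 : Submodule k A) ≤ finrank k (comms k A) + 1) : J ^ 4 = ⊥ := by
  by_contra h4
  obtain ⟨M, V, -, t⟩ := exists_top h (n := 0) h4
  have hV : finrank k V ≤ 3 := by have := t.finrank_add_le h; omega
  have h2 := h.sup_le_of_finrank h.comms_le_sq (fun e => h4 (le_bot_iff.1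
    ((h.pow_succ_le 2).trans e.le))) (h.pow_succ_le 1) hK
  obtain ⟨a, ha⟩ := t.exists_gen_three h hV h2
  obtain ⟨T, hT⟩ := t.exists_T h ha
  obtain ⟨r, ρ, h5, h6, h7, h8, h9, h10⟩ := t.chars h hT hV
  have h11 : ∑ i : Fin r, ρ i ≠ 0 := fun e => one_ne_zero
    (Fintype.linearIndependent_iff.1 h10 (fun _ => 1) (by simpa using e) ⟨0, h5⟩)
  obtain rfl | rfl | rfl : r = 1 ∨ r = 2 ∨ r = 3 := by omega
  · exact h11 (t.deg_two h hT h2 fun u v => by simp [h8, h9 0, mul_comm])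
  · exact h11 (t.deg_two h hT h2 fun u v => by simp [h8, h9 0, mul_comm, add_comm])
  obtain ⟨z, hz, h12⟩ := exists_finrank_sup h.sq_le (n := 2) hn
  obtain ⟨x, hx, y, hy, h13⟩ := exists_le_span_sup₂
    (sup_le ((span_singleton_le_iff_mem _ _).2 hz) h.sq_le) h12
  have h14 := (finrank_mono (comms_le_three h hx hy hz h13)).trans ((finrank_sup_span_le _ _).trans
    (Nat.succ_le_succ ((finrank_sup_span_le _ _).trans
      (Nat.succ_le_succ (finrank_sup_span_le _ _)))))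
  have h15 : _ + finrank k (J ^ 3 : Submodule k A) ≤ finrank k (J ^ 2 : Submodule k A) :=
    t.finrank_le h ha (i := 1) (by omega)
  refine h11 (t.deg_three h hT (cube_le h h4 (by omega)) fun u v => ?_)
  simp [Fin.sum_univ_three, h8, h7, h9 0, h9 1]
  ring

omit h in
theorem pow_succ_le_of {i : ℕ} {p q x y : A} {U : Submodule k A} (hp : p ∈ J ^ i) (hq : q ∈ J ^ i)
    (hi : J ^ i ≤ span k {p} ⊔ (span k {q} ⊔ J ^ (i + 1)))
    (hJ : J ≤ span k {x} ⊔ (span k {y} ⊔ J ^ 2)) (hU : J ^ (i + 2) ≤ U) (h1 : p * x ∈ U)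
    (h2 : p * y ∈ U) (h3 : q * x ∈ U) (h4 : q * y ∈ U) : J ^ (i + 1) ≤ U := by
  rw [pow_succ]
  refine mul_le.2 fun a ha b hb => ?_
  obtain ⟨a₁, h5⟩ := mem_span_sup.1 (hi ha)
  obtain ⟨a₂, h6⟩ := mem_span_sup.1 h5
  obtain ⟨b₁, h7⟩ := mem_span_sup.1 (hJ hb)
  obtain ⟨b₂, h8⟩ := mem_span_sup.1 h7
  convert add_mem (add_mem (hU (mul_mem_pow_succ h6 hb)) (hU (mul_mem_pow_add
    (add_mem (smul_mem _ a₁ hp) (smul_mem _ a₂ hq)) h8))) (add_mem (add_mem
    (smul_mem _ (a₁ * b₁) h1) (smul_mem _ (a₁ * b₂) h2)) (add_mem (smul_mem _ (a₂ * b₁) h3)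
    (smul_mem _ (a₂ * b₂) h4))) using 1
  simp only [mul_sub, sub_mul, mul_add, add_mul, mul_smul_comm, smul_mul_assoc, smul_sub, smul_add,
    smul_smul]
  module

theorem comms_le_of_gen {x y : A} (hx : x ∈ J) (hy : y ∈ J)
    (hJ : J ≤ span k {x} ⊔ (span k {y} ⊔ J ^ 2)) {U : Submodule k A}
    (h1 : ∀ w ∈ J, x * w - w * x ∈ U) (h2 : ∀ w ∈ J, y * w - w * y ∈ U) : comms k A ≤ U := by
  let C : Submodule k A := J ⊓ ⨅ w : A, U.comap (LinearMap.mulRight k w - LinearMap.mulLeft k w)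
  have hC : ∀ u, u ∈ C ↔ u ∈ J ∧ ∀ w, u * w - w * u ∈ U := fun u => by simp [C]
  have key : ∀ u ∈ J, (∀ w ∈ J, u * w - w * u ∈ U) → u ∈ C := fun u hu h1 =>
    (hC u).2 ⟨hu, fun w => by
      obtain ⟨c, hc⟩ := h.dec w
      simpa [mul_sub, sub_mul] using h1 _ hc⟩
  have h3 := h.le_of_le_sup (C := C) (mul_le.2 fun u hu v hv => (hC _).2
    ⟨h.mul (mul_mem_mul hu.1 hv.1), fun w => by
      convert add_mem (((hC u).1 hu).2 (v * w)) (((hC v).1 hv).2 (w * u)) using 1
      noncomm_ring⟩) inf_le_left (hJ.trans (sup_le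
        (le_sup_of_le_left ((span_singleton_le_iff_mem _ _).2 (key x hx h1)))
        (sup_le_sup_right ((span_singleton_le_iff_mem _ _).2 (key y hy h2)) _)))
  exact h.comms_le_of fun a ha b _ => ((hC a).1 (h3 ha)).2 b

theorem comms_le_dihedral {x y : A} (hx : x ∈ J) (hy : y ∈ J)
    (hJ : J ≤ span k {x} ⊔ (span k {y} ⊔ J ^ 2)) (hxx : x * x ∈ J ^ 3) (hyy : y * y ∈ J ^ 3) :
    comms k A ⊔ J ^ 5 ≤ span k {x * y - y * x} ⊔ (span k {x * (x * y) - x * y * x} ⊔
      (span k {y * (x * y) - x * y * y} ⊔ (span k {x * (y * x * y) - y * x * y * x} ⊔ J ^ 5))) := by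
  have m1 : ∀ {a : A} {W : Submodule k A}, a ∈ span k {a} ⊔ W :=
    mem_sup_left (mem_span_singleton_self _)
  have h2 : J ^ 2 ≤ span k {x * y} ⊔ (span k {y * x} ⊔ J ^ 3) :=
    pow_succ_le_of (i := 1) (by rwa [pow_one]) (by rwa [pow_one]) (by rwa [pow_one]) hJ
      (le_sup_of_le_right le_sup_right) (mem_sup_right (mem_sup_right hxx)) m1
      (mem_sup_right m1) (mem_sup_right (mem_sup_right hyy))
  have h3 : J ^ 3 ≤ span k {x * y * x} ⊔ (span k {y * x * y} ⊔ J ^ 4) :=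
    pow_succ_le_of (mul_mem_sq hx hy) (mul_mem_sq hy hx) h2 hJ
      (le_sup_of_le_right le_sup_right) m1
      (mem_sup_right (mem_sup_right (mul_assoc x y y ▸ mul_mem_pow_succ' hx hyy)))
      (mem_sup_right (mem_sup_right (mul_assoc y x x ▸ mul_mem_pow_succ' hy hxx)))
      (mem_sup_right m1)
  suffices ∀ U : Submodule k A, x * y - y * x ∈ U → x * (x * y) - x * y * x ∈ U →
      y * (x * y) - x * y * y ∈ U → x * (y * x * y) - y * x * y * x ∈ U → J ^ 5 ≤ U →
      comms k A ⊔ J ^ 5 ≤ U from this _ m1 (mem_sup_right m1) (mem_sup_right (mem_sup_right m1))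
    (mem_sup_right (mem_sup_right (mem_sup_right m1)))
    (le_sup_of_le_right (le_sup_of_le_right (le_sup_of_le_right le_sup_right)))
  intro U c1 c2 c3 c4 h5
  obtain ⟨C, hC⟩ : ∃ C : A → Submodule k A, ∀ u w, w ∈ C u ↔ u * w - w * u ∈ U :=
    ⟨fun u => U.comap (LinearMap.mulLeft k u - LinearMap.mulRight k u), fun _ _ => Iff.rfl⟩
  have step : ∀ {u p q : A} {W W' : Submodule k A}, W ≤ span k {p} ⊔ (span k {q} ⊔ W') →
      u * p - p * u ∈ U → u * q - q * u ∈ U → W' ≤ C u → W ≤ C u := fun e h1 h2 h3 =>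
    e.trans (sup_le ((span_singleton_le_iff_mem _ _).2 ((hC _ _).2 h1))
      (sup_le ((span_singleton_le_iff_mem _ _).2 ((hC _ _).2 h2)) h3))
  have l4 : ∀ {u}, u ∈ J → J ^ 4 ≤ C u := fun hu w hw =>
    (hC _ _).2 (h5 (sub_mem (mul_mem_pow_succ' hu hw) (mul_mem_pow_succ hw hu)))
  have l0 : ∀ {x y}, x ∈ J → y ∈ J → x * x ∈ J ^ 3 → x * (x * y * x) - x * y * x * x ∈ U :=
    fun {x y} hx hy hxx => h5 (by
      have e1 : x * x * (y * x) ∈ J ^ 5 := mul_mem_pow_add hxx (mul_mem_sq hy hx)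
      have e2 : x * y * (x * x) ∈ J ^ 5 := mul_mem_pow_add (mul_mem_sq hx hy) hxx
      convert sub_mem e1 e2 using 1
      noncomm_ring)
  have l3x : J ^ 3 ≤ C x := step h3 (l0 hx hy hxx) c4 (l4 hx)
  have l3y : J ^ 3 ≤ C y := step h3 (by convert neg_mem c4 using 1; noncomm_ring)
    (l0 hy hx hyy) (l4 hy)
  have l2x : J ^ 2 ≤ C x := step h2 c2 (by
    convert neg_mem (add_mem c2 ((hC _ _).1 (l3y hxx))) using 1
    noncomm_ring) l3x
  have l2y : J ^ 2 ≤ C y := step h2 c3 (by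
    convert neg_mem (add_mem c3 ((hC _ _).1 (l3x hyy))) using 1
    noncomm_ring) l3y
  exact sup_le (comms_le_of_gen h hx hy hJ (fun w hw => (hC _ _).1 (step hJ (by simp) c1 l2x hw))
    fun w hw => (hC _ _).1 (step hJ (by simpa using neg_mem c1) (by simp) l2y hw)) h5

variable [FiniteDimensional k A]

omit h in
theorem le_sup_of_finrank {U W : Submodule k A} {x : A} (hx : x ∈ U) (hx' : x ∉ W) (hW : W ≤ U)
    (hr : finrank k U ≤ finrank k W + 1) : U ≤ span k {x} ⊔ W :=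
  (eq_of_le_of_finrank_le (sup_le ((span_singleton_le_iff_mem _ _).2 hx) hW)
    (hr.trans (finrank_lt_finrank_of_lt (lt_of_le_of_ne le_sup_right fun e =>
      hx' (e ▸ mem_sup_left (mem_span_singleton_self x)))))).ge

theorem Top.mem_of_ann {V : Submodule k A} {M : ℕ} (t : Top J V M) {a : V}
    (ha : ∀ u v : V, ∃ w : V, (u * v - a * w : A) ∈ ann J (M + 2)) {i j : ℕ} (hij : i + j = M + 2)
    (hr : finrank k (J ^ (i + 1) : Submodule k A) ≤
      finrank k V + finrank k (J ^ (i + 2) : Submodule k A)) {z : A} (hz : z ∈ J ^ (i + 1))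
    (hz' : z ∈ ann J (j + 1)) : z ∈ J ^ (i + 2) := by
  let f := LinearMap.mulLeft k (a ^ i : A) ∘ₗ V.subtype
  have h1 : ∀ v, f v ∈ ann J (j + 1) → v = 0 := fun v hv => t.inj h ha hij hv
  have h0 : J ^ (i + 2) ≤ ann J (j + 1) := t.pow_le (by omega)
  have h2 := finrank_sup_add_finrank_inf_eq (LinearMap.range f) (J ^ (i + 2))
  rw [LinearMap.finrank_range_of_inj ((injective_iff_map_eq_zero _).2 fun v hv =>
    h1 v (hv ▸ zero_mem _)), (eq_bot_iff.2 (by
      rintro _ ⟨⟨v, rfl⟩, hv⟩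
      rw [h1 v (h0 hv), map_zero]
      exact zero_mem _) : LinearMap.range f ⊓ J ^ (i + 2) = ⊥), finrank_bot, add_zero] at h2
  obtain ⟨_, ⟨v, rfl⟩, w, hw, rfl⟩ := mem_sup.1 ((eq_of_le_of_finrank_le (sup_le (by
    rintro _ ⟨v, rfl⟩
    exact mul_mem_pow_succ (pow_mem_pow J (t.mem a) i) (t.mem v)) (h.pow_succ_le i))
    (h2 ▸ hr)).ge hz)
  rwa [h1 v ((Submodule.add_mem_iff_left _ (h0 hw)).1 hz'), map_zero, zero_add]

theorem Top.comms_le_four {V : Submodule k A} {M : ℕ} (t : Top J V (M + 1)) {a : V} (ha0 : a ≠ 0)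
    (ha : ∀ u v : V, ∃ w : V, (u * v - a * w : A) ∈ ann J (M + 1 + 2))
    (hn : finrank k J ≤ finrank k (J ^ 2 : Submodule k A) + 2)
    (h2 : finrank k (J ^ 2 : Submodule k A) ≤ finrank k (J ^ 3 : Submodule k A) + 1) :
    comms k A ≤ J ^ 4 := by
  have hinj : ∀ i j, i + j = M + 3 → (a ^ i * a : A) ∉ J ^ (i + 2) := fun i j hij e =>
    ha0 (t.inj h ha hij (t.pow_le (by omega) e))
  have haJ := t.mem a
  have h3 : finrank k V + finrank k (J ^ 3 : Submodule k A) ≤ finrank k (J ^ 2 : Submodule k A) :=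
    t.finrank_le h ha (i := 1) (by omega)
  have h1 : ∀ v : V, ∃ c : k, c • a = v := (finrank_eq_one_iff_of_nonzero' a ha0).1
    (le_antisymm (by omega) (by have := t.nontrivial; exact finrank_pos))
  have ha2 : (a : A) ∉ J ^ 2 := by simpa using hinj 0 _ (zero_add _)
  obtain ⟨y, hy, hy', h4⟩ : ∃ y ∈ J, y ∈ ann J (M + 1 + 3) ∧
      J ≤ span k {(a : A)} ⊔ (span k {y} ⊔ J ^ 2) := by
    obtain ⟨y, hy, h4⟩ := exists_le_span_sup (sup_le ((span_singleton_le_iff_mem _ _).2 haJ)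
      h.sq_le) (hn.trans (Nat.succ_le_succ (finrank_lt_finrank_of_lt (lt_of_le_of_ne le_sup_right
        fun e => ha2 (e ▸ mem_sup_left (mem_span_singleton_self _))))))
    obtain ⟨v, hv⟩ := t.dec y hy
    obtain ⟨c, rfl⟩ := h1 v
    refine ⟨_, sub_mem hy (t.mem _), hv, h4.trans (sup_le ((span_singleton_le_iff_mem _ _).2 ?_)
      (sup_le_sup_left le_sup_right _))⟩
    exact mem_span_sup.2 ⟨c, mem_sup_left (mem_span_singleton_self _)⟩
  have h5 : J ^ 2 ≤ span k {(a * a : A)} ⊔ J ^ 3 := le_sup_of_finrank (mul_mem_sq haJ haJ)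
    (by simpa using hinj 1 (M + 2) (by omega)) (h.pow_succ_le 1) h2
  have h6 : ∀ z ∈ J ^ 2, z ∈ ann J (M + 1 + 2) → z ∈ J ^ 3 := fun z hz hz' => by
    obtain ⟨c, hc⟩ := mem_span_sup.1 (h5 hz)
    obtain rfl : c = 0 := by
      have := t.inj h ha (i := 1) (j := M + 2) (by omega) (v := c • a) (by
        simpa using sub_mem hz' (t.pow_le (by omega) hc))
      exact (smul_eq_zero.1 this).resolve_right ha0
    simpa using hc
  have hay := h6 _ (mul_mem_sq haJ hy) (mul_mem_ann_pred' h haJ hy')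
  have hya := h6 _ (mul_mem_sq hy haJ) (mul_mem_ann_pred hy' haJ)
  have h7 : J ^ 3 ≤ span k {(a * a * a : A)} ⊔ J ^ 4 :=
    pow_succ_le_of (mul_mem_sq haJ haJ) (zero_mem _) (by simpa using h5) h4 le_sup_right
      (mem_sup_left (mem_span_singleton_self _))
      (mem_sup_right (mul_assoc (a : A) a y ▸ mul_mem_pow_succ' haJ hay)) (by simp) (by simp)
  obtain ⟨α, hα⟩ := mem_span_sup.1 (h7 hay)
  obtain ⟨β, hβ⟩ := mem_span_sup.1 (h7 hya)
  obtain rfl : α = β := by
    by_contra e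
    refine hinj 3 M (add_comm _ _) ((smul_mem_iff _ (sub_ne_zero.2 e)).1 ?_)
    convert sub_mem (mul_mem_pow_succ' haJ hβ) (mul_mem_pow_succ hα haJ) using 1
    simp only [mul_sub, sub_mul, mul_smul_comm, smul_mul_assoc, sub_smul, pow_succ, pow_zero,
      one_mul, mul_assoc]
    abel
  have h8 : (a * y - y * a : A) ∈ J ^ 4 := by simpa using sub_mem hα hβ
  have h9 : comms k A ≤ J ^ 3 := (h.comms_le_of_gens haJ hy h4).trans
    (sup_le ((span_singleton_le_iff_mem _ _).2 (h.pow_succ_le 2 h8)) le_rfl)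
  refine (comms_le_three h haJ hy (zero_mem _) (by simpa using h4)).trans
    (sup_le ((span_singleton_le_iff_mem _ _).2 h8) ?_)
  simp only [mul_zero, zero_mul, sub_self, span_zero_singleton, bot_sup_eq, span_le]
  rintro _ ⟨x, hx, w, hw, rfl⟩
  obtain ⟨c, hc⟩ := mem_span_sup.1 (h5 hw)
  rw [SetLike.mem_coe]
  convert add_mem (sub_mem (mul_mem_pow_succ' hx hc) (mul_mem_pow_succ hc hx)) (smul_mem _ c
    (add_mem (mul_mem_pow_succ (h9 (sub_mem_comms x a)) haJ)
      (mul_mem_pow_succ' haJ (h9 (sub_mem_comms x a))))) using 1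
  simp only [mul_sub, sub_mul, mul_smul_comm, smul_mul_assoc, smul_add, smul_sub, mul_assoc]
  abel

theorem two [IsAlgClosed k] (hn : finrank k J ≤ finrank k (J ^ 2 : Submodule k A) + 2)
    (hK : finrank k (J ^ 2 : Submodule k A) ≤ finrank k (comms k A) + 2)
    (h2 : finrank k (J ^ 2 : Submodule k A) ≤ finrank k (J ^ 3 : Submodule k A) + 2) :
    J ^ 5 = ⊥ := by
  by_contra h5
  obtain ⟨M, V, hM, t⟩ := exists_top h (n := 1) h5
  obtain ⟨M, rfl⟩ := Nat.exists_eq_add_of_le' hM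
  have h4 : J ^ 4 ≠ ⊥ := fun e => h5 (le_bot_iff.1 ((h.pow_succ_le 3).trans e.le))
  have hV := t.finrank_add_le h
  obtain ⟨a, ha⟩ := t.exists_gen_two h h2
  obtain ⟨T, hT⟩ := t.exists_T h ha
  obtain ⟨r, ρ, h6, h7, h8, h9, h10, h11⟩ := t.chars h hT (by omega)
  have d2 : _ + finrank k (J ^ 3 : Submodule k A) ≤ finrank k (J ^ 2 : Submodule k A) :=
    t.finrank_le h ha (i := 1) (by omega)
  have d3 : _ + finrank k (J ^ 4 : Submodule k A) ≤ finrank k (J ^ 3 : Submodule k A) :=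
    t.finrank_le h ha (i := 2) (by omega)
  have d4 : _ + finrank k (J ^ 5 : Submodule k A) ≤ finrank k (J ^ 4 : Submodule k A) :=
    t.finrank_le h ha (i := 3) (by omega)
  obtain rfl | rfl : r = 1 ∨ r = 2 := by omega
  · by_cases h12 : finrank k (J ^ 2 : Submodule k A) ≤ finrank k (J ^ 3 : Submodule k A) + 1
    · have := h.finrank_comms_lt h4 (t.comms_le_four h (a := a)
        (fun e => by simpa [e] using h8 0) ha hn h12) le_rfl
      omega
    obtain ⟨x, hx, y, hy, h13⟩ := exists_le_span_sup₂ h.sq_le hn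
    have h14 := comms_le_three h hx hy (zero_mem _) (by simpa using h13)
    simp only [mul_zero, zero_mul, sub_self, span_zero_singleton, bot_sup_eq] at h14
    have h15 := (finrank_mono h14).trans (finrank_sup_span_le _ _)
    have h16 := t.deg_three h hT (cube_le h h4 (by omega)) (f := ρ 0) fun u v => by
      simp [h9, h8, h10 0, h10 1, mul_comm]
    simpa [h16] using h8 0
  obtain ⟨v, hv⟩ : ∃ v, ρ 0 v ≠ ρ 1 v := by
    by_contra! e
    simpa using h11.injective (a₁ := 0) (a₂ := 1) (LinearMap.ext e)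
  obtain ⟨x, hx0, hx1⟩ : ∃ x, ρ 0 x ≠ 0 ∧ ρ 1 x = 0 :=
    ⟨v - ρ 1 v • a, by simpa [h8, sub_eq_zero] using hv, by simp [h8]⟩
  obtain ⟨y, hy0, hy1⟩ : ∃ y, ρ 0 y = 0 ∧ ρ 1 y ≠ 0 :=
    ⟨v - ρ 0 v • a, by simp [h8], by simpa [h8, sub_eq_zero] using hv.symm⟩
  have hsp : ∀ w : V, ∃ c d : k, c • x + d • y = w := fun w => by
    have hli : LinearIndependent k ![x, y] := LinearIndependent.pair_iff.2 fun c d e =>
      ⟨by simpa [hx0, hy0] using congrArg (ρ 0) e, by simpa [hx1, hy1] using congrArg (ρ 1) e⟩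
    have := eq_top_of_finrank_eq (le_antisymm (finrank_le (span k (Set.range ![x, y])))
      (by rw [finrank_span_eq_card hli, Fintype.card_fin]; omega))
    obtain ⟨c, hc⟩ := (mem_span_range_iff_exists_fun k).1 (this ▸ mem_top : w ∈ _)
    exact ⟨c 0, c 1, by simpa using hc⟩
  have hsq : ∀ w : V, ρ 0 w * ρ 1 w = 0 → (w * w : A) ∈ J ^ 3 := fun w hw => by
    have e : T w w = 0 := by
      obtain ⟨c, d, e⟩ := hsp (T w w)
      have e0 := congrArg (ρ 0) e
      have e1 := congrArg (ρ 1) e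
      simp [h9, h10 0, hx0, hx1, hy0, hy1, hw, mul_comm (ρ 1 w)] at e0 e1
      simpa [e0, e1] using e.symm
    refine t.mem_of_ann h ha (i := 1) (j := M + 2) (by omega) (h2.trans (Nat.add_comm _ _ ▸ Nat.add_le_add_right h7 _))
      (mul_mem_sq (t.mem w) (t.mem w)) (by simpa [e] using hT w w)
  have hJ : J ≤ span k {(x : A)} ⊔ (span k {(y : A)} ⊔ J ^ 2) := fun z hz => by
    obtain ⟨w, hw⟩ := t.dec z hz
    obtain ⟨c, d, rfl⟩ := hsp w
    refine mem_span_sup.2 ⟨c, mem_span_sup.2 ⟨d, ?_⟩⟩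
    rw [sub_sub]
    exact t.mem_of_ann h ha (i := 0) (j := M + 3) (by omega) (by rw [zero_add, pow_one, zero_add]; omega)
      (by simpa using sub_mem hz (t.mem (c • x + d • y))) hw
  have h12 := (finrank_mono (comms_le_dihedral h (t.mem x) (t.mem y) hJ (hsq x (by simp [hx1]))
    (hsq y (by simp [hy0])))).trans ((finrank_sup_span_le _ _).trans (Nat.succ_le_succ
    ((finrank_sup_span_le _ _).trans (Nat.succ_le_succ ((finrank_sup_span_le _ _).trans
    (Nat.succ_le_succ (finrank_sup_span_le _ _)))))))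
  have h13 : _ < finrank k (comms k A ⊔ J ^ 5 : Submodule k A) :=
    h.finrank_comms_lt h5 le_sup_left le_sup_right
  omega

/-- A symmetric local algebra whose centre has dimension at most five has dimension at most eight. -/
theorem finrank_le_eight [IsAlgClosed k] (hZ : finrank k (Subalgebra.center k A) ≤ 5) :
    finrank k A ≤ 8 := by
  have h1 := h.finrank_comms
  by_cases h0 : comms k A = ⊥
  · rw [h0, finrank_bot] at h1
    omega
  have : Nontrivial A := by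
    by_contra h1
    rw [not_nontrivial_iff_subsingleton] at h1
    exact h0 (Subsingleton.elim _ _)
  have h3 := mt h.comms_of_cube h0
  have h2 := h.finrank_rad
  have h2' : finrank k A ≤ finrank k J + 1 := by
    rw [← finrank_top]
    exact (finrank_mono fun a _ => mem_span_sup.2 (h.dec a)).trans (finrank_sup_span_le _ _)
  have h4 : _ < finrank k (J ^ 2 : Submodule k A) :=
    h.finrank_comms_lt h3 h.comms_le_sq (h.pow_succ_le 1)
  have h6 : _ < finrank k (comms k A ⊔ J ^ 3 : Submodule k A) :=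
    h.finrank_comms_lt h3 le_sup_left le_sup_right
  by_cases hn : finrank k J ≤ finrank k (J ^ 2 : Submodule k A) + 2
  · by_cases h5 : finrank k J ≤ finrank k (J ^ 2 : Submodule k A) + 1
    · obtain ⟨x, hx, h6⟩ := exists_le_span_sup h.sq_le h5
      exact (h0 (h.comms_of_gen hx h6)).elim
    obtain ⟨x, hx, y, hy, h7⟩ := exists_le_span_sup₂ h.sq_le hn
    have h8 := (finrank_mono (sup_le (h.comms_le_of_gens hx hy h7) le_sup_right)).trans
      (finrank_sup_span_le _ _)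
    have h9 := finrank_mono (pow_le_ann (i := 3) (m := 2) (two h hn (by omega) (by omega)))
    have h10 := finrank_ann h 2
    omega
  · have h9 := finrank_mono (pow_le_ann (i := 3) (m := 1) (three h (by omega) (by omega)))
    have h10 := finrank_ann h 1
    rw [pow_one] at h10
    obtain ⟨z, hz, h12⟩ := exists_finrank_sup h.sq_le (n := 2) (by omega)
    obtain ⟨x, hx, y, hy, h13⟩ := exists_le_span_sup₂
      (sup_le ((span_singleton_le_iff_mem _ _).2 hz) h.sq_le) h12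
    have h14 := (finrank_mono (sup_le ((comms_le_three h hx hy hz h13).trans (sup_le_sup_left
      (sup_le_sup_left (sup_le_sup_left (span_comm_le.trans inf_le_right) _) _) _))
      (le_sup_of_le_right (le_sup_of_le_right le_sup_right)))).trans ((finrank_sup_span_le _ _).trans
      (Nat.succ_le_succ ((finrank_sup_span_le _ _).trans
        (Nat.succ_le_succ (finrank_sup_span_le _ _)))))
    omega

end Cfsg.Agent.Block.CK
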