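import Mathlib
import Cfsg.Agent.Block.LocSys

/-! Perfect isometries between blocks with the same local system, and numerical invariants. -/

namespace Cfsg.Agent.Block

open Cfsg Cfsg.Agent.Char Subgroup
open scoped _root_.Classical ComplexConjugate

variable {G : Type*} [Group G] [Fintype G] {H : Type*} [Group H] [Fintype H] {p : ℕ}
  {M : Ideal AlgInt} {A : Type*} [Group A] [Fintype A] {E : Subgroup (MulAut A)}
  {B : Set (IrrCharacter G)} {D : IrrCharacter G → A → ℂ}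
  {c : Set (IrrCharacter H)} {D' : IrrCharacter H → A → ℂ}

theorem sum_div_card_mem_V (hM : IsPModular p M) {ι : Type*} (s : Finset ι)
    (χ : ι → IrrCharacter G) {k : ι → ℂ} (hk : ∀ i ∈ s, k i ∈ V M)
    (h0 : ∀ g, p ∣ orderOf g → ∑ i ∈ s, k i * (χ i : G → ℂ) g = 0) (x : G) :
    (∑ i ∈ s, k i * (χ i : G → ℂ) x) / Nat.card (centralizer ({x} : Set G)) ∈ V M := by
  have h1 : ∑ i ∈ s, k i • (χ i : G → ℂ) ∈ VC M G :=
    Submodule.sum_mem _ fun i hi => smul_mem_VC (hk i hi) (irr_mem_VC _)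
  have := val_div_card_centralizer_le hM (classFun_of_mem_VC h1)
    (fun g hg => by simpa using h0 g hg) (γ := 1)
    (fun ψ => mem_V_iff.1 (inner_mem_V_of_mem_VC h1 (irr_isChar ψ))) x
  simpa [mem_V_iff] using this

theorem int_mul_irr_mem_V (χ : IrrCharacter G) (g : G) (n : ℤ) :
    (n : ℂ) * (χ : G → ℂ) g ∈ V M :=
  mul_mem (intCast_mem _ n) (apply_mem_V_of_mem_VC (irr_mem_VC χ) g)

theorem LocSys.reg' (h : LocSys p M B E D) (v : A) {g : G} (hg : ¬ p ∣ orderOf g) :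
    ∑ χ with χ ∈ B, D χ v * (χ : G → ℂ) g = 0 := by
  rw [← h.reg v⁻¹ g hg]
  exact Finset.sum_congr rfl fun χ hχ => by rw [h.conj_D (Finset.mem_filter.1 hχ).2, inv_inv]

theorem LocSys.exists_col (h : LocSys p M B E D) (v w : A) :
    ∃ k ∈ V M, ∑ χ with χ ∈ B, D χ v * D χ w = Nat.card A * k := by
  by_cases hv : v = 1
  · exact ⟨0, zero_mem _, by simp [hv, h.one]⟩
  have := h.col v⁻¹ w (inv_ne_one.2 hv)
  rw [Finset.sum_congr rfl fun χ hχ => by rw [h.conj_D (Finset.mem_filter.1 hχ).2, inv_inv]]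
    at this
  rw [this]
  split_ifs
  exacts [⟨1, one_mem _, by simp⟩, ⟨0, zero_mem _, by simp⟩]

theorem perfect_of_D (hM : IsPModular p M) (h : LocSys p M B E D) (h' : LocSys p M c E D')
    {I : IrrCharacter H → IrrCharacter G} {ε : IrrCharacter H → ℤ} (hI : Set.BijOn I c B)
    (hε : ∀ η ∈ c, ε η = 1 ∨ ε η = -1) (hD : ∀ η ∈ c, ∀ v, ε η * D (I η) v = D' η v) :
    IsPerfectIsometry p M c B I ε := by
  refine ⟨hI, hε, ?_⟩
  have hk : ∀ x y, signedBijectionKernel c I ε x y =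
      ∑ η with η ∈ c, (ε η : ℂ) * (I η : G → ℂ) x * (η : H → ℂ) y := fun x y =>
    finsum_mem_irr c _
  have hD' : ∀ η ∈ c, ∀ v, ε η * D' η v = D (I η) v := fun η hη v => by
    rw [← hD η hη]
    rcases hε η hη with e | e <;> simp [e]
  have hsum : ∀ F : IrrCharacter G → ℂ, ∑ η with η ∈ c, F (I η) = ∑ χ with χ ∈ B, F χ :=
    fun F => Finset.sum_bij (fun η _ => I η) (fun η hη => by simpa using hI.1 (by simpa using hη))
      (fun a ha b hb e => hI.2.1 (by simpa using ha) (by simpa using hb) e)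
      (fun χ hχ => by
        obtain ⟨η, hη, rfl⟩ := hI.2.2 (by simpa using hχ : χ ∈ B)
        exact ⟨η, by simpa using hη, rfl⟩) fun _ _ => rfl
  have hsr : ∀ x y, p ∣ orderOf x → ¬ p ∣ orderOf y → signedBijectionKernel c I ε x y = 0 := by
    intro x y hx hy
    obtain ⟨f, -, hf⟩ := h.val x hx
    rw [hk, Finset.sum_congr rfl (g := fun η => ∑ v, f v * (D' η v * (η : H → ℂ) y))
      fun η hη => ?_, Finset.sum_comm]
    · simp only [← Finset.mul_sum, h'.reg' _ hy, mul_zero, Finset.sum_const_zero]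
    · have := (Finset.mem_filter.1 hη).2
      rw [hf _ (hI.1 this), Finset.mul_sum, Finset.sum_mul]
      exact Finset.sum_congr rfl fun v _ => by rw [← hD η this]; ring
  have hrs : ∀ x y, ¬ p ∣ orderOf x → p ∣ orderOf y → signedBijectionKernel c I ε x y = 0 := by
    intro x y hx hy
    obtain ⟨f, -, hf⟩ := h'.val y hy
    rw [hk, Finset.sum_congr rfl (g := fun η => ∑ v, f v * (D (I η) v * (I η : G → ℂ) x))
      fun η hη => ?_, hsum fun χ => ∑ v, f v * (D χ v * (χ : G → ℂ) x), Finset.sum_comm]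
    · simp only [← Finset.mul_sum, h.reg' _ hx, mul_zero, Finset.sum_const_zero]
    · have := (Finset.mem_filter.1 hη).2
      rw [hf _ this, Finset.mul_sum]
      exact Finset.sum_congr rfl fun v _ => by rw [← hD' η this]; ring
  intro x y
  have halg : ∀ n : ℕ, IsAlgebraic ℤ (signedBijectionKernel c I ε x y / n) := fun n => by
    rw [hk, div_eq_mul_inv]
    refine IsAlgebraic.mul (IsIntegral.isAlgebraic (IsIntegral.sum _ fun η _ => ?_))
      (isAlgebraic_natCast n).inv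
    exact (isIntegral_algebraMap.mul (isGenChar_isIntegral (irr_isGenChar _) _)).mul
      (isGenChar_isIntegral (irr_isGenChar _) _)
  rw [memLocalRing_iff hM (halg _), memLocalRing_iff hM (halg _), ← mem_V_iff, ← mem_V_iff]
  by_cases hx : p ∣ orderOf x <;> by_cases hy : p ∣ orderOf y
  · obtain ⟨f, hf1, hf⟩ := h.val x hx
    obtain ⟨f', hf1', hf'⟩ := h'.val y hy
    choose k hkV hk' using h'.exists_col
    have e : signedBijectionKernel c I ε x y = ∑ v, ∑ w, Nat.card A * f v * f' w * k v w := by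
      rw [hk, Finset.sum_congr rfl (g := fun η => ∑ v, ∑ w, f v * f' w * (D' η v * D' η w))
        fun η hη => ?_, Finset.sum_comm]
      · refine Finset.sum_congr rfl fun v _ => ?_
        rw [Finset.sum_comm]
        exact Finset.sum_congr rfl fun w _ => by rw [← Finset.mul_sum, hk']; ring
      · have := (Finset.mem_filter.1 hη).2
        rw [hf _ (hI.1 this), hf' _ this, Finset.mul_sum _ _ (ε η : ℂ), Finset.sum_mul_sum]
        exact Finset.sum_congr rfl fun v _ => Finset.sum_congr rfl fun w _ => by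
          rw [← hD η this v]; ring
    simp only [e, Finset.sum_div]
    refine ⟨sum_mem fun v _ => sum_mem fun w _ => ?_, sum_mem fun v _ => sum_mem fun w _ => ?_,
      Or.inl (by simp [IsPRegular, hx, hy])⟩
    · convert mul_mem (mul_mem (hf1 v).2 (hf1' w).1) (hkV v w) using 1
      ring
    · convert mul_mem (mul_mem (hf1' w).2 (hf1 v).1) (hkV v w) using 1
      ring
  · simp [hsr x y hx hy]
  · simp [hrs x y hx hy]
  · refine ⟨?_, ?_, Or.inl (by simp [IsPRegular, hx, hy])⟩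
    · have := sum_div_card_mem_V hM (Finset.univ.filter (· ∈ c)) I
        (k := fun η => ε η * (η : H → ℂ) y) (fun η _ => int_mul_irr_mem_V η y _) (fun g hg => by
          rw [← hsr g y hg hy, hk]
          exact Finset.sum_congr rfl fun η _ => by ring) x
      rwa [hk, Finset.sum_congr rfl fun η _ => mul_right_comm _ _ _]
    · have := sum_div_card_mem_V hM (Finset.univ.filter (· ∈ c)) id
        (k := fun η => ε η * (I η : G → ℂ) x) (fun η _ => int_mul_irr_mem_V (I η) x _) (fun g hg => by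
          rw [← hrs x g hx hg, hk]
          rfl) y
      rwa [hk]

theorem perfect_of_data (hM : IsPModular p M) (h : LocSys p M B E D) (h' : LocSys p M c E D')
    {δ δ' : ℤ} {ζ : NTA A → IrrCharacter G} {ζ' : NTA A → IrrCharacter H}
    {a : IrrCharacter G → ℤ} {a' : IrrCharacter H → ℤ} (hδ : δ = 1 ∨ δ = -1)
    (hδ' : δ' = 1 ∨ δ' = -1) (hd : LSData p B E D δ 0 ζ a) (hd' : LSData p c E D' δ' 0 ζ' a')
    (ha : ∀ χ ∈ B, χ ∉ Set.range ζ → a χ = 1 ∨ a χ = -1)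
    (ha' : ∀ χ ∈ c, χ ∉ Set.range ζ' → a' χ = 1 ∨ a' χ = -1)
    (hl : blockRank p c = blockRank p B) :
    ∃ I ε, IsPerfectIsometry p M c B I ε ∧ ∀ lam, I (ζ' lam) = ζ lam ∧ ε (ζ' lam) = δ * δ' := by
  obtain ⟨σ⟩ : Nonempty ((c \ Set.range ζ' : Set _) ≃ (B \ Set.range ζ : Set _)) :=
    Finite.card_eq.1 (by rw [h.card_diff hd, h'.card_diff hd', hl])
  obtain ⟨χ₀⟩ : Nonempty (IrrCharacter G) := inferInstance
  let I : IrrCharacter H → IrrCharacter G := fun η =>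
    if h1 : η ∈ Set.range ζ' then ζ h1.choose else if h2 : η ∈ c then σ ⟨η, h2, h1⟩ else χ₀
  have h1 : ∀ lam, I (ζ' lam) = ζ lam := fun lam => by
    have : ζ' lam ∈ Set.range ζ' := ⟨lam, rfl⟩
    simp only [I, dif_pos this]
    exact (hd.eq_iff _ _).2 ((hd'.eq_iff _ _).1 this.choose_spec)
  have h2 : ∀ η : (c \ Set.range ζ' : Set _), I η = σ η := fun η => by
    simp only [I, dif_neg η.2.2, dif_pos η.2.1]
  have hc : ∀ η ∈ c, (∃ lam, η = ζ' lam) ∨ ∃ ξ : (c \ Set.range ζ' : Set _), η = ξ :=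
    fun η hη => by
      by_cases e : η ∈ Set.range ζ'
      · exact Or.inl ⟨e.choose, e.choose_spec.symm⟩
      · exact Or.inr ⟨⟨η, hη, e⟩, rfl⟩
  let ε : IrrCharacter H → ℤ := fun η => if η ∈ Set.range ζ' then δ * δ' else a (I η) * a' η
  have h3 : ∀ lam, ε (ζ' lam) = δ * δ' := fun lam => if_pos ⟨lam, rfl⟩
  have h4 : ∀ η : (c \ Set.range ζ' : Set _), ε η = a (σ η) * a' η := fun η => by
    simp only [ε, if_neg η.2.2, h2]
  refine ⟨I, ε, perfect_of_D hM h h' ⟨fun η hη => ?_, fun η hη ξ hξ e => ?_, fun χ hχ => ?_⟩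
    (fun η hη => ?_) fun η hη v => ?_, fun lam => ⟨h1 lam, h3 lam⟩⟩
  · rcases hc η hη with ⟨lam, rfl⟩ | ⟨ξ, rfl⟩
    · rw [h1]; exact hd.mem lam
    · rw [h2]; exact (σ ξ).2.1
  · rcases hc η hη with ⟨lam, rfl⟩ | ⟨η, rfl⟩ <;> rcases hc ξ hξ with ⟨μ, rfl⟩ | ⟨ξ, rfl⟩
    · rw [h1, h1] at e
      exact (hd'.eq_iff _ _).2 ((hd.eq_iff _ _).1 e)
    · rw [h1, h2] at e
      exact absurd ⟨lam, e⟩ (σ ξ).2.2
    · rw [h1, h2] at e
      exact absurd ⟨μ, e.symm⟩ (σ η).2.2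
    · rw [h2, h2] at e
      rw [σ.injective (Subtype.ext e)]
  · by_cases e : χ ∈ Set.range ζ
    · obtain ⟨lam, rfl⟩ := e
      exact ⟨_, hd'.mem lam, h1 lam⟩
    · exact ⟨_, (σ.symm ⟨χ, hχ, e⟩).2.1, by rw [h2, σ.apply_symm_apply]⟩
  · rcases hc η hη with ⟨lam, rfl⟩ | ⟨ξ, rfl⟩
    · rw [h3]
      rcases hδ with rfl | rfl <;> rcases hδ' with rfl | rfl <;> simp
    · rw [h4]
      rcases ha _ (σ ξ).2.1 (σ ξ).2.2 with e | e <;> rcases ha' _ ξ.2.1 ξ.2.2 with e' | e' <;>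
        simp [e, e']
  · by_cases hv : v = 1
    · simp [hv, h.one, h'.one]
    rcases hc η hη with ⟨lam, rfl⟩ | ⟨ξ, rfl⟩
    · rw [h1, h3, h.valY hd lam hv, h'.valY hd' lam hv]
      rcases hδ with rfl | rfl <;> simp
    · rw [h2, h4, h.valX hd (σ ξ).2 hv, h'.valX hd' ξ.2 hv]
      rcases ha _ (σ ξ).2.1 (σ ξ).2.2 with e | e <;> simp [e]

theorem LocSys.exists_data_of_rank (hM : IsPModular p M) (h : LocSys p M B E D) [Nontrivial A]
    (hl : Nat.card E ≤ blockRank p B) :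
    ∃ δ ζ a, (δ = 1 ∨ δ = -1) ∧ LSData p B E D δ 0 ζ a ∧
      Nat.card (B \ Set.range ζ : Set _) = Nat.card E ∧ blockRank p B = Nat.card E ∧
      ∀ χ ∈ B, χ ∉ Set.range ζ → a χ = 1 ∨ a χ = -1 :=
  have := h.nonempty_nta
  h.excSys.exists_data_of_rank hM h.block hl

theorem perfect_of_rank (hM : IsPModular p M) (h : LocSys p M B E D) (h' : LocSys p M c E D')
    [Nontrivial A] (hl : Nat.card E ≤ blockRank p B) (hl' : Nat.card E ≤ blockRank p c) :
    ∃ I ε, IsPerfectIsometry p M c B I ε := by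
  obtain ⟨δ, ζ, a, h1, h2, -, h3, h4⟩ := h.exists_data_of_rank hM hl
  obtain ⟨δ', ζ', a', h1', h2', -, h3', h4'⟩ := h'.exists_data_of_rank hM hl'
  obtain ⟨I, ε, hI, -⟩ := perfect_of_data hM h h' h1 h1' h2 h2' h4 h4' (h3'.trans h3.symm)
  exact ⟨I, ε, hI⟩

theorem ExcSys.exists_data' {Λ : Type*} [Nonempty Λ] {r : Λ → Λ → Prop} {α : Λ → G → ℂ} {m : ℕ}
    (hM : IsPModular p M) (hB : IsPBlock M B) (h : ExcSys p B r α m) :
    ∃ δ d ζ a, ExcData p B r α m δ d ζ a ∧ ((Nat.card (Set.range ζ) = 1 ∧ d = 0 ∧ δ ≠ 0) ∨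
      (2 ≤ Nat.card (Set.range ζ) ∧ (δ = 1 ∨ δ = -1))) := by
  by_cases h2 : ∃ i j, ¬ r i j
  · obtain ⟨δ, d, ζ, a, hδ, hd⟩ := h.exists_data hM hB h2
    obtain ⟨i₀, i₁, h01⟩ := h2
    have hne : ζ i₀ ≠ ζ i₁ := fun e => h01 ((hd.eq_iff _ _).1 e)
    refine ⟨δ, d, ζ, a, hd, Or.inr ⟨?_, hδ⟩⟩
    rw [Nat.succ_le_iff, Finite.one_lt_card_iff_nontrivial]
    exact ⟨⟨⟨_, i₀, rfl⟩, ⟨_, i₁, rfl⟩, fun e => hne (congrArg Subtype.val e)⟩⟩
  · push Not at h2
    obtain ⟨i₀⟩ := ‹Nonempty Λ›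
    obtain ⟨χ₀, hχ₀⟩ := block_nonempty hM hB
    obtain ⟨c, hc, -⟩ := isGenChar_exists_mult (h.vc i₀)
    have hc0 : c χ₀ ≠ 0 := by
      obtain ⟨i, hi⟩ := h.exists_ne_zero hM hB hχ₀
      rw [h.eq_of_rel (h2 i i₀), hc] at hi
      exact_mod_cast hi
    refine ⟨-c χ₀, 0, fun _ => χ₀, fun χ => if χ = χ₀ then 0 else c χ, ?_,
      Or.inl ⟨by simp, rfl, by omega⟩⟩
    refine h.data_of hM hB (fun i j => by simp [h2]) (fun i => by simp) (fun i χ => ?_)
      (fun _ => hχ₀)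
    rw [h.eq_of_rel (h2 i i₀), hc]
    congr 1
    by_cases e : χ = χ₀ <;> simp [e]

theorem exc_numerics {t : ℕ} {d δ : ℤ}
    (hc : (t = 1 ∧ d = 0 ∧ δ ≠ 0) ∨ (2 ≤ t ∧ (δ = 1 ∨ δ = -1))) :
    (d - δ) ^ 2 + ((t : ℤ) - 1) * d ^ 2 = 1 ∨ 4 ≤ (d - δ) ^ 2 + ((t : ℤ) - 1) * d ^ 2 ∨
      ((d - δ) ^ 2 + ((t : ℤ) - 1) * d ^ 2 = t - 1 ∧ 3 ≤ t) := by
  rcases hc with ⟨rfl, rfl, h0⟩ | ⟨h2, hδ⟩
  · by_cases h1 : δ = 1 ∨ δ = -1
    · rcases h1 with rfl | rfl <;> simp
    · refine Or.inr (Or.inl ?_)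
      have : 2 ≤ δ ∨ δ ≤ -2 := by omega
      rcases this with e | e <;> nlinarith
  · have h2' : (2 : ℤ) ≤ t := by exact_mod_cast h2
    by_cases h0 : d = 0
    · rcases hδ with rfl | rfl <;> simp [h0]
    by_cases h1 : d = δ
    · have : δ ^ 2 = 1 := by rcases hδ with rfl | rfl <;> simp
      rw [h1, this, sub_self]
      omega
    refine Or.inr (Or.inl ?_)
    have : 2 ≤ d ∨ d ≤ -2 ∨ d = -δ := by omega
    rcases this with e | e | rfl
    · nlinarith [sq_nonneg (d - δ)]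
    · nlinarith [sq_nonneg (d - δ)]
    · rcases hδ with rfl | rfl <;> nlinarith

theorem LocSys.exists_numerics (hM : IsPModular p M) (h : LocSys p M B E D) [Nontrivial A] :
    ∃ (t : ℕ) (q s : ℤ), t * Nat.card E + 1 = Nat.card A ∧ q + s = Nat.card E + 1 ∧
      blockRank p B ≤ s ∧ (s ≤ 3 → s = blockRank p B) ∧
      (q = 1 ∨ 4 ≤ q ∨ (q = t - 1 ∧ 3 ≤ t)) := by
  have := h.nonempty_nta
  obtain ⟨δ, d, ζ, a, hd, hc⟩ := h.excSys.exists_data' hM h.block
  have h4 : ∀ χ ∈ Finset.univ.filter (· ∈ B \ Set.range ζ), (1 : ℤ) ≤ a χ ^ 2 := fun χ hχ =>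
    have := (Finset.mem_filter.1 hχ).2
    sq_pos_of_ne_zero (hd.a_ne χ this.1 this.2)
  have h5 : (∑ χ with χ ∈ B \ Set.range ζ, (1 : ℤ)) = blockRank p B := by
    rw [Finset.sum_const, ← card_eq_card_filter, nsmul_eq_mul, mul_one, h.card_diff hd]
  refine ⟨_, _, _, h.card_range hd.eq_iff, hd.norm', h5.ge.trans (Finset.sum_le_sum h4), fun h3 => ?_, ?_⟩
  · rw [← h5]
    refine Finset.sum_congr rfl fun χ hχ => ?_
    have h6 := (Finset.single_le_sum (fun χ _ => sq_nonneg (a χ)) hχ).trans h3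
    have h7 := h4 χ hχ
    have h8 : a χ < 2 := by nlinarith
    have h9 : -2 < a χ := by nlinarith
    interval_cases a χ <;> simp_all
  · exact exc_numerics hc

theorem LocSys.rank_le (hM : IsPModular p M) (h : LocSys p M B E D) [Nontrivial A] :
    blockRank p B ≤ Nat.card E := by
  obtain ⟨t, q, s, -, h2, h3, -, h5⟩ := h.exists_numerics hM
  omega

theorem LocSys.rank_eq (hM : IsPModular p M) (h : LocSys p M B E D) [Nontrivial A]
    (he : Nat.card E ≤ 3) (h7 : Nat.card A ≠ 7) (h13 : Nat.card A ≠ 13) :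
    blockRank p B = Nat.card E := by
  obtain ⟨t, q, s, h1, h2, h3, h4, h5⟩ := h.exists_numerics hM
  have h6 := blockRank_pos hM.1 (block_nonempty hM h.block)
  have h10 : Nat.card A ≠ 10 := fun e => by
    have := Fact.mk hM.1
    obtain ⟨n, hn⟩ := IsPGroup.iff_card.1 h.pg
    have h2 : 2 = p := (Nat.prime_dvd_prime_iff_eq Nat.prime_two hM.1).1
      (Nat.prime_two.dvd_of_dvd_pow (n := n) (by rw [← hn, e]; norm_num))
    have h5 : 5 = p := (Nat.prime_dvd_prime_iff_eq Nat.prime_five hM.1).1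
      (Nat.prime_five.dvd_of_dvd_pow (n := n) (by rw [← hn, e]; norm_num))
    omega
  rcases h5 with h5 | h5 | ⟨h5, h8⟩
  · omega
  · omega
  · have h9 : t ≤ 4 := by omega
    generalize Nat.card E = e at *
    interval_cases t <;> omega

end Cfsg.Agent.Block
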