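import Mathlib
import Cfsg.Agent.Block.Src
import Cfsg.Agent.Char.Det

/-! Almost source idempotents for blocks with abelian defect groups. -/

namespace Cfsg.Agent.Block

open Cfsg Cfsg.Agent.Char MonoidAlgebra Subgroup
open Cfsg.Agent.LocalEven hiding isPGroup_zpowers_of_orderOf
open scoped ComplexConjugate

variable {G : Type*} [Group G] [Finite G] {p : ℕ} {M : Ideal AlgInt} {B : Set (IrrCharacter G)}
  {a c d : BrauerPairIdx G} {x : MonoidAlgebra (F M) G}

theorem Unif.exists_idem_one (hM : IsPModular p M) (hb : Unif p B) (hB : IsPBlock M B) :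
    ∃ f : MonoidAlgebra (F M) G, f * f = f ∧ eB M B * f = f ∧ mvK M B f = 1 := by
  classical
  have := Fintype.ofFinite G
  obtain ⟨S⟩ := exists_ms M G
  obtain ⟨ζ, hζ⟩ := block_nonempty hM hB
  have he := isV_blockIdem hM hB
  obtain ⟨i, -, hi⟩ := Finset.exists_ne_zero_of_sum_ne_zero
    (S.apply_regular hM (irr_classFun ζ) (one_regular hM.1) ▸ irr_one_ne_zero ζ)
  have hc := (isCentral_blockIdem B).commute (S.e i)
  have h1 : ∀ A : Set (IrrCharacter G), blockIdem A * S.e i * (blockIdem A * S.e i) =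
      blockIdem A * S.e i := fun A => by
    rw [((isCentral_blockIdem A).commute (S.e i)).symm.mul_mul_mul_comm, blockIdem_mul_self,
      S.e_mul_self]
  have h2 := he.mul (S.isV_e i)
  obtain ⟨m, hm, hm'⟩ := S.exists_mult' h2 (h1 B)
  obtain ⟨m', hn, -⟩ := S.exists_mult' (x := blockIdem Bᶜ * S.e i)
    (by rw [blockIdem_compl]; exact (isV_one.sub he).mul (S.isV_e i)) (h1 _)
  have h3 : ∀ k, m k + m' k = if k = i then 1 else 0 := fun k => by
    have : (m k : ℂ) + m' k = if k = i then 1 else 0 := by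
      rw [← hm, ← hn, ← map_add, ← add_mul, blockIdem_compl, add_sub_cancel, one_mul, S.lin_φ_e]
    split_ifs at this ⊢ <;> exact_mod_cast this
  have h4 : m i = 1 := by
    by_contra h
    have h5 : ∀ k, m k = 0 := fun k => by
      have := h3 k
      split_ifs at this with e
      · subst e; omega
      · omega
    have := hm' _ (irr_classFun ζ)
    simp only [h5, Nat.cast_zero, zero_mul, Finset.sum_const_zero,
      lin_blockIdem_mul_of_mem hζ] at this
    exact hi (by rw [this, zero_mul])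
  refine ⟨redG M (blockIdem B * S.e i), by rw [← redG_mul h2 h2, h1],
    by rw [eB, ← redG_mul he h2, ← mul_assoc, blockIdem_mul_self], ?_⟩
  have hψ := S.isGenChar_φ hM i
  choose n hn using fun ξ : IrrCharacter G => classInner_isGenChar_int hψ (irr_isGenChar ξ)
  have h6 : (∑ ξ with ξ ∈ B, n ξ : ℤ) * (mvK M B (redG M (blockIdem B * S.e i)) : ℂ) = 1 := by
    rw [hb.mvK_eq hM hζ h2 (h1 B), ← lin_smul_left, ← Nat.cast_one, ← h4, ← hm,
      ← lin_idem_congr hM h2 (h1 B) (isGenChar_classFun hψ) (S.classFun_φ i) fun g hg => by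
        rw [pr_of_regular hM.1 hg]]
    conv_rhs => rw [← blockIdem_mul_self, mul_assoc, ← lin_blockPart _ (isGenChar_classFun hψ)]
    refine lin_idem_congr hM h2 (h1 B) (classFun_smul _ (irr_classFun ζ)) (classFun_blockPart _ _)
      fun g hg => ?_
    rw [blockPart_eq_sum, Pi.smul_apply, smul_eq_mul, Int.cast_sum, Finset.sum_mul]
    exact Finset.sum_congr rfl fun ξ hξ => by rw [hn, hb ξ (Finset.mem_filter.1 hξ).2 ζ hζ g hg]
  have h7 : (∑ ξ with ξ ∈ B, n ξ : ℤ) * mvK M B (redG M (blockIdem B * S.e i)) = 1 := by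
    exact_mod_cast h6
  exact_mod_cast Int.eq_one_of_mul_eq_one_left (Int.natCast_nonneg _) h7

/-- An almost source idempotent. -/
structure ASrc (p : ℕ) (M : Ideal AlgInt) (d : BrauerPairIdx G) (x : MonoidAlgebra (F M) G) :
    Prop where
  idem : x * x = x
  inv : InvUnder d.1 x
  loc : ∀ a, PLe p M a d → eB M a.2 * br a.1 x = br a.1 x

theorem exists_asrc (hM : IsPModular p M) (hd : IsBP p M d)
    (hab : d.1 ≤ centralizer (d.1 : Set G)) {f : MonoidAlgebra (F M) (centralizer (d.1 : Set G))}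
    (hf : f * f = f) (hf' : eB M d.2 * f = f) : ∃ x, ASrc p M d x ∧ br d.1 x = f := by
  classical
  have := Fact.mk hM.1
  have h1 : ∀ a, PLe p M a d → InvUnder d.1 (fid M a) := fun a ha =>
    (invUnder_fid a).mono (hab.trans (centralizer_le ha.le))
  have hbr : ∀ a, PLe p M a d → ∀ {x y : MonoidAlgebra (F M) G}, InvUnder d.1 x →
      InvUnder d.1 y → br a.1 (x * y) = br a.1 x * br a.1 y := fun a ha x y hx hy =>
    br_mul (p_eq_zero_F hM) (ha.left hd).1 (hx.mono ha.le) (hy.mono ha.le)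
  have h2 : ∀ L : List (BrauerPairIdx G), (∀ a ∈ L, PLe p M a d) → ∃ y, InvUnder d.1 y ∧
      br d.1 y = f ∧ ∀ a ∈ L, eB M a.2 * br a.1 y = br a.1 y := fun L => by
    induction L with
    | nil => exact fun _ => ⟨incl _ f, invUnder_incl_centralizer _ _, resTo_incl _ _, by simp⟩
    | cons c L ih =>
      intro h
      obtain ⟨y, y1, y2, y3⟩ := ih fun a ha => h a (List.mem_cons_of_mem _ ha)
      have hc := h c List.mem_cons_self
      refine ⟨fid M c * y, (h1 c hc).mul y1, ?_, fun a ha => ?_⟩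
      · have hn := hc.nsub hM hd (hab.trans ((centralizer_le hc.le).trans
          (centralizer_le_normalizer _)))
        have h3 := ((fid_mul_br hM hd hn.linv (fid_mul_self hM hn.left.2)).resolve_right
          fun h => zero_ne_one (h.1.symm.trans (hn.mu_fid hM))).2
        rw [fid, ← map_mul] at h3
        rw [hbr d (PLe.refl d) (h1 c hc) y1, y2, ← hf', ← mul_assoc,
          ← ((isCentral_eB _).commute _).eq, incl_injective _ h3]
      · rw [hbr a (h a ha) (h1 c hc) y1]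
        rcases List.mem_cons.1 ha with rfl | ha
        · rw [br_fid, ← mul_assoc, eB_mul_self (isV_blockIdem hM (hc.left hd).2)]
        · rw [← mul_assoc, ((isCentral_eB _).commute _).eq, mul_assoc, y3 a ha]
  have := Fintype.ofFinite (BrauerPairIdx G)
  obtain ⟨y, y1, y2, y3⟩ := h2 (Finset.univ.filter (PLe p M · d)).toList (by simp)
  obtain ⟨w, w1, w2, -, w3, w4⟩ := exists_idem_br hM hd.1 le_rfl (isV_liftG y) y1.liftG
    (by rw [redG_liftG, y2, hf])
  have h3 := w1.mul (isV_liftG y)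
  refine ⟨_, ⟨by rw [← redG_mul h3 h3, w3], (w2.mul y1.liftG).redG, fun a ha => ?_⟩,
    by rw [w4, redG_liftG, y2]⟩
  rw [redG_mul w1 (isV_liftG y), redG_liftG, hbr a ha w2.redG y1, ← mul_assoc,
    ((isCentral_eB _).commute _).eq, mul_assoc, y3 a (by simpa using ha)]

theorem loc_compSet_iff {K : Type*} [Group K] [Finite K] (e : K ≃* G) :
    eB M (compSet e B) * resHom e.toMonoidHom x = resHom e.toMonoidHom x ↔ eB M B * x = x := by
  rw [eB_compSet, ← resHom_equiv_mul]
  exact (Function.LeftInverse.injective (mapG_resHom_equiv e)).eq_iff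

theorem exists_equiv_smul (t : G) (a : BrauerPairIdx G) :
    ∃ e : centralizer ((t • a).1 : Set G) ≃* centralizer (a.1 : Set G), (t • a).2 = compSet e a.2 ∧
      (∀ k, (e k : G) = t⁻¹ * k * t) ∧
      ∀ x : MonoidAlgebra (F M) G, br (t • a).1 (cjA t x) = resHom e.toMonoidHom (br a.1 x) :=
  ⟨_, conjBlock_eq a.1 t a.2, coe_conjBack _ _, resTo_cjA _ (coe_conjBack _ _)⟩

theorem ASrc.cjA (hM : IsPModular p M) (h : ASrc p M d x) {t : G} (ht : t • d = d) :
    ASrc p M d (cjA t x) := by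
  refine ⟨by rw [← map_mul, h.idem], ?_, fun a ha => ?_⟩
  · have := h.inv.cjA t
    rwa [← fst_smul, ht] at this
  · obtain ⟨a, rfl⟩ := MulAction.surjective t a
    obtain ⟨e, h1, -, h2⟩ := exists_equiv_smul (M := M) t a
    rw [h2, h1, loc_compSet_iff]
    exact h.loc a ((ple_smul_iff hM t).1 (by rwa [ht]))

theorem ASrc.br_idem (hM : IsPModular p M) (h : ASrc p M d x) (hd : IsBP p M d)
    (ha : PLe p M a d) : br a.1 x * br a.1 x = br a.1 x := by
  have := Fact.mk hM.1
  rw [← br_mul (p_eq_zero_F hM) (ha.left hd).1 (h.inv.mono ha.le) (h.inv.mono ha.le), h.idem]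

/-- The multiplicity of `x` at the pair `a`. -/
noncomputable def mvP (M : Ideal AlgInt) (x : MonoidAlgebra (F M) G) (a : BrauerPairIdx G) : ℕ :=
  mvK M a.2 (br a.1 x)

theorem ASrc.mvP_cjA (hM : IsPModular p M) (h : ASrc p M d x) (hd : IsBP p M d)
    (ha : PLe p M a d) (hu : Unif p a.2) (t : G) :
    mvP M (Block.cjA t x) (t • a) = mvP M x a := by
  obtain ⟨e, h1, -, h2⟩ := exists_equiv_smul (M := M) t a
  rw [mvP, h2, h1, hu.mvK_compSet hM (block_nonempty hM (ha.left hd).2) e (h.br_idem hM hd ha),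
    mvP]

theorem Lift.exists_equiv {H : Subgroup G} {b : BrauerPairIdx H} (h : Lift H b c) :
    ∃ e : centralizer (c.1 : Set G) ≃* centralizer (b.1 : Set H), c.2 = compSet e b.2 ∧
      ∀ x : MonoidAlgebra (F M) G, br c.1 x = resHom e.toMonoidHom (br b.1 (resTo H x)) := by
  obtain ⟨e, h1, h2⟩ := h
  exact ⟨e, h2, fun x => ga_ext fun k => by simp [coeff_resHom, coeff_resTo, h1]⟩

theorem exists_lift_le (hM : IsPModular p M) (hd : IsBP p M d)
    (hab : d.1 ≤ centralizer (d.1 : Set G)) (ha : PLe p M a d)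
    {d' b : BrauerPairIdx (centralizer (a.1 : Set G))} (h1 : d'.1 = d.1.subgroupOf _)
    (h2 : Lift _ d' d) (h3 : IsBPOf p M a.2 d') (hb : PLe p M b d') :
    ∃ c : BrauerPairIdx G, c.1 = a.1 ⊔ b.1.map (Subgroup.subtype _) ∧ Lift _ b c ∧ PLe p M c d := by
  obtain ⟨c, c1, c2, c3⟩ := exists_nsub_of_local hM (ha.left hd) (h3.down hM hb)
  have hle : c.1 ≤ d.1 := c1 ▸ sup_le ha.le (map_le_iff_le_comap.2 (hb.le.trans h1.le))
  have hn := hb.nsub hM h3.bp fun g hg => centralizer_le_normalizer _ (centralizer_le hb.le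
    (h2.mem_centralizer.1 (hab (h1 ▸ hg :))))
  refine ⟨c, c1, c2, (nsub_of hM c3.right hd hle (fun g hg =>
    smul_eq_of_mem_centralizer (centralizer_le hle (hab hg))) ?_).ple⟩
  rw [c2.fid, h2.mu hM h3.bp.2 hn.linv.isCentral_br, hn.mu_fid hM]
  exact one_ne_zero

theorem isMulCommutative_of_le_centralizer {P : Subgroup G} (h : P ≤ centralizer (P : Set G)) :
    IsMulCommutative P := ⟨⟨fun a b => Subtype.ext (h b.2 a a.2)⟩⟩

theorem IsMaxBP.unif (hM : IsPModular p M) (hd : IsMaxBP p M B d)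
    (hab : d.1 ≤ centralizer (d.1 : Set G)) (hn : IsNilpotentBlock p M B) :
    Unif p B ∧ Nat.card B = Nat.card d.1 := by
  have := isMulCommutative_of_le_centralizer hab
  obtain ⟨χ, hχ, h0⟩ := exists_height_zero (p := p) (block_nonempty hM hd.of.block)
  obtain ⟨Φ, hΦ⟩ := hd.exists_equiv_of_nilpotent hM hn hχ h0
  have h1 : ∀ ξ ∈ B, ∀ s, ¬ p ∣ orderOf s → ξ.1 s = χ.1 s := fun ξ hξ s hs => by
    obtain ⟨l, hl⟩ := Φ.surjective ⟨ξ, hξ⟩
    have := hΦ l
    rw [hl] at this
    rw [this, (hd.stable_of_nilpotent hM hn (irr_classFun l)).bstar_apply_regular hM hd hχ hs,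
      isIrr_degree_one_of_comm l.2, one_mul]
  exact ⟨fun ζ hζ ξ hξ s hs => (h1 ζ hζ s hs).trans (h1 ξ hξ s hs).symm,
    by rw [← Nat.card_congr Φ, card_irr_of_comm]⟩

theorem IsMaxBP.unif_local (hM : IsPModular p M) (hd : IsMaxBP p M B d)
    (hab : d.1 ≤ centralizer (d.1 : Set G)) (ha : PLe p M a d) (hn : IsNilpotentBlock p M a.2) :
    Unif p a.2 ∧ Nat.card a.2 = Nat.card d.1 := by
  have hC := hab.trans (centralizer_le ha.le)
  obtain ⟨b, h1, h2, h3⟩ := hd.exists_local_max hM ha hC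
  obtain ⟨h4, h5⟩ := h3.unif hM (fun x hx => h2.mem_centralizer.1 (hab (h1 ▸ hx :))) hn
  exact ⟨h4, by rw [h5, h1, Nat.card_congr (subgroupOfEquivOfLe hC).toEquiv]⟩

theorem isGenChar_lin_single_mul {Q : Type*} [Group Q] [Finite Q] (hQ : IsMulCommutative Q)
    (ι : Q →* G) {j : MonoidAlgebra ℂ G} (hj : j * j = j) (hi : InvUnder ι.range j) {χ : G → ℂ}
    (hχ : IsCharacter G χ) : IsGeneralizedCharacter Q fun q => lin χ (single (ι q) 1 * j) := by
  have := Fintype.ofFinite Q
  have hc : IsClassFunction Q fun q => lin χ (single (ι q) 1 * j) := fun g a => by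
    rw [mul_comm' a g, mul_inv_cancel_right]
  refine isGenChar_of_inner_int hc fun θ hθ => ?_
  have h1 : ∀ y : MonoidAlgebra ℂ Q, Commute (mapG ℂ ι y) j ∧
      lin χ (mapG ℂ ι y * j) = lin (fun q => lin χ (single (ι q) 1 * j)) y := fun y => by
    induction y using MonoidAlgebra.induction_linear with
    | zero => simp
    | add x y hx hy => exact ⟨by rw [map_add]; exact hx.1.add_left hy.1,
        by simp only [map_add, add_mul, hx.2, hy.2]⟩
    | single g r =>
      rw [mapG_single, lin_single, show single (ι g) r = r • single (ι g) (1 : ℂ) by simp]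
      exact ⟨(invUnder_iff.1 hi _ ⟨g, rfl⟩).smul_left r, by rw [smul_mul_assoc, map_smul, smul_eq_mul]⟩
  obtain ⟨n, hn⟩ := exists_nat_lin_idem hχ (x := mapG ℂ ι (blockIdem {⟨θ, hθ⟩}) * j) (by
    rw [(h1 _).1.symm.mul_mul_mul_comm, hj, ← map_mul, blockIdem_mul_self])
  refine ⟨n, ?_⟩
  rw [(h1 _).2, lin_blockIdem_singleton _ hc] at hn
  simpa [isIrr_degree_one_of_comm hθ] using hn

theorem conj_sec_div {χ : G → ℂ} (hχ : IsGeneralizedCharacter G χ) {g : G}
    (hg : g ∈ centralizer (a.1 : Set G)) (ζ : IrrCharacter (centralizer (a.1 : Set G))) :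
    sec χ a g⁻¹ / ζ.1 1 = conj (sec χ a g / ζ.1 1) := by
  rw [sec_inv hχ hg, map_div₀, ← isGenChar_inv (irr_isGenChar ζ), inv_one]

theorem IsMaxBP.exists_unit (hM : IsPModular p M) (hd : IsMaxBP p M B d)
    (hab : d.1 ≤ centralizer (d.1 : Set G)) (hn : IsNilpotentBlock p M B) {χ : IrrCharacter G}
    (hχ : χ ∈ B) (v : d.1) : ∃ ε : ℂ, IsIntegral ℤ ε ∧ ε * conj ε = 1 ∧
      ∀ j, IsV M j → InvUnder d.1 j → j * j = j → ASrc p M d (redG M j) →
        lin χ.1 (single (v : G) 1 * j) = ε * mvP M (redG M j) (subAt p M d v).a := by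
  have hok := subAt_ok hM hd.bp v.2
  have hle := subAt_le hM hd.bp v.2
  obtain ⟨hu, hc⟩ := hd.unif_local hM hab hle ((hd.of.down hM hle).nilpotent_local hM hn)
  obtain ⟨ζ, hζ⟩ := block_nonempty hM hok.bp.2
  refine ⟨sec χ.1 (subAt p M d v).a v / ζ.1 1, ?_, ?_, fun j h1 h2 h3 h4 =>
    hok.lin_single_mul hM hu hζ h1 (h2.mono hle.le) h3 (h4.loc _ hle) (irr_classFun χ)⟩
  · rw [← secF_one]
    exact hu.isIntegral_div hM.1 hζ (blockPart_secF (irr_classFun χ) hok.mem)
      (secF_mem_IntC (irr_mem_IntC χ) hok.mem hok.mem_cent)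
  · obtain ⟨ψ, hψ, h0⟩ := exists_height_zero (p := p) (block_nonempty hM hd.of.block)
    have h1 := hd.con_self_of_nilpotent hM hn hχ ((blockHeight_congr
      ((hd.unif hM hab hn).1 χ hχ ψ hψ 1 (one_regular hM.1))).trans h0) v
    have := isMulCommutative_of_le_centralizer hab
    rw [show centralizer ({v} : Set d.1) = ⊤ from eq_top_iff.2 fun g _ =>
      mem_centralizer_singleton_iff.2 (mul_comm' _ _), card_top, ← hc,
      hok.con_eq hM hu hζ (irr_classFun χ) (irr_classFun χ),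
      conj_sec_div (irr_isGenChar χ) hok.mem_cent] at h1
    exact h1

theorem IsMaxBP.exists_local_unit (hM : IsPModular p M) (hd : IsMaxBP p M B d)
    (hab : d.1 ≤ centralizer (d.1 : Set G)) (ha : PLe p M a d) (hn : IsNilpotentBlock p M a.2) :
    ∃ ε : d.1 → ℂ, (∀ v, IsIntegral ℤ (ε v) ∧ ε v * conj (ε v) = 1) ∧ ∀ x, ASrc p M d x →
      ∃ η, IsGeneralizedCharacter d.1 η ∧ (∀ r : d.1, r.1 ∈ a.1 → ∀ v, η (v * r) = η v) ∧
        ∀ v c, PLe p M c d → c.1 = a.1 ⊔ zpowers v.1 → η v = ε v * mvP M x c := by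
  have hC := hab.trans (centralizer_le ha.le)
  have hc := isMulCommutative_of_le_centralizer hab
  obtain ⟨d', h1, h2, h3⟩ := hd.exists_local_max hM ha hC
  have hab' : d'.1 ≤ centralizer (d'.1 : Set _) := fun x hx =>
    h2.mem_centralizer.1 (hab (h1 ▸ hx :))
  obtain ⟨ζ, hζ⟩ := block_nonempty hM h3.of.block
  have hv : ∀ v : d.1, inclusion hC v ∈ d'.1 := fun v => h1 ▸ v.2
  choose ε e1 e2 e3 using fun v : d.1 => h3.exists_unit hM hab' hn hζ ⟨_, hv v⟩
  obtain ⟨μ, hμ⟩ := isIrr_exists_central_linear ζ.2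
  let ι : a.1.subgroupOf d.1 →* center (centralizer (a.1 : Set G)) :=
    ((inclusion hC).comp (Subgroup.subtype _)).codRestrict _ fun r =>
      mk_mem_center (Q := a.1) r.2 _
  obtain ⟨lam, hlam⟩ := Det.exists_extend_linear (a.1.subgroupOf d.1) (μ.comp ι) fun r hr => by
    rw [(commutator_eq_bot_iff_center_eq_top _).2 (eq_top_iff.2 fun g _ =>
      mem_center_iff.2 fun h => mul_comm' _ _), mem_bot] at hr
    rw [show r = 1 from Subtype.ext hr, map_one]
  have hg := isIrr_isGenChar (isIrr_linear lam⁻¹)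
  refine ⟨fun v => ε v * lam⁻¹ v, fun v => ⟨(e1 v).mul (isGenChar_isIntegral hg v), ?_⟩,
    fun x hx => ?_⟩
  · rw [map_mul, ← isGenChar_inv hg, mul_mul_mul_comm, e2, ← Units.val_mul, ← map_mul]
    simp
  obtain ⟨j, j1, j2, j3, j4⟩ := exists_idem_lift_inv hM (hx.br_idem hM hd.bp ha) (Q := d'.1)
    fun q hq g => by simpa [coeff_resTo] using hx.inv q (h1 ▸ hq :) g
  have hx' : ASrc p M d' (redG M j) := ⟨by rw [← redG_mul j1 j1, j3], j2.redG, fun b hb => by
    obtain ⟨c, -, c2, c3⟩ := exists_lift_le hM hd.bp hab ha h1 h2 h3.of hb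
    obtain ⟨e, h4, h5⟩ := c2.exists_equiv (M := M)
    rw [j4, ← loc_compSet_iff e, ← h4, ← h5]
    exact hx.loc c c3⟩
  refine ⟨_, isGenChar_mul (isGenChar_lin_single_mul hc (inclusion hC) j3
    (j2.mono (by rintro _ ⟨v, rfl⟩; exact hv v)) (irr_isChar ζ)) hg, fun r hr v => ?_,
    fun v c c1 c2 => ?_⟩
  · have h4 : ∀ y, lin ζ.1 (single (inclusion hC r) 1 * y) = lam r * lin ζ.1 y := fun y => by
      have := Fintype.ofFinite (centralizer (a.1 : Set G))
      rw [lin_single_mul, lin_apply, Finset.mul_sum, hlam ⟨r, hr⟩]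
      exact Finset.sum_congr rfl fun g _ =>
        (congrArg (y.coeff g * ·) (hμ (ι ⟨r, hr⟩) g)).trans (mul_left_comm _ _ _)
    simp only [Pi.mul_apply]
    rw [mul_comm' v, map_mul (inclusion hC), ← single_one_mul_single_one, mul_assoc, h4]
    simp only [map_mul, MonoidHom.inv_apply, Units.val_mul, Units.val_inv_eq_inv_val]
    field_simp
  · have hle := subAt_le hM h3.bp (hv v)
    obtain ⟨c', c3, c4, c5⟩ := exists_lift_le hM hd.bp hab ha h1 h2 h3.of hle
    rw [(subAt_spec hM h3.bp (hv v)).1, MonoidHom.map_zpowers] at c3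
    obtain rfl := ple_unique hM hd.bp c1 c5 (c2.trans c3.symm)
    obtain ⟨e, h4, h5⟩ := c4.exists_equiv (M := M)
    have := hx'.br_idem hM h3.bp hle
    rw [Pi.mul_apply, e3 v j j1 j2 j3 hx', mvP, mvP, h4, h5, ← j4, Unif.mvK_compSet hM
      (h3.unif_local hM hab' hle ((h3.of.down hM hle).nilpotent_local hM hn)).1
      (block_nonempty hM (hle.left h3.bp).2) e this, mul_right_comm]

end Cfsg.Agent.Block
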