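import Mathlib
import Cfsg.Agent.Block.Glue
import Cfsg.Agent.Block.Src2
import Cfsg.Agent.Block.LocPI
import Cfsg.Agent.Block.CycDef

/-! The local system of a block with abelian defect group and freely acting inertial quotient. -/

namespace Cfsg.Agent.Block

open Cfsg Cfsg.Agent.Char MonoidAlgebra Subgroup
open Cfsg.Agent.LocalEven hiding isPGroup_zpowers_of_orderOf
open scoped _root_.Classical ComplexConjugate

variable {G : Type*} [Group G] [Finite G] {p : ℕ} {M : Ideal AlgInt} {B : Set (IrrCharacter G)}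
  {a c d : BrauerPairIdx G} {σ τ : Subs G}

/-- The common degree of the characters of a uniform block. -/
noncomputable def bdeg (b : Set (IrrCharacter G)) : ℂ :=
  Classical.epsilon fun z => ∀ ζ ∈ b, ζ.1 1 = z

omit [Finite G] in
theorem Unif.bdeg_eq (hp : p.Prime) (hb : Unif p B) {ζ : IrrCharacter G} (hζ : ζ ∈ B) :
    bdeg B = ζ.1 1 :=
  (Classical.epsilon_spec (p := fun z => ∀ ζ ∈ B, ζ.1 1 = z)
    ⟨ζ.1 1, fun ξ hξ => hb ξ hξ ζ hζ 1 (by simpa using hp.one_lt.ne')⟩ ζ hζ).symm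

/-- The generalized decomposition number at a subsection with a uniform block. -/
noncomputable def gdn (χ : G → ℂ) (σ : Subs G) : ℂ := sec χ σ.a σ.u / bdeg σ.a.2

theorem Subs.Ok.unif_smul (hu : Unif p σ.a.2) (x : G) : Unif p (x • σ).a.2 := by
  obtain ⟨e, h1, -, -⟩ := exists_equiv_smul (M := ⊥) x σ.a
  rw [Subs.smul_a, h1]
  exact hu.compSet e

theorem Subs.Ok.gdn_smul (hM : IsPModular p M) (h : σ.Ok p M) (hu : Unif p σ.a.2) {χ : G → ℂ}
    (hχ : IsClassFunction G χ) (x : G) : gdn χ (x • σ) = gdn χ σ := by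
  obtain ⟨e, h1, -, -⟩ := exists_equiv_smul (M := M) x σ.a
  obtain ⟨ζ, hζ⟩ := block_nonempty hM h.bp.2
  rw [gdn, gdn, Subs.smul_a, Subs.smul_u, sec_conj hχ, h1, hu.bdeg_eq hM.1 hζ,
    (hu.compSet e).bdeg_eq hM.1 (irrComp_mem_compSet.2 hζ)]
  exact congrArg (fun k => _ / ζ.1 k) (map_one e)

theorem Subs.Ok.sec_eq_gdn (hM : IsPModular p M) (h : σ.Ok p M) (hu : Unif p σ.a.2)
    {ζ : IrrCharacter (centralizer (σ.a.1 : Set G))} (hζ : ζ ∈ σ.a.2) {χ : G → ℂ}
    (hχ : IsClassFunction G χ) {s : centralizer (σ.a.1 : Set G)} (hs : ¬ p ∣ orderOf s) :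
    sec χ σ.a (σ.u * s) = gdn χ σ * ζ.1 s := by
  rw [gdn, hu.bdeg_eq hM.1 hζ, ← secF_one χ σ.a σ.u]
  exact hu.apply_eq hM.1 hζ (blockPart_secF hχ h.mem) hs

theorem Subs.Ok.isIntegral_gdn (hM : IsPModular p M) (h : σ.Ok p M) (hu : Unif p σ.a.2)
    (χ : IrrCharacter G) : IsIntegral ℤ (gdn χ σ) := by
  obtain ⟨ζ, hζ⟩ := block_nonempty hM h.bp.2
  rw [gdn, hu.bdeg_eq hM.1 hζ, ← secF_one]
  exact hu.isIntegral_div hM.1 hζ (blockPart_secF (irr_classFun χ) h.mem)
    (secF_mem_IntC (irr_mem_IntC χ) h.mem h.mem_cent)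

theorem Subs.Ok.card_mul_con_eq (hM : IsPModular p M) (h : σ.Ok p M) (hu : Unif p σ.a.2)
    (χ ψ : IrrCharacter G) : Nat.card σ.a.2 * con p χ ψ σ = gdn χ σ * conj (gdn ψ σ) := by
  obtain ⟨ζ, hζ⟩ := block_nonempty hM h.bp.2
  rw [h.con_eq hM hu hζ (irr_classFun χ) (irr_classFun ψ), conj_sec_div (irr_isGenChar ψ) h.mem_cent,
    gdn, gdn, hu.bdeg_eq hM.1 hζ]

theorem Subs.Ok.val_gdn (hM : IsPModular p M) (h : σ.Ok p M) (hu : Unif p σ.a.2)
    (hB : IsBPOf p M B σ.a) (hd : blockDefect p σ.a.2 = blockDefect p B)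
    (hc : Nat.card σ.a.2 = p ^ blockDefect p B) {χ : IrrCharacter G} (hχ : χ ∈ B) :
    val M (gdn χ σ) = val M (p : ℂ) ^ blockHeight p B χ.1 := by
  obtain ⟨ψ, hψ, h0⟩ := exists_height_zero (p := p) ⟨χ, hχ⟩
  have h1 := fun {χ : IrrCharacter G} (hχ : χ ∈ B) =>
    (val_con_eq_iff_of_major hM h hB hd hχ hψ).2 h0
  simp only [← Nat.cast_pow, ← hc, h.card_mul_con_eq hM hu, map_mul] at h1
  have h2 := h1 hψ
  have h3 := h.isIntegral_gdn hM hu ψ
  rw [h0, pow_zero] at h2
  have h4 : val M (conj (gdn ψ.1 σ)) = 1 :=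
    (val_le_one_of_isIntegral M (h3.map (starRingEnd ℂ).toIntAlgHom)).antisymm
      (h2.ge.trans (mul_le_of_le_one_left' (val_le_one_of_isIntegral M h3)))
  rw [← h1 hχ, h4, mul_one]

theorem Subs.Ok.sum_conj_gdn (hM : IsPModular p M) (h : σ.Ok p M) (hu : Unif p σ.a.2)
    (hB : IsBPOf p M B σ.a) (h' : τ.Ok p M) (θ : IrrCharacter G) {g : G} (hg : pp p g = τ.u) :
    gdn θ σ * ∑ χ with χ ∈ B, conj (gdn χ.1 σ) * sec χ.1 τ.a g =
      Nat.card σ.a.2 * (orbInd σ τ * sec θ τ.a g) := by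
  rw [← sum_con_mul_sec hM h h' (irr_classFun θ) hg, Finset.mul_sum, Finset.mul_sum,
    Finset.sum_filter]
  refine Finset.sum_congr rfl fun χ _ => ?_
  split_ifs with hχ
  · rw [← mul_assoc, ← mul_assoc, h.card_mul_con_eq hM hu]
  · rw [con_eq_zero_of_notMem' hM h hB _ hχ, zero_mul, mul_zero]

theorem Subs.Ok.exists_gdn_ne_zero (hM : IsPModular p M) (h : σ.Ok p M) (hu : Unif p σ.a.2)
    (hB : IsBPOf p M B σ.a) : ∃ θ : IrrCharacter G, gdn θ σ ≠ 0 := by
  obtain ⟨ψ, hψ, h0⟩ := exists_height_zero (p := p) (block_nonempty hM hB.block)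
  refine ⟨ψ, fun e => con_ne_zero_of_height_zero hM h hB hψ hψ h0 h0 ?_⟩
  have h1 := h.card_mul_con_eq hM hu ψ ψ
  have := (block_nonempty hM h.bp.2).to_subtype
  rw [e, zero_mul] at h1
  exact (mul_eq_zero.1 h1).resolve_left (Nat.cast_ne_zero.2 Nat.card_pos.ne')

theorem Subs.Ok.sum_gdn_of_not (hM : IsPModular p M) (h : σ.Ok p M) (hu : Unif p σ.a.2)
    (hB : IsBPOf p M B σ.a) (h' : τ.Ok p M) {g : G} (hg : pp p g = τ.u) (hn : ∀ x : G, x • σ ≠ τ) :
    ∑ χ with χ ∈ B, conj (gdn χ.1 σ) * sec χ.1 τ.a g = 0 := by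
  obtain ⟨θ, hθ⟩ := h.exists_gdn_ne_zero hM hu hB
  have h1 := h.sum_conj_gdn hM hu hB h' θ hg
  rw [orbInd_of_not hn, zero_mul, mul_zero] at h1
  exact (mul_eq_zero.1 h1).resolve_left hθ

theorem Subs.Ok.sum_gdn_self (hM : IsPModular p M) (h : σ.Ok p M) (hu : Unif p σ.a.2)
    (hB : IsBPOf p M B σ.a) :
    ∑ χ with χ ∈ B, conj (gdn χ.1 σ) * gdn χ.1 σ = Nat.card σ.a.2 := by
  obtain ⟨θ, hθ⟩ := h.exists_gdn_ne_zero hM hu hB
  have h1 := congrArg (· / bdeg σ.a.2) (h.sum_conj_gdn hM hu hB h θ (g := σ.u)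
    (by simpa using h.pp_mul hM (one_regular hM.1)))
  simp only [orbInd_self, one_mul, mul_div_assoc, Finset.sum_div] at h1
  exact mul_left_cancel₀ hθ (h1.trans (mul_comm _ _))

/-- The action of the stabilizer of a pair on its group. -/
noncomputable def inertHom (d : BrauerPairIdx G) : MulAction.stabilizer G d →* MulAut d.1 :=
  d.1.normalizerMonoidHom.comp (inclusion (stabilizer_le_normalizer d))

/-- The inertial quotient. -/
noncomputable def inert (d : BrauerPairIdx G) : Subgroup (MulAut d.1) := (inertHom d).range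

theorem inertHom_apply (t : MulAction.stabilizer G d) (v : d.1) : inertHom d t v = t • v := rfl

theorem mem_inert {α : MulAut d.1} :
    α ∈ inert d ↔ ∃ t : G, t • d = d ∧ ∀ v, (α v : G) = t * v * t⁻¹ :=
  ⟨fun ⟨t, e⟩ => ⟨t, t.2, fun _ => e ▸ rfl⟩, fun ⟨t, h, e⟩ =>
    ⟨⟨t, h⟩, MulEquiv.ext fun v => Subtype.ext (e v).symm⟩⟩

theorem card_inert (d : BrauerPairIdx G) :
    Nat.card (inert d) = (centralizer (d.1 : Set G)).relIndex (MulAction.stabilizer G d) := by
  rw [inert, ← index_ker, relIndex]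
  congr 1
  ext t
  rw [MonoidHom.mem_ker, mem_subgroupOf, mem_centralizer_iff, MulEquiv.ext_iff]
  exact ⟨fun h v hv => (mul_inv_eq_iff_eq_mul.1 (congrArg Subtype.val (h ⟨v, hv⟩))).symm,
    fun h v => Subtype.ext (mul_inv_eq_iff_eq_mul.2 (h v v.2).symm)⟩

/-- The pair below `d` with a given group. -/
noncomputable def prAt (p : ℕ) (M : Ideal AlgInt) (d : BrauerPairIdx G) (R : Subgroup d.1) :
    BrauerPairIdx G :=
  Classical.epsilon fun a => a.1 = R.map d.1.subtype ∧ PLe p M a d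

theorem prAt_spec (hM : IsPModular p M) (hd : IsBP p M d) (R : Subgroup d.1) :
    (prAt p M d R).1 = R.map d.1.subtype ∧ PLe p M (prAt p M d R) d :=
  Classical.epsilon_spec (exists_ple hM hd (map_subtype_le R))

theorem prAt_unique (hM : IsPModular p M) (hd : IsBP p M d) {R : Subgroup d.1}
    (e : a.1 = R.map d.1.subtype) (h : PLe p M a d) : prAt p M d R = a :=
  ple_unique hM hd (prAt_spec hM hd R).2 h ((prAt_spec hM hd R).1.trans e.symm)

theorem prAt_map (hM : IsPModular p M) (hd : IsBP p M d) (R : Subgroup d.1)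
    (t : MulAction.stabilizer G d) :
    prAt p M d (R.map (inertHom d t).toMonoidHom) = t.1 • prAt p M d R := by
  refine prAt_unique hM hd ?_ ((ple_smul_iff hM t.1⁻¹).1 (by
    rw [inv_smul_smul, show t.1⁻¹ • d = d from t⁻¹.2]; exact (prAt_spec hM hd R).2))
  rw [fst_smul, (prAt_spec hM hd R).1, cj, Subgroup.map_map, Subgroup.map_map]
  rfl

/-- The inertial quotient acts freely on the nontrivial elements of the abelian group `d.1`. -/
structure AbFree (d : BrauerPairIdx G) : Prop where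
  ab : d.1 ≤ centralizer (d.1 : Set G)
  free : ∀ t : G, t • d = d → ∀ v ∈ d.1, v ≠ 1 → t * v * t⁻¹ = v → t ∈ centralizer (d.1 : Set G)

theorem AbFree.nilpotent (hM : IsPModular p M) (hd : IsMaxBP p M B d) (h : AbFree d)
    (ha : PLe p M a d) (h0 : a.1 ≠ ⊥) : IsNilpotentBlock p M a.2 := by
  obtain ⟨⟨v, hv⟩, h1⟩ := ne_bot_iff_exists_ne_one.1 h0
  exact (hd.nilpotent_local_iff_of_abelian hM h.ab ha).2 fun t ht => h.free t ht.1 v (ha.le hv)
    (by simpa using h1) (mul_inv_eq_iff_eq_mul.2 (ht.2 v hv).symm)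

theorem AbFree.unif (hM : IsPModular p M) (hd : IsMaxBP p M B d) (h : AbFree d)
    (ha : PLe p M a d) (h0 : a.1 ≠ ⊥) : Unif p a.2 ∧ Nat.card a.2 = Nat.card d.1 :=
  hd.unif_local hM h.ab ha (h.nilpotent hM hd ha h0)

theorem AbFree.unif_subAt (hM : IsPModular p M) (hd : IsMaxBP p M B d) (h : AbFree d) {v : d.1}
    (hv : v ≠ 1) : Unif p (subAt p M d v).a.2 ∧ Nat.card (subAt p M d v).a.2 = Nat.card d.1 :=
  h.unif hM hd (subAt_le hM hd.bp v.2) (by simpa [(subAt_spec hM hd.bp v.2).1] using hv)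

theorem AbFree.exists_signs (hM : IsPModular p M) (hd : IsMaxBP p M B d) (h : AbFree d) :
    ∃ s : d.1 → ℤ, (∀ v, s v * s v = 1) ∧ (∀ α ∈ inert d, ∀ v, s (α v) = s v) ∧
      ∀ χ ∈ B, ∃ f, IsGeneralizedCharacter d.1 f ∧
        ∀ v, v ≠ 1 → f v = s v * gdn χ.1 (subAt p M d v.1) := by
  have := Fintype.ofFinite d.1
  have hc := isMulCommutative_of_le_centralizer h.ab
  obtain ⟨f, f1, f2, f3⟩ := (hd.unif_local hM h.ab (PLe.refl d)
    ((hd.nilpotent_local_iff_of_abelian hM h.ab (PLe.refl d)).2 inf_le_right)).1.exists_idem_one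
      hM hd.bp.2
  obtain ⟨x, hx, x1⟩ := exists_asrc hM hd.bp h.ab f1 f2
  have h1 : ∀ α : inert d, ∃ y, ASrc p M d y ∧ ∀ R, R ≠ ⊥ →
      mvP M y (prAt p M d R) = mvP M x (prAt p M d (R.map α.1.toMonoidHom)) := by
    rintro ⟨_, t, rfl⟩
    refine ⟨_, hx.cjA hM (t⁻¹).2, fun R hR => ?_⟩
    have h2 := prAt_spec hM hd.bp (R.map (inertHom d t).toMonoidHom)
    rw [← hx.mvP_cjA hM hd.bp h2.2 (h.unif hM hd h2.2 (by
      rwa [h2.1, Ne, map_eq_bot_iff_of_injective _ (subtype_injective _),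
        map_eq_bot_iff_of_injective (f := (inertHom d t).toMonoidHom) _ (inertHom d t).injective])).1 (t⁻¹).1, prAt_map hM hd.bp]
    simp
  choose y y1 y2 using h1
  let m : Subgroup d.1 → ℤ := fun R =>
    ∑ α : inert d, (mvP M x (prAt p M d (R.map α.1.toMonoidHom)) : ℤ)
  obtain ⟨k, k1, k2, k3, -, k4⟩ := glue_signs hM hc hd.bp.1 m (by
    have h2 : ∀ α : inert d, mvP M x (prAt p M d ((⊤ : Subgroup d.1).map α.1.toMonoidHom)) = 1 :=
      fun α => by
        rw [map_top_of_surjective _ α.1.surjective, prAt_unique hM hd.bp (a := d) (by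
          rw [← MonoidHom.range_eq_map, range_subtype]) (PLe.refl d), mvP, x1, f3]
    simp only [m, h2, Nat.cast_one, Finset.sum_const, Finset.card_univ, nsmul_eq_mul, mul_one,
      ← Nat.card_eq_fintype_card, card_inert, Int.natCast_dvd_natCast]
    exact hd.not_dvd_of_abelian hM h.ab) fun R hR => by
      have h2 := prAt_spec hM hd.bp R
      obtain ⟨ε, e1, e2⟩ := hd.exists_local_unit hM h.ab h2.2 (h.nilpotent hM hd h2.2 (by
        rwa [h2.1, Ne, map_eq_bot_iff_of_injective _ (subtype_injective _)]))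
      choose η η1 η2 η3 using fun α => e2 (y α) (y1 α)
      refine ⟨∑ α, η α, ε, isGenChar_sum _ fun α _ => η1 α, fun r hr v => ?_, fun v =>
        ⟨(e1 v).1, (e1 v).2, ?_⟩⟩
      · simp only [Finset.sum_apply, η2 _ r (h2.1 ▸ mem_map_of_mem _ hr)]
      · have h3 := prAt_spec hM hd.bp (R ⊔ zpowers v)
        simp only [m, Finset.sum_apply, Int.cast_sum, Finset.mul_sum, Int.cast_natCast]
        refine Finset.sum_congr rfl fun α _ => ?_
        rw [η3 α v _ h3.2 (by rw [h3.1, h2.1, Subgroup.map_sup, MonoidHom.map_zpowers]; rfl),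
          y2 α _ (fun e => hR (le_bot_iff.1 (le_sup_left.trans e.le)))]
  have hm : ∀ α ∈ inert d, ∀ R, m (R.map (α : d.1 ≃* d.1).toMonoidHom) = m R := fun α hα R => by
    simp only [m, Subgroup.map_map]
    exact Fintype.sum_equiv (Equiv.mulRight (⟨α, hα⟩ : inert d)) _ _ fun β => rfl
  refine ⟨fun v => if k v = m (zpowers v) then 1 else -1, fun v => by dsimp only; split_ifs <;> rfl,
    fun α hα v => by dsimp only; rw [k4 α (hm α hα), ← hm α hα (zpowers v), MonoidHom.map_zpowers]; rfl,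
    fun χ hχ => ?_⟩
  choose j j1 j2 j3 j4 using fun α => exists_idem_lift_inv hM (y1 α).idem (y1 α).inv
  refine exists_genChar_div hM hc hd.bp.1 (η := ∑ α, fun v => lin χ.1 (single (d.1.subtype v) 1 * j α))
    (isGenChar_sum _ fun α _ => isGenChar_lin_single_mul hc _ (j3 α)
      (by rw [range_subtype]; exact j2 α) (irr_isChar χ)) k1 k2 (fun v hv =>
      (isIntegral_algebraMap (x := _)).mul ((subAt_ok hM hd.bp v.2).isIntegral_gdn hM
        (h.unif_subAt hM hd hv).1 χ)) fun v hv => ?_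
  have hok := subAt_ok hM hd.bp v.2
  have hu := (h.unif_subAt hM hd hv).1
  have hle := subAt_le hM hd.bp v.2
  obtain ⟨ζ, hζ⟩ := block_nonempty hM hok.bp.2
  have h2 : (∑ α, fun v => lin χ.1 (single (d.1.subtype v) 1 * j α)) v =
      gdn χ.1 (subAt p M d v.1) * m (zpowers v) := by
    simp only [m, Finset.sum_apply, Int.cast_sum, Finset.mul_sum, Int.cast_natCast]
    refine Finset.sum_congr rfl fun α _ => ?_
    rw [← y2 α _ (by simpa using hv), prAt_unique hM hd.bp (a := (subAt p M d v.1).a)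
      (by rw [hok.fst, MonoidHom.map_zpowers]; rfl) hle, gdn, hu.bdeg_eq hM.1 hζ, mvP, ← j4]
    exact hok.lin_single_mul hM hu hζ (j1 α) ((j2 α).mono hle.le) (j3 α)
      (by rw [j4]; exact (y1 α).loc _ hle) (irr_classFun χ)
  rw [h2]
  dsimp only
  split_ifs with e
  · rw [e]; push_cast; ring
  · rw [(k3 v hv).resolve_left e]; push_cast; ring

theorem card_centralizer_mul (hp : p.Prime) {u : G} {H : Subgroup G}
    (hH : centralizer ({u} : Set G) = H) {s : H} (h : pp p (u * s) = u) :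
    Nat.card (centralizer ({u * s} : Set G)) = Nat.card (centralizer ({s} : Set H)) := by
  subst hH
  rw [card_centralizer_coe']
  refine congrArg (fun K : Subgroup G => Nat.card K) (Subgroup.ext fun g => ?_)
  simp only [mem_inf, mem_centralizer_singleton_iff]
  refine ⟨fun e => ?_, fun e => by rw [← mul_assoc, e.1, mul_assoc, e.2, mul_assoc]⟩
  have h1 : g * u = u * g :=
    (pPart_commute_of_commute hp ((pp_eq_iff hp).1 h) (a := g) e.symm).symm
  exact ⟨h1, mul_left_cancel (a := u) (by rw [← mul_assoc, ← h1, mul_assoc, e, mul_assoc])⟩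

theorem AbFree.card_eq (hM : IsPModular p M) (hd : IsMaxBP p M B d) (h : AbFree d) :
    Nat.card B * Nat.card (inert d) + 1 = blockRank p B * Nat.card (inert d) + Nat.card d.1 := by
  have := Fintype.ofFinite d.1
  obtain ⟨X, hX⟩ := exists_fReps p M d
  have h1 := hX.isReps_of_abelian hM hd h.ab
  have h2 : (1 : d.1) ∈ X := by
    obtain ⟨r, hr, t, e⟩ := h1.exu 1 (Finset.mem_univ _)
    rwa [← (inertHom d t).injective (e.trans (map_one _).symm)]
  have h3 := h1.card_eq
  rw [Finset.card_univ, ← Nat.card_eq_fintype_card] at h3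
  rw [h3, hX.card_eq_sum hM hd, ← Finset.add_sum_erase _ _ h2, ← Finset.add_sum_erase _ _ h2,
    (blockDefect_of_fst_eq_bot hM (subAt_isBPOf hM hd.of (1 : d.1).2) (by
      simp [(subAt_spec hM hd.bp (one_mem _)).1])).2.1, stabilizer_stabAct, add_mul,
    Finset.sum_mul, Finset.sum_congr rfl (g := fun r => (MulAction.stabilizer
      (MulAction.stabilizer G d) r).index) fun r hr => ?_]
  · rw [show centralizer ({((1 : d.1) : G)} : Set G) = ⊤ from eq_top_iff.2 fun g _ =>
      mem_centralizer_singleton_iff.2 (by simp), top_subgroupOf, index_top]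
    ring
  have hr := Finset.ne_of_mem_erase hr
  rw [blockRank_of_nilpotent hM (h.nilpotent hM hd (subAt_le hM hd.bp r.2) (by
    simpa [(subAt_spec hM hd.bp r.2).1] using hr)), one_mul, card_inert, stabilizer_stabAct]
  refine congrArg index (Subgroup.ext fun t => ?_)
  exact ⟨fun e => centralizer_le (by simp) e, fun e => h.free t t.2 r r.2 (by simpa using hr)
    (mul_inv_eq_iff_eq_mul.2 (mem_centralizer_singleton_iff.1 e))⟩

theorem AbFree.exists_locSys {G : Type*} [Group G] [Fintype G] {B : Set (IrrCharacter G)}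
    {d : BrauerPairIdx G} [Fintype d.1] (hM : IsPModular p M) (hd : IsMaxBP p M B d)
    (h : AbFree d) : ∃ D, LocSys p M B (inert d) D := by
  obtain ⟨s, s1, s2, s3⟩ := h.exists_signs hM hd
  have s4 : ∀ v, (s v : ℂ) * s v = 1 := fun v => by exact_mod_cast s1 v
  have hok := fun v : d.1 => subAt_ok hM hd.bp v.2
  have hB := fun v : d.1 => subAt_isBPOf hM hd.of v.2
  have hu := fun {v : d.1} (hv : v ≠ 1) => h.unif_subAt hM hd hv
  have hi : ∀ χ : IrrCharacter G, ∀ α ∈ inert d, ∀ v, v ≠ 1 →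
      gdn χ.1 (subAt p M d (α v).1) = gdn χ.1 (subAt p M d v.1) := by
    rintro χ _ ⟨t, rfl⟩ v hv
    rw [inertHom_apply, subAt_stabAct hM hd.bp, (hok v).gdn_smul hM (hu hv).1 (irr_classFun χ)]
  refine ⟨fun χ v => if v = 1 then 0 else s v * gdn χ.1 (subAt p M d v.1), hd.of.block,
    isMulCommutative_of_le_centralizer h.ab, hd.bp.1, ?_, fun χ => if_pos rfl,
    fun χ α hα v => ?_, fun χ hχ => ?_, fun v w hv => ?_, fun v g hg => ?_, fun g hg => ?_,
    h.card_eq hM hd, fun χ hχ v hv => ?_⟩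
  · rintro _ ⟨t, rfl⟩ v hv e
    have := h.free t t.2 v v.2 (by simpa using hv) (congrArg Subtype.val e)
    exact MulEquiv.ext fun w => Subtype.ext (mul_inv_eq_iff_eq_mul.2 (this w w.2).symm)
  · by_cases hv : v = 1
    · simp [hv]
    · rw [if_neg hv, if_neg (by simpa using hv), s2 α hα, hi χ α hα v hv]
  · obtain ⟨f, h1, h2⟩ := s3 χ hχ
    exact ⟨f, h1, fun v hv => by rw [h2 v hv, if_neg hv]⟩
  · by_cases hw : w = 1
    · simp [hw, hv]
    simp only [if_neg hv, if_neg hw, map_mul, map_intCast, mul_mul_mul_comm (s v : ℂ) _ (s w),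
      ← Finset.mul_sum]
    split_ifs with e
    · obtain ⟨α, hα, rfl⟩ := e
      simp only [hi _ α hα v hv, s2 α hα, s4, one_mul]
      rw [(hok v).sum_gdn_self hM (hu hv).1 (hB v), (hu hv).2]
    · have h1 := congrArg (· / bdeg (subAt p M d w.1).a.2) ((hok v).sum_gdn_of_not hM (hu hv).1
        (hB v) (hok w) (by simpa using (hok w).pp_mul hM (one_regular hM.1))
        fun x e' => e (by
          obtain ⟨t, rfl⟩ := hd.exists_stabAct hM (h.ab v.2) (h.ab w.2) e'
          exact ⟨_, ⟨t, rfl⟩, rfl⟩))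
      simp only [mul_div_assoc, Finset.sum_div, zero_div] at h1
      exact mul_eq_zero_of_right _ h1
  · by_cases hv : v = 1
    · simp [hv]
    simp only [if_neg hv, map_mul, map_intCast, mul_assoc, ← Finset.mul_sum]
    rw [Finset.sum_congr rfl fun χ _ => by rw [← sum_sec hM χ.1 (zpowers 1) g, Finset.mul_sum],
      Finset.sum_comm, Finset.sum_eq_zero fun a ha => (hok v).sum_gdn_of_not hM (hu hv).1 (hB v)
      (subs_ok_of_mem ⟨0, by simp⟩ ha) (pp_of_regular hM.1 hg) fun x e => hv (by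
        simpa [Subs.smul_u, subAt_u] using congrArg Subs.u e), mul_zero]
  · have h1 : ∀ a ∈ pairsAt M (zpowers (pp p g)), ∃ f : d.1 → ℂ, (∀ v, f v ∈ V M ∧
        Nat.card d.1 * f v / Nat.card (centralizer ({g} : Set G)) ∈ V M) ∧ ∀ χ ∈ B, sec χ.1 a g =
          ∑ v, (if v = 1 then 0 else s v * gdn χ.1 (subAt p M d v.1)) * f v := fun a ha => by
      have ho := subs_ok_of_mem (pp_order hM.1 g) ha
      by_cases hb : IsBPOf p M B a
      swap
      · exact ⟨0, fun v => by simp, fun χ hχ => by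
          simpa using not_not.1 (mt (isBPOf_of_sec_ne_zero hM ho hd.of.block hχ rfl) hb)⟩
      obtain ⟨v, hv, x, e⟩ := hd.exists_smul_subAt hM (mem_bsubs.2 ⟨ho, hb⟩)
      lift v to d.1 using hv
      have hv : v ≠ 1 := by
        rintro rfl
        exact (pPart_eq_one_iff hM.1 ((pp_eq_iff hM.1).1 rfl)).1
          (by simpa [Subs.smul_u, subAt_u] using (congrArg Subs.u e).symm) hg
      have h2 : Unif p a.2 := by
        have := Subs.Ok.unif_smul (hu hv).1 x
        rwa [e] at this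
      have h3 : Nat.card a.2 = Nat.card d.1 := by
        obtain ⟨f, h1, -, -⟩ := exists_equiv_smul (M := M) x (subAt p M d v.1).a
        rw [← (hu hv).2, ← card_compSet f, ← h1, ← Subs.smul_a, e]
      obtain ⟨ζ, hζ⟩ := block_nonempty hM ho.bp.2
      obtain ⟨y, hy, e'⟩ := ho.exists_of_pp hM rfl
      refine ⟨Pi.single v (s v * ζ.1 y), fun w => ?_, fun χ hχ => ?_⟩
      · rw [Pi.single_apply]
        split_ifs
        · refine ⟨int_mul_irr_mem_V _ _ _, ?_⟩
          rw [← h3, ← e', card_centralizer_mul hM.1 ho.cent (ho.pp_mul hM hy), mul_left_comm,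
            mul_div_assoc]
          exact mul_mem (intCast_mem _ _) (h2.div_mem_V hM (isV_blockIdem hM ho.bp.2) hζ hy)
        · simp
      · have h4 := ho.sec_eq_gdn hM h2 hζ (irr_classFun χ) hy
        have h5 := (hok v).gdn_smul hM (hu hv).1 (irr_classFun χ) x
        rw [e] at h5
        rw [e', h5] at h4
        simp only [Pi.single_apply, mul_ite, mul_zero, Finset.sum_ite_eq', Finset.mem_univ,
          if_true, if_neg hv]
        rw [mul_mul_mul_comm, s4, one_mul]
        exact h4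
    choose! f f1 f2 using h1
    refine ⟨∑ a ∈ pairsAt M (zpowers (pp p g)), f a, fun v => ?_, fun χ hχ => ?_⟩
    · rw [Finset.sum_apply, Finset.mul_sum, Finset.sum_div]
      exact ⟨sum_mem fun a ha => (f1 a ha v).1, sum_mem fun a ha => (f1 a ha v).2⟩
    · simp only [Finset.sum_apply, Finset.mul_sum]
      rw [Finset.sum_comm, ← sum_sec hM χ.1 (zpowers (pp p g)) g]
      exact Finset.sum_congr rfl fun a ha => f2 a ha χ hχ
  · rw [if_neg hv, map_mul, (hok v).val_gdn hM (hu hv).1 (hB v)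
      (hd.blockDefect_subAt_of_central hM v.2 (h.ab v.2))
      ((hu hv).2.trans (card_defectGroup hM hd.of.block (hd.defect hM))) hχ,
      val_eq_one_of_mul_conj (z := s v) (isIntegral_algebraMap (x := s v)) (by simpa using s4 v), one_mul]

end Cfsg.Agent.Block
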