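import Mathlib
import Cfsg.Agent.Block.LocSys2
import Cfsg.Agent.Block.Cyc3

/-! Blocks with abelian defect groups of rank two at the prime two; Brauer correspondents. -/

namespace Cfsg.Agent.Block

open Cfsg Cfsg.Agent.Char MonoidAlgebra Subgroup
open Cfsg.Agent.LocalEven hiding isPGroup_zpowers_of_orderOf
open scoped _root_.Classical ComplexConjugate

theorem aut_apply_of_sq {A : Type*} [Group A] {t : MulAut A} (ht : Odd (orderOf t)) {x : A}
    (h : t (t x) = x) : t x = x := by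
  obtain ⟨k, hk⟩ := ht
  have h1 : t * t ∈ MulAction.stabilizer (MulAut A) x := h
  have h2 := inv_mem (pow_mem h1 k)
  rwa [inv_eq_of_mul_eq_one_right (b := t) (by rw [← sq, ← pow_mul, ← pow_succ, ← hk,
    pow_orderOf_eq_one])] at h2

theorem aut_eq_one_of_odd {A : Type*} [Group A] [Finite A] (hc : IsMulCommutative A)
    (hA : IsPGroup 2 A) (h4 : Nat.card {x : A // x * x = 1} ≤ 4) {t : MulAut A}
    (ht : Odd (orderOf t)) {v : A} (hv : v ≠ 1) (e : t v = v) : t = 1 := by
  have := Fintype.ofFinite A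
  have h0 : ∀ a b : A, a * b * (a * b) = a * a * (b * b) := fun a b =>
    (show Commute b a from mul_comm' b a).mul_mul_mul_comm a b
  obtain ⟨w, hw, hw1, hw2⟩ : ∃ w, t w = w ∧ w ≠ 1 ∧ w * w = 1 := by
    obtain ⟨k, hk⟩ := IsPGroup.iff_orderOf.1 hA v
    obtain ⟨k, rfl⟩ := Nat.exists_eq_succ_of_ne_zero (n := k) (by rintro rfl; simp [hv] at hk)
    exact ⟨v ^ 2 ^ k, by rw [map_pow, e], pow_ne_one_of_lt_orderOf (by simp)
      (by rw [hk]; exact Nat.pow_lt_pow_right one_lt_two k.lt_succ_self),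
      by rw [← pow_add, ← mul_two, ← pow_succ, ← hk, pow_orderOf_eq_one]⟩
  have h1 : ∀ y, y * y = 1 → t y = y := fun y hy => by
    by_cases h1 : y = 1
    · simp [h1]
    by_cases h2 : y = w
    · rw [h2, hw]
    have h3 : ({1, w, y, y * w} : Finset A) = Finset.univ.filter fun x => x * x = 1 := by
      refine Finset.eq_of_subset_of_card_le (fun x hx => ?_) ?_
      · simp only [Finset.mem_insert, Finset.mem_singleton] at hx
        rcases hx with h | h | h | h <;> simp [h, hw2, hy, h0 y w]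
      · rw [Nat.subtype_card (Finset.univ.filter fun x => x * x = 1) (by simp)] at h4
        have h5 : 1 ≠ y * w := fun h => h2 (by rw [eq_inv_of_mul_eq_one_left h.symm,
          inv_eq_of_mul_eq_one_left hw2])
        rw [Finset.card_insert_of_notMem (by simp [hw1.symm, Ne.symm h1, h5]),
          Finset.card_insert_of_notMem (by simp [Ne.symm h2, h1]), Finset.card_pair (by simp [hw1])]
        exact h4
    have h5 : t y ∈ ({1, w, y, y * w} : Finset A) := by
      rw [h3]; simp [← map_mul, hy]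
    simp only [Finset.mem_insert, Finset.mem_singleton] at h5
    rcases h5 with h5 | h5 | h5 | h5
    · exact absurd (t.injective (h5.trans (map_one t).symm)) h1
    · exact absurd (t.injective (h5.trans hw.symm)) h2
    · exact h5
    · exact aut_apply_of_sq ht (by rw [h5, map_mul, h5, hw, mul_assoc, hw2, mul_one])
  have h2 : ∀ k : ℕ, ∀ x : A, x ^ 2 ^ k = 1 → t x = x := fun k => by
    induction k with
    | zero => exact fun x hx => by simp [show x = 1 by simpa using hx]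
    | succ k ih =>
      intro x hx
      have h3 := ih (x * x) (by rwa [← sq, ← pow_mul, ← pow_succ'])
      have h4 : x⁻¹ * t x * (x⁻¹ * t x) = 1 := by
        rw [h0, ← map_mul, h3, ← mul_inv_rev, inv_mul_cancel]
      have h5 := h1 _ h4
      rw [map_mul, map_inv, inv_mul_eq_iff_eq_mul] at h5
      refine aut_apply_of_sq ht ?_
      rw [h5, ← mul_inv_cancel_left x (t x), mul_assoc x, mul_inv_cancel_left, h4, mul_one]
  exact MulEquiv.ext fun x => (hA x).elim fun k hk => h2 k x hk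

theorem card_aut_le_three {A : Type*} [Group A] [Finite A] (hA : IsPGroup 2 A)
    (h4 : Nat.card {x : A // x * x = 1} ≤ 4) {E : Subgroup (MulAut A)}
    (hE : ∀ t ∈ E, ∀ v, v ≠ 1 → t v = v → t = 1) : Nat.card E ≤ 3 := by
  rcases subsingleton_or_nontrivial A with h | h
  · have : Subsingleton E := ⟨fun s t => Subtype.ext (MulEquiv.ext fun x => Subsingleton.elim _ _)⟩
    rw [Nat.card_unique]; omega
  obtain ⟨k, hk, e⟩ := hA.nontrivial_iff_card.1 h
  obtain ⟨w, hw⟩ := exists_prime_orderOf_dvd_card' (G := A) 2 (e ▸ dvd_pow_self 2 hk.ne')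
  have h1 : w * w = 1 := by rw [← sq, ← hw, pow_orderOf_eq_one]
  have h2 : w ≠ 1 := by rintro rfl; simp at hw
  have := Nat.card_le_card_of_injective (fun o : Option E => (⟨o.elim 1 fun t => t.1 w, by
    cases o <;> simp [← map_mul, h1]⟩ : {x : A // x * x = 1})) (by
      rintro (_ | s) (_ | t) e <;> simp only [Subtype.mk.injEq, Option.elim] at e
      · rfl
      · exact absurd (t.1.injective (e.symm.trans (map_one _).symm)) h2
      · exact absurd (s.1.injective (e.trans (map_one _).symm)) h2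
      · exact congrArg some (Subtype.ext (inv_mul_eq_one.1 (hE _ (mul_mem (inv_mem s.2) t.2) w h2
          (by simp [← e])))))
  rw [Finite.card_option] at this
  omega

variable {G : Type*} [Group G] [Finite G] {p : ℕ} {M : Ideal AlgInt} {B : Set (IrrCharacter G)}
  {d : BrauerPairIdx G}

theorem abFree_iff : AbFree d ↔ d.1 ≤ centralizer (d.1 : Set G) ∧
    ∀ t ∈ inert d, ∀ v, v ≠ 1 → t v = v → t = 1 := by
  refine ⟨fun h => ⟨h.ab, ?_⟩, fun h => ⟨h.1, fun t ht v hv h1 e w hw => ?_⟩⟩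
  · rintro _ ⟨t, rfl⟩ v hv e
    have := h.free t t.2 v v.2 (by simpa using hv) (congrArg Subtype.val e)
    exact MulEquiv.ext fun w => Subtype.ext (mul_inv_eq_iff_eq_mul.2 (this w w.2).symm)
  · have := h.2 _ ⟨⟨t, ht⟩, rfl⟩ ⟨v, hv⟩ (by simpa using h1) (Subtype.ext e)
    exact (mul_inv_eq_iff_eq_mul.1 (congrArg Subtype.val (MulEquiv.ext_iff.1 this ⟨w, hw⟩))).symm

theorem IsMaxBP.abFree_two (hM : IsPModular 2 M) (hd : IsMaxBP 2 M B d)
    (hc : IsMulCommutative d.1) (h4 : Nat.card {x : d.1 // x * x = 1} ≤ 4) :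
    AbFree d ∧ (Nat.card (inert d) = 1 ∨ Nat.card (inert d) = 3) := by
  have hab : d.1 ≤ centralizer (d.1 : Set G) := fun x hx y hy =>
    congrArg Subtype.val (hc.1.1 ⟨y, hy⟩ ⟨x, hx⟩)
  have h1 := hd.not_dvd_of_abelian hM hab
  rw [← card_inert] at h1
  have h2 : ∀ t ∈ inert d, ∀ v, v ≠ 1 → t v = v → t = 1 := fun t ht v =>
    aut_eq_one_of_odd hc hd.bp.1 h4 (Nat.not_even_iff_odd.1 fun h =>
      h1 (h.two_dvd.trans (Subgroup.orderOf_dvd_natCard _ ht)))
  have h3 := card_aut_le_three hd.bp.1 h4 h2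
  exact ⟨abFree_iff.2 ⟨hab, h2⟩, by omega⟩

theorem AbFree.rank_le (hM : IsPModular p M) (hd : IsMaxBP p M B d) (h : AbFree d)
    (h0 : d.1 ≠ ⊥) : blockRank p B ≤ Nat.card (inert d) := by
  have := Fintype.ofFinite G
  have := Fintype.ofFinite d.1
  have := (nontrivial_iff_ne_bot _).2 h0
  obtain ⟨D, hD⟩ := h.exists_locSys hM hd
  exact hD.rank_le hM

theorem AbFree.rank_eq (hM : IsPModular p M) (hd : IsMaxBP p M B d) (h : AbFree d)
    (h0 : d.1 ≠ ⊥) (he : Nat.card (inert d) ≤ 3) : blockRank p B = Nat.card (inert d) := by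
  have := Fintype.ofFinite G
  have := Fintype.ofFinite d.1
  have := (nontrivial_iff_ne_bot _).2 h0
  obtain ⟨D, hD⟩ := h.exists_locSys hM hd
  by_cases hp : (Nat.card d.1).Prime
  · have := Fact.mk hp
    obtain ⟨Z, hZ⟩ := exists_cycP hM.1 hd.bp.1 h0 (isCyclic_of_prime_card rfl)
    exact (hD.rank_le hM).antisymm (card_inert d ▸ cyc_le_blockRank hM hd hZ)
  · exact hD.rank_eq hM he (fun e => hp (by rw [e]; norm_num)) fun e => hp (by rw [e]; norm_num)

variable {H : Subgroup G} {b : BrauerPairIdx H} {c : Set (IrrCharacter H)}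

theorem exists_max_lift' (hM : IsPModular p M) {P : Subgroup G}
    (hc : IsInducedBlock M H c B) (hP : IsDefectGroup p M B P)
    (hN : normalizer (P : Set G) ≤ H) (hcD : IsDefectGroup p M c (P.subgroupOf H)) :
    ∃ (d : BrauerPairIdx G) (b : BrauerPairIdx H), d.1 = P ∧ b.1 = P.subgroupOf H ∧
      IsMaxBP p M B d ∧ IsMaxBP p M c b ∧ Lift H b d := by
  obtain ⟨b, hb1, hb⟩ := exists_isMaxBP hM hc.1 hcD
  have hPH : P ≤ H := le_normalizer.trans hN
  have hCH : centralizer (P : Set G) ≤ H := (centralizer_le_normalizer _).trans hN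
  obtain ⟨d, rfl, hl⟩ := exists_lift_up b (R := P) (by
    rw [hb1, map_centralizer_subgroupOf hPH, inf_eq_right.2 hCH])
  have hd : IsBP p M d := ⟨isDefectGroup_isPGroup hP, hl.block_iff.2 hb.bp.2⟩
  have hr : RP p M H c d := ⟨hd, hPH, hCH, (hl.isBPOf_iff hM hc.1 hb.bp).1 hb.of⟩
  obtain ⟨ξ, hξ⟩ := block_nonempty hM hc.1
  refine ⟨d, b, rfl, hb1, (isMaxBP_iff hM).2 ⟨isBPOf_of hM hd hc.2.1 ?_, hP⟩, hb, hl⟩
  rw [← mu_incl_resTo hCH, hr.mu_incl hM hc.1 hξ ((isCentral_eB B).resTo H),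
    induced_lam_eB hM hc hξ]
  exact one_ne_zero

theorem Lift.exists_inert_equiv (h : Lift H b d) (hN : normalizer (d.1 : Set G) ≤ H)
    (e : b.1 = d.1.subgroupOf H) :
    ∃ f : b.1 ≃* d.1, ∀ t, t ∈ inert b ↔ MulAut.congr f t ∈ inert d := by
  have hle : d.1 ≤ H := le_normalizer.trans hN
  let f : b.1 ≃* d.1 := (MulEquiv.subgroupCongr e).trans (subgroupOfEquivOfLe hle)
  have hf : ∀ v, (f v : G) = v := fun _ => rfl
  have h1 : ∀ t : H, t • b = b ↔ (t : G) • d = d := fun t =>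
    SetLike.ext_iff.1 (h.stabilizer_eq hle e) t
  refine ⟨f, fun α => ?_⟩
  rw [mem_inert, mem_inert]
  refine ⟨fun ⟨t, ht, e⟩ => ⟨t, (h1 t).1 ht, fun v => ?_⟩, fun ⟨t, ht, e⟩ =>
    ⟨⟨t, hN (mem_normalizer_of_smul_eq ht)⟩, (h1 _).2 ht, fun v => Subtype.ext ?_⟩⟩
  · obtain ⟨v, rfl⟩ := f.surjective v
    simp [hf, e]
  · simpa [hf] using e (f v)

theorem Lift.perfect (hM : IsPModular p M) (h : Lift H b d) (hN : normalizer (d.1 : Set G) ≤ H)
    (e : b.1 = d.1.subgroupOf H) (hd : IsMaxBP p M B d) (hb : IsMaxBP p M c b) (hf : AbFree d)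
    (h0 : d.1 ≠ ⊥) (he : Nat.card (inert d) ≤ 3) : ∃ I ε, IsPerfectIsometry p M c B I ε := by
  have := Fintype.ofFinite G
  have := Fintype.ofFinite d.1
  have := Fintype.ofFinite b.1
  have := Fintype.ofFinite H
  obtain ⟨f, h1⟩ := h.exists_inert_equiv hN e
  obtain ⟨D, hD⟩ := hf.exists_locSys hM hd
  have h2 := hD.congr f h1
  have hf' : AbFree b := abFree_iff.2
    ⟨fun x hx y hy => congrArg Subtype.val (h2.comm.1.1 ⟨y, hy⟩ ⟨x, hx⟩), h2.free⟩
  obtain ⟨D', hD'⟩ := hf'.exists_locSys hM hb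
  have := (nontrivial_iff_ne_bot _).2 h0
  have := f.symm.injective.nontrivial
  have h3 : Nat.card (inert b) = Nat.card (inert d) :=
    Nat.card_congr ((MulAut.congr f).toEquiv.subtypeEquiv h1)
  exact perfect_of_rank hM h2 hD' (h3.trans (hf.rank_eq hM hd h0 he).symm).le
    (hf'.rank_eq hM hb ((nontrivial_iff_ne_bot _).1 this) (h3 ▸ he)).ge

end Cfsg.Agent.Block
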