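import Mathlib
import Cfsg.Agent.Block.LocSys3
import Cfsg.Agent.Block.QF3
import Cfsg.Agent.Block.Quot4

/-! Bounds for the number of characters in a block. -/

namespace Cfsg.Agent.Block

open Cfsg Cfsg.Agent.Char MonoidAlgebra Subgroup
open Cfsg.Agent.LocalEven hiding isPGroup_zpowers_of_orderOf
open scoped _root_.Classical ComplexConjugate

universe u

variable {G : Type u} [Group G] {p : ℕ} {M : Ideal AlgInt} {B : Set (IrrCharacter G)}

/-- The nonzero values of the quadratic form of `B` are at least the rank of `B`. -/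
def QMin [Finite G] (p : ℕ) (B : Set (IrrCharacter G)) : Prop :=
  ∀ x, IsGeneralizedCharacter G x → ∀ n : ℕ, qf p B x = n → n ≠ 0 → blockRank p B ≤ n

theorem card_le_sum_sq {ι : Type*} (s : Finset ι) (x : ι → ℤ) {t : ℤ} (ht : 1 ≤ t)
    (h : ∑ i ∈ s, x i ^ 2 ≠ 0) :
    s.card ≤ (t * s.card + 1) * ∑ i ∈ s, x i ^ 2 - t * (∑ i ∈ s, x i) ^ 2 := by
  let s' := s.filter (x · ≠ 0)
  have h1 : ∑ i ∈ s', x i ^ 2 = ∑ i ∈ s, x i ^ 2 := Finset.sum_filter_of_ne fun i _ h e => by
    simp [e] at h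
  have h2 : ∑ i ∈ s', x i = ∑ i ∈ s, x i := Finset.sum_filter_ne_zero _
  have h3 : (∑ i ∈ s', x i) ^ 2 ≤ s'.card * ∑ i ∈ s', x i ^ 2 := sq_sum_le_card_mul_sum_sq
  have h4 : (s'.card : ℤ) ≤ ∑ i ∈ s', x i ^ 2 := by
    rw [Finset.card_eq_sum_ones, Nat.cast_sum]
    exact Finset.sum_le_sum fun i hi => by
      simpa using one_le_sq_iff_one_le_abs _ |>.2 (Int.one_le_abs (Finset.mem_filter.1 hi).2)
  have h5 : (s'.card : ℤ) ≤ s.card := by exact_mod_cast Finset.card_filter_le _ _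
  have h6 : 1 ≤ ∑ i ∈ s, x i ^ 2 :=
    lt_of_le_of_ne (Finset.sum_nonneg fun i _ => sq_nonneg _) (Ne.symm h)
  rw [h1, h2] at h3
  rw [h1] at h4
  nlinarith [mul_le_mul_of_nonneg_left h3 (zero_le_one.trans ht), mul_nonneg (sub_nonneg.2 h5)
    (sub_nonneg.2 (one_le_mul_of_one_le_of_one_le ht h6))]

section

variable [Fintype G] {A : Type*} [Group A] [Fintype A] {E : Subgroup (MulAut A)}
  {D : IrrCharacter G → A → ℂ}

theorem LocSys.bf_irr (h : LocSys p M B E D) {χ ψ : IrrCharacter G} (hχ : χ ∈ B) (hψ : ψ ∈ B) :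
    Nat.card E * bf p χ.1 ψ.1 =
      Nat.card E * (if χ = ψ then 1 else 0) - classInner (D χ) (D ψ) := by
  have h1 : (Nat.card E : ℂ) • pRegularPart p χ.1 =
      (Nat.card E : ℂ) • χ.1 - ∑ ξ with ξ ∈ B, classInner (D χ) (D ξ) • ξ.1 := funext fun g => by
    simp only [Pi.sub_apply, Pi.smul_apply, Finset.sum_apply, smul_eq_mul]
    by_cases hg : p ∣ orderOf g
    · obtain ⟨f, -, hf⟩ := h.val g hg
      rw [pRegularPart_of_dvd hg, mul_zero, eq_comm, sub_eq_zero, Finset.sum_congr rfl fun ξ hξ => by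
        rw [hf ξ (Finset.mem_filter.1 hξ).2, Finset.mul_sum], Finset.sum_comm, hf χ hχ,
        Finset.mul_sum]
      refine Finset.sum_congr rfl fun w _ => ?_
      simp only [← mul_assoc, ← Finset.sum_mul, h.sum_inner_mul (h.one χ), h.inv χ _ (Subtype.prop _)]
      simp
    · simp only [pRegularPart_of_not_dvd hg, classInner_def, mul_assoc, ← Finset.mul_sum,
        Finset.sum_mul]
      rw [Finset.sum_comm]
      simp only [← Finset.mul_sum, h.reg _ g hg, mul_zero, Finset.sum_const_zero, sub_zero]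
  have h2 := congrArg (classInner · ψ.1) h1
  simp only [classInner_smul_left, classInner_sub_left, classInner_sum_smul_irr,
    classInner_irr] at h2
  rw [bf_irr_right, h2]
  simp [hψ]

theorem LocSys.qMin (hM : IsPModular p M) (h : LocSys p M B E D) [Nontrivial A]
    (hl : Nat.card E ≤ blockRank p B) (hA : Nat.card A = p ^ blockDefect p B) : QMin p B := by
  intro x hx n hn h0
  obtain ⟨δ, ζ, a, hδ, hd, hX, hr, ha⟩ := h.exists_data_of_rank hM hl
  obtain ⟨lam⟩ := h.nonempty_nta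
  let X := Finset.univ.filter (· ∈ B \ Set.range ζ)
  have h1 : ∀ χ ∈ B, ∃ m : IrrCharacter G → ℤ, ∀ g, ¬ p ∣ orderOf g →
      χ.1 g = ∑ ξ ∈ X, m ξ * a ξ * ξ.1 g := fun χ hχ => by
    by_cases hζ : χ ∈ Set.range ζ
    · obtain ⟨μ, rfl⟩ := hζ
      refine ⟨fun _ => δ, fun g hg => ?_⟩
      have : -δ * (ζ μ).1 g + ∑ ξ ∈ X, a ξ * ξ.1 g = 0 := by
        simpa [X] using hd.rel (by omega) μ g hg
      have h2 : (δ : ℂ) * δ = 1 := by rcases hδ with rfl | rfl <;> simp
      simp only [mul_assoc, ← Finset.mul_sum]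
      linear_combination -δ * this - (ζ μ).1 g * h2
    · refine ⟨Pi.single χ (a χ), fun g _ => ?_⟩
      rw [Finset.sum_eq_single_of_mem χ (Finset.mem_filter.2 ⟨Finset.mem_univ _, hχ, hζ⟩) fun ξ _ h => by simp [h]]
      rcases ha χ hχ hζ with e | e <;> simp [e]
  choose! m hm using h1
  choose k hk using fun χ : IrrCharacter G => classInner_isGenChar_int hx (irr_isGenChar χ)
  let y : IrrCharacter G → ℤ := fun ξ => ∑ χ with χ ∈ B, k χ * m χ ξ
  have h2 : ∀ g, ¬ p ∣ orderOf g →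
      blockPart B x g = (∑ ξ ∈ X, ((y ξ * a ξ : ℤ) : ℂ) • ξ.1) g := fun g hg => by
    simp only [y, blockPart_eq_sum, Finset.sum_apply, Pi.smul_apply, smul_eq_mul, Int.cast_mul,
      Int.cast_sum, Finset.sum_mul]
    rw [Finset.sum_comm]
    exact Finset.sum_congr rfl fun χ hχ => by
      simp only [hk, hm χ (Finset.mem_filter.1 hχ).2 g hg, Finset.mul_sum, mul_assoc]
  have h3 := h.card_range hd.eq_iff
  have h4 : ∀ χ ∈ X, ∀ ψ ∈ X, Nat.card A * (a χ * a ψ * bf p χ.1 ψ.1) =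
      Nat.card A * (if χ = ψ then 1 else 0) - Nat.card (Set.range ζ) := fun χ hχ ψ hψ => by
    have hχ := (Finset.mem_filter.1 hχ).2
    have hψ := (Finset.mem_filter.1 hψ).2
    have h5 := h.bf_irr hχ.1 hψ.1
    have h6 : ∑ v, D χ v * conj (D ψ v) = a χ * a ψ * (Nat.card A - 1) := by
      rw [← Finset.add_sum_erase _ _ (Finset.mem_univ 1), h.one, zero_mul, zero_add,
        Finset.sum_congr rfl fun v hv => by rw [h.valX hd hχ (Finset.ne_of_mem_erase hv),
          h.valX hd hψ (Finset.ne_of_mem_erase hv), map_intCast]]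
      simp [Nat.cast_sub Fintype.card_pos, mul_comm]
    have h7 : (Nat.card (Set.range ζ) : ℂ) * Nat.card E + 1 = Nat.card A := by exact_mod_cast h3
    have h8 : (Nat.card A : ℂ) ≠ 0 := Nat.cast_ne_zero.2 Nat.card_pos.ne'
    rw [classInner_def, h6] at h5
    refine mul_left_cancel₀ h.card_ne_zero ?_
    have h9 : (a χ : ℂ) * a χ = 1 := by rcases ha χ hχ.1 hχ.2 with e | e <;> simp [e]
    have h10 : (a ψ : ℂ) * a ψ = 1 := by rcases ha ψ hψ.1 hψ.2 with e | e <;> simp [e]
    field_simp at h5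
    split_ifs at h5 ⊢ with e
    · subst e
      linear_combination a χ * a χ * h5 + (Nat.card E * Nat.card A - (Nat.card A - 1) *
        (a χ * a χ + 1)) * h9 + h7
    · linear_combination a χ * a ψ * h5 - (Nat.card A - 1) * (a ψ * a ψ) * h9 -
        (Nat.card A - 1) * h10 + h7
  have h5 : (n : ℤ) = Nat.card A * ∑ ξ ∈ X, y ξ ^ 2 - Nat.card (Set.range ζ) * (∑ ξ ∈ X, y ξ) ^ 2 := by
    have h6 : (n : ℂ) = ∑ χ ∈ X, ∑ ψ ∈ X, y χ * y ψ * (Nat.card A * (a χ * a ψ * bf p χ.1 ψ.1)) := by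
      rw [← hn, qf, ← bf_blockPart_blockPart hM (isV_blockIdem hM h.block) (isGenChar_classFun hx)
        (isGenChar_classFun hx), bf_congr_left h2, bf_congr_right _ h2, ← Nat.cast_pow, ← hA]
      simp only [bf_sum_left, bf_sum_right, bf_smul_left, bf_smul_right, Finset.mul_sum]
      exact Finset.sum_congr rfl fun χ _ => Finset.sum_congr rfl fun ψ _ => by
        rw [bf_symm]; push_cast; ring
    rw [Finset.sum_congr rfl fun χ hχ => Finset.sum_congr rfl fun ψ hψ => by
      rw [h4 χ hχ ψ hψ]] at h6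
    refine Int.cast_injective (α := ℂ) ?_
    push_cast
    rw [h6, sq, Finset.sum_mul_sum, Finset.mul_sum, Finset.mul_sum, ← Finset.sum_sub_distrib]
    refine Finset.sum_congr rfl fun χ hχ => ?_
    simp only [mul_sub, Finset.sum_sub_distrib, mul_ite, mul_zero, Finset.sum_ite_eq, if_pos hχ,
      Finset.mul_sum]
    congr 1
    · ring
    · exact Finset.sum_congr rfl fun ψ _ => mul_comm _ _
  have h6 : X.card = Nat.card E := by rw [← hX, Nat.card_eq_fintype_card, Fintype.card_subtype]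
  have h7 := card_le_sum_sq X y (t := Nat.card (Set.range ζ)) (by
    have : Nonempty (Set.range ζ) := ⟨⟨_, lam, rfl⟩⟩
    exact_mod_cast Nat.card_pos) fun e => h0 (by
      have : ∑ ξ ∈ X, y ξ = 0 := Finset.sum_eq_zero fun ξ hξ => pow_eq_zero_iff two_ne_zero |>.1
        ((Finset.sum_eq_zero_iff_of_nonneg fun _ _ => sq_nonneg _).1 e ξ hξ)
      simpa [e, this] using h5)
  rw [h6] at h7
  rw [← h3] at h5
  push_cast at h5
  omega

end

variable [Finite G] {d : BrauerPairIdx G} {σ : Subs G}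

theorem qMin_of_cyclic (hM : IsPModular p M) (hB : IsPBlock M B) {D : Subgroup G}
    (hD : IsDefectGroup p M B D) (hc : IsCyclic D) : QMin p B := by
  obtain ⟨d, rfl, hd⟩ := exists_isMaxBP hM hB hD
  have h1 := card_defectGroup hM hB hD
  by_cases h0 : d.1 = ⊥
  · rw [h0, card_bot, eq_comm, Nat.pow_eq_one, or_iff_right hM.1.one_lt.ne'] at h1
    exact fun x _ n _ hn => ((blockRank_le_card B).trans
      ((defect_eq_zero_iff_card_eq_one hM hB).1 h1).le).trans (Nat.pos_of_ne_zero hn)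
  obtain ⟨Z, hZ⟩ := exists_cycP hM.1 hd.bp.1 h0 hc
  have := Fintype.ofFinite G
  have := Fintype.ofFinite d.1
  have := (nontrivial_iff_ne_bot _).2 h0
  obtain ⟨D, hD⟩ := (AbFree.mk hZ.comm fun t ht v hv h1 e => (hd.cyc_inf hM hZ (a := subAt p M d v |>.a)
    (subAt_le hM hd.bp hv).le (by simpa [(subAt_spec hM hd.bp hv).1])).le ⟨ht, by
      rw [(subAt_spec hM hd.bp hv).1, zpowers_eq_closure, centralizer_closure]
      exact mem_centralizer_singleton_iff.2 (mul_inv_eq_iff_eq_mul.1 e)⟩).exists_locSys hM hd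
  exact hD.qMin hM (card_inert d ▸ cyc_le_blockRank hM hd hZ) h1

theorem isGenChar_comp_pr (hM : IsPModular p M) {x : G → ℂ} (hx : IsGeneralizedCharacter G x) :
    IsGeneralizedCharacter G fun g => x (pr p g) := by
  obtain ⟨S⟩ := exists_ms M G
  have h1 : ∀ i, ∃ n : ℤ, lin x (S.e i) = n := fun i => by
    obtain ⟨χ, ψ, hχ, hψ, rfl⟩ := hx
    obtain ⟨a, ha⟩ := exists_nat_lin_idem hχ (S.e_mul_self i)
    obtain ⟨b, hb⟩ := exists_nat_lin_idem hψ (S.e_mul_self i)
    exact ⟨a - b, by rw [lin_sub_left, ha, hb]; simp⟩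
  choose n hn using h1
  convert isGenChar_sum Finset.univ fun i _ => isGenChar_intCast_smul (n i) (S.isGenChar_φ hM i)
  simp [S.apply_regular hM (isGenChar_classFun hx) (pr_regular hM.1 _), hn]

theorem pr_mul_central (hp : p.Prime) {z : G} (hz : ∃ k : ℕ, orderOf z = p ^ k)
    (hc : z ∈ center G) (g : G) : pr p (g * z) = pr p g := by
  obtain ⟨a, ha⟩ := pp_order hp g
  obtain ⟨b, hb⟩ := hz
  have h1 : ∀ x, Commute x z := mem_center_iff.1 hc
  obtain ⟨k, -, hk⟩ := (Nat.dvd_prime_pow hp).1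
    (((h1 (pp p g)).orderOf_mul_dvd_mul_orderOf).trans (by rw [ha, hb, ← pow_add]))
  conv_lhs => rw [← pp_mul_pr (p := p) g, mul_assoc, (h1 _).eq, ← mul_assoc]
  exact pr_mul hp ⟨k, hk⟩ (pr_regular hp g) ((commute_pp_pr hp g).mul_left (h1 _).symm)

theorem blockPart_domSet {Q : Type*} [Group Q] [Finite Q] {f : G →* Q}
    (hf : Function.Surjective f) {y : Q → ℂ} (hy : IsClassFunction Q y) (g : G) :
    blockPart (domSet f hf B) y (f g) = blockPart B (fun g => y (f g)) g := by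
  rw [blockPart_eq_lin _ hy, blockPart_eq_lin _ (classFun_comp f hy), ← lin_mapG, map_mul (mapG ℂ f),
    mapG_blockIdem f hf, mapG_single]

theorem exists_central_quot (hM : IsPModular p M) (hB : IsPBlock M B) {Z : Subgroup G}
    (hZ : IsPGroup p Z) (hc : Z ≤ center G) {D : Subgroup G} (hD : IsDefectGroup p M B D) :
    ∃ (Q : Type u) (_ : Group Q) (_ : Finite Q) (f : G →* Q) (c : Set (IrrCharacter Q)),
      f.ker = Z ∧ IsPBlock M c ∧ IsDefectGroup p M c (D.map f) ∧
      Nat.card (D.map f) * Nat.card Z = Nat.card D ∧ blockRank p c = blockRank p B ∧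
      ∀ x, IsGeneralizedCharacter G x → ∃ y, IsGeneralizedCharacter Q y ∧ qf p c y = qf p B x := by
  have : Z.Normal := ⟨fun z hz g => by rw [mem_center_iff.1 (hc hz) g]; simpa using hz⟩
  have := Fintype.ofFinite G
  have hf := QuotientGroup.mk'_surjective Z
  have hk : IsPGroup p (QuotientGroup.mk' Z).ker := by rwa [QuotientGroup.ker_mk']
  have hC : ∀ g, ¬ p ∣ orderOf g → g ∈ centralizer ((QuotientGroup.mk' Z).ker : Set G) :=
    fun g _ z hz => (mem_center_iff.1 (hc (QuotientGroup.ker_mk' Z ▸ hz :)) g).symm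
  have hV := isV_blockIdem hM hB
  have hb := isPBlock_domSet_of_centralizer hM hf hk hC hB
  have hD' := isDefectGroup_domSet hM hf hk hb hB hD
  have h1 : Nat.card (D.map (QuotientGroup.mk' Z)) * Nat.card Z = Nat.card D := by
    rw [← relIndex_ker, QuotientGroup.ker_mk', relIndex, ← Nat.card_congr
      (subgroupOfEquivOfLe (normal_le_defect hM hB hD hZ)).toEquiv, index_mul_card]
  refine ⟨G ⧸ Z, inferInstance, inferInstance, _, _, QuotientGroup.ker_mk' Z, hb, hD', h1,
    blockRank_domSet hM hf hk hC hV, fun x hx => ?_⟩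
  have h2 : ∀ r ∈ Z, ∀ v, pr p (v * r) = pr p v := fun r hr =>
    pr_mul_central hM.1 (exists_orderOf_eq_pow_of_mem hM.1 hZ hr) (hc hr)
  have hx' := isGenChar_blockPart B hx
  have hy := isGenChar_descend Z (isGenChar_comp_pr hM hx') fun r hr v => by rw [h2 r hr]
  refine ⟨_, hy, ?_⟩
  have h3 : ∀ g, ¬ p ∣ orderOf g →
      blockPart B x (pr p (QuotientGroup.mk' Z g).out) = blockPart B x g := fun g hg => by
    obtain ⟨z, hz⟩ := QuotientGroup.mk_out_eq_mul Z g
    rw [QuotientGroup.mk'_apply, hz, h2 z z.2, pr_of_regular hM.1 hg]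
  have h4 := card_mul_bf_regDown hM.1 hf hk hC (blockPart B x)
    (blockPart (domSet _ hf B) fun q => blockPart B x (pr p q.out))
  rw [bf_congr_left (f' := fun q => blockPart B x (pr p q.out)) fun q hq => by
    obtain ⟨g, hg, rfl, e⟩ := exists_regDown hM.1 hf hq
    rw [e, h3 g hg], funext (blockPart_domSet hf (isGenChar_classFun hy)), ← bf_blockPart hM hV
    (classFun_blockPart _ _) (classFun_comp _ (isGenChar_classFun hy)), blockPart_blockPart,
    bf_congr_right _ h3, bf_blockPart_blockPart hM hV (isGenChar_classFun hx)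
      (isGenChar_classFun hx), card_eq_card_quotient_mul_card_subgroup Z, Nat.cast_mul, mul_assoc,
    mul_right_inj' card_ne_zero] at h4
  rw [qf, qf, bf_symm, h4, ← Nat.cast_pow, ← Nat.cast_pow, ← card_defectGroup hM hb hD',
    ← card_defectGroup hM hB hD, ← h1, Nat.cast_mul, mul_assoc]

theorem Subs.Ok.exists_quot (hM : IsPModular p M) (h : σ.Ok p M)
    {D : Subgroup (centralizer (σ.a.1 : Set G))} (hD : IsDefectGroup p M σ.a.2 D) :
    ∃ (Q : Type u) (_ : Group Q) (_ : Finite Q) (f : centralizer (σ.a.1 : Set G) →* Q)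
      (c : Set (IrrCharacter Q)), f ⟨_, h.mem_cent⟩ = 1 ∧ IsPBlock M c ∧
      IsDefectGroup p M c (D.map f) ∧ Nat.card (D.map f) * orderOf σ.u = Nat.card D ∧
      blockRank p c = blockRank p σ.a.2 ∧ (QMin p c → QMin p σ.a.2) := by
  obtain ⟨Q, _, _, f, c, h1, h2, h3, h4, h5, h6⟩ := exists_central_quot hM h.bp.2
    (Z := zpowers ⟨_, h.mem_cent⟩) (isPGroup_zpowers_of_orderOf (by simpa using h.order hM))
    (zpowers_le.2 (mk_mem_center h.mem _)) hD
  refine ⟨Q, _, ‹_›, f, c, (h1 ▸ mem_zpowers _ : _ ∈ f.ker), h2, h3, by simpa using h4, h5,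
    fun hq x hx n hn => ?_⟩
  obtain ⟨y, hy, e⟩ := h6 x hx
  exact h5 ▸ hq y hy n (e.trans hn)

theorem IsMaxBP.exists_quot (hM : IsPModular p M) (hd : IsMaxBP p M B d) {v : d.1}
    (hv : v ∈ center d.1) :
    ∃ (Q : Type u) (_ : Group Q) (_ : Finite Q) (f : d.1 →* Q) (c : Set (IrrCharacter Q)) (l : ℕ),
      f v = 1 ∧ IsPBlock M c ∧ IsDefectGroup p M c f.range ∧
      Nat.card f.range * orderOf v = Nat.card d.1 ∧ (QMin p c → Nat.card B ≤ Nat.card d.1) ∧
      Nat.card B ≤ Nat.card d.1 * Nat.card c ∧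
      ((∀ χ ∈ B, blockHeight p B χ.1 = 0) → Nat.card B ^ 2 ≤ Nat.card d.1 ^ 2 * Nat.card c) := by
  have hok := subAt_ok hM hd.bp v.2
  have hC : v.1 ∈ centralizer (d.1 : Set G) := fun g hg =>
    congrArg Subtype.val (mem_center_iff.1 hv ⟨g, hg⟩)
  have hle : d.1 ≤ centralizer ((subAt p M d v).a.1 : Set G) := by
    rw [← hok.cent]
    exact fun g hg => mem_centralizer_singleton_iff.2 (hC g hg)
  obtain ⟨Q, _, _, f, c, h1, h2, h3, h4, h5, h6⟩ :=
    hok.exists_quot hM (cyc_defect hM hd (subAt_le hM hd.bp v.2) hle)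
  have h7 : (f.comp (inclusion hle)).range = (d.1.subgroupOf _).map f := by
    rw [MonoidHom.range_comp, inclusion_range]
  have h8 := hd.blockDefect_subAt_of_central hM v.2 hC
  have hB := subAt_isBPOf hM hd.of v.2
  have h9 := card_defectGroup hM hd.of.block (hd.defect hM)
  have h10 := h5 ▸ blockRank_le_card (p := p) c
  refine ⟨Q, _, ‹_›, f.comp (inclusion hle), c, 0, h1, h2, h7 ▸ h3, ?_, fun hq => ?_, ?_,
    fun hh => ?_⟩
  · rw [h7, ← Subgroup.orderOf_coe, ← Nat.card_congr (subgroupOfEquivOfLe hle).toEquiv, ← h4]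
    rfl
  · exact h9 ▸ Nat.le_of_mul_le_mul_right (mul_card_le_of_major hM hok hB h8 (h6 hq))
      (blockRank_pos hM.1 (block_nonempty hM hok.bp.2))
  · exact h9 ▸ (mul_one (Nat.card B) ▸ mul_card_le_of_major hM hok hB h8
      fun _ _ _ _ => Nat.pos_of_ne_zero).trans (Nat.mul_le_mul_left _ h10)
  · rw [h9, ← pow_mul, mul_comm _ 2]
    exact (card_sq_le_of_major hM hok hB h8 hh).trans (Nat.mul_le_mul_left _ h10)

theorem isCyclic_range {A Q : Type*} [Group A] [Group Q] {f : A →* Q} {v w : A} (hv : f v = 1)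
    (h : closure {v, w} = ⊤) : IsCyclic f.range := by
  rw [f.range_eq_map, ← h, MonoidHom.map_closure, Set.image_pair, hv, closure_insert_one,
    ← zpowers_eq_closure]
  infer_instance

theorem card_le_of_two_gen (hM : IsPModular p M) (hB : IsPBlock M B) {D : Subgroup G}
    (hD : IsDefectGroup p M B D) {v w : D} (hv : v ∈ center D) (h : closure {v, w} = ⊤) :
    Nat.card B ≤ Nat.card D := by
  obtain ⟨d, rfl, hd⟩ := exists_isMaxBP hM hB hD
  obtain ⟨Q, _, _, f, c, -, h1, h2, h3, -, h4, -⟩ := hd.exists_quot hM hv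
  exact h4 (qMin_of_cyclic hM h2 h3 (isCyclic_range h1 h))

theorem IsMaxBP.exists_quot_prime (hM : IsPModular p M) (hd : IsMaxBP p M B d)
    (h0 : blockDefect p B ≠ 0) :
    ∃ (Q : Type u) (_ : Group Q) (_ : Finite Q) (D : Subgroup Q) (c : Set (IrrCharacter Q)),
      IsPBlock M c ∧ IsDefectGroup p M c D ∧ blockDefect p c + 1 = blockDefect p B ∧
      (QMin p c → Nat.card B ≤ p ^ blockDefect p B) ∧
      ((∀ χ ∈ B, blockHeight p B χ.1 = 0) →
        Nat.card B ^ 2 ≤ (p ^ blockDefect p B) ^ 2 * Nat.card c) := by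
  have h1 := card_defectGroup hM hd.of.block (hd.defect hM)
  have := Fact.mk hM.1
  have : Nontrivial d.1 := hd.bp.1.nontrivial_iff_card.2 ⟨_, Nat.pos_of_ne_zero h0, h1⟩
  obtain ⟨k, hk, e⟩ := (hd.bp.1.to_subgroup (center d.1)).nontrivial_iff_card.1
    hd.bp.1.center_nontrivial
  obtain ⟨v, hv⟩ := exists_prime_orderOf_dvd_card' (G := center d.1) p (e ▸ dvd_pow_self p hk.ne')
  obtain ⟨Q, _, _, f, c, -, -, h2, h3, h4, h5, -, h6⟩ := hd.exists_quot hM v.2
  rw [Subgroup.orderOf_coe, hv, h1, card_defectGroup hM h2 h3, ← pow_succ] at h4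
  exact ⟨Q, _, ‹_›, _, c, h2, h3, Nat.pow_right_injective hM.1.two_le h4, h1 ▸ h5, h1 ▸ h6⟩

theorem qMin_of_defect_le_one (hM : IsPModular p M) (hB : IsPBlock M B)
    (h : blockDefect p B ≤ 1) : QMin p B := by
  obtain ⟨D, hD⟩ := exists_isDefectGroup hM hB
  have := Fact.mk hM.1
  exact qMin_of_cyclic hM hB hD (isCyclic_of_card_dvd_prime (p := p) (by
    rw [card_defectGroup hM hB hD]
    exact (pow_dvd_pow p h).trans (pow_one p).dvd))

theorem card_le_of_defect_le_two (hM : IsPModular p M) (hB : IsPBlock M B)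
    (h : blockDefect p B ≤ 2) : Nat.card B ≤ p ^ blockDefect p B := by
  by_cases h0 : blockDefect p B = 0
  · rw [(defect_eq_zero_iff_card_eq_one hM hB).1 h0, h0, pow_zero]
  obtain ⟨d, hd⟩ := exists_isMaxBP' hM hB
  obtain ⟨Q, _, _, D, c, h1, h2, h3, h4, -⟩ := hd.exists_quot_prime hM h0
  exact h4 (qMin_of_defect_le_one hM h1 (by omega))

theorem card_le_of_two_le_defect (hM : IsPModular p M) (n : ℕ) :
    ∀ {G : Type u} [Group G] [Finite G] {B : Set (IrrCharacter G)}, IsPBlock M B →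
      blockDefect p B = n + 2 → Nat.card B ≤ p ^ (2 * n + 2) := by
  induction n with
  | zero => exact fun hB h => by simpa [h] using card_le_of_defect_le_two hM hB h.le
  | succ n ih =>
    intro G _ _ B hB h
    by_cases hh : ∀ χ ∈ B, blockHeight p B χ.1 = 0
    · obtain ⟨d, hd⟩ := exists_isMaxBP' hM hB
      obtain ⟨Q, _, _, D, c, h1, h2, h3, -, h4⟩ := hd.exists_quot_prime hM (by omega)
      refine (Nat.pow_le_pow_iff_left two_ne_zero).1 ((h4 hh).trans ((Nat.mul_le_mul_left _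
        (ih h1 (by omega))).trans_eq ?_))
      rw [h]; ring
    · push Not at hh
      obtain ⟨χ, hχ, h0⟩ := hh
      have := brauer_feit_of_height hM hB hχ h0
      rw [h, show 2 * (n + 1 + 2) - 2 = 2 * (n + 1) + 2 by omega] at this
      omega

end Cfsg.Agent.Block
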