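import Mathlib
import Cfsg.Agent.Block.CK3
import Cfsg.Agent.Block.BasicAlg
import Cfsg.Agent.Block.KB

/-! Blocks with one Brauer character and five ordinary characters. -/

namespace Cfsg.Agent.Block

open Cfsg Cfsg.Agent.Char MonoidAlgebra Subgroup Module
open scoped _root_.Classical

variable {G : Type*} [Group G] [Finite G] {p : ℕ} {M : Ideal AlgInt} {B : Set (IrrCharacter G)}
  {d : BrauerPairIdx G}

/-- The Cartan invariant of a block with one Brauer character. -/
theorem MS.sum_dn_sq (S : MS M G) (hM : IsPModular p M) (hB : IsPBlock M B) {i : Fin S.S.n}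
    (hi : S.IB B = {i}) : ∑ χ with χ ∈ B, S.dn χ i ^ 2 = p ^ blockDefect p B := by
  have hV := isV_blockIdem hM hB
  have hi' : i ∈ S.IB B := hi ▸ Finset.mem_singleton_self i
  have h1 : ((∑ χ with χ ∈ B, S.dn χ i ^ 2 : ℕ) : ℂ) * bf p (S.φ i) (S.φ i) = 1 := by
    have := S.bf_Φ hM (S.classFun_φ i) i
    rw [S.lin_φ_e, if_pos rfl, S.Φ_eq_sum hi', bf_sum_right] at this
    rw [← this, Nat.cast_sum, Finset.sum_mul]
    refine Finset.sum_congr rfl fun χ hχ => ?_
    rw [bf_smul_right, bf_congr_right _ (g' := (S.dn χ i : ℂ) • S.φ i) fun g hg =>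
      S.irr_regular_of_single hM hV hi (Finset.mem_filter.1 hχ).2 hg, bf_smul_right]
    push_cast
    ring
  obtain ⟨m, hm⟩ := exists_nat_qf hM hB (S.isGenChar_ψ hM i)
  rw [qf, bf_congr_left fun g hg => S.blockPart_ψ hM hV hi' hg,
    bf_congr_right _ fun g hg => S.ψ_regular hM.1 i hg] at hm
  obtain ⟨ζ, hζ, h0⟩ := exists_height_zero (p := p) (block_nonempty hM hB)
  obtain ⟨n, hn⟩ := exists_nat_qf hM hB (isIrr_isGenChar ζ.2)
  have h2 := (val_qf_irr hM hB hζ).2 h0
  rw [hn, val_natCast_eq_one_iff hM] at h2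
  have h3 : ∀ g, ¬ p ∣ orderOf g → ζ.1 g = ((S.dn ζ i : ℂ) • S.φ i) g := fun g hg =>
    S.irr_regular_of_single hM hV hi hζ hg
  rw [qf, blockPart_irr_of_mem hζ, bf_congr_left h3, bf_congr_right _ h3, bf_smul_left,
    bf_smul_right] at hn
  refine Nat.dvd_antisymm ⟨m, ?_⟩ (Nat.Coprime.dvd_of_dvd_mul_right
    (((Nat.Prime.coprime_iff_not_dvd hM.1).2 h2).pow_left _) ⟨S.dn ζ i * S.dn ζ i, ?_⟩)
  · rw [← Nat.cast_inj (R := ℂ), Nat.cast_mul, ← hm, Nat.cast_pow]
    linear_combination -(p : ℂ) ^ blockDefect p B * h1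
  · rw [← Nat.cast_inj (R := ℂ), Nat.cast_mul, ← hn]
    push_cast at h1 ⊢
    linear_combination (p : ℂ) ^ blockDefect p B * S.dn ζ i * S.dn ζ i * h1

/-- Chlebowitz–Külshammer. -/
theorem pow_defect_of_rank_one_five (hM : IsPModular p M) (hB : IsPBlock M B)
    (hl : blockRank p B = 1) (hk : Nat.card B = 5) :
    p ^ blockDefect p B = 5 ∨ p ^ blockDefect p B = 8 := by
  obtain ⟨S⟩ := exists_ms M G
  have hV := isV_blockIdem hM hB
  obtain ⟨i, hi⟩ := Finset.card_eq_one.1 ((S.blockRank_eq hM hV).symm.trans hl)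
  obtain ⟨J, s, h⟩ := S.exists_symLoc i
  have := isAlgClosed_F M
  have h1 := CK.finrank_le_eight h ((S.finrank_center_BA hV hi).trans hk.le)
  rw [S.finrank_BA_eq (hi ▸ Finset.mem_singleton_self i)] at h1
  rw [← S.sum_dn_sq hM hB hi]
  rw [Nat.subtype_card (Finset.univ.filter (· ∈ B)) (by simp)] at hk
  have h2 : ∀ χ ∈ Finset.univ.filter (· ∈ B), 1 ≤ S.dn χ i ^ 2 := fun χ hχ =>
    Nat.one_le_pow 2 _ (S.dn_pos hM hV hi (Finset.mem_filter.1 hχ).2)
  by_cases h3 : ∀ χ ∈ Finset.univ.filter (· ∈ B), S.dn χ i ^ 2 = 1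
  · exact .inl (by rw [Finset.sum_congr rfl h3, Finset.sum_const, hk]; rfl)
  push Not at h3
  obtain ⟨χ, hχ, h3⟩ := h3
  have h4 : 4 ≤ S.dn χ i ^ 2 := by
    have := S.dn_pos hM hV hi (Finset.mem_filter.1 hχ).2
    have h5 : S.dn χ i ≠ 1 := fun e => h3 (by rw [e, one_pow])
    nlinarith [show 2 ≤ S.dn χ i by omega]
  have h5 := Finset.card_nsmul_le_sum _ _ 1 fun ψ hψ => h2 ψ (Finset.mem_of_mem_erase (a := χ) hψ)
  rw [← Finset.add_sum_erase _ _ hχ] at h1 ⊢
  rw [Finset.card_erase_of_mem hχ, hk, smul_eq_mul] at h5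
  omega

theorem odd_rank_of_card_le_four (hM : IsPModular 2 M) (hB : IsPBlock M B) {D : Subgroup G}
    (hD : IsDefectGroup 2 M B D) (h4 : Nat.card D ≤ 4) : Odd (blockRank 2 B) := by
  obtain ⟨d, rfl, hd⟩ := exists_isMaxBP hM hB hD
  by_cases h0 : d.1 = ⊥
  · have h1 : blockDefect 2 B = 0 := by
      have := card_defectGroup hM hB hD
      rw [h0, card_bot] at this
      exact (Nat.pow_eq_one.1 this.symm).resolve_left (by norm_num)
    rw [← (defect_eq_zero_iff_card_eq_blockRank hM hB).1 h1,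
      (defect_eq_zero_iff_card_eq_one hM hB).1 h1]
    exact odd_one
  have hc : IsMulCommutative d.1 := by
    have := Fact.mk Nat.prime_two
    have h1 := card_defectGroup hM hB hD
    have h2 : blockDefect 2 B ≤ 2 := (Nat.pow_le_pow_iff_right one_lt_two).1 (h1 ▸ h4)
    interval_cases blockDefect 2 B
    · exact (h0 (card_eq_one.1 h1)).elim
    · have := isCyclic_of_prime_card (p := 2) h1
      infer_instance
    · exact IsPGroup.isMulCommutative_of_card_eq_prime_sq h1
  obtain ⟨h1, h2⟩ := hd.abFree_two hM hc ((Finite.card_subtype_le _).trans h4)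
  rw [h1.rank_eq hM hd h0 (by omega)]
  rcases h2 with h2 | h2 <;> rw [h2] <;> decide

theorem IsMaxBP.odd_rank_subAt (hM : IsPModular 2 M) (hd : IsMaxBP 2 M B d)
    (h8 : Nat.card d.1 ≤ 8) {v : G} (hv : v ∈ d.1) (h1 : v ≠ 1) :
    Odd (blockRank 2 (subAt 2 M d v).a.2) := by
  have hok := (subAt_ok hM hd.bp hv).bp
  have h2 := (subAt_isBPOf hM hd.of hv).blockDefect_le hM
  have h3 := (subAt_spec hM hd.bp hv).1
  generalize (subAt 2 M d v).a = a at hok h2 h3 ⊢
  obtain ⟨c, hc⟩ := exists_isMaxBP' hM hok.2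
  have hZ : a.1 ≤ centralizer (a.1 : Set G) := by
    rw [h3]
    exact le_centralizer _
  obtain ⟨Q, _, _, f, e, -, h4, h5, h6, h7, -⟩ := exists_central_quot hM hok.2
    (Z := a.1.subgroupOf (centralizer (a.1 : Set G))) (hok.1.comap_of_injective _
      (subtype_injective _)) (fun x hx => mem_center_iff.2 fun y => Subtype.ext (y.2 _ hx).symm)
    (hc.defect hM)
  rw [← h7]
  refine odd_rank_of_card_le_four hM h4 h5 ?_
  have h9 : 1 < Nat.card (a.1.subgroupOf (centralizer (a.1 : Set G))) := by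
    rw [Nat.card_congr (subgroupOfEquivOfLe hZ).toEquiv, h3]
    exact (one_lt_card_iff_ne_bot _).2 (by simpa using h1)
  rw [card_defectGroup hM hok.2 (hc.defect hM)] at h6
  rw [card_defectGroup hM hd.of.block (hd.defect hM)] at h8
  have := Nat.pow_le_pow_right two_pos h2
  nlinarith

/-- For an abelian defect group of order `8`, `k(B) - l(B)` is odd. -/
theorem odd_card_add_rank (hM : IsPModular 2 M) (hB : IsPBlock M B) {D : Subgroup G}
    (hD : IsDefectGroup 2 M B D) (h8 : Nat.card D = 8) (hc : IsMulCommutative D) :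
    Odd (Nat.card B + blockRank 2 B) := by
  obtain ⟨d, rfl, hd⟩ := exists_isMaxBP hM hB hD
  have hab : d.1 ≤ centralizer (d.1 : Set G) := fun x hx y hy =>
    congrArg Subtype.val (hc.1.1 ⟨y, hy⟩ ⟨x, hx⟩)
  have := Fintype.ofFinite d.1
  obtain ⟨X, hX⟩ := exists_fReps 2 M d
  have h1 := hX.isReps_of_abelian hM hd hab
  have h2 : (1 : d.1) ∈ X := by
    obtain ⟨r, hr, t, e⟩ := h1.exu 1 (Finset.mem_univ _)
    rwa [← (inertHom d t).injective (e.trans (map_one _).symm)]
  have h3 := h1.card_eq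
  rw [Finset.card_univ, ← Nat.card_eq_fintype_card, h8] at h3
  have h4 : ∀ r ∈ X, Odd (MulAction.stabilizer (MulAction.stabilizer G d) r).index := fun r _ =>
    Nat.not_even_iff_odd.1 fun e => hd.not_dvd_of_abelian hM hab (e.two_dvd.trans (by
      rw [stabilizer_stabAct]
      exact index_dvd_of_le (comap_mono (centralizer_le (by simp)))))
  have h5 : Even X.card := by
    have : Even (∑ r ∈ X, (MulAction.stabilizer (MulAction.stabilizer G d) r).index) :=
      h3 ▸ by decide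
    rwa [Finset.even_sum_iff_even_card_odd, Finset.filter_true_of_mem h4] at this
  rw [hX.card_eq_sum hM hd, ← Finset.add_sum_erase _ _ h2,
    (blockDefect_of_fst_eq_bot hM (subAt_isBPOf hM hd.of (1 : d.1).2) (by
      simp [(subAt_spec hM hd.bp (one_mem _)).1])).2.1, add_right_comm]
  refine Even.add_odd ⟨_, rfl⟩ ?_
  rw [Finset.odd_sum_iff_odd_card_odd, Finset.filter_true_of_mem fun r hr =>
    hd.odd_rank_subAt hM h8.le r.2 (by simpa using Finset.ne_of_mem_erase hr),
    Finset.card_erase_of_mem h2]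
  exact Nat.Even.sub_odd (Finset.card_pos.2 ⟨_, h2⟩) h5 odd_one

theorem defect_of_rank_one_five (hM : IsPModular p M) (hB : IsPBlock M B) {D : Subgroup G}
    (hD : IsDefectGroup p M B D) (hl : blockRank p B = 1) (hk : Nat.card B = 5) :
    Nat.card D = 5 ∨ Nat.card D = 8 ∧ ¬ IsMulCommutative D := by
  have h1 := card_defectGroup hM hB hD
  refine (pow_defect_of_rank_one_five hM hB hl hk).imp h1.trans fun h => ⟨h1.trans h, fun hc => ?_⟩
  obtain rfl : p = 2 := by
    have h2 : blockDefect p B ≠ 0 := fun e => by simp [e] at h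
    exact (Nat.prime_dvd_prime_iff_eq hM.1 Nat.prime_two).1
      (hM.1.dvd_of_dvd_pow (n := 3) (h ▸ dvd_pow_self p h2 : p ∣ 8))
  have := odd_card_add_rank hM hB hD (h1.trans h) hc
  rw [hk, hl] at this
  exact absurd this (by decide)

end Cfsg.Agent.Block
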