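import Mathlib
import Cfsg.Agent.Block.BrRey
import Cfsg.Agent.Char.Indicator
import Cfsg.Agent.Char.Galois

/-!
Groups with a Sylow subgroup of prime order `p` whose normaliser is dihedral of order `2 p`
and with an irreducible character of degree `p - 1`.
-/

namespace Cfsg.Agent.Block

open Cfsg Cfsg.Agent.Char Cfsg.Agent.Char.Ind Subgroup MulAction
open scoped _root_.Classical ComplexConjugate

variable {G : Type*} [Group G] [Fintype G] {p : ℕ} {P : Subgroup G}

theorem eq_sum_of_degree_le {D : G → ℂ} (hD : IsCharacter G D) {S : Finset (IrrCharacter G)}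
    (h1 : ∀ χ ∈ S, classInner D χ.1 ≠ 0) (h2 : charDegree D ≤ ∑ χ ∈ S, charDegree χ.1) (g : G) :
    D g = ∑ χ ∈ S, χ.1 g := by
  obtain ⟨n, h3, h4⟩ := Constit.isChar_expand_nat hD
  have h5 := congrFun h4 1
  simp only [Finset.sum_apply, Pi.smul_apply, smul_eq_mul, ← irr_degree_cast,
    ← charDegree_cast hD] at h5
  have h6 : charDegree D = ∑ ψ, n ψ * charDegree ψ.1 := by exact_mod_cast h5
  have h7 : ∀ χ ∈ S, 1 ≤ n χ := fun χ hχ =>
    Nat.pos_of_ne_zero fun e => h1 χ hχ (by rw [h3, e, Nat.cast_zero])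
  have h8 : ∀ χ ∈ S, charDegree χ.1 ≤ n χ * charDegree χ.1 := fun χ hχ =>
    Nat.le_mul_of_pos_left _ (h7 χ hχ)
  have h9 := Finset.sum_le_sum h8
  have h10 := Finset.sum_le_sum_of_subset (f := fun ψ : IrrCharacter G => n ψ * charDegree ψ.1)
    (Finset.subset_univ S)
  have h11 := (Finset.sum_eq_sum_iff_of_le h8).1 (by omega)
  have := eq_sum_of_degree hD (S := S) (m := fun _ => 1) (fun χ hχ => by
    have := h11 χ hχ
    have h0 := isIrr_charDegree_ne_zero χ.2
    rw [h3, Nat.cast_inj]
    exact (Nat.eq_of_mul_eq_mul_right (Nat.pos_of_ne_zero h0) (by omega)))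
    (by simp only [one_mul]; omega) g
  simpa using this

theorem inner_one_eq_zero_of_sum {D : G → ℂ} (hD : IsCharacter G D) (H : Subgroup G)
    (h : ∑ x : H, D x = 0) : classInner D (fun _ => 1) = 0 := by
  by_contra h0
  have h1 : fx H D = 0 := by
    have := card_mul_fx (P := H) hD
    rw [h, mul_eq_zero, or_iff_right card_ne_zero] at this
    exact_mod_cast this
  have := fx_eq_zero_of_constituent hD isIrr_one h1 h0
  exact one_ne_zero (fx_one.symm.trans this)

theorem dvd_orderOf_mul_self (hp : p.Prime) (h2 : p ≠ 2) {g : G} :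
    p ∣ orderOf (g * g) ↔ p ∣ orderOf g := by
  rw [← sq]
  refine ⟨fun h => h.trans (orderOf_pow_dvd 2), fun h => ?_⟩
  have : orderOf g ∣ 2 * orderOf (g ^ 2) := by
    rw [orderOf_dvd_iff_pow_eq_one, pow_mul, pow_orderOf_eq_one]
  exact ((Nat.Prime.dvd_mul hp).1 (h.trans this)).resolve_left fun e =>
    h2 ((Nat.prime_dvd_prime_iff_eq hp Nat.prime_two).1 e)

theorem SC.relIndex_eq_two (h : SC p P) (hN : Nat.card (normalizer (P : Set G)) = 2 * p) :
    (centralizer (P : Set G)).relIndex (normalizer (P : Set G)) = 2 := by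
  have := h.card_N
  rw [hN, mul_comm] at this
  exact (Nat.eq_of_mul_eq_mul_left h.prime.pos this).symm

/-- The principal block when the normaliser is dihedral. -/
structure Dih (p : ℕ) (P : Subgroup G) (t : ℕ) (Y : Finset (IrrCharacter G))
    (χ : IrrCharacter G) : Prop extends SC p P where
  hN : Nat.card (normalizer (P : Set G)) = 2 * p
  te : 2 * t + 1 = p
  two_le : 2 ≤ t
  cardY : Y.card = t
  ne_one : χ ≠ oneIrr G
  notMem : χ ∉ Y
  one_notMem : oneIrr G ∉ Y
  val : ∀ g, p ∣ orderOf g → χ.1 g = -1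
  sumY : ∀ g, p ∣ orderOf g → ∑ ξ ∈ Y, ξ.1 g = 1
  rel : ∀ ξ ∈ Y, ∀ g, ¬ p ∣ orderOf g → ξ.1 g = χ.1 g - 1
  out : ∀ ψ, ψ ≠ oneIrr G → ψ ≠ χ → ψ ∉ Y → ∀ g, p ∣ orderOf g → ψ.1 g = 0

theorem Dih.inner_sing {t Y χ} (h : Dih p P t Y χ) {β : G → ℂ}
    (hβ : ∀ g, p ∣ orderOf g → β g = 0) {ξ : IrrCharacter G} (hξ : ξ ∈ Y) :
    classInner β ξ.1 = classInner β χ.1 - classInner β fun _ => 1 := by
  have := classInner_eq_zero_comm.1 (inner_eq_zero_of_supp
    (α := ξ.1 - (χ.1 - fun _ => 1)) (fun g hg => by simp [h.rel ξ hξ g hg]) hβ)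
  simpa only [classInner_sub_right, sub_eq_zero] using this

/-- A character with value `-1` on the singular elements and small degree. -/
theorem SC.exists_dih (h : SC p P) (hN : Nat.card (normalizer (P : Set G)) = 2 * p) (h3 : 3 < p)
    (hG : commutator G = ⊤) {D : G → ℂ} (hD : IsCharacter G D)
    (h1 : classInner D (fun _ => 1) = 0) (hv : ∀ g, p ∣ orderOf g → D g = -1)
    (hd : charDegree D < 2 * p) : ∃ t Y χ, Dih p P t Y χ ∧ classInner D χ.1 ≠ 0 := by
  obtain ⟨e, t, δ, X, Y, a, hw⟩ := h.toOrdP.exists_pW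
  obtain rfl : e = 2 := hw.he.symm.trans (h.relIndex_eq_two hN)
  have hte := hw.te
  have h1X := hw.one_mem_X (by omega)
  obtain ⟨χ, hχ⟩ : ∃ χ, X.erase (oneIrr G) = {χ} :=
    Finset.card_eq_one.1 (by rw [Finset.card_erase_of_mem h1X, hw.cardX])
  have hχ' : χ ∈ X.erase (oneIrr G) := hχ ▸ Finset.mem_singleton_self χ
  obtain ⟨hne, hχX⟩ := Finset.mem_erase.1 hχ'
  have hs : ∀ {R : Type} [AddCommMonoid R] (f : IrrCharacter G → R),
      ∑ ψ ∈ X, f ψ = f (oneIrr G) + f χ := fun f => by
    rw [← Finset.add_sum_erase _ _ h1X, hχ, Finset.sum_singleton]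
  have hY1 : ∀ ξ ∈ Y, ξ ≠ oneIrr G := fun ξ hξ e =>
    Finset.disjoint_left.1 hw.disj h1X (e ▸ hξ)
  have key : ∀ ξ ∈ Y, δ * classInner D ξ.1 = 1 + a χ * classInner D χ.1 := fun ξ hξ => by
    have := hw.inner_sing (β := D + (oneIrr G).1) (fun g hg => by simp [hv g hg, oneIrr]) hξ
    rw [hs, hw.a_one h1X] at this
    simp only [classInner_add_left, classInner_irr_ne (hY1 ξ hξ).symm, classInner_irr_ne hne.symm,
      classInner_irr_self, add_zero] at this
    rw [this]
    change _ * (classInner D (fun _ => 1) + 1) + _ = _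
    rw [h1]; simp
  obtain ⟨ξ₀, hξ₀⟩ := hw.exists_Y
  have hrel := fun ξ (hξ : ξ ∈ Y) => hw.rel_one hξ
  simp only [hs, hw.a_one h1X] at hrel
  have hd1 : charDegree (oneIrr G).1 = 1 := charDegree_one_fun
  have hdX := hw.degX hχX
  have hdne : charDegree χ.1 ≠ 1 := fun e => hne (eq_one_of_perfect hG e)
  have hd0 := isIrr_charDegree_ne_zero χ.2
  rcases hw.a_sign χ hχX with ha | ha
  · exfalso
    have hδ : δ = 1 := hw.sign.resolve_right fun e => by
      have := hrel ξ₀ hξ₀
      rw [e, ha, hd1] at this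
      omega
    have h5 := sum_degree_le hD (S := Y) fun ξ hξ e => by
      have := key ξ hξ
      obtain ⟨m, hm⟩ := classInner_isChar_nat hD (irr_isChar χ)
      rw [e, ha, hm, mul_zero, Int.cast_one, one_mul] at this
      have h6 : 0 = 1 + m := by exact_mod_cast this
      omega
    rw [Finset.sum_congr rfl (g := fun _ => 1 + charDegree χ.1) fun ξ hξ => by
      have := hrel ξ hξ
      rw [hδ, ha, hd1] at this
      omega, Finset.sum_const, hw.cardY, smul_eq_mul] at h5
    rw [ha] at hdX
    have h6 : (p : ℤ) * 1 ≤ p * (fx P χ.1 - 1) :=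
      mul_le_mul_of_nonneg_left (by
        by_contra h7
        have : (fx P χ.1 : ℤ) - 1 = 0 := by omega
        rw [this] at hdX
        omega) (by positivity)
    have h7 : 2 * (1 + charDegree χ.1) ≤ t * (1 + charDegree χ.1) :=
      Nat.mul_le_mul_right _ (by omega)
    omega
  have hδ : δ = -1 := hw.sign.resolve_left fun e => by
    have := hrel ξ₀ hξ₀
    have h0 := isIrr_charDegree_ne_zero ξ₀.2
    rw [e, ha, hd1] at this
    omega
  refine ⟨t, Y, χ, ⟨h, hN, by omega, by omega, hw.cardY, hne,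
    Finset.disjoint_left.1 hw.disj hχX, Finset.disjoint_left.1 hw.disj h1X,
    fun g hg => by rw [hw.valX χ hχX g hg, ha]; simp,
    fun g hg => by rw [hw.sumY g hg, hδ]; simp, fun ξ hξ g hg => ?_,
    fun ψ e1 e2 e3 => hw.out h.le ψ (fun e => e2 ?_) e3⟩, fun e => ?_⟩
  · have := hw.rel ξ hξ g hg
    rw [hs, hw.a_one h1X, ha, hδ] at this
    simp only [oneIrr, Int.cast_neg, Int.cast_one] at this
    linear_combination -this
  · exact Finset.mem_singleton.1 (hχ ▸ Finset.mem_erase.2 ⟨e1, e⟩)
  · have := key ξ₀ hξ₀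
    obtain ⟨m, hm⟩ := classInner_isChar_nat hD (irr_isChar ξ₀)
    rw [e, hδ, hm] at this
    have h6 : (m : ℂ) + 1 = 0 := by push_cast at this; linear_combination -this
    have h7 : m + 1 = 0 := by exact_mod_cast h6
    omega

namespace Dih

variable {t : ℕ} {Y : Finset (IrrCharacter G)} {χ : IrrCharacter G} (h : Dih p P t Y χ)
include h

theorem ne_two : p ≠ 2 := by have := h.te; omega

theorem reg_one : ¬ p ∣ orderOf (1 : G) := by simpa using h.prime.one_lt.ne'

theorem degY {ξ : IrrCharacter G} (hξ : ξ ∈ Y) : charDegree ξ.1 + 1 = charDegree χ.1 := by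
  have := h.rel ξ hξ 1 h.reg_one
  rw [← irr_degree_cast, ← irr_degree_cast, eq_sub_iff_add_eq] at this
  exact_mod_cast this

theorem degX : charDegree χ.1 + 1 = p * (fx P χ.1 + 1) := by
  have := (h.toOrdP.of_const (irr_isChar χ) (c := -1) fun x hx => by
    rw [h.val _ (h.toOrdP.dvd_orderOf hx)]; simp).1
  zify
  linear_combination this

theorem exists_sing : ∃ g : G, p ∣ orderOf g :=
  let ⟨_, hx⟩ := h.toOrdP.exists_ne_one
  ⟨_, h.toOrdP.dvd_orderOf hx⟩

theorem exists_int (g : G) : ∃ c : ℤ, χ.1 g = c := by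
  refine Galois.exists_int_of_forall_pow (irr_isGenChar χ) fun k hk => ?_
  obtain ⟨σ, hσ⟩ := Galois.exists_aut_apply_pow g hk
  rw [← hσ _ (irr_isGenChar χ)]
  let ψ : IrrCharacter G := ⟨_, Galois.isIrr_map (σ : ℂ →+* ℂ) χ.2⟩
  obtain ⟨x, hx⟩ := h.exists_sing
  have hψ : ψ.1 x = -1 := by
    change σ (χ.1 x) = _
    rw [h.val x hx]; simp
  have : ψ = χ := by
    by_contra e
    refine absurd (h.out ψ (fun e1 => ?_) e (fun e2 => ?_) x hx) (by rw [hψ]; simp)
    · rw [e1] at hψ
      have : (1 : ℂ) = -1 := hψ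
      norm_num at this
    · have h1 := h.degY e2
      have h2 : charDegree ψ.1 = charDegree χ.1 := charDegree_of_eq (by
        rw [irr_degree_cast]; exact Galois.map_apply_one (σ : ℂ →+* ℂ) (irr_isGenChar χ))
      omega
  exact congrFun (congrArg Subtype.val this) g

theorem sq_eq_one {z : G} (hN : z ∈ normalizer (P : Set G)) (hz : z ∉ P) : z * z = 1 := by
  have h1 : orderOf z ∣ 2 * p := h.hN ▸ orderOf_dvd_natCard _ hN
  rw [← sq, ← orderOf_dvd_iff_pow_eq_one]
  exact ((Nat.Prime.coprime_iff_not_dvd h.prime).2 (h.toSC.regular hN hz)).symm.dvd_of_dvd_mul_right h1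

variable (hd : charDegree χ.1 = 2 * t)
include hd

theorem apply_one : χ.1 1 = 2 * t := by rw [← irr_degree_cast, hd]; simp

/-- The exterior square of `χ` is the sum of the exceptional characters. -/
theorem alt {α β : G → ℂ} (hβ : IsCharacter G β) (h1 : χ.1 * χ.1 = α + β)
    (h2 : (fun g => χ.1 (g * g)) = α - β) (g : G) : β g = ∑ ξ ∈ Y, ξ.1 g := by
  have hv : ∀ g, 2 * β g = χ.1 g * χ.1 g - χ.1 (g * g) := fun g => by
    have e1 := congrFun h1 g
    have e2 := congrFun h2 g
    simp only [Pi.mul_apply, Pi.add_apply, Pi.sub_apply] at e1 e2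
    linear_combination e2 - e1
  have hs : ∀ g, p ∣ orderOf g → β g = 1 := fun g hg => by
    have := hv g
    rw [h.val g hg, h.val _ ((dvd_orderOf_mul_self h.prime h.ne_two).2 hg)] at this
    linear_combination this / 2
  have hone : β 1 = t * (2 * t - 1) := by
    have := hv 1
    rw [mul_one, h.apply_one hd] at this
    linear_combination this / 2
  have hfx : fx P χ.1 = 0 := by
    have := h.degX
    rw [hd, h.te] at this
    have h3 := Nat.eq_of_mul_eq_mul_left h.prime.pos ((mul_one p).trans this)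
    omega
  have hp : (p : ℂ) = 2 * t + 1 := by rw [← h.te]; simp
  have h0 : classInner β (fun _ => 1) = 0 := by
    refine inner_one_eq_zero_of_sum hβ (normalizer (P : Set G)) ?_
    rw [Finset.sum_congr rfl (g := fun z : normalizer (P : Set G) => -(t : ℂ) +
      (if z ∈ P.subgroupOf _ then (1 + t : ℂ) else 0) +
      if z = 1 then (t * (2 * t - 1) - 1 : ℂ) else 0) fun z _ => ?_]
    · rw [Finset.sum_add_distrib, Finset.sum_add_distrib, Finset.sum_ite_eq', ← Finset.sum_filter,
        Finset.sum_const, Finset.sum_const, Finset.card_univ, ← Nat.card_eq_fintype_card, h.hN,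
        card_filter_eq_card (s := (P.subgroupOf (normalizer (P : Set G)) : Set _))
          (q := fun z : normalizer (P : Set G) => z ∈ P.subgroupOf _) fun _ => Iff.rfl]
      have : Nat.card (P.subgroupOf (normalizer (P : Set G)) : Set (normalizer (P : Set G))) = p :=
        (h.toOrdP.subgroupOf le_normalizer).card
      simp only [this, nsmul_eq_mul, Finset.mem_univ, if_true]
      push_cast
      rw [hp]; ring
    · by_cases e1 : z = 1
      · subst e1
        rw [if_pos (one_mem _), if_pos rfl, OneMemClass.coe_one, hone]; ring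
      by_cases e2 : z ∈ P.subgroupOf _
      · rw [if_pos e2, if_neg e1, hs _ (h.toOrdP.dvd_orderOf (x := ⟨z, e2⟩)
          fun e => e1 (Subtype.ext (congrArg Subtype.val e :)))]
        ring
      · have := hv z
        rw [h.toSC.apply_eq_zero (irr_isChar χ) hfx z.2 e2, h.sq_eq_one z.2 e2,
          h.apply_one hd] at this
        rw [if_neg e2, if_neg e1]
        linear_combination this / 2
  refine eq_sum_of_degree_le hβ (fun ξ hξ e => ?_) ?_ g
  · have := h.inner_sing (β := β - (oneIrr G).1) (fun g hg => by simp [hs g hg, oneIrr]) hξ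
    obtain ⟨m, hm⟩ := classInner_isChar_nat hβ (irr_isChar χ)
    simp only [classInner_sub_left, classInner_irr_ne h.ne_one.symm,
      classInner_irr_ne (show oneIrr G ≠ ξ from fun e => h.one_notMem (e ▸ hξ)), e, hm, h0] at this
    rw [show classInner (oneIrr G).1 (fun _ => 1) = 1 from classInner_one_one] at this
    have h6 : (m : ℂ) + 1 = 0 := by linear_combination -this
    have h7 : m + 1 = 0 := by exact_mod_cast h6
    omega
  · rw [Finset.sum_congr rfl (g := fun _ => 2 * t - 1) fun ξ hξ => by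
      have := h.degY hξ
      omega, Finset.sum_const, h.cardY, smul_eq_mul]
    refine (charDegree_of_eq ?_).le
    have := h.two_le
    rw [hone, Nat.cast_mul, Nat.cast_sub (by omega)]
    simp

/-- The values of `χ` and the order of the group. -/
theorem main (hk : charKer χ.1 = ⊥) : Nat.card G = p * (2 * t) * (2 * t - 1) ∧
    ∀ y, ¬ p ∣ orderOf y → y ≠ 1 →
      χ.1 y = 0 ∧ y * y = 1 ∨ χ.1 y = 1 ∧ χ.1 (y * y) = 1 ∧ y * y ≠ 1 := by
  obtain ⟨α, β, hα, hβ, h1, h2⟩ := isChar_exists_sym_alt (irr_isChar χ)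
  have hb := h.alt hd hβ h1 h2
  choose c hc using h.exists_int
  have ht := h.two_le
  have hp : (p : ℤ) = 2 * t + 1 := by rw [← h.te]; simp
  have hc1 : c 1 = 2 * t := by have := h.apply_one hd; rw [hc] at this; exact_mod_cast this
  have hle : ∀ g, c g ≤ 2 * t := fun g => by
    have := isChar_norm_le (irr_isChar χ) g (n := 2 * t) (by rw [h.apply_one hd]; simp)
    rw [hc, Complex.norm_intCast] at this
    exact_mod_cast (le_abs_self _).trans this
  have hker : ∀ g, c g = 2 * t → g = 1 := fun g e => by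
    rw [← mem_bot, ← hk, mem_charKer_iff (irr_isChar χ), hc, hc, e, hc1]
  have hbr : ∀ g, ¬ p ∣ orderOf g → β g = t * (χ.1 g - 1) := fun g hg => by
    rw [hb, Finset.sum_congr rfl fun ξ hξ => h.rel ξ hξ g hg, Finset.sum_const, h.cardY,
      nsmul_eq_mul]
  have hT : ∀ g, ¬ p ∣ orderOf g → c g * c g - c (g * g) = 2 * t * (c g - 1) := fun g hg => by
    have e1 := congrFun h1 g
    have e2 := congrFun h2 g
    simp only [Pi.mul_apply, Pi.add_apply, Pi.sub_apply, hbr g hg, hc] at e1 e2
    have : (c g : ℂ) * c g - c (g * g) = 2 * t * (c g - 1) := by linear_combination e1 - e2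
    exact_mod_cast this
  have hge : ∀ g, ¬ p ∣ orderOf g → 0 ≤ c g := fun g hg => by
    have := hT g hg
    have := hle (g * g)
    by_contra h0
    nlinarith
  have hcs : ∀ g, p ∣ orderOf g → c g = -1 := fun g hg => by
    have := h.val g hg
    rw [hc] at this
    exact_mod_cast this
  have hreal : (fun g => conj (χ.1 g)) = χ.1 := funext fun g => by rw [hc]; simp
  have hG : (Nat.card G : ℂ) ≠ 0 := card_ne_zero
  have hY1 : ∀ ξ ∈ Y, ξ ≠ oneIrr G := fun ξ hξ e => h.one_notMem (e ▸ hξ)
  -- the four sums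
  have s1 : ∑ g, c g = 0 := by
    have := card_mul_classInner χ.1 (oneIrr G).1
    rw [classInner_irr_ne h.ne_one] at this
    simp only [oneIrr, hc, map_one, mul_one, mul_zero] at this
    exact_mod_cast this.symm
  have s2 : ∑ g, c g * c g = Nat.card G := by
    have := card_mul_classInner χ.1 χ.1
    rw [classInner_irr_self] at this
    simp only [hc, map_intCast, mul_one] at this
    exact_mod_cast this.symm
  have s3 : ∃ k : ℕ, 1 ≤ k ∧ ∑ g, c g * c g * c g = Nat.card G * k := by
    obtain ⟨k, hk⟩ := classInner_isChar_nat (isChar_mul (irr_isChar χ) (irr_isChar χ))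
      (irr_isChar χ)
    refine ⟨k, Nat.pos_of_ne_zero fun e => ?_, ?_⟩
    · obtain ⟨ξ, hξ⟩ := Finset.card_pos.1 (show 0 < Y.card by rw [h.cardY]; omega)
      have := h.inner_sing (β := χ.1 * χ.1 - (oneIrr G).1)
        (fun g hg => by simp [h.val g hg, oneIrr]) hξ
      have e1 : classInner (χ.1 * χ.1) (fun _ => 1) = 1 := by
        rw [classInner_mul_left, hreal]
        exact (congrArg _ (one_mul _)).trans (classInner_irr_self χ)
      simp only [classInner_sub_left, classInner_irr_ne h.ne_one.symm,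
        classInner_irr_ne (hY1 ξ hξ).symm, hk, e, e1] at this
      rw [show classInner (oneIrr G).1 (fun _ => 1) = 1 from classInner_one_one, h1, add_comm]
        at this
      refine Constit.inner_add_ne_zero_left hβ hα (irr_isChar ξ) ?_ (by simpa using this)
      rw [show β = ∑ ξ ∈ Y, ξ.1 from funext fun g => by rw [hb, Finset.sum_apply],
        classInner_sum_left, Finset.sum_eq_single_of_mem ξ hξ fun _ _ => classInner_irr_ne,
        classInner_irr_self]
      exact one_ne_zero
    · have := card_mul_classInner (χ.1 * χ.1) χ.1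
      rw [hk] at this
      simp only [hc, map_intCast, Pi.mul_apply] at this
      exact_mod_cast this.symm
  have s4 : ∑ g : G, (if p ∣ orderOf g then (p : ℤ) else 0) = Nat.card G * t := by
    have := card_mul_classInner (β - (t : ℂ) • (χ.1 - (oneIrr G).1)) (oneIrr G).1
    rw [classInner_sub_left, classInner_smul_left, classInner_sub_left, classInner_irr_self,
      classInner_irr_ne h.ne_one,
      show β = ∑ ξ ∈ Y, ξ.1 from funext fun g => by rw [hb, Finset.sum_apply],
      classInner_sum_left, Finset.sum_eq_zero fun ξ hξ => classInner_irr_ne (hY1 ξ hξ),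
      Finset.sum_congr rfl (g := fun g => (((if p ∣ orderOf g then (p : ℤ) else 0 : ℤ)) : ℂ))
        fun g _ => ?_] at this
    · have h3 : (Nat.card G : ℂ) * t = _ := Eq.trans (by ring) this
      exact_mod_cast h3.symm
    · simp only [oneIrr, map_one, mul_one, Pi.sub_apply, Finset.sum_apply, Pi.smul_apply,
        smul_eq_mul]
      split_ifs with hg
      · rw [h.sumY g hg, h.val g hg, hp]; push_cast; ring
      · rw [← hb, hbr g hg]; simp
  obtain ⟨k, hk1, s3⟩ := s3
  have hnn : ∀ g ∈ (Finset.univ : Finset G), 0 ≤ c g * (c g - 1) * (2 * t - c g) -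
      2 * (if p ∣ orderOf g then (p : ℤ) else 0) := fun g _ => by
    split_ifs with hg
    · rw [hcs g hg, hp]; ring_nf; rfl
    · have := hge g hg
      have := hle g
      have : 0 ≤ c g * (c g - 1) := by
        rcases (hge g hg).eq_or_lt with e | e
        · rw [← e]; simp
        · exact mul_nonneg e.le (by omega)
      rw [mul_zero, sub_zero]
      exact mul_nonneg this (by omega)
  have hG0 : (0 : ℤ) < Nat.card G := by exact_mod_cast Nat.card_pos
  have hz := (Finset.sum_eq_zero_iff_of_nonneg hnn).1 (le_antisymm (by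
    rw [Finset.sum_congr rfl (g := fun g => -(c g * c g * c g) + (2 * t + 1) * (c g * c g) -
      2 * t * c g - 2 * (if p ∣ orderOf g then (p : ℤ) else 0)) fun g _ => by ring]
    simp only [Finset.sum_sub_distrib, Finset.sum_add_distrib, Finset.sum_neg_distrib,
      ← Finset.mul_sum, s1, s2, s3, s4]
    have : (1 : ℤ) ≤ k := by exact_mod_cast hk1
    nlinarith) (Finset.sum_nonneg hnn))
  have h01 : ∀ g, ¬ p ∣ orderOf g → g ≠ 1 → c g = 0 ∨ c g = 1 := fun g hg e => by
    have := hz g (Finset.mem_univ _)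
    rw [if_neg hg, mul_zero, sub_zero, mul_eq_zero, mul_eq_zero] at this
    rcases this with (e1 | e1) | e1
    · exact Or.inl e1
    · exact Or.inr (by omega)
    · exact absurd (hker g (by omega)) e
  refine ⟨?_, fun y hy e => ?_⟩
  · have : ∑ g : G, (p * (c g * c g) - p * c g - 2 * (if p ∣ orderOf g then (p : ℤ) else 0)) =
        p * (2 * t) * (2 * t - 1) := by
      rw [Finset.sum_eq_single_of_mem 1 (Finset.mem_univ _) fun g _ e => ?_, if_neg h.reg_one, hc1]
      · ring
      · split_ifs with hg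
        · rw [hcs g hg]; ring
        · rcases h01 g hg e with e1 | e1 <;> rw [e1] <;> ring
    simp only [Finset.sum_sub_distrib, ← Finset.mul_sum, s1, s2, s4] at this
    zify [show 1 ≤ 2 * t by omega]
    linear_combination this - (Nat.card G : ℤ) * hp
  · have := hT y hy
    rcases h01 y hy e with e1 | e1
    · exact Or.inl ⟨by rw [hc, e1]; simp, hker _ (by rw [e1] at this; omega)⟩
    · rw [e1] at this
      have e2 : c (y * y) = 1 := by omega
      exact Or.inr ⟨by rw [hc, e1]; simp, by rw [hc, e2]; simp, fun e3 => by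
        rw [e3, hc1] at e2; omega⟩

/-- A subgroup of index `2 p` on which `χ` has one fixed vector forces `p = 5`. -/
theorem five (hk : charKer χ.1 = ⊥) {H : Subgroup G} (hH : H.index = 2 * p)
    (h1 : classInner (fun _ : H => (1 : ℂ)) (fun x : H => χ.1 x) = 1) : p = 5 := by
  obtain ⟨hG, hv⟩ := h.main hd hk
  have ht := h.two_le
  have hte := h.te
  have hcH : Nat.card H = t * (2 * t - 1) := by
    have := H.card_mul_index
    rw [hH, hG] at this
    exact Nat.eq_of_mul_eq_mul_right (show 0 < 2 * p by omega) (by rw [this]; ring)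
  have hreg : ∀ y : H, ¬ p ∣ orderOf (y : G) := fun y hy => by
    have h2 : p ∣ t * (2 * t - 1) := hcH ▸ hy.trans (orderOf_dvd_natCard H y.2)
    rcases (Nat.Prime.dvd_mul h.prime).1 h2 with e | e <;>
      exact absurd (Nat.le_of_dvd (by omega) e) (by omega)
  have hv' : ∀ y : H, y ≠ 1 → χ.1 y = 0 ∧ y * y = 1 ∨
      χ.1 y = 1 ∧ χ.1 (y * y) = 1 ∧ y * y ≠ 1 := fun y e => by
    rcases hv y (hreg y) (fun e1 => e (Subtype.ext e1)) with e1 | e1
    · exact Or.inl ⟨e1.1, Subtype.ext e1.2⟩
    · exact Or.inr ⟨e1.1, e1.2.1, fun e2 => e1.2.2 (congrArg Subtype.val e2)⟩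
  have hv0 : ∀ y : H, y ≠ 1 → y * y = 1 → χ.1 y = 0 := fun y e e1 =>
    ((hv' y e).resolve_right fun e2 => e2.2.2 e1).1
  have hv1 : ∀ y : H, y * y ≠ 1 → χ.1 y = 1 ∧ χ.1 (y * y) = 1 := fun y e =>
    let e1 := (hv' y fun e1 => e (by rw [e1, mul_one])).resolve_left fun e2 => e e2.2
    ⟨e1.1, e1.2.1⟩
  -- the number of solutions of `y ^ 2 = 1`
  set I : Finset H := Finset.univ.filter fun y => y * y = 1 with hI
  have hcI : I.card = 2 * t := by
    have := card_mul_classInner (fun _ : H => (1 : ℂ)) (fun x : H => χ.1 x)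
    rw [h1, mul_one, Finset.sum_congr rfl (g := fun y : H => 1 - (if y * y = 1 then (1 : ℂ) else 0) +
      if y = 1 then (2 * t : ℂ) else 0) fun y _ => ?_, Finset.sum_add_distrib,
      Finset.sum_sub_distrib, Finset.sum_ite_eq', ← Finset.sum_filter, Finset.sum_const,
      Finset.sum_const, Finset.card_univ, ← Nat.card_eq_fintype_card] at this
    · simp only [nsmul_eq_mul, mul_one, Finset.mem_univ, if_true] at this
      have h2 : (I.card : ℂ) = 2 * t := by linear_combination this
      exact_mod_cast h2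
    · by_cases e : y = 1
      · subst e; simp [h.apply_one hd, map_ofNat]
      by_cases e1 : y * y = 1
      · simp [hv0 y e e1, e, e1]
      · simp [(hv1 y e1).1, e, e1]
  -- centralisers of involutions
  have hC : ∀ i y : H, i ≠ 1 → i * i = 1 → i * y = y * i → y * y = 1 := fun i y i1 i2 hc => by
    by_contra y2
    rcases (orderOf y).eq_two_pow_or_exists_odd_prime_and_dvd with ⟨k, hk⟩ | ⟨r, hr, hd', ho⟩
    · have : ∀ j : ℕ, y ^ 2 ^ j * y ^ 2 ^ j ≠ 1 := fun j => by
        induction j with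
        | zero => simpa using y2
        | succ j ih =>
          intro e
          have e1 : y ^ 2 ^ (j + 1) = y ^ 2 ^ j * y ^ 2 ^ j := by rw [pow_succ, pow_mul, sq]
          have := hv0 _ (e1 ▸ ih) e
          rw [e1, coe_mul, (hv1 _ ih).2] at this
          exact one_ne_zero this
      exact this k (by rw [← hk, pow_orderOf_eq_one, mul_one])
    · set u := y ^ (orderOf y / r)
      have hu : orderOf u = r := orderOf_pow_orderOf_div (orderOf_pos y).ne' hd'
      have hui : u * i = i * u := (Commute.pow_right hc _).eq.symm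
      have h2 : u * i * (u * i) ≠ 1 := fun e => by
        have : u ^ 2 = 1 := by
          rw [← e, sq, mul_assoc, ← mul_assoc i, ← hui, mul_assoc, i2, mul_one]
        have h3 := (Nat.prime_dvd_prime_iff_eq hr Nat.prime_two).1
          (hu ▸ orderOf_dvd_of_pow_eq_one this)
        rw [h3] at ho
        exact absurd ho (by decide)
      obtain ⟨ω, h3, h4⟩ := Galois.exists_sub_eq_one_sub_mul (irr_isGenChar χ) hr.ne_zero
        (Complex.isPrimitiveRoot_exp r hr.ne_zero) (x := (u : G)) (y := i)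
        (by rw [← hu, ← coe_pow, pow_orderOf_eq_one, coe_one]) (congrArg Subtype.val hui)
      rw [← coe_mul, (hv1 _ h2).1, hv0 i i1 i2, sub_zero] at h4
      have := Galois.prime_dvd_of_eq_one_sub_mul hr (Complex.isPrimitiveRoot_exp r hr.ne_zero)
        (n := 1) h3 (by simpa using h4)
      exact hr.one_lt.ne' (by exact_mod_cast Int.eq_one_of_dvd_one (by positivity) this)
  let C : H → Finset H := fun i => Finset.univ.filter fun y => i * y = y * i
  have mC : ∀ i y : H, y ∈ C i ↔ i * y = y * i := fun i y => by simp [C]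
  have mI : ∀ y : H, y ∈ I ↔ y * y = 1 := fun y => by simp [hI]
  have hcC : ∀ i : H, i ≠ 1 → i * i = 1 → (C i).card = t := fun i i1 i2 => by
    have e1 : (C i).card = Nat.card (centralizer ({i} : Set H)) :=
      card_filter_eq_card (s := (centralizer ({i} : Set H) : Set H)) fun y => by
        simp [mem_centralizer_singleton_iff, eq_comm]
    have e2 := (centralizer ({i} : Set H)).card_mul_index
    have e3 : (centralizer ({i} : Set H)).index ≤ 2 * t - 1 := by
      rw [← card_filter_isConj, ← hcI, ← Finset.card_erase_of_mem ((mI 1).2 (mul_one 1))]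
      refine Finset.card_le_card fun y hy => ?_
      obtain ⟨c, rfl⟩ := isConj_iff.1 (Finset.mem_filter.1 hy).2
      exact Finset.mem_erase.2 ⟨by simpa [mul_inv_eq_one] using i1, (mI _).2 (by
        rw [conj_mul, i2]; simp)⟩
    obtain ⟨k, e4⟩ := (IsPGroup.iff_card (p := 2)).1
      (show IsPGroup 2 (centralizer ({i} : Set H)) from fun y => ⟨1, Subtype.ext (by
        simpa [sq] using hC i y i1 i2 (mem_centralizer_singleton_iff.1 y.2).symm)⟩)
    rw [e1]
    refine le_antisymm (Nat.le_of_dvd (by omega) (Nat.Coprime.dvd_of_dvd_mul_right (k := _)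
      (m := t) (n := 2 * t - 1) ?_ (hcH ▸ Dvd.intro _ e2))) ?_
    · rw [e4]
      exact (Nat.coprime_two_left.2 (Nat.odd_iff.2 (by omega))).pow_left _
    · rw [hcH] at e2
      exact Nat.le_of_mul_le_mul_right (e2.symm.le.trans (Nat.mul_le_mul_left _ e3)) (by omega)
  have hcomm : ∀ s a b : H, s ≠ 1 → s * s = 1 → s * a = a * s → s * b = b * s →
      a * b = b * a := fun s a b s1 s2 ha hb => by
    have e1 := hC s a s1 s2 ha
    have e2 := hC s b s1 s2 hb
    have e3 := hC s (a * b) s1 s2 (Commute.mul_right ha hb)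
    rw [← mul_left_inj (a * b), e3, mul_assoc, ← mul_assoc a, e1, one_mul, e2]
  have hdisj : ∀ i j s : H, i ≠ 1 → i * i = 1 → j ∉ C i → s ∈ C i → s ∈ C j → s = 1 :=
    fun i j s i1 i2 hj a b => by
      by_contra s1
      exact hj ((mC _ _).2 (hcomm s i j s1 (hC i s i1 i2 ((mC _ _).1 a)) ((mC _ _).1 a).symm
        ((mC _ _).1 b).symm))
  have h1C : ∀ i, (1 : H) ∈ C i := fun i => (mC _ _).2 (by simp)
  obtain ⟨i, hi, i1⟩ := Finset.exists_mem_ne (show 1 < I.card by omega) 1
  rw [mI] at hi
  obtain ⟨j, hj, hji⟩ := Finset.exists_mem_notMem_of_card_lt_card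
    (show (C i).card < I.card by rw [hcC i i1 hi]; omega)
  rw [mI] at hj
  have j1 : j ≠ 1 := fun e => hji (e ▸ h1C i)
  have hU : (C i ∪ C j).card + 1 = 2 * t := by
    have := Finset.card_union_add_card_inter (C i) (C j)
    rw [hcC i i1 hi, hcC j j1 hj, show C i ∩ C j = {1} from Finset.eq_singleton_iff_unique_mem.2
      ⟨Finset.mem_inter.2 ⟨h1C i, h1C j⟩, fun s hs => hdisj i j s i1 hi hji
        (Finset.mem_inter.1 hs).1 (Finset.mem_inter.1 hs).2⟩, Finset.card_singleton] at this
    omega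
  obtain ⟨k, hk', hkU⟩ := Finset.exists_mem_notMem_of_card_lt_card
    (show (C i ∪ C j).card < I.card by omega)
  rw [mI] at hk'
  rw [Finset.notMem_union] at hkU
  have k1 : k ≠ 1 := fun e => hkU.1 (e ▸ h1C i)
  have hsub : ∀ i : H, i ≠ 1 → i * i = 1 → C i ⊆ I := fun i i1 i2 y hy =>
    (mI y).2 (hC i y i1 i2 ((mC _ _).1 hy))
  have h5 : ((C k).erase 1).card ≤ (I \ (C i ∪ C j)).card := Finset.card_le_card fun s hs => by
    obtain ⟨s1, hs⟩ := Finset.mem_erase.1 hs
    exact Finset.mem_sdiff.2 ⟨hsub k k1 hk' hs, Finset.notMem_union.2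
      ⟨fun e => s1 (hdisj i k s i1 hi hkU.1 e hs), fun e => s1 (hdisj j k s j1 hj hkU.2 e hs)⟩⟩
  rw [Finset.card_erase_of_mem (h1C k), hcC k k1 hk', Finset.card_sdiff_of_subset
    (Finset.union_subset (hsub i i1 hi) (hsub j j1 hj))] at h5
  omega

end Dih

theorem OrdP.card_fixedBy_eq_zero (h : OrdP p P) (α : Type*) [MulAction G α]
    [IsPretransitive G α] (hα : p ∣ Nat.card α) {g : G} (hg : p ∣ orderOf g) :
    Nat.card (fixedBy α g) = 0 := by
  rw [Nat.card_eq_zero]
  refine Or.inl ⟨fun ⟨a, ha⟩ => ?_⟩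
  have h1 : p ∣ Nat.card (stabilizer G a) := hg.trans (orderOf_dvd_natCard _ ha)
  have h2 : p * p ∣ Nat.card G := by
    rw [← (stabilizer G a).card_mul_index, index_stabilizer_of_transitive]
    exact mul_dvd_mul h1 hα
  rw [h.card_eq] at h2
  exact h.ind (Nat.dvd_of_mul_dvd_mul_left h.prime.pos h2)

/-- Transitive actions of degree `p` or `2 p`. -/
theorem SC.exists_dih_perm (h : SC p P) (hN : Nat.card (normalizer (P : Set G)) = 2 * p)
    (h3 : 3 < p) (hG : commutator G = ⊤) (α : Type*) [MulAction G α] [Finite α] [Nonempty α]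
    [IsPretransitive G α] (hα : p ∣ Nat.card α) (hle : Nat.card α ≤ 2 * p) :
    ∃ t Y χ, Dih p P t Y χ ∧
      classInner (fun g : G => (Nat.card (fixedBy α g) : ℂ) - 1) χ.1 = 1 ∧
      (charDegree χ.1 = 2 * t ∨ charDegree χ.1 + 1 = 2 * p) ∧
      charDegree χ.1 + 1 ≤ Nat.card α ∧ (charDegree χ.1 + 1 = Nat.card α →
        (fun g : G => (Nat.card (fixedBy α g) : ℂ) - 1) = χ.1) := by
  have hD := isChar_perm_sub_one (G := G) α
  have hpos : 0 < Nat.card α := Nat.card_pos
  have hD1 : (Nat.card (fixedBy α (1 : G)) : ℂ) - 1 = (Nat.card α - 1 : ℕ) := by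
    rw [fixedBy_one_eq_univ, Nat.card_univ, Nat.cast_sub hpos, Nat.cast_one]
  have hd := charDegree_of_eq (χ := fun g : G => (Nat.card (fixedBy α g) : ℂ) - 1) hD1
  have h0 : classInner (fun g : G => (Nat.card (fixedBy α g) : ℂ) - 1) (fun _ => 1) = 0 := by
    have := classInner_sub_left (fun g : G => (Nat.card (fixedBy α g) : ℂ)) (fun _ => 1) fun _ => 1
    rw [classInner_perm_one, card_orbits_of_pretransitive, classInner_one_one, Nat.cast_one,
      sub_self] at this
    exact this
  have hv : ∀ g : G, p ∣ orderOf g → (Nat.card (fixedBy α g) : ℂ) - 1 = -1 := fun g hg => by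
    rw [h.toOrdP.card_fixedBy_eq_zero α hα hg]; simp
  obtain ⟨t, Y, χ, hd', hi⟩ := h.exists_dih hN h3 hG hD h0 hv (by omega)
  have h4 := sum_degree_le hD (S := {χ}) (by simpa using hi)
  rw [Finset.sum_singleton] at h4
  have h5 := hd'.degX
  have h6 := hd'.te
  have h7 : fx P χ.1 + 1 ≤ 2 := Nat.le_of_mul_le_mul_left (by omega : p * (fx P χ.1 + 1) ≤ p * 2) h.prime.pos
  have h8 : charDegree χ.1 = 2 * t ∨ charDegree χ.1 + 1 = 2 * p := by
    rcases (by omega : fx P χ.1 = 0 ∨ fx P χ.1 = 1) with e | e <;> rw [e] at h5 <;> omega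
  refine ⟨t, Y, χ, hd', ?_, h8, by omega, fun e => funext fun g => ?_⟩
  · by_contra h9
    have h10 := sum_degree_le hD (S := insert χ Y) fun ξ hξ => by
      rcases Finset.mem_insert.1 hξ with rfl | hξ
      · exact hi
      intro e
      have := hd'.inner_sing (β := (fun g : G => (Nat.card (fixedBy α g) : ℂ) - 1) + (oneIrr G).1)
        (fun g hg => by rw [Pi.add_apply, hv g hg]; simp [oneIrr]) hξ
      simp only [classInner_add_left, classInner_irr_ne hd'.ne_one.symm, e, h0,
        classInner_irr_ne (show oneIrr G ≠ ξ from fun e => hd'.one_notMem (e ▸ hξ))] at this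
      rw [show classInner (oneIrr G).1 (fun _ => 1) = 1 from classInner_one_one] at this
      exact h9 (by linear_combination -this)
    rw [Finset.sum_insert hd'.notMem, Finset.sum_congr rfl (g := fun _ => charDegree χ.1 - 1)
      fun ξ hξ => by have := hd'.degY hξ; omega, Finset.sum_const, hd'.cardY, smul_eq_mul] at h10
    have := Nat.mul_le_mul_right (charDegree χ.1 - 1) hd'.two_le
    omega
  · exact (eq_sum_of_degree_le hD (S := {χ}) (by simpa using hi)
      (by rw [Finset.sum_singleton]; omega) g).trans (Finset.sum_singleton _ _)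

end Cfsg.Agent.Block
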