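import Mathlib
import Cfsg.Agent.Block.FongReynolds
import Cfsg.Agent.Block.Knorr
import Cfsg.Agent.Block.Pair
import Cfsg.Agent.Core.PConstrained
import Cfsg.Agent.S4444

/-!
Fong's theorem on the blocks of `p`-constrained groups over an invariant character of `O_{p'}(G)`.
-/

namespace Cfsg.Agent.Block

open Cfsg Cfsg.Agent.Char Cfsg.Agent.LocalEven Subgroup
open scoped _root_.Classical ComplexConjugate

variable {G : Type*} [Group G] [Fintype G] {p : ℕ} {M : Ideal AlgInt}

theorem isPBlock_singleton (hM : IsPModular p M) (h : ¬ p ∣ Nat.card G) (θ : IrrCharacter G) :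
    IsPBlock M {θ} :=
  blockOf_eq_singleton hM (χ := θ) (by
    rw [Nat.factorization_eq_zero_of_not_dvd h]; exact Nat.zero_le _) ▸ isPBlock_blockOf θ

variable {K : Subgroup G} [K.Normal] [Fintype K] {θ : IrrCharacter K}

omit [K.Normal] [Fintype G] in
theorem mem_overSet_singleton {χ : IrrCharacter G} :
    χ ∈ overSet {θ} ↔ classInner (fun k : K => χ.1 k) θ.1 ≠ 0 := by simp [overSet]

theorem isDefectGroup_overSet (hM : IsPModular p M) (hK : ¬ p ∣ Nat.card K) (hθ : GInv {θ})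
    (hB : IsPBlock M (overSet {θ})) {S : Subgroup G} (hS : IsPGroup p S) (hi : ¬ p ∣ S.index) :
    IsDefectGroup p M (overSet {θ}) S := by
  have hp := pm_prime hM
  have := Fact.mk hp
  obtain ⟨P, hP⟩ := exists_isDefectGroup hM hB
  have h1 := (Covers.defect_of_unique hM hB (isPBlock_singleton hM hK θ)
    (covers_of_subset (block_nonempty hM hB) subset_rfl) hθ (fun B' hB' hc => by
      obtain ⟨χ, hχ⟩ := block_nonempty hM hB'
      exact block_eq_of_mem hM hB' hB hχ
        (hc.subset_overSet hM hB' (isV_blockIdem_of_not_dvd hM hK _) hχ)) hP).1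
  have h2 : ¬ p ∣ P.index := by
    rw [← relIndex_mul_index (le_sup_right : P ≤ K ⊔ P), hp.dvd_mul, not_or]
    refine ⟨fun e => hK (e.trans (Nat.dvd_of_mul_dvd_mul_left (Nat.card_pos (α := P)) ?_)), h1⟩
    rw [card_mul_relIndex le_sup_right, mul_comm]
    exact Core.card_sup_dvd (normalizer_eq_top K ▸ le_top)
  obtain ⟨g, hg⟩ := MulAction.exists_smul_eq G ((isDefectGroup_isPGroup hP).toSylow h2)
    (hS.toSylow hi)
  exact (show cj g P = S from congrArg Sylow.toSubgroup hg) ▸ isDefectGroup_cj hP g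

theorem exists_defect_ge_of_over (hM : IsPModular p M) (hK : ¬ p ∣ Nat.card K) (hθ : GInv {θ})
    {L Q : Subgroup G} [L.Normal] (hKL : K ≤ L) (hL : ∃ n, K.relIndex L = p ^ n)
    (hQ : Core.IsSylowOf p Q L) {B : Set (IrrCharacter G)} (hB : IsPBlock M B)
    (h : B ⊆ overSet {θ}) : ∃ D, IsDefectGroup p M B D ∧ Q ≤ D := by
  have e : subSet hKL {θ} = {subIrr hKL θ} := by
    ext ψ
    obtain ⟨ψ, rfl⟩ := (subIrr hKL).surjective ψ
    simp [irrComp_mem_compSet]
  have hK' : ¬ p ∣ Nat.card (K.subgroupOf L) := by rwa [card_subgroupOf hKL]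
  have hb := isPBlock_overSet_of_index hM hL (isPBlock_singleton hM hK' (subIrr hKL θ))
  have hd := isDefectGroup_overSet hM hK' (e ▸ gInv_subSet hKL (gInv_iff_stab.1 hθ ▸ le_top)) hb
    (isPGroup_subgroupOf hQ.2.1) hQ.2.2
  obtain ⟨χ, hχ⟩ := block_nonempty hM hB
  obtain ⟨ψ, hψ⟩ := exists_under L χ
  obtain ⟨θ', hθ'⟩ := exists_under (K.subgroupOf L) ψ
  obtain ⟨θ', rfl⟩ := (subIrr hKL).surjective θ'
  have h1 := hθ'
  rw [coe_subIrr, CliffordCorr.inner_res_toSub hKL] at h1
  obtain rfl : θ' = θ := hθ.mem_of_under rfl (mem_overSet_singleton.1 (h hχ))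
    (over_of_over_of_over hKL (irr_isChar χ) ψ.2 (irr_isChar θ') hψ h1)
  obtain ⟨D, hD, e⟩ := Covers.exists_defect_inf_eq hM hB hb
    ⟨χ, hχ, ψ, mem_overSet_singleton.2 hθ', hψ⟩ hQ.1 hd
  exact ⟨D, hD, e ▸ inf_le_left⟩

/-- Fong's theorem. -/
theorem isPBlock_overSet_of_constrained (hM : IsPModular p M) (hG : IsPConstrained p G)
    (hK : K = pPrimeCore p G) (hθ : GInv {θ}) : IsPBlock M (overSet {θ}) := by
  have hp := pm_prime hM
  have := Fact.mk hp
  have hK' : ¬ p ∣ Nat.card K := hK ▸ Core.not_dvd_card_pPrimeCore hp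
  obtain ⟨Q, hQ⟩ := Core.exists_isSylowOf p (pPrimePCore p G)
  have hsub : ∀ χ ∈ overSet {θ}, blockOf M χ.1 ⊆ overSet {θ} := fun χ hχ =>
    blockOf_subset (saturated_of_isV hM (hθ.isV_overSet (isV_blockIdem_of_not_dvd hM hK' _))) hχ
  have key : ∀ χ ∈ overSet {θ}, ∀ B, IsPBlock M B →
      lam M χ.1 (eB M B) = lam M θ.1 (resTo K (eB M B)) := fun χ hχ B hB => by
    rw [← lam_incl_resTo_of_over (mem_overSet_singleton.1 hχ) (isCentral_eB B)]
    refine linear_eq_of_classSum (lam M χ.1) (lam M χ.1 ∘ₗ (incl K).toLinearMap ∘ₗ resTo K)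
      (isCentral_eB B) fun g hg => ?_
    change _ = lam M χ.1 (incl K (resTo K _))
    by_cases hgK : g ∈ K
    · rw [incl_resTo_classSum ⟨g, hgK⟩]
    have e : resTo K (classSum (F M) g) = 0 := ga_ext fun k => by
      rw [coeff_resTo]
      refine coeff_classSum_of_not fun e => hgK ?_
      obtain ⟨c, rfl⟩ := isConj_iff.1 e.symm
      exact Normal.conj_mem inferInstance _ k.2 c
    rw [e, map_zero, map_zero]
    by_contra h0
    obtain ⟨D, hD, hQD⟩ := exists_defect_ge_of_over hM hK' hθ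
      (hK ▸ Core.pPrimeCore_le_pPrimePCore p) (hK ▸ Core.relIndex_pPrimePCore p) hQ
      (isPBlock_blockOf χ) (hsub χ hχ)
    obtain ⟨x, hx⟩ := defect_le_of_lam hM (isPBlock_blockOf χ) hD (self_mem_blockOf hM χ) h0
    have h1 := le_centralizer_singleton_iff.1 ((cj_mono x hQD).trans hx)
    rw [← cj_centralizer] at h1
    have h2 := cj_mono x (Core.IsPConstrained.centralizer_le hG hQ) h1
    rw [cj_eq_of_normal] at h2
    refine hgK (hK ▸ Core.le_pPrimeCore_of_le_pPrimePCore (zpowers_le.2 h2) ?_ (mem_zpowers g))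
    rw [Nat.card_zpowers]
    exact (hp.coprime_iff_not_dvd.2 (regular_of_coeff_eB hM (isV_blockIdem hM hB) hg)).symm
  obtain ⟨χ, hχ⟩ := exists_over K θ
  have hχ' := mem_overSet_singleton.2 hχ
  have hV := isV_blockIdem hM (isPBlock_blockOf (M := M) χ)
  refine (show blockOf M χ.1 = overSet {θ} from (hsub χ hχ').antisymm fun ψ hψ =>
    (mem_iff_lam_eB hV).2 ?_) ▸ isPBlock_blockOf χ
  rw [key ψ hψ _ (isPBlock_blockOf χ), ← key χ hχ' _ (isPBlock_blockOf χ)]
  exact (mem_iff_lam_eB hV).1 (self_mem_blockOf hM χ)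

theorem not_dvd_of_lam_resTo (hM : IsPModular p M) (hK : ¬ p ∣ Nat.card K) (hθ : GInv {θ})
    {C D : Subgroup G} (h1 : D ≤ K) (h2 : D ≤ C) (h3 : K ⊓ C ≤ D) [(D.subgroupOf C).Normal]
    [Fintype D] [Fintype (D.subgroupOf C)] {ξ : IrrCharacter C}
    (h : lam M ξ.1 (resTo C (eB M (overSet {θ}))) ≠ 0) {β : IrrCharacter D}
    (hβ : classInner (fun n : D.subgroupOf C => ξ.1 n) (subIrr h2 β).1 ≠ 0)
    {m : ℕ} (hm : classInner (fun c : D => θ.1 ⟨c, h1 c.2⟩) β.1 = m) :
    ¬ p ∣ m := fun hd => h <| by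
  have hc := (isCentral_blockIdem (overSet {θ})).resTo C
  have hV := (hθ.isV_overSet (isV_blockIdem_of_not_dvd hM hK _)).resTo C
  have e0 : incl (D.subgroupOf C) (resTo _ (resTo C (blockIdem (overSet {θ})))) =
      resTo C (blockIdem (overSet {θ})) := incl_resTo _ fun g hg => by
    rw [coeff_resTo, ← hθ.incl_blockIdem]
    exact coeff_incl_of_notMem _ _ fun e => hg (h3 ⟨e, g.2⟩)
  have hK' : ¬ p ∣ charDegree (subIrr h2 β).1 := fun e => hK
    ((e.trans (irr_degree_dvd _)).trans (card_subgroupOf h2 ▸ card_dvd_of_le h1))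
  have e1 : lin (subIrr h2 β).1 (resTo (D.subgroupOf C) (resTo C (blockIdem (overSet {θ})))) =
      (Nat.card K : ℂ)⁻¹ * θ.1 1 * Nat.card (D.subgroupOf C) * m := by
    have e2 := classInner_comm_of_natCast hm
    rw [← CliffordCorr.inner_toSub h2, classInner] at e2
    rw [← e2, mul_assoc _ (Nat.card _ : ℂ), mul_inv_cancel_left₀ (Nat.cast_ne_zero.2 Nat.card_pos.ne'),
      lin_apply, Finset.mul_sum]
    refine Finset.sum_congr rfl fun n _ => ?_
    rw [coeff_resTo, coeff_resTo, ← hθ.incl_blockIdem,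
      coeff_incl_of_mem _ _ (show (n : G) ∈ K from h1 n.2), coeff_blockIdem,
      blockCoeff_singleton, coe_subIrr]
    simp only [CliffordCorr.toSub_apply]
    ring
  rw [eB, ← redG_resTo, lam_redG _ hc hV, ← e0, omega_trunc_of_over hβ hc, omega_apply, e1,
    ← irr_degree_cast (subIrr h2 β)]
  refine red_eq_zero_of_val_lt_one ?_
  rw [map_div₀, (val_natCast_eq_one_iff hM _).2 hK', div_one]
  exact val_mul_lt_one_right (mul_mem (mul_mem (inv_mem_V_of_val_eq_one
    ((val_natCast_eq_one_iff hM _).2 hK)) (irr_mem_V θ 1)) (natCast_mem _ _))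
    ((val_natCast_lt_one_iff hM _).2 hd)

theorem existsUnique_induced_of_constrained (hM : IsPModular p M) (hG : IsPConstrained p G)
    (hK : K = pPrimeCore p G) (hθ : GInv {θ}) {R : Subgroup G} (hR : IsPGroup p R) :
    ∃! f : Set (IrrCharacter (centralizer (R : Set G))), IsInducedBlock M _ f (overSet {θ}) := by
  have hp := pm_prime hM
  have := Fact.mk hp
  have hK' : ¬ p ∣ Nat.card K := hK ▸ Core.not_dvd_card_pPrimeCore hp
  have hB := isPBlock_overSet_of_constrained hM hG hK hθ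
  obtain ⟨D, hD⟩ : ∃ D, D = K ⊓ centralizer (R : Set G) := ⟨_, rfl⟩
  have h1 : D ≤ K := hD ▸ inf_le_left
  have h2 : D ≤ centralizer (R : Set G) := hD ▸ inf_le_right
  have hN : D.subgroupOf (centralizer (R : Set G)) = pPrimeCore p (centralizer (R : Set G)) := by
    rw [hD, inf_subgroupOf_right, hK]
    refine le_antisymm (Core.pPrimeCore_subgroupOf_le p _) (map_le_iff_le_comap.1
      (Core.IsPConstrained.le_pPrimeCore hG hR ?_ (map_subtype_le _)
        (inf_le_right.trans (le_normalizer_map_subtype _))))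
    rw [card_map_subtype]
    exact Core.pPrimeCore_coprime p
  have : (D.subgroupOf (centralizer (R : Set G))).Normal := hN ▸ inferInstance
  have := Fintype.ofFinite D
  have := Fintype.ofFinite (D.subgroupOf (centralizer (R : Set G)))
  obtain ⟨β, -, hβ⟩ := (S4444.result K R (fun s _ g hg => Normal.conj_mem inferInstance g hg s)
    (Isaacs.cop_of_not_dvd hp hR hK').symm p hp hR D hD h1).1 θ fun s _ g g' e => by
      have h1 := congrFun (congrArg Subtype.val (hθ s θ rfl)) g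
      rw [conjIrr_apply] at h1
      rw [← h1]
      exact congrArg θ.1 (Subtype.ext e)
  have key : ∀ f, IsInducedBlock M (centralizer (R : Set G)) f (overSet {θ}) → ∀ ξ ∈ f, ∀ β',
      classInner (fun n : D.subgroupOf (centralizer (R : Set G)) => ξ.1 n) β'.1 ≠ 0 →
      β' = subIrr h2 β := fun f hf ξ hξ β' h => by
    obtain ⟨β', rfl⟩ := (subIrr h2).surjective β'
    obtain ⟨m, hm⟩ := classInner_isChar_nat (χ := fun c : D => θ.1 ⟨c, h1 c.2⟩)
      (isChar_comp (inclusion h1) (irr_isChar θ)) (irr_isChar β')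
    have h3 := (induced_lam_eB hM hf hξ).trans_ne one_ne_zero
    rw [hβ β' ⟨m, hm, not_dvd_of_lam_resTo hM hK' hθ h1 h2 hD.ge h3 h hm⟩]
  have key2 : ∀ f, IsInducedBlock M (centralizer (R : Set G)) f (overSet {θ}) → f = overSet {subIrr h2 β} :=
    fun f hf => by
      obtain ⟨ξ, hξ⟩ := block_nonempty hM (induced_left hf)
      obtain ⟨β', h⟩ := exists_under (D.subgroupOf (centralizer (R : Set G))) ξ
      obtain rfl := key f hf ξ hξ β' h
      refine block_eq_of_mem hM (induced_left hf) (isPBlock_overSet_of_constrained hM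
        (Core.IsPConstrained.centralizer hG hR) hN ?_) hξ (mem_overSet_singleton.2 h)
      rintro g _ rfl
      refine Set.mem_singleton_iff.2 (key f hf ξ hξ _ ?_)
      rwa [inner_res_conjIrr (irr_classFun ξ)]
  obtain ⟨S, hS⟩ := hR.exists_le_sylow
  obtain ⟨f, hf, h⟩ := exists_mu_eq_one hM hR ((isCentral_eB _).linv R)
    (eB_mul_self (isV_blockIdem hM hB)) (br_ne_zero_of_le hS (br_eB_ne_zero_of_isDefectGroup hM hB
      (isDefectGroup_overSet hM hK' hθ hB S.2 S.not_dvd_index)))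
  have hf' := (isInducedBlock_iff_mu hM hB (a := ⟨R, f⟩) ⟨hR, hf⟩).2 h
  exact ⟨f, hf', fun f' h' => (key2 f' h').trans (key2 f hf').symm⟩

end Cfsg.Agent.Block
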