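import Mathlib
import Cfsg.Agent.Block.Fong
import Cfsg.Agent.Isaacs.NonLin
import Cfsg.Agent.Perm.Socle

/-!
Ito's theorem for `p`-solvable groups and the derived length of Sylow subgroups.
-/

namespace Cfsg.Agent.Block

open Cfsg Cfsg.Agent.Char Cfsg.Agent.Isaacs Subgroup
open scoped _root_.Classical

universe u

variable {p : ℕ}

section

variable {G : Type*} [Group G] [Finite G]

theorem le_centralizer_of_inv [Fact p.Prime] {K P : Subgroup G} (hP : IsPGroup p P)
    (hK : ¬ p ∣ Nat.card K) (hn : P ≤ normalizer (K : Set G)) (h : ∀ θ, Irr K θ → Inv P K θ) :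
    K ≤ centralizer (P : Set G) := by
  have := Fintype.ofFinite G
  by_contra hc
  obtain ⟨t, ht⟩ := Perm.exists_not_conj_mem ((centralizer (P : Set G)).subgroupOf K)
    fun e => hc (subgroupOf_eq_top.1 e)
  have hm : ∀ q ∈ P, ∀ k ∈ K, q * k * q⁻¹ ∈ K := fun q hq k hk => (mem_normalizer_iff.1 (hn hq) k).1 hk
  have hi : ∀ q (hq : q ∈ P) (k : K), IsConj k ⟨_, hm q hq k k.2⟩ := fun q hq k =>
    (isConj_iff_forall_irr _ _).2 fun χ => by
      simpa only [ez_mem _ (hm q hq k k.2), ez_coe] using (h _ (irr_ez.2 χ.2) q hq k k.2).symm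
  have h1 := sum_eq_sum_centralizer (R := ZMod p) (ZMod.natCast_self p) hP
    (fun g => if ∃ k : K, IsConj t k ∧ k = g then 1 else 0) fun q hq g => by
      refine if_congr ⟨fun ⟨k, a, b⟩ => ⟨_, a.trans (hi _ (inv_mem hq) k), ?_⟩,
        fun ⟨k, a, b⟩ => ⟨_, a.trans (hi q hq k), by rw [← b]⟩⟩ rfl rfl
      simp only [b]; group
  rw [Finset.sum_eq_zero (s := Finset.univ) (f := fun c : centralizer (P : Set G) => _) fun c _ =>
    if_neg fun ⟨k, a, b⟩ => by
      obtain ⟨u, rfl⟩ := isConj_iff.1 a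
      exact ht u⁻¹ (by rw [inv_inv, mem_subgroupOf, b]; exact c.2),
    Finset.sum_boole, ZMod.natCast_eq_zero_iff, ← Fintype.card_subtype, ← Nat.card_eq_fintype_card,
    ← Nat.card_congr (Equiv.ofBijective (fun k : {k // IsConj t k} =>
      (⟨k.1, k.1, k.2, rfl⟩ : {g : G // ∃ k : K, IsConj t k ∧ k = g}))
      ⟨fun a b e => Subtype.ext (Subtype.ext (Subtype.mk.inj e)),
        fun ⟨_, k, a, rfl⟩ => ⟨⟨k, a⟩, rfl⟩⟩), card_isConj] at h1
  exact hK (h1.trans (index_dvd_card _))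

theorem not_dvd_of_under {N : Subgroup G} [N.Normal]
    (h : ∀ χ : IrrCharacter G, ¬ p ∣ charDegree χ.1) {ψ : G → ℂ} (hψ : Irr N ψ) {d : ℕ}
    (hd : ψ 1 = d) : ¬ p ∣ d := fun e => by
  obtain ⟨χ, hχ, e1⟩ := hψ.exists_over le_top
  obtain ⟨k, -, hk⟩ := hχ.deg_dvd_rel (normalizer_eq_top N).ge le_top hψ e1
  refine h ⟨χ, irr_top.1 hχ⟩ (e.trans ⟨k, Nat.cast_injective (R := ℂ) ?_⟩)
  rw [irr_degree_cast, Nat.cast_mul, ← hd, mul_comm]
  exact hk

theorem exists_linear_constituent (hp : p.Prime) [Fintype G] (hG : IsPGroup p G) {χ : G → ℂ}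
    (hχ : IsCharacter G χ) {d : ℕ} (hd : χ 1 = d) (h : ¬ p ∣ d) :
    ∃ η : IrrCharacter G, η.1 1 = 1 ∧ classInner χ η.1 ≠ 0 := by
  obtain ⟨n, h1, h2⟩ := Constit.isChar_expand_nat hχ
  by_contra hc
  push Not at hc
  have e : d = ∑ ψ, n ψ * charDegree ψ.1 := Nat.cast_injective (R := ℂ) (by
    rw [← hd, h2]; simp [irr_degree_cast])
  refine h (e ▸ Finset.dvd_sum fun ψ _ => ?_)
  by_cases h3 : charDegree ψ.1 = 1
  · rw [Nat.cast_eq_zero.1 ((h1 ψ).symm.trans (hc ψ (deg_eq_one_iff.1 h3))), zero_mul]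
    exact dvd_zero p
  · exact ((IsPGroup.dvd_deg_iff hp hG ψ).2 h3).mul_left _

end

theorem ito_normal [hp : Fact p.Prime] (n : ℕ) : ∀ (G : Type u) [Group G] [Finite G],
    Nat.card G = n → IsPSolvable p G → (∀ χ : IrrCharacter G, ¬ p ∣ charDegree χ.1) →
    ∀ P : Sylow p G, (P : Subgroup G).Normal := by
  induction n using Nat.strong_induction_on with
  | _ n ih =>
  intro G _ _ hn hs h P
  rcases subsingleton_or_nontrivial G with h0 | h0
  · exact ⟨fun a ha g => by rwa [Subsingleton.elim (g * a * g⁻¹) a]⟩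
  obtain ⟨N, hN, hb, h1⟩ := Core.IsPSolvable.exists_normal hs
  have h2 : ((P : Subgroup G) ⊔ N).Normal := by
    have := (ih _ (hn ▸ Core.card_quotient_lt N hb) (G ⧸ N) rfl (Core.IsPSolvable.quotient hs N)
      (fun χ => h (inflIrr _ (QuotientGroup.mk'_surjective N) χ))
      (P.mapSurjective (QuotientGroup.mk'_surjective N))).comap (QuotientGroup.mk' N)
    rwa [Sylow.coe_mapSurjective, comap_map_eq, QuotientGroup.ker_mk'] at this
  rcases h1 with h1 | h1
  · rwa [sup_eq_left.2 (h1.le_sylow_of_normal P)] at h2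
  have hN' : ¬ p ∣ Nat.card N := hp.out.coprime_iff_not_dvd.1 h1.symm
  have h3 := le_centralizer_of_inv P.2 hN' (normalizer_eq_top N ▸ le_top) fun θ hθ => by
    obtain ⟨ψ, hψ, e⟩ := hθ.exists_over (le_sup_right : N ≤ (P : Subgroup G) ⊔ N)
    have e1 := hψ.deg_eq (normalizer_eq_top N ▸ le_top) le_sup_right hθ e
    obtain ⟨m, hm⟩ := (hψ.chr.res le_sup_right).inn_nat hθ.chr
    obtain ⟨d, -, hd⟩ := hθ.deg
    rw [hm, hd] at e1
    have h4 := not_dvd_of_under h hψ (d := m * ((Isaacs.stab N θ).relIndex ((P : Subgroup G) ⊔ N) * d))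
      (by rw [e1]; push_cast; rfl)
    have h5 : (Isaacs.stab N θ).relIndex ((P : Subgroup G) ⊔ N) ∣ Nat.card P :=
      (relIndex_dvd_of_le_left _ hθ.inv.le_stab).trans (relIndex_sup_right (P : Subgroup G) N ▸
        relIndex_dvd_card _ _)
    obtain ⟨k, hk⟩ := P.2.exists_card_eq
    obtain ⟨j, -, hj⟩ := (Nat.dvd_prime_pow hp.out).1 (hk ▸ h5)
    rcases j with _ | j
    · exact (Isaacs.le_stab (normalizer_eq_top N ▸ le_top)).1 (le_sup_left.trans (relIndex_eq_one.1 hj))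
    · exact absurd (((dvd_pow_self p j.succ_ne_zero).trans hj.symm.dvd).mul_right _ |>.mul_left _) h4
  exact normalizer_eq_top_iff.1 (top_le_iff.1 ((Sylow.normalizer_sup_eq_top' P
    (le_sup_left : (P : Subgroup G) ≤ (P : Subgroup G) ⊔ N)).ge.trans (sup_le le_rfl
      (sup_le le_normalizer (h3.trans (centralizer_le_normalizer _))))))

variable {G : Type u} [Group G] [Finite G] [hp : Fact p.Prime]

/-- Ito's theorem. -/
theorem ito_psolv (hs : IsPSolvable p G) (h : ∀ χ : IrrCharacter G, ¬ p ∣ charDegree χ.1)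
    (P : Sylow p G) : (P : Subgroup G).Normal ∧ IsMulCommutative P := by
  have := ito_normal _ G rfl hs h P
  refine ⟨this, ⟨⟨comm_of_forall_irr_degree_one fun χ hχ => (deg_eq_one_iff (χ := ⟨χ, hχ⟩)).1 ?_⟩⟩⟩
  exact not_not.1 (mt (IsPGroup.dvd_deg_iff hp.out P.2 ⟨χ, hχ⟩).2
    (not_dvd_of_under h (irr_ez.2 hχ) ((ez_one _).trans (irr_degree_cast ⟨χ, hχ⟩).symm)))

theorem commutator_le_of_over (hs : IsPSolvable p G) {N : Subgroup G} [N.Normal] [Fintype N]
    (hN : IsPGroup p N) {l : N → ℂ} (hl : IsIrrCharacter N l) (h1 : l 1 = 1)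
    (hi : Clifford.inertia N l = ⊤) (h : ∀ χ : IrrCharacter G,
      classInner (fun n : N => χ.1 n) l ≠ 0 → ¬ p ∣ charDegree χ.1) (P : Sylow p G) :
    ⁅(P : Subgroup G), (P : Subgroup G)⁆ ≤ N := by
  have := Fintype.ofFinite G
  have hle := hN.le_sylow_of_normal P
  obtain ⟨χ, hχ⟩ := exists_over N ⟨l, hl⟩
  obtain ⟨η, hη, e⟩ := exists_linear_constituent hp.out P.2 (isChar_res (P : Subgroup G) (irr_isChar χ))
    (irr_degree_cast χ).symm (h χ hχ)
  have h2 : IsIrrCharacter N fun n : N => η.1 ⟨n, hle n.2⟩ :=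
    isIrr_of_degree_one (CliffordCorr.isChar_res_le hle (irr_isChar η)) hη
  have h3 := Clifford.mem_orbitFn_of_inner_ne_zero χ.2 hl h2 hχ (over_of_over_of_over hle
    (irr_isChar χ) η.2 (isIrr_isChar h2) e (by rw [classInner_isIrr_self h2]; exact one_ne_zero))
  rw [Clifford.orbitFn_of_invariant hi, Finset.mem_singleton] at h3
  obtain ⟨μ, hμ, hμN⟩ := Extend.exists_ext_of_forall_prime hl hi (d := 1) (by simpa using h1)
    fun q hq h4 _ => by
      obtain ⟨k, hk⟩ := hN.exists_card_eq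
      rw [mul_one] at h4
      obtain rfl := (Nat.prime_dvd_prime_iff_eq hq hp.out).1 (hq.dvd_of_dvd_pow
        (hk ▸ h4.trans (Det.detOrder_dvd_card (isIrr_isChar hl))))
      exact ⟨P, hle, η.1, P.not_dvd_index, irr_isChar η, congrFun h3⟩
  have hμ' : (fun n : N => μ n) = l := funext hμN
  have h4 := (ito_psolv (Core.IsPSolvable.quotient hs N) (fun β => by
    have h5 := ker_le_charKer_inflIrr _ (QuotientGroup.mk'_surjective N) β
    rw [QuotientGroup.ker_mk'] at h5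
    have h6 := Gallagher.isIrr_mul_of_le_ker (isIrr_isChar hμ) (hμ' ▸ hl) (inflIrr _ _ β).2 h5
    have h7 : (fun n : N => ((inflIrr _ (QuotientGroup.mk'_surjective N) β).1 * μ) n) =
        β.1 1 • l := funext fun n => by
      simp [hμN, (QuotientGroup.eq_one_iff _).2 n.2]
    have h8 := h ⟨_, h6⟩ (by
      rw [h7, classInner_smul_left, classInner_isIrr_self hl, mul_one]; exact irr_one_ne_zero β)
    exact fun e => h8 (e.trans (dvd_of_eq (congrArg (fun z : ℂ => ⌊z.re⌋₊)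
      ((congrFun h7 1).trans (by simp [h1])).symm))))
    (P.mapSurjective (QuotientGroup.mk'_surjective N))).2
  refine commutator_le.2 fun a ha b hb => ?_
  rw [← QuotientGroup.eq_one_iff, ← QuotientGroup.mk'_apply, map_commutatorElement,
    commutatorElement_eq_one_iff_mul_comm]
  exact congrArg Subtype.val (h4.1.1 ⟨_, mem_map_of_mem _ ha⟩ ⟨_, mem_map_of_mem _ hb⟩)

theorem derivedSeries_le_ker {A B : Type*} [Group A] [Group B] (f : A →* B) {n : ℕ}
    (h : derivedSeries B n = ⊥) : derivedSeries A n ≤ f.ker :=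
  (Subgroup.map_eq_bot_iff _).1 (eq_bot_iff.2 (h ▸ map_derivedSeries_le_derivedSeries f n))

theorem derivedSeries_sylow_eq_bot (n : ℕ) : ∀ (G : Type u) [Group G] [Finite G],
    Nat.card G = n → IsPSolvable p G → ∀ P : Sylow p G, derivedSeries P
      (Nat.card {χ : IrrCharacter G // p ∣ charDegree χ.1} + 1) = ⊥ := by
  induction n using Nat.strong_induction_on with
  | _ n ih =>
  intro G _ _ hn hs P
  rcases subsingleton_or_nontrivial G with h0 | h0
  · exact Subsingleton.elim _ _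
  have key : ∀ (N : Subgroup G) [N.Normal], N ≠ ⊥ → derivedSeries P
      (Nat.card {χ : IrrCharacter (G ⧸ N) // p ∣ charDegree χ.1} + 1) ≤ N.subgroupOf P :=
    fun N _ hb => (derivedSeries_le_ker ((QuotientGroup.mk' N).subgroupMap P)
      (ih _ (hn ▸ Core.card_quotient_lt N hb) (G ⧸ N) rfl (Core.IsPSolvable.quotient hs N)
        (P.mapSurjective (QuotientGroup.mk'_surjective N)))).trans fun x hx =>
      (QuotientGroup.eq_one_iff (x : G)).1 (congrArg Subtype.val hx)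
  let F : ∀ (N : Subgroup G) [N.Normal], {χ : IrrCharacter (G ⧸ N) // p ∣ charDegree χ.1} →
      {χ : IrrCharacter G // p ∣ charDegree χ.1} := fun N _ χ =>
    ⟨inflIrr _ (QuotientGroup.mk'_surjective N) χ.1, χ.2⟩
  have hF : ∀ (N : Subgroup G) [N.Normal], Function.Injective (F N) := fun N _ a b e =>
    Subtype.ext (inflIrr_injective _ _ (Subtype.mk.inj e))
  obtain ⟨N, hN, hb, h1 | h1⟩ := Core.IsPSolvable.exists_normal hs
  swap
  · refine eq_bot_iff.2 ((derivedSeries_antitone P (Nat.succ_le_succ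
      (Nat.card_le_card_of_injective _ (hF N)))).trans ((key N hb).trans fun x hx => ?_))
    exact Subtype.ext (eq_one_of_isPGroup_of_not_dvd hp.out P.2 x.2 fun e =>
      hp.out.coprime_iff_not_dvd.1 h1.symm (e.trans (orderOf_dvd_natCard N hx)))
  obtain ⟨N, hN, hb, h1, hc⟩ : ∃ N : Subgroup G, N.Normal ∧ N ≠ ⊥ ∧ IsPGroup p N ∧
      ∀ a ∈ N, ∀ b ∈ N, a * b = b * a := by
    have := N.nontrivial_iff_ne_bot.2 hb
    refine ⟨(center N).map N.subtype, inferInstance, fun e => ?_, (h1.to_subgroup _).map _, ?_⟩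
    · rw [map_eq_bot_iff_of_injective _ N.subtype_injective] at e
      exact (center N).nontrivial_iff_ne_bot.1 h1.center_nontrivial e
    · rintro _ ⟨a, -, rfl⟩ _ ⟨b, hb, rfl⟩
      exact congrArg Subtype.val (mem_center_iff.1 hb a)
  have fin : ∀ (P : Sylow p G) m, derivedSeries P m ≤ N.subgroupOf P →
      derivedSeries P (m + 1) = ⊥ := fun P m h => eq_bot_iff.2 (commutator_le.2 fun a ha b hb =>
    commutatorElement_eq_one_iff_mul_comm.2 (Subtype.ext (hc _ (h ha) _ (h hb))))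
  by_cases h2 : ∃ χ : IrrCharacter G, p ∣ charDegree χ.1 ∧ ¬ N ≤ charKer χ.1
  · obtain ⟨χ, h2, h3⟩ := h2
    refine fin P _ ((derivedSeries_antitone P ?_).trans (key N hb))
    refine (Nat.card_le_card_of_injective _ (hF N)).lt_of_ne fun e => h3 ?_
    obtain ⟨β, e⟩ := ((Nat.bijective_iff_injective_and_card _).2 ⟨hF N, e⟩).2 ⟨χ, h2⟩
    rw [← Subtype.mk.inj e]
    exact (QuotientGroup.ker_mk' N).ge.trans (ker_le_charKer_inflIrr _ _ _)
  by_cases h3 : ∀ χ : IrrCharacter G, ¬ p ∣ charDegree χ.1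
  · refine eq_bot_iff.2 ((derivedSeries_antitone P (Nat.le_add_left 1 _)).trans
      (commutator_le.2 fun a _ b _ => ?_))
    exact commutatorElement_eq_one_iff_mul_comm.2 ((ito_psolv hs h3 P).2.1.1 a b)
  push Not at h2 h3
  have : Nonempty {χ : IrrCharacter G // p ∣ charDegree χ.1} := ⟨⟨_, h3.choose_spec⟩⟩
  refine eq_bot_iff.2 ((derivedSeries_antitone P (Nat.succ_le_succ Nat.card_pos)).trans (le_of_eq ?_))
  have := Fintype.ofFinite G
  obtain ⟨z, hz, hz1⟩ := N.bot_or_exists_ne_one.resolve_left hb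
  obtain ⟨l, hl⟩ : ∃ l : IrrCharacter N, l.1 ⟨z, hz⟩ ≠ l.1 1 := by
    obtain ⟨l, hl, -, e⟩ := exists_irr_not_ker (K := N) (normalizer_eq_top (⊥ : Subgroup G) ▸ le_top)
      bot_le hz hz1
    exact ⟨⟨_, hl⟩, e⟩
  have hover : ∀ χ : IrrCharacter G, classInner (fun n : N => χ.1 n) l.1 ≠ 0 →
      ¬ p ∣ charDegree χ.1 := fun χ e hd => hl (by
    have h4 := (ker_iff (irr_isChar χ)).1 (h2 χ hd)
    simpa only [ez_mem _ hz, ez_one] using h4.constit (chr_of (irr_isChar χ) N) le_rfl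
      (irr_ez.2 l.2) (by rwa [inn_eq, ez_res]) z hz)
  obtain ⟨T, hT⟩ : ∃ T, T = Clifford.inertia N l.1 := ⟨_, rfl⟩
  have hNT : N ≤ T := hT ▸ Clifford.le_inertia (irr_classFun l)
  have hov : ∀ ψ : IrrCharacter T, classInner (fun n : N.subgroupOf T => ψ.1 n)
      (CliffordCorr.toSub T l.1) ≠ 0 → ¬ p ∣ T.index * charDegree ψ.1 := fun ψ e => by
    rw [CliffordCorr.inner_res_toSub hNT] at e
    rw [← charDegree_indFun (irr_isChar ψ)]
    exact hover ⟨_, CliffordCorr.isIrr_indFun l.2 hT hNT ψ.2 e⟩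
      ((CliffordCorr.inner_res_indFun l.2 hT hNT ψ.2 e).trans_ne e)
  have hl' := (CliffordCorr.isIrr_toSub_iff hNT).2 l.2
  obtain ⟨ψ, hψ⟩ := exists_over (N.subgroupOf T) ⟨_, hl'⟩
  obtain ⟨Q⟩ : Nonempty (Sylow p T) := inferInstance
  have : IsMulCommutative N := ⟨⟨fun a b => Subtype.ext (hc _ a.2 _ b.2)⟩⟩
  have h4 := commutator_le_of_over (Core.IsPSolvable.subgroup hs T) (h1.comap_subtype) hl'
    (isIrr_degree_one_of_comm l.2 :)
    (CliffordCorr.inertia_toSub_eq_top hNT hT.le) (fun χ e d => hov χ e (d.mul_left _)) Q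
  have h5 : ¬ p ∣ ((Q : Subgroup T).map T.subtype).index := by
    rw [index_map_subtype, hp.out.dvd_mul, not_or]
    exact ⟨Q.not_dvd_index, fun d => hov ψ hψ (d.mul_right _)⟩
  have h6 := fin ((Q.2.map T.subtype).toSylow h5) 1 (commutator_le.2 ?_)
  · exact eq_bot_iff.2 ((derivedSeries_le_ker (Sylow.equiv P _).toMonoidHom h6).trans
      ((MonoidHom.ker_eq_bot_iff _).2 (Sylow.equiv P _).injective).le)
  rintro ⟨_, a, ha, rfl⟩ - ⟨_, b, hb, rfl⟩ -
  exact h4 (commutator_mem_commutator ha hb)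

end Cfsg.Agent.Block
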