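import Mathlib
import Cfsg.Agent.Block.Ito

/-!
Fong's reduction for blocks of `p`-solvable groups and the bound for the heights.
-/

namespace Cfsg.Agent.Block

open Cfsg Cfsg.Agent.Char Cfsg.Agent.LocalEven Subgroup
open scoped _root_.Classical

universe u

variable {p : ℕ} {M : Ideal AlgInt}

/-- Induction on blocks of `p`-solvable groups by the Fong-Reynolds correspondence. -/
theorem fong_induction (hM : IsPModular p M)
    {C : ∀ (G : Type u) [Group G] [Fintype G], Set (IrrCharacter G) → Prop}
    (base : ∀ (G : Type u) [Group G] [Fintype G], IsPSolvable p G →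
      ∀ θ : IrrCharacter (pPrimeCore p G), GInv {θ} → C G (overSet {θ}))
    (step : ∀ (G : Type u) [Group G] [Fintype G] (θ : IrrCharacter (pPrimeCore p G))
      (T : Subgroup G) [Fintype T] (hT : pPrimeCore p G ≤ T), stab {θ} = T →
      ∀ B : Set (IrrCharacter T), IsPBlock M B → B ⊆ overIn hT {θ} → C T B → C G (indImage T B))
    (n : ℕ) : ∀ (G : Type u) [Group G] [Fintype G], Nat.card G = n → IsPSolvable p G →
      ∀ B, IsPBlock M B → C G B := by
  have := Fact.mk (pm_prime hM)
  induction n using Nat.strong_induction_on with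
  | _ n ih =>
  intro G _ _ hn hs B hB
  obtain ⟨χ, hχ⟩ := block_nonempty hM hB
  obtain ⟨θ, hθ⟩ := exists_under (pPrimeCore p G) χ
  by_cases h : GInv {θ}
  · exact block_eq_of_mem hM (isPBlock_overSet_of_constrained hM
      (Core.IsPSolvable.isPConstrained hs) rfl h) hB (mem_overSet_singleton.2 hθ) hχ ▸ base G hs θ h
  obtain ⟨B', h1, h2, rfl⟩ := fong_reynolds_surj hM (isPBlock_singleton hM
    (Core.not_dvd_card_pPrimeCore this.out) θ) (le_stab {θ}) le_rfl hB ⟨χ, hχ, θ, rfl, hθ⟩
  exact step G θ _ _ rfl B' h1 h2 (ih _ (hn ▸ Core.card_lt_of_ne_top _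
    (mt gInv_iff_stab.2 h)) _ rfl (Core.IsPSolvable.subgroup hs _) B' h1)

variable {G : Type u} [Group G] [Fintype G]

theorem blockHeight_le_factorization (B : Set (IrrCharacter G)) (χ : G → ℂ) :
    blockHeight p B χ ≤ (charDegree χ).factorization p := Nat.sub_le _ _

theorem factorization_degree_le_of_over [hp : Fact p.Prime] (hG : IsPConstrained p G)
    {θ : IrrCharacter (pPrimeCore p G)} (hθ : GInv {θ}) {χ : IrrCharacter G}
    (hχ : χ ∈ overSet {θ}) (S : Sylow p G) :
    (charDegree χ.1).factorization p ≤ (center S).index.factorization p := by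
  have hc := Core.isPConstrained_iff.1 hG
  obtain ⟨N, hN⟩ : ∃ N, N = (centralizer (pCore p (G ⧸ pPrimeCore p G) : Set _)).comap
    (QuotientGroup.mk' (pPrimeCore p G)) := ⟨_, rfl⟩
  have : N.Normal := hN ▸ inferInstance
  have hKN : pPrimeCore p G ≤ N := hN ▸ (QuotientGroup.ker_mk' _).ge.trans (ker_le_comap _ _)
  have hab : ⁅N, N⁆ ≤ pPrimeCore p G := commutator_le.2 fun a ha b hb => by
    rw [hN] at ha hb
    rw [← QuotientGroup.eq_one_iff, ← QuotientGroup.mk'_apply, map_commutatorElement,
      commutatorElement_eq_one_iff_mul_comm]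
    exact hb _ (hc ha)
  have hcop : (Nat.card (pPrimeCore p G)).Coprime ((pPrimeCore p G).relIndex N) := by
    obtain ⟨k, hk⟩ := Core.relIndex_pPrimePCore (G := G) p
    exact ((Core.pPrimeCore_coprime p).pow_right k).coprime_dvd_right (hk ▸
      Isaacs.relIndex_dvd_of_norm (hN ▸ comap_mono hc) (normalizer_eq_top (pPrimeCore p G) ▸ le_top))
  have hZ : (center S).map (S : Subgroup G).subtype ≤ N := by
    rintro _ ⟨z, hz, rfl⟩
    rw [hN]
    intro y hy
    obtain ⟨s, hs, rfl⟩ := (Core.pCore_isPGroup p).le_sylow_of_normal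
      (S.mapSurjective (QuotientGroup.mk'_surjective (pPrimeCore p G))) hy
    exact congrArg (fun x : S => QuotientGroup.mk' (pPrimeCore p G) x) (mem_center_iff.1 hz ⟨s, hs⟩)
  have hn := normalizer_eq_top (pPrimeCore p G) ▸ (le_top : N ≤ ⊤)
  have h1 := Isaacs.irr_ez.2 θ.2
  have hi : Isaacs.Inv ⊤ _ (Isaacs.ez _ θ.1) := fun a _ x hx => by
    rw [Isaacs.ez_mem _ hx, Isaacs.ez_mem _ (Normal.conj_mem inferInstance x hx a)]
    exact congrFun (congrArg Subtype.val (hθ a θ rfl)) ⟨x, hx⟩
  obtain ⟨ψ, h2, h3, h4⟩ := ((Isaacs.chr_of (irr_isChar χ) N).inv.exists_between hKN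
    (θ := Isaacs.ez _ θ.1) (by
      rw [Isaacs.inn_eq, Isaacs.ez_res]; exact mem_overSet_singleton.1 hχ))
  obtain ⟨η, h5, h6⟩ := h1.exists_ext_coprime hn hKN (hi.mono le_top le_rfl) hcop
  obtain ⟨β, h7, h8, h9⟩ := h2.exists_mul hn hKN h5.chr (h1.congr h6.symm) (h6.inn_right ▸ h4)
  obtain ⟨k, hk, e⟩ := (Isaacs.irr_top.2 χ.2).deg_dvd_rel (normalizer_eq_top N).ge le_top h2 h3
  rw [h9.one, Pi.mul_apply, h7.one_of_ker (h8.mono hab), one_mul, h6.one, Isaacs.ez_one,
    ← irr_degree_cast, ← irr_degree_cast, ← Nat.cast_mul, Nat.cast_inj] at e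
  rw [relIndex_top_right] at hk
  have h10 : ¬ p ∣ charDegree θ.1 := fun d =>
    Core.not_dvd_card_pPrimeCore hp.out (d.trans (irr_degree_dvd θ))
  have h11 := (Nat.factorization_le_iff_dvd Nat.card_pos.ne' Nat.card_pos.ne').2
    (card_map_subtype (center S) ▸ card_dvd_of_le hZ) p
  have h12 := (Nat.factorization_le_iff_dvd (ne_zero_of_dvd_ne_zero index_ne_zero_of_finite hk)
    index_ne_zero_of_finite).2 hk p
  have h13 := factorization_card_eq (p := p) N
  have h14 := factorization_card_eq (p := p) (center S)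
  have h15 := factorization_card_eq (p := p) (S : Subgroup G)
  rw [Nat.factorization_eq_zero_of_not_dvd S.not_dvd_index] at h15
  rw [e, Nat.factorization_mul (ne_zero_of_dvd_ne_zero index_ne_zero_of_finite hk)
    (fun e => h10 ((dvd_zero p).trans e.symm.dvd)), Finsupp.add_apply, Nat.factorization_eq_zero_of_not_dvd h10]
  omega

theorem index_center_congr {A B : Type*} [Group A] [Group B] [Finite A] (e : A ≃* B) :
    (center A).index = (center B).index :=
  Nat.eq_of_mul_eq_mul_right (Nat.card_pos (α := center A)) (by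
    rw [index_mul_card, Nat.card_congr (centerCongr e).toEquiv, index_mul_card,
      Nat.card_congr e.toEquiv])

theorem blockHeight_le_index_center (hM : IsPModular p M) (hs : IsPSolvable p G)
    {B : Set (IrrCharacter G)} (hB : IsPBlock M B) {P : Subgroup G} (hP : IsDefectGroup p M B P)
    {χ : IrrCharacter G} (hχ : χ ∈ B) :
    blockHeight p B χ.1 ≤ (center P).index.factorization p := by
  have := Fact.mk (pm_prime hM)
  refine fong_induction hM (C := fun G _ _ B => ∀ P, IsDefectGroup p M B P → ∀ χ ∈ B,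
    blockHeight p B χ.1 ≤ (center P).index.factorization p) ?_ ?_ _ G rfl hs B hB P hP χ hχ
  · intro G _ _ hs θ hθ P hP χ hχ
    have hG := Core.IsPSolvable.isPConstrained hs
    have hB := isPBlock_overSet_of_constrained hM hG rfl hθ
    obtain ⟨S⟩ : Nonempty (Sylow p G) := inferInstance
    obtain ⟨x, rfl⟩ := isDefectGroup_conj hM hB (isDefectGroup_overSet hM
      (Core.not_dvd_card_pPrimeCore this.out) hθ hB S.2 S.not_dvd_index) hP
    exact (blockHeight_le_factorization _ _).trans (factorization_degree_le_of_over hG hθ hχ (x • S))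
  · rintro G _ _ θ T _ hT e B hB hs ih P hP χ ⟨ψ, hψ, e1⟩
    have hb := isPBlock_singleton hM (Core.not_dvd_card_pPrimeCore this.out) θ
    obtain ⟨D, hD⟩ := exists_isDefectGroup hM hB
    obtain ⟨x, rfl⟩ := isDefectGroup_conj hM (induced_right (fong_reynolds hM hb hT e.le hB hs))
      (fong_reynolds_defectGroup hM hb hT e.le hB hs hD) hP
    rw [e1, blockHeight_indImage (fun ψ h => isIrr_indFun_of_overIn hM hb hT e.le (hs h)) hψ,
      ← index_center_congr ((D.equivMapOfInjective _ T.subtype_injective).trans (cjEquiv x _))]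
    exact ih D hD ψ hψ

theorem principalBlock_eq_overSet (hM : IsPModular p M) (hG : IsPConstrained p G) :
    principalBlock M G = overSet {oneIrr (pPrimeCore p G)} :=
  block_eq_of_mem hM isPBlock_principalBlock (isPBlock_overSet_of_constrained hM hG rfl
    (by rintro g _ rfl; rfl)) (oneIrr_mem_principalBlock hM)
    (mem_overSet_singleton.2 (classInner_one_one.trans_ne one_ne_zero))

end Cfsg.Agent.Block
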