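import Mathlib
import Cfsg.Agent.Block.BrRey
import Cfsg.Agent.Char.Det

/-!
Groups with a self-centralising element of prime order: the elementary structure.
-/

namespace Cfsg.Agent.Block

open Cfsg Cfsg.Agent.Char Cfsg.Agent.Core Subgroup MulAction
open scoped _root_.Classical commutatorElement

variable {G : Type*} [Group G] {p : ℕ} {P : Subgroup G} {x : G}

theorem OrdP.card_subgroups [Finite G] (h : OrdP p P) :
    Nat.card {H : Subgroup G // Nat.card H = p} = (normalizer (P : Set G)).index := by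
  have := Fact.mk h.prime
  have := Fintype.ofFinite G
  have hc : ∀ Q : Sylow p G, Nat.card Q = p := fun Q => by
    rw [Q.card_eq_multiplicity, h.factorization, pow_one]
  refine Eq.trans ?_ (h.ab.pg.toSylow h.ind).card_eq_index_normalizer
  refine (Nat.card_congr (Equiv.ofBijective
    (fun Q : Sylow p G => (⟨Q, hc Q⟩ : {H : Subgroup G // Nat.card H = p})) ⟨?_, ?_⟩)).symm
  · intro Q R e
    exact Sylow.ext (congrArg Subtype.val e)
  · rintro ⟨H, hH⟩
    exact ⟨Sylow.ofCard H (by rw [hH, h.factorization, pow_one]), rfl⟩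

theorem OrdP.card_fiber [Finite G] (h : OrdP p P) {x : G} (hx : x ∈ P) (h1 : x ≠ 1) :
    {y | y ∈ P ∧ IsConj x y}.ncard =
      (centralizer (P : Set G)).relIndex (normalizer (P : Set G)) := by
  have := Fintype.ofFinite G
  letI := MulAction.compHom G ((MulAut.conj (G := G)).comp (normalizer (P : Set G)).subtype)
  have hs : ∀ (n : normalizer (P : Set G)) (y : G), n • y = n * y * (n : G)⁻¹ := fun _ _ => rfl
  have e1 : stabilizer (normalizer (P : Set G)) x =
      (centralizer (P : Set G)).subgroupOf (normalizer (P : Set G)) := by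
    ext n
    rw [mem_stabilizer_iff, hs, mem_subgroupOf, mul_inv_eq_iff_eq_mul]
    refine ⟨fun e y hy => ?_, fun e => (e x hx).symm⟩
    rw [eq_zpowers_of_card_prime h.prime h.card hx h1] at hy
    obtain ⟨k, rfl⟩ := hy
    exact ((Commute.zpow_right (show Commute (n : G) x from e) k)).symm
  rw [relIndex, ← e1, index_stabilizer]
  congr 1
  ext y
  refine ⟨fun ⟨hy, hc⟩ => ?_, ?_⟩
  · obtain ⟨g, rfl⟩ := isConj_iff.1 hc
    exact ⟨⟨g, (inv_mem_iff).1 (h.mem_of_conj_mem hx h1 (g := g⁻¹)
      (by simpa using le_normalizer hy))⟩, rfl⟩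
  · rintro ⟨n, rfl⟩
    exact ⟨(mem_normalizer_iff.1 n.2 x).1 hx, isConj_iff.2 ⟨n, rfl⟩⟩

theorem OrdP.card_classes [Finite G] (h : OrdP p P) :
    Nat.card {C : ConjClasses G // ∃ g ∈ C.carrier, orderOf g = p} *
      (centralizer (P : Set G)).relIndex (normalizer (P : Set G)) + 1 = p := by
  have := Fintype.ofFinite G
  have ho : ∀ y ∈ P, y ≠ 1 → orderOf y = p := fun y hy h1 => by
    rw [← Nat.card_zpowers, ← eq_zpowers_of_card_prime h.prime h.card hy h1, h.card]
  have hc : (Finset.univ.filter fun y => y ∈ P ∧ y ≠ 1).card + 1 = p := by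
    rw [← h.card, Nat.card_eq_fintype_card, Fintype.card_subtype,
      ← Finset.card_erase_add_one (s := Finset.univ.filter (· ∈ P)) (a := 1) (by simp [one_mem])]
    congr 2
    ext y; simp [and_comm]
  rw [Finset.card_eq_sum_card_fiberwise (f := ConjClasses.mk)
    (t := Finset.univ.filter fun C => ∃ g ∈ C.carrier, orderOf g = p) (fun y hy => by
      simp only [Finset.coe_filter, Finset.mem_univ, true_and, Set.mem_ofPred_eq] at hy ⊢
      exact ⟨y, ConjClasses.mem_carrier_mk, ho y hy.1 hy.2⟩)] at hc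
  rw [Nat.card_eq_fintype_card, Fintype.card_subtype, ← smul_eq_mul, ← Finset.sum_const]
  refine Eq.trans ?_ hc
  congr 1
  refine Finset.sum_congr rfl fun C hC => ?_
  obtain ⟨g, hg, hgo⟩ := (Finset.mem_filter.1 hC).2
  obtain ⟨u, hu⟩ := h.ab.exists_conj_mem (u := g) ⟨1, by rw [hgo, pow_one]⟩
  have hg1 : g ≠ 1 := fun e => h.prime.one_lt.ne' (by rw [← hgo, e, orderOf_one])
  have h1 : u * g * u⁻¹ ≠ 1 := fun e => hg1 (by simpa using e)
  rw [← h.card_fiber hu h1, ← Set.ncard_coe_finset]
  congr 1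
  have hC' : C = ConjClasses.mk (u * g * u⁻¹) :=
    (ConjClasses.mem_carrier_iff_mk_eq.1 hg).symm.trans
      (ConjClasses.mk_eq_mk_iff_isConj.2 (isConj_iff.2 ⟨u, rfl⟩))
  ext y
  simp only [Set.mem_ofPred_eq, Finset.coe_filter, Finset.mem_filter, Finset.mem_univ, true_and,
    hC', ConjClasses.mk_eq_mk_iff_isConj]
  refine ⟨fun ⟨a, b⟩ => ⟨⟨a, fun e => h1 ?_⟩, b.symm⟩, fun ⟨a, b⟩ => ⟨a.1, b.symm⟩⟩
  rwa [e, isConj_one_left] at b

theorem commutator_le_of_isCyclic (K : Subgroup G) [K.Normal] (h : IsCyclic (G ⧸ K)) :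
    commutator G ≤ K := commutator_le.2 fun a _ b _ => by
  rw [← QuotientGroup.eq_one_iff, ← QuotientGroup.mk'_apply, map_commutatorElement,
    commutatorElement_eq_one_iff_mul_comm, mul_comm']

theorem OrdP.frattini [Finite G] (h : OrdP p P) {S : Subgroup G} [S.Normal] (hS : P ≤ S) :
    normalizer (P : Set G) ⊔ S = ⊤ := by
  have := Fact.mk h.prime
  exact Sylow.normalizer_sup_eq_top' (h.ab.pg.toSylow h.ind) hS

/-- A self-centralising element of prime order. -/
structure SX (p : ℕ) (x : G) : Prop where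
  prime : p.Prime
  ord : orderOf x = p
  cent : centralizer ({x} : Set G) = zpowers x

namespace SX

variable [Finite G] (h : SX p x)
include h

local notation "P" => zpowers x
local notation "N" => normalizer (zpowers x : Set G)

omit [Finite G] in
theorem ne_one : x ≠ 1 := fun e => h.prime.one_lt.ne' (by rw [← h.ord, e, orderOf_one])

omit [Finite G] in
theorem card : Nat.card P = p := by rw [Nat.card_zpowers, h.ord]

omit [Finite G] in
theorem mem {g : G} (e : g * x = x * g) : g ∈ P := h.cent ▸ mem_centralizer_singleton_iff.2 e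

theorem ordP : OrdP p P := by
  have := Fact.mk h.prime
  refine ⟨h.prime, h.card, ?_⟩
  obtain ⟨S, hS⟩ := (IsPGroup.of_card (n := 1) (h.card.trans (pow_one p).symm)).exists_le_sylow
  have hx : x ∈ S := hS (mem_zpowers x)
  have : Nontrivial S := ⟨⟨⟨x, hx⟩, 1, fun e => h.ne_one (congrArg Subtype.val e)⟩⟩
  have := S.2.center_nontrivial
  obtain ⟨⟨z, hz⟩, hz1⟩ := exists_ne (1 : center S)
  have hc : ∀ s ∈ S, s * z = z * s := fun s hs =>
    congrArg Subtype.val (mem_center_iff.1 hz ⟨s, hs⟩)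
  have e := eq_zpowers_of_card_prime h.prime h.card (h.mem (hc x hx).symm)
    fun e => hz1 (Subtype.ext (Subtype.ext e))
  have : (S : Subgroup G) ≤ P := fun s hs => h.mem (by
    obtain ⟨k, hk⟩ := e ▸ mem_zpowers x
    rw [← hk]
    exact Commute.zpow_right (hc s hs) k)
  rw [le_antisymm hS this]
  exact S.not_dvd_index

theorem sc : SC p P :=
  { h.ordP with le := fun _ hg => h.mem (hg x (mem_zpowers x)).symm }

theorem cent' : centralizer (P : Set G) = P :=
  have := Fintype.ofFinite G
  h.sc.cent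

theorem commutator_le {S : Subgroup G} [S.Normal] (hS : p ∣ Nat.card S) : commutator G ≤ S := by
  have := Fintype.ofFinite G
  have hP := h.ordP.le_of_dvd hS
  obtain ⟨y, -, hy⟩ := h.sc.exists_gen
  refine commutator_le_of_isCyclic S ⟨⟨(y : G ⧸ S), fun g => ?_⟩⟩
  obtain ⟨g, rfl⟩ := QuotientGroup.mk_surjective g
  obtain ⟨n, hn, s, hs, rfl⟩ := (mem_sup_of_normal_right).1 (h.ordP.frattini hP ▸ mem_top g)
  obtain ⟨j, u, hu, rfl⟩ := hy n hn
  refine ⟨j, ?_⟩
  simp only [QuotientGroup.mk_mul, (QuotientGroup.eq_one_iff _).2 hs,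
    (QuotientGroup.eq_one_iff _).2 (hP hu), one_mul, mul_one, QuotientGroup.mk_zpow]

theorem inf_eq_bot {S : Subgroup G} [S.Normal] (hS : ¬ p ∣ Nat.card S) : S ⊓ N = ⊥ := by
  refine eq_bot_iff.2 fun k hk => ?_
  have h1 : k ∈ P := h.mem (commutatorElement_eq_one_iff_mul_comm.1
    (eq_one_of_isPGroup_of_not_dvd h.prime h.ordP.ab.pg (by
      rw [commutatorElement_def]
      exact mul_mem ((mem_normalizer_iff.1 hk.2 _).1 (mem_zpowers x)) (inv_mem (mem_zpowers x)))
    fun e => hS (e.trans (orderOf_dvd_natCard S (by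
      rw [commutatorElement_def, mul_assoc, mul_assoc, ← mul_assoc x]
      exact mul_mem hk.1 (Normal.conj_mem inferInstance _ (inv_mem hk.1) x))))))
  exact eq_one_of_isPGroup_of_not_dvd h.prime h.ordP.ab.pg h1
    fun e => hS (e.trans (orderOf_dvd_natCard S hk.1))

theorem exists_commutator {S : Subgroup G} [S.Normal] (hS : ¬ p ∣ Nat.card S) {s : G}
    (hs : s ∈ S) : ∃ a ∈ S, ⁅a, x⁆ = s := by
  have hm : ∀ a : S, ⁅(a : G), x⁆ ∈ S := fun a => by
    rw [commutatorElement_def, mul_assoc, mul_assoc, ← mul_assoc x]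
    exact mul_mem a.2 (Normal.conj_mem inferInstance _ (inv_mem a.2) x)
  have hi : Function.Injective fun a : S => (⟨_, hm a⟩ : S) := fun a b e => by
    have e1 : (a : G) * x * (a : G)⁻¹ = b * x * (b : G)⁻¹ :=
      mul_right_cancel (congrArg Subtype.val e)
    have e2 : ((b : G)⁻¹ * a) * x = x * ((b : G)⁻¹ * a) := by
      rw [mul_inv_eq_iff_eq_mul] at e1
      rw [mul_assoc, e1]; group
    have : (b : G)⁻¹ * a ∈ S ⊓ N :=
      ⟨S.mul_mem (S.inv_mem b.2) a.2, le_normalizer (h.mem e2)⟩
    rw [h.inf_eq_bot hS, mem_bot, inv_mul_eq_one] at this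
    exact Subtype.ext this.symm
  obtain ⟨a, ha⟩ := Finite.surjective_of_injective hi ⟨s, hs⟩
  exact ⟨a, a.2, congrArg Subtype.val ha⟩

theorem le_commutator {S : Subgroup G} [S.Normal] (hS : ¬ p ∣ Nat.card S) :
    S ≤ commutator G := fun _ hs => by
  obtain ⟨a, -, rfl⟩ := h.exists_commutator hS hs
  exact commutator_mem_commutator (mem_top _) (mem_top _)

theorem quot (S : Subgroup G) [S.Normal] (hS : ¬ p ∣ Nat.card S) : SX p (x : G ⧸ S) := by
  refine ⟨h.prime, ?_, le_antisymm (fun g hg => ?_) (zpowers_le.2 (mem_centralizer_singleton_iff.2 rfl))⟩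
  · refine ((Nat.dvd_prime h.prime).1 (h.ord ▸ orderOf_map_dvd (QuotientGroup.mk' S) x)).resolve_left
      fun e => hS (h.ord ▸ orderOf_dvd_natCard S ?_)
    exact (QuotientGroup.eq_one_iff _).1 (orderOf_eq_one_iff.1 e)
  · obtain ⟨g, rfl⟩ := QuotientGroup.mk_surjective g
    have h1 : ⁅g, x⁆ ∈ S := by
      rw [← QuotientGroup.eq_one_iff, ← QuotientGroup.mk'_apply, map_commutatorElement,
        commutatorElement_eq_one_iff_mul_comm]
      exact mem_centralizer_singleton_iff.1 hg
    obtain ⟨a, ha, e⟩ := h.exists_commutator hS h1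
    have e1 : a * x * a⁻¹ = g * x * g⁻¹ := mul_right_cancel e
    obtain ⟨k, hk⟩ := h.mem (g := a⁻¹ * g) (by
      rw [eq_comm, mul_inv_eq_iff_eq_mul] at e1
      rw [mul_assoc, e1]; group)
    refine ⟨k, ?_⟩
    simp only at hk ⊢
    rw [← QuotientGroup.mk_zpow, hk, QuotientGroup.mk_mul, (QuotientGroup.eq_one_iff _).2 (inv_mem ha),
      one_mul]

theorem card_sup {S : Subgroup G} [S.Normal] (hS : ¬ p ∣ Nat.card S) :
    Nat.card (S ⊔ N : Subgroup G) = Nat.card S * Nat.card N :=
  card_sup_of_disjoint (normalizer_eq_top S ▸ le_top) (disjoint_iff.2 (h.inf_eq_bot hS))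

theorem card_dvd {S : Subgroup G} [S.Normal] (hS : ¬ p ∣ Nat.card S) : Nat.card S ∣ (N).index :=
  Nat.dvd_of_mul_dvd_mul_right (Nat.card_pos (α := N)) (by
    rw [← h.card_sup hS, index_mul_card]; exact card_subgroup_dvd_card _)

theorem card_mod {S : Subgroup G} [S.Normal] (hS : ¬ p ∣ Nat.card S) : Nat.card S % p = 1 := by
  have := Fact.mk h.prime
  letI := MulAction.compHom S ((MulAut.conjNormal (H := S)).comp (P).subtype)
  have h1 := h.ordP.ab.pg.card_modEq_card_fixedPoints S
  have h2 : fixedPoints P S = {1} := by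
    refine Set.eq_singleton_iff_unique_mem.2 ⟨fun u => map_one (MulAut.conjNormal (u : G)),
      fun s hs => ?_⟩
    have e : x * s * x⁻¹ = s := congrArg Subtype.val (hs ⟨x, mem_zpowers x⟩)
    have : (s : G) ∈ S ⊓ N := ⟨s.2, le_normalizer (h.mem (mul_inv_eq_iff_eq_mul.1 e).symm)⟩
    rw [h.inf_eq_bot hS, mem_bot] at this
    exact Subtype.ext this
  rw [h2, Nat.card_unique (α := ({1} : Set S))] at h1
  rw [h1, Nat.mod_eq_of_lt h.prime.one_lt]

omit [Finite G] in
theorem card_eq (hc : ∀ g, g * x = x * g) : Nat.card G = p := by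
  rw [← h.card, (eq_top_iff' P).2 fun g => h.mem (hc g), card_top]

theorem index_of_not_dvd (hS : ¬ p ∣ Nat.card (commutator G)) : (commutator G).index = p :=
  (h.quot _ hS).card_eq fun g => by
    obtain ⟨g, rfl⟩ := QuotientGroup.mk_surjective g
    rw [← commutatorElement_eq_one_iff_mul_comm, ← QuotientGroup.mk'_apply,
      ← QuotientGroup.mk'_apply, ← map_commutatorElement, QuotientGroup.mk'_apply,
      QuotientGroup.eq_one_iff]
    exact commutator_mem_commutator (mem_top _) (mem_top _)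

theorem not_dvd_iff : ¬ p ∣ Nat.card (commutator G) ↔ N ≤ P := by
  have := Fact.mk h.prime
  have := Fintype.ofFinite G
  refine ⟨fun hS => le_trans ?_ h.sc.le, fun hc => ?_⟩
  · intro n hn y hy
    refine commutatorElement_eq_one_iff_mul_comm.1
      (eq_one_of_isPGroup_of_not_dvd h.prime h.ordP.ab.pg ?_ fun e => hS (e.trans
        (orderOf_dvd_natCard _ (commutator_mem_commutator (mem_top _) (mem_top _)))))
    rw [commutatorElement_def, mul_assoc, mul_assoc, ← mul_assoc n]
    exact mul_mem hy ((mem_normalizer_iff.1 hn _).1 (inv_mem hy))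
  · obtain ⟨Q, K, hK, hKQ⟩ := Transfer.hasNormalPComplement_of_normalizer_le_centralizer
      (h.ordP.ab.pg.toSylow h.ordP.ind) (hc.trans h.cent'.ge)
    have h1 : K.index = p := by
      rw [hKQ.symm.index_eq_card, Q.card_eq_multiplicity, h.ordP.factorization, pow_one]
    refine fun e => Q.not_dvd_index (hKQ.index_eq_card ▸ e.trans (card_dvd_of_le ?_))
    exact commutator_le_of_isCyclic K (isCyclic_of_prime_card (α := G ⧸ K) h1)

variable {t : ℕ} (ht : Nat.card {C : ConjClasses G // ∃ g ∈ C.carrier, orderOf g = p} = t)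
include ht

theorem te : t * (P).relIndex N + 1 = p := by
  rw [← ht, ← h.cent']
  convert h.ordP.card_classes
  exact h.cent'

theorem eq_iff : t = p - 1 ↔ ¬ p ∣ Nat.card (commutator G) := by
  have h1 := h.te ht
  have h2 := h.prime.two_le
  rw [h.not_dvd_iff, ← relIndex_eq_one]
  refine ⟨fun e => Nat.eq_of_mul_eq_mul_left (show 0 < t by omega) (by omega), fun e => ?_⟩
  rw [e] at h1; omega

omit ht in
theorem index_dvd {S : Subgroup G} [S.Normal] (hS : p ∣ Nat.card S) :
    S.index ∣ (P).relIndex N := by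
  have := Fintype.ofFinite G
  have hP := h.ordP.le_of_dvd hS
  rw [← relIndex_top_right, ← h.ordP.frattini hP, relIndex_sup_right]
  exact relIndex_dvd_of_le_left _ hP

omit ht in
theorem sub {S : Subgroup G} (hx : x ∈ S) : SX p (⟨x, hx⟩ : S) := by
  refine ⟨h.prime, by rw [← orderOf_coe, h.ord], le_antisymm (fun g hg => ?_)
    (zpowers_le.2 (mem_centralizer_singleton_iff.2 rfl))⟩
  obtain ⟨k, hk⟩ := h.mem (congrArg Subtype.val (mem_centralizer_singleton_iff.1 hg))
  exact ⟨k, Subtype.ext hk⟩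

omit ht in
theorem card_G : Nat.card G = p * (P).relIndex N * (N).index := by
  rw [← h.card, card_mul_relIndex le_normalizer, card_mul_index]

omit ht in
/-- If `p ∣ |G'|` and `G'' ≠ G'`, then `G''` is a `p'`-group of index `p` in `G'`. -/
theorem derived (hd : p ∣ Nat.card (commutator G)) (hne : derivedSeries G 2 ≠ commutator G) :
    ¬ p ∣ Nat.card (derivedSeries G 2) ∧
      Nat.card (commutator G) = p * Nat.card (derivedSeries G 2) := by
  have := Fintype.ofFinite G
  have h1 : ¬ p ∣ Nat.card (derivedSeries G 2) := fun e =>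
    hne (le_antisymm (derivedSeries_one G ▸ derivedSeries_antitone G one_le_two)
      (h.commutator_le e))
  have h2 : Nat.card (_root_.commutator (commutator G)) = Nat.card (derivedSeries G 2) := by
    rw [← card_map_of_injective (commutator G).subtype_injective, map_subtype_commutator,
      derivedSeries_succ, derivedSeries_one]
  refine ⟨h1, ?_⟩
  rw [← h2, ← (h.sub (h.ordP.le_of_dvd hd (mem_zpowers x))).index_of_not_dvd (h2 ▸ h1),
    index_mul_card]

end SX

end Cfsg.Agent.Block
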