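import Mathlib
import Cfsg.Agent.Block.Dih
import Cfsg.Agent.Block.SCGrp
import Cfsg.Agent.Core.Coprime

/-! Brauer's characterisation of the groups with a faithful character of degree `(p - 1) / 2`. -/

namespace Cfsg.Agent.Block

open Cfsg Cfsg.Agent.Char Subgroup
open scoped _root_.Classical ComplexConjugate

variable {G : Type*} [Group G] [Fintype G] {p : ℕ} {P : Subgroup G}

theorem eq_sum_of_weight {D : G → ℂ} (hD : IsCharacter G D) {S : Finset (IrrCharacter G)}
    (h1 : ∀ χ ∈ S, classInner D χ.1 ≠ 0) {w : IrrCharacter G → ℕ}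
    (hw : ∀ χ ∈ S, w χ ≤ charDegree χ.1) : ∑ χ ∈ S, w χ ≤ charDegree D ∧
      (charDegree D ≤ ∑ χ ∈ S, w χ → D = ∑ χ ∈ S, χ.1 ∧ ∀ χ ∈ S, χ.1 1 = w χ) := by
  have h2 := Finset.sum_le_sum hw
  have h3 := sum_degree_le hD h1
  refine ⟨h2.trans h3, fun h => ⟨funext fun g => ?_, fun χ hχ => ?_⟩⟩
  · rw [eq_sum_of_degree_le hD h1 (h.trans h2), Finset.sum_apply]
  · rw [← irr_degree_cast, (Finset.sum_eq_sum_iff_of_le hw).1 (by omega) χ hχ]

theorem sum_conj_mul_mul {f : G → ℂ} (hf : IsClassFunction G f) (g : G) :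
    ∑ h, conj (f h) * f (h * g) = Nat.card G * ∑ χ : IrrCharacter G,
      classInner f χ.1 * conj (classInner f χ.1) * (χ.1 g / χ.1 1) := by
  simp only [fun h => classFun_apply_eq_sum hf (h * g), Finset.mul_sum]
  rw [Finset.sum_comm]
  refine Finset.sum_congr rfl fun χ _ => ?_
  simp only [mul_left_comm _ (classInner f χ.1), ← Finset.mul_sum]
  have := card_mul_classInner χ.1 f
  simp only [mul_comm (χ.1 _) (conj _)] at this
  rw [isIrr_sum_mul_mul χ.2 (classFun_conj hf), classInner_conj_symm, ← this]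
  ring

theorem inner_sum_sum_eq_zero {S T : Finset (IrrCharacter G)} (h : Disjoint S T) :
    classInner (∑ χ ∈ S, χ.1) (∑ χ ∈ T, χ.1) = 0 := by
  rw [classInner_sum_left]
  refine Finset.sum_eq_zero fun χ hχ => ?_
  rw [classInner_sum_right]
  exact Finset.sum_eq_zero fun ψ hψ => classInner_irr_ne fun e =>
    Finset.disjoint_left.1 h hχ (e ▸ hψ)

namespace PW

variable {n : ℕ} {δ : ℤ} {X Y : Finset (IrrCharacter G)} {a : IrrCharacter G → ℤ}
  (h : PW p P n 2 δ X Y a)
include h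

theorem half_decomp (hg : normalClosure (P : Set G) = ⊤) {D D' : G → ℂ} (hD : IsCharacter G D)
    (hD' : IsCharacter G D') (h0 : ∀ g, ¬ p ∣ orderOf g → (D - D') g = 0)
    (h1 : classInner (D - D') (fun _ => 1) = 1) (hd : charDegree D = n * n)
    (hd' : charDegree D' = n * n) : classInner D D' = 0 ∧
      (∀ g, ¬ p ∣ orderOf g → ∑ χ ∈ X, 4 * (χ.1 g / χ.1 1) + ∑ ξ ∈ Y, ξ.1 g / ξ.1 1 =
        4 + 2 * (D g - 1) / (n + 1) + 2 * D' g / n) ∧
      ∀ g, p ∣ orderOf g → (δ = 1 → 2 * D g = n + 1) ∧ (δ = -1 → 2 * D' g = -n) := by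
  have hone := h.one_mem_X (by omega)
  have hte := h.te
  have hn := h.e_pos
  set A := (X.filter fun χ => a χ = 1).erase (oneIrr G) with hA
  set A' := X.filter fun χ => ¬ a χ = 1 with hA'
  have mA : ∀ χ ∈ A, χ ∈ X ∧ a χ = 1 ∧ χ ≠ oneIrr G := fun χ hχ => by
    simp only [hA, Finset.mem_erase, Finset.mem_filter] at hχ; tauto
  have mA' : ∀ χ ∈ A', χ ∈ X ∧ a χ = -1 := fun χ hχ => by
    simp only [hA', Finset.mem_filter] at hχ
    exact ⟨hχ.1, (h.a_sign χ hχ.1).resolve_left hχ.2⟩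
  have h1A : oneIrr G ∉ A := Finset.notMem_erase _ _
  have hsum : ∀ {R : Type} [AddCommMonoid R] (F : IrrCharacter G → R),
      ∑ χ ∈ X, F χ = F (oneIrr G) + ∑ χ ∈ A, F χ + ∑ χ ∈ A', F χ := fun F => by
    rw [Finset.add_sum_erase _ _ (Finset.mem_filter.2 ⟨hone, h.a_one hone⟩),
      Finset.sum_filter_add_sum_filter_not]
  have hc : 1 + A.card + A'.card = n := by
    simpa [h.cardX] using (hsum fun _ => (1 : ℕ)).symm
  have hin : ∀ χ : IrrCharacter G, ∃ k k' : ℕ, classInner D χ.1 = k ∧ classInner D' χ.1 = k' :=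
    fun χ => by
      obtain ⟨k, hk⟩ := classInner_isChar_nat hD (irr_isChar χ)
      obtain ⟨k', hk'⟩ := classInner_isChar_nat hD' (irr_isChar χ)
      exact ⟨k, k', hk, hk'⟩
  have iX : ∀ χ ∈ X, (a χ = 1 → classInner D χ.1 ≠ 0) ∧ (a χ = -1 → classInner D' χ.1 ≠ 0) :=
    fun χ hχ => by
      have := h.innerX h0 hχ
      obtain ⟨k, k', hk, hk'⟩ := hin χ
      rw [h1, classInner_sub_left, hk, hk'] at this
      have : (k : ℤ) - k' = a χ * 1 := by exact_mod_cast this
      simp only [hk, hk', ne_eq, Nat.cast_eq_zero]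
      omega
  have iY : ∃ ξ ∈ Y, (δ = -1 → classInner D ξ.1 ≠ 0) ∧ (δ = 1 → classInner D' ξ.1 ≠ 0) := by
    by_contra hc
    have := h.innerY h0
    choose k k' hk hk' using hin
    simp only [h1, classInner_sub_left, hk, hk', ne_eq, Nat.cast_eq_zero, not_exists,
      not_and] at this hc
    have h2 : ∑ ξ ∈ Y, ((k ξ : ℤ) - k' ξ) = -δ * 1 := by exact_mod_cast this
    rcases h.sign with rfl | rfl
    · have := Finset.sum_nonneg (s := Y) (f := fun ξ => (k ξ : ℤ) - k' ξ) fun ξ hξ => by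
        have := hc ξ hξ; omega
      omega
    · have := Finset.sum_nonpos (s := Y) (f := fun ξ => (k ξ : ℤ) - k' ξ) fun ξ hξ => by
        have := hc ξ hξ; omega
      omega
  obtain ⟨ξ, hξ, iY⟩ := iY
  have hξX : ξ ∉ X := fun e => Finset.disjoint_left.1 h.disj e hξ
  have hξA : ξ ∉ insert (oneIrr G) A := fun e => hξX (by
    rcases Finset.mem_insert.1 e with rfl | e
    exacts [hone, (mA ξ e).1])
  have hξA' : ξ ∉ A' := fun e => hξX (mA' ξ e).1
  have dA : ∀ χ ∈ A, 2 * (n + 1) ≤ charDegree χ.1 := fun χ hχ => by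
    obtain ⟨h2, h3, h4⟩ := mA χ hχ
    have := h.two_le_fx hg h2 h3 h4
    have h5 := (h.degX h2).1
    rw [h3, ← hte] at h5
    push_cast at h5
    nlinarith
  have dA' : ∀ χ ∈ A', 2 * n ≤ charDegree χ.1 := fun χ hχ => by
    obtain ⟨h2, h3⟩ := mA' χ hχ
    have h5 := (h.degX h2).1
    rw [h3, ← hte] at h5
    push_cast at h5
    nlinarith
  have dξ : (δ = 1 → n ≤ charDegree ξ.1) ∧ (δ = -1 → n + 1 ≤ charDegree ξ.1) := by
    obtain ⟨h2, h3⟩ := h.degY hξ
    rw [← hte] at h2
    push_cast at h2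
    constructor <;> rintro rfl <;> nlinarith
  have hdisj : Disjoint (insert (oneIrr G) A) A' := Finset.disjoint_left.2 fun χ h2 h3 => by
    have := (mA' χ h3).2
    rcases Finset.mem_insert.1 h2 with rfl | h2
    · rw [h.a_one hone] at this; omega
    · rw [(mA χ h2).2.1] at this; omega
  have hY : ∀ g, ¬ p ∣ orderOf g → ∑ ξ ∈ Y, ξ.1 g / ξ.1 1 = 2 * (ξ.1 g / ξ.1 1) := fun g hg => by
    rw [Finset.sum_congr rfl fun ξ' hξ' => by
      rw [h.agree hξ' hξ hg, h.agree hξ' hξ h.reg_one], Finset.sum_const, h.cardY]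
    simp
  let w : IrrCharacter G → ℕ := fun χ => if χ = oneIrr G then 1 else if χ ∈ A then 2 * (n + 1)
    else if χ ∈ A' then 2 * n else if δ = 1 then n else n + 1
  have w1 : w (oneIrr G) = 1 := if_pos rfl
  have wA : ∀ χ ∈ A, w χ = 2 * (n + 1) := fun χ hχ => by simp [w, (mA χ hχ).2.2, hχ]
  have wA' : ∀ χ ∈ A', w χ = 2 * n := fun χ hχ => by
    have := Finset.disjoint_right.1 hdisj hχ
    rw [Finset.mem_insert, not_or] at this
    simp [w, this.1, this.2, hχ]
  have wξ : w ξ = if δ = 1 then n else n + 1 := by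
    rw [Finset.mem_insert, not_or] at hξA
    simp [w, hξA.1, hξA.2, hξA']
  have k1 : ∀ χ ∈ insert (oneIrr G) A, classInner D χ.1 ≠ 0 ∧ w χ ≤ charDegree χ.1 := fun χ hχ => by
    rcases Finset.mem_insert.1 hχ with rfl | hχ
    · exact ⟨(iX _ hone).1 (h.a_one hone), w1.trans_le charDegree_one_fun.ge⟩
    · exact ⟨(iX χ (mA χ hχ).1).1 (mA χ hχ).2.1, (wA χ hχ).trans_le (dA χ hχ)⟩
  have k2 : ∀ χ ∈ A', classInner D' χ.1 ≠ 0 ∧ w χ ≤ charDegree χ.1 := fun χ hχ =>
    ⟨(iX χ (mA' χ hχ).1).2 (mA' χ hχ).2, (wA' χ hχ).trans_le (dA' χ hχ)⟩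
  have s1 : ∑ χ ∈ insert (oneIrr G) A, w χ = 1 + A.card * (2 * (n + 1)) := by
    rw [Finset.sum_insert h1A, w1, Finset.sum_const_nat wA]
  have s2 : ∑ χ ∈ A', w χ = A'.card * (2 * n) := Finset.sum_const_nat wA'
  have vA : ∀ g, p ∣ orderOf g → ∑ χ ∈ A, χ.1 g = A.card := fun g hg => by
    rw [Finset.sum_congr rfl fun χ hχ => by rw [h.valX χ (mA χ hχ).1 g hg, (mA χ hχ).2.1]]
    simp
  have vA' : ∀ g, p ∣ orderOf g → ∑ χ ∈ A', χ.1 g = -A'.card := fun g hg => by
    rw [Finset.sum_congr rfl fun χ hχ => by rw [h.valX χ (mA' χ hχ).1 g hg, (mA' χ hχ).2]]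
    simp
  have hn0 : (n : ℂ) ≠ 0 := by exact_mod_cast hn.ne'
  have hn1 : (n : ℂ) + 1 ≠ 0 := by exact_mod_cast n.succ_ne_zero
  have fin : (∀ χ ∈ A, χ.1 1 = w χ) → (∀ χ ∈ A', χ.1 1 = w χ) → ∀ g,
      ∑ χ ∈ X, 4 * (χ.1 g / χ.1 1) =
        4 + 2 * (∑ χ ∈ A, χ.1 g) / (n + 1) + 2 * (∑ χ ∈ A', χ.1 g) / n := fun e e' g => by
    rw [hsum, Finset.mul_sum, Finset.mul_sum, Finset.sum_div, Finset.sum_div]
    refine congrArg₂ _ (congrArg₂ _ (by simp) ?_) ?_
    · exact Finset.sum_congr rfl fun χ hχ => by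
        rw [e χ hχ, wA χ hχ]; push_cast; field_simp; ring
    · exact Finset.sum_congr rfl fun χ hχ => by
        rw [e' χ hχ, wA' χ hχ]; push_cast; field_simp; ring
  rcases h.sign with rfl | rfl
  · obtain ⟨l1, e1⟩ := eq_sum_of_weight hD (fun χ hχ => (k1 χ hχ).1) fun χ hχ => (k1 χ hχ).2
    obtain ⟨l2, e2⟩ := eq_sum_of_weight hD' (S := insert ξ A') (w := w)
      (by rw [Finset.forall_mem_insert]; exact ⟨iY.2 rfl, fun χ hχ => (k2 χ hχ).1⟩)
      (by rw [Finset.forall_mem_insert, wξ]; exact ⟨dξ.1 rfl, fun χ hχ => (k2 χ hχ).2⟩)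
    rw [Finset.sum_insert hξA', wξ, if_pos rfl, s2, hd'] at l2 e2
    rw [s1, hd] at l1 e1
    have c1 : 2 * A.card + 1 ≤ n := by nlinarith
    have c2 : 2 * A'.card + 1 ≤ n := by nlinarith
    have c3 : 2 * A.card + 1 = n := by omega
    have c4 : 2 * A'.card + 1 = n := by omega
    replace e1 := e1 (by nlinarith)
    obtain ⟨rfl, e1⟩ := e1
    replace e2 := e2 (by nlinarith)
    obtain ⟨rfl, e2⟩ := e2
    refine ⟨inner_sum_sum_eq_zero (by rw [Finset.disjoint_insert_right]; exact ⟨hξA, hdisj⟩),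
      fun g hg => ?_, fun g hg => ⟨fun _ => ?_, by omega⟩⟩
    · rw [fin (fun χ hχ => e1 χ (by simp [hχ])) (fun χ hχ => e2 χ (by simp [hχ])), hY g hg,
        e2 ξ (by simp), wξ]
      simp only [Finset.sum_apply, Finset.sum_insert h1A, Finset.sum_insert hξA', coe_oneIrr,
        if_true]
      ring
    · simp only [Finset.sum_apply, Finset.sum_insert h1A, coe_oneIrr, vA g hg, ← c3]
      push_cast; ring
  · obtain ⟨l1, e1⟩ := eq_sum_of_weight hD (S := insert ξ (insert (oneIrr G) A)) (w := w)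
      (by rw [Finset.forall_mem_insert]; exact ⟨iY.1 rfl, fun χ hχ => (k1 χ hχ).1⟩)
      (by rw [Finset.forall_mem_insert, wξ]; exact ⟨dξ.2 rfl, fun χ hχ => (k1 χ hχ).2⟩)
    obtain ⟨l2, e2⟩ := eq_sum_of_weight hD' (fun χ hχ => (k2 χ hχ).1) fun χ hχ => (k2 χ hχ).2
    rw [Finset.sum_insert hξA, wξ, if_neg (by omega), s1, hd] at l1 e1
    rw [s2, hd'] at l2 e2
    have c1 : 2 * A.card + 2 ≤ n := by nlinarith
    have c2 : 2 * A'.card ≤ n := by nlinarith
    have c3 : 2 * A.card + 2 = n := by omega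
    have c4 : 2 * A'.card = n := by omega
    replace e1 := e1 (by nlinarith)
    obtain ⟨rfl, e1⟩ := e1
    replace e2 := e2 (by nlinarith)
    obtain ⟨rfl, e2⟩ := e2
    refine ⟨inner_sum_sum_eq_zero (by rw [Finset.disjoint_insert_left]; exact ⟨hξA', hdisj⟩),
      fun g hg => ?_, fun g hg => ⟨by omega, fun _ => ?_⟩⟩
    · rw [fin (fun χ hχ => e1 χ (by simp [hχ])) e2, hY g hg, e1 ξ (by simp), wξ, if_neg (by omega)]
      simp only [Finset.sum_apply, Finset.sum_insert h1A, Finset.sum_insert hξA, coe_oneIrr]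
      push_cast; ring
    · simp only [Finset.sum_apply, vA' g hg, ← c4]
      push_cast; ring

theorem conv_sing {M : Ideal AlgInt} (hM : IsPModular p M)
    (hB : ∀ χ, χ ∈ principalBlock M G ↔ χ ∈ X ∨ χ ∈ Y) {c : ℝ}
    (hc : (Finset.univ.filter fun g : G => p ∣ orderOf g).card = 2 * c * Nat.card G) (g : G) :
    ∑ x, (if p ∣ orderOf x then (1 : ℂ) else 0) * (if p ∣ orderOf (x * g) then 1 else 0) =
      Nat.card G * c ^ 2 * (∑ χ ∈ X, 4 * (χ.1 g / χ.1 1) + ∑ ξ ∈ Y, ξ.1 g / ξ.1 1) := by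
  set ψ : G → ℂ := fun g => if p ∣ orderOf g then 1 else 0 with hψ
  have h0 : ∀ g, ¬ p ∣ orderOf g → ψ g = 0 := fun g hg => if_neg hg
  have hone := h.one_mem_X (by omega)
  have h1 : classInner ψ (fun _ => 1) = 2 * c := by
    refine mul_left_cancel₀ (card_ne_zero (G := G)) ?_
    rw [card_mul_classInner, mul_comm]
    simpa [hψ] using congrArg (fun x : ℝ => (x : ℂ)) hc
  have h2 : ψ = (oneIrr G).1 - pRegularPart p (oneIrr G).1 := funext fun g => by
    by_cases hg : p ∣ orderOf g <;> simp [hψ, pRegularPart, IsPRegular, hg]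
  have h3 : ∀ χ, χ ∉ X → χ ∉ Y → classInner ψ χ.1 = 0 := fun χ h4 h5 => by
    rw [h2, classInner_sub_left, classInner_irr_ne (χ := oneIrr G) (ψ := χ) fun e => h4 (e ▸ hone),
      classInner_pRegularPart_eq_zero hM (isV_blockIdem hM isPBlock_principalBlock)
        (oneIrr_mem_principalBlock hM) (by rw [hB]; tauto), sub_zero]
  have h4 : ∀ ξ ∈ Y, classInner ψ ξ.1 = -δ * c := fun ξ hξ => by
    have h5 := h.innerY h0
    rw [Finset.sum_congr rfl (g := fun _ => classInner ψ ξ.1), Finset.sum_const, h.cardY, h1] at h5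
    · simp only [nsmul_eq_mul, Nat.cast_ofNat] at h5
      linear_combination h5 / 2
    · intro ξ' hξ'
      have h6 : ∀ ξ ∈ Y, classInner (oneIrr G).1 ξ.1 = 0 := fun ξ hξ =>
        classInner_irr_ne fun e => Finset.disjoint_left.1 h.disj hone (e ▸ hξ)
      rw [h2, classInner_sub_left, classInner_sub_left, h6 ξ hξ, h6 ξ' hξ', classInner_def,
        classInner_def]
      congr 2
      refine Finset.sum_congr rfl fun g _ => ?_
      by_cases hg : p ∣ orderOf g
      · simp [pRegularPart, IsPRegular, hg]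
      · rw [h.agree hξ hξ' hg]
  have h5 := sum_conj_mul_mul (f := ψ) (fun g x => by
    simp only [hψ]; rw [show orderOf (x * g * x⁻¹) = orderOf g from (MulAut.conj x).orderOf_eq g]) g
  rw [← Finset.sum_subset (Finset.subset_univ (X.disjUnion Y h.disj)) (fun χ _ hχ => by
    rw [Finset.mem_disjUnion, not_or] at hχ
    rw [h3 χ hχ.1 hχ.2, zero_mul, zero_mul]), Finset.sum_disjUnion] at h5
  rw [mul_assoc, mul_add, Finset.mul_sum, Finset.mul_sum]
  convert h5 using 3
  · simp [hψ, apply_ite conj]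
  · refine Finset.sum_congr rfl fun χ hχ => ?_
    rw [h.innerX h0 hχ, h1]
    rcases h.a_sign χ hχ with e | e <;> simp [e, map_ofNat] <;> ring
  · refine Finset.sum_congr rfl fun χ hχ => ?_
    rw [h4 χ hχ]
    rcases h.sign with e | e <;> simp [e, pow_two]

theorem half_bound {M : Ideal AlgInt} (hM : IsPModular p M)
    (hB : ∀ χ, χ ∈ principalBlock M G ↔ χ ∈ X ∨ χ ∈ Y) (hg : normalClosure (P : Set G) = ⊤)
    {χ χ' : IrrCharacter G} (hne : χ ≠ χ') (hk : charKer χ.1 = ⊥) (hd : charDegree χ.1 = n)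
    (hr : ∀ g, ¬ p ∣ orderOf g → χ'.1 g = χ.1 g)
    (hs : ∀ g, p ∣ orderOf g → ‖χ.1 g + χ'.1 g‖ = 1) (hn : 2 ≤ n) :
    Nat.card G ≤ 2 * p * n * (n + 1) * Nat.card (center G) := by
  have h1 : χ.1 1 = n := by rw [← irr_degree_cast, hd]
  have h1' : χ'.1 1 = n := (hr 1 h.reg_one).trans h1
  have key : ∀ χ χ' : IrrCharacter G, χ ≠ χ' → χ.1 1 = n → (∀ g, ¬ p ∣ orderOf g → χ'.1 g = χ.1 g) →
      _ := fun χ χ' hne h1 hr => h.half_decomp hg
    (D := χ.1 * fun g => conj (χ.1 g)) (D' := χ.1 * fun g => conj (χ'.1 g))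
    (isChar_mul (irr_isChar _) (isChar_conj (irr_isChar _)))
    (isChar_mul (irr_isChar _) (isChar_conj (irr_isChar _))) (fun g hg => by simp [hr g hg])
    (by rw [classInner_sub_left, ← classInner_eq_one_right, ← classInner_eq_one_right,
      classInner_irr_self, classInner_irr_ne hne, sub_zero])
    (charDegree_of_eq (by simp [h1])) (charDegree_of_eq (by simp [h1, hr 1 h.reg_one]))
  obtain ⟨k1, k2, k3⟩ := key χ χ' hne h1 hr
  obtain ⟨-, -, k4⟩ := key χ' χ hne.symm h1' fun g hg => (hr g hg).symm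
  clear key
  have hp : (p : ℝ) = 2 * n + 1 := by exact_mod_cast h.te.symm
  have hS : ∀ g, p ∣ orderOf g → ‖χ.1 g‖ ^ 2 + ‖χ'.1 g‖ ^ 2 = n + 1 ∧
      2 * (χ.1 g * conj (χ'.1 g)).re = -n ∧ ‖χ.1 g - χ'.1 g‖ ^ 2 = p := fun g hg => by
    have e1 := congrArg (· ^ 2) (hs g hg)
    simp only [← Complex.normSq_eq_norm_sq, Complex.normSq_add, Complex.normSq_sub, hp] at e1 ⊢
    rcases h.sign with e | e
    · have e2 := congrArg Complex.re ((k3 g hg).1 e)
      have e3 := congrArg Complex.re ((k4 g hg).1 e)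
      simp only [Pi.mul_apply, Complex.mul_conj, Complex.re_ofNat, Complex.mul_re, Complex.ofReal_re,
        Complex.im_ofNat, zero_mul, sub_zero, Complex.add_re, Complex.natCast_re,
        Complex.one_re] at e2 e3
      refine ⟨?_, ?_, ?_⟩ <;> linarith
    · have e2 := congrArg Complex.re ((k3 g hg).2 e)
      rw [two_mul, Complex.add_re, Pi.mul_apply, Complex.neg_re, Complex.natCast_re] at e2
      refine ⟨?_, ?_, ?_⟩ <;> linarith
  set N : ℝ := (Nat.card G : ℝ) with hN
  have hN0 : 0 < N := by rw [hN]; exact_mod_cast Nat.card_pos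
  have hnorm : ∀ f : G → ℂ, ∑ g, ‖f g‖ ^ 2 = N * (classInner f f).re := fun f => by
    rw [classInner_self_re, mul_inv_cancel_left₀ hN0.ne']
  set S := Finset.univ.filter fun g : G => p ∣ orderOf g with hSdef
  set R := Finset.univ.filter fun g : G => ¬ p ∣ orderOf g with hRdef
  have split : ∀ F : G → ℝ, ∑ g, F g = ∑ g ∈ S, F g + ∑ g ∈ R, F g := fun F =>
    (Finset.sum_filter_add_sum_filter_not _ _ _).symm
  have mS : ∀ g ∈ S, p ∣ orderOf g := fun g hg => (Finset.mem_filter.1 hg).2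
  have mR : ∀ g ∈ R, ¬ p ∣ orderOf g := fun g hg => (Finset.mem_filter.1 hg).2
  have c1 : (S.card : ℝ) * p = 2 * N := by
    have := hnorm (χ.1 - χ'.1)
    simp only [Pi.sub_apply] at this
    rw [split, classInner_sub_left, classInner_sub_right, classInner_sub_right, classInner_irr_self,
      classInner_irr_self, classInner_irr_ne hne, classInner_irr_ne hne.symm,
      Finset.sum_congr rfl (g := fun _ => (p : ℝ)) fun g hg => (hS g (mS g hg)).2.2,
      Finset.sum_eq_zero (s := R) fun g hg => by simp [hr g (mR g hg)]] at this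
    norm_num at this
    linarith
  have hp0 : (0 : ℝ) < p := by rw [hp]; positivity
  have hn2 : (2 : ℝ) ≤ n := by exact_mod_cast hn
  have hle : ∀ g ∈ R, g ∉ center G → ‖χ.1 g‖ ≤ 1 := fun g hg hz => by
    have l1 : ‖χ.1 g‖ < n := lt_of_le_of_ne (isChar_norm_le (irr_isChar χ) g h1) fun e => hz (by
      rw [← charCenter_eq_center χ.2 hk, mem_charCenter_iff (irr_isChar χ), e, h1]; simp)
    have l2 := h.conv_sing hM hB (c := (p : ℝ)⁻¹) (by field_simp; linarith) g
    rw [k2 g (mR g hg)] at l2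
    simp only [Pi.mul_apply, hr g (mR g hg), Complex.mul_conj, Complex.normSq_eq_norm_sq] at l2
    have l3 : ∑ x, conj ((χ.1 - χ'.1) x) * (χ.1 - χ'.1) (x * g) = 2 * N / n * χ.1 g := by
      simp only [Pi.sub_apply, map_sub, sub_mul, mul_sub, Finset.sum_sub_distrib]
      rw [isIrr_sum_conj_mul_mul χ.2 χ.2, isIrr_sum_conj_mul_mul χ.2 χ'.2,
        isIrr_sum_conj_mul_mul χ'.2 χ.2, isIrr_sum_conj_mul_mul χ'.2 χ'.2, if_pos rfl, if_pos rfl,
        if_neg fun e => hne (Subtype.ext e), if_neg fun e => hne (Subtype.ext e).symm, h1, h1',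
        hr g (mR g hg), hN]
      push_cast; ring
    have l4 : ∀ x, ‖(χ.1 - χ'.1) x‖ = √p * if p ∣ orderOf x then 1 else 0 := fun x => by
      split_ifs with hx
      · rw [← (hS x hx).2.2, Real.sqrt_sq (norm_nonneg _), mul_one, Pi.sub_apply]
      · simp [hr x hx]
    have l5 := norm_sum_le Finset.univ fun x => conj ((χ.1 - χ'.1) x) * (χ.1 - χ'.1) (x * g)
    rw [l3] at l5
    simp only [norm_mul, Complex.norm_conj, l4, mul_mul_mul_comm √(p : ℝ) _ √(p : ℝ),
      Real.mul_self_sqrt hp0.le, ← Finset.mul_sum] at l5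
    have l6 : ∑ x, (if p ∣ orderOf x then (1 : ℝ) else 0) * (if p ∣ orderOf (x * g) then 1 else 0) =
        N * (p : ℝ)⁻¹ ^ 2 * (4 + 2 * (‖χ.1 g‖ ^ 2 - 1) / (n + 1) + 2 * ‖χ.1 g‖ ^ 2 / n) := by
      apply Complex.ofReal_injective
      simpa [hN, apply_ite Complex.ofReal] using l2
    rw [l6, norm_div, norm_mul, Complex.norm_real, Real.norm_of_nonneg hN0.le, Complex.norm_natCast,
      Complex.norm_ofNat, hp] at l5
    have l7 : ‖χ.1 g‖ * (n + 1) ≤ n + ‖χ.1 g‖ ^ 2 := by
      have e : (2 * n + 1 : ℝ) * (N * (2 * n + 1 : ℝ)⁻¹ ^ 2 * (4 + 2 * (‖χ.1 g‖ ^ 2 - 1) / (n + 1) +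
          2 * ‖χ.1 g‖ ^ 2 / n)) = 2 * N / n * ((n + ‖χ.1 g‖ ^ 2) / (n + 1)) := by
        field_simp; ring
      rw [e] at l5
      exact (le_div_iff₀ (by positivity)).1 (le_of_mul_le_mul_left l5 (by positivity))
    nlinarith
  have c2 := hnorm χ.1
  have c3 := hnorm χ'.1
  rw [split, classInner_irr_self, Complex.one_re] at c2 c3
  rw [Finset.sum_congr rfl (s₁ := R) fun g hg => by rw [hr g (mR g hg)]] at c3
  have c4 : ∑ g ∈ S, ‖χ.1 g‖ ^ 2 + ∑ g ∈ S, ‖χ'.1 g‖ ^ 2 = S.card * (n + 1) := by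
    rw [← Finset.sum_add_distrib, Finset.sum_congr rfl fun g hg => (hS g (mS g hg)).1,
      Finset.sum_const, nsmul_eq_mul]
  have c5 : -n / 2 * ∑ g ∈ S, ‖χ.1 g‖ ^ 2 + ∑ g ∈ R, (‖χ.1 g‖ ^ 2) ^ 2 = 0 := by
    have := congrArg Complex.re (card_mul_classInner (χ.1 * fun g => conj (χ'.1 g))
      (χ.1 * fun g => conj (χ.1 g)))
    rw [classInner_eq_zero_comm.1 k1, mul_zero, Complex.zero_re, Complex.re_sum, split] at this
    rw [this, Finset.mul_sum]
    congr 1 <;> refine Finset.sum_congr rfl fun g hg => ?_ <;>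
      simp only [Pi.mul_apply, Complex.mul_conj, Complex.conj_ofReal, Complex.re_mul_ofReal,
        Complex.normSq_eq_norm_sq]
    · rw [← (hS g (mS g hg)).2.1]; ring
    · rw [hr g (mR g hg), Complex.mul_conj, Complex.ofReal_re, Complex.normSq_eq_norm_sq, ← pow_two]
  have c6 : ∑ g ∈ R, ((‖χ.1 g‖ ^ 2) ^ 2 - ‖χ.1 g‖ ^ 2) ≤
      Nat.card (center G) * ((n ^ 2) ^ 2 - n ^ 2 : ℝ) := by
    calc _ ≤ ∑ g ∈ R, if g ∈ center G then ((n ^ 2) ^ 2 - n ^ 2 : ℝ) else 0 := by
          refine Finset.sum_le_sum fun g hg => ?_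
          split_ifs with hz
          · rw [(mem_charCenter_iff (irr_isChar χ)).1 (center_le_charCenter χ.2 hz), h1]; simp
          · have := hle g hg hz
            have : ‖χ.1 g‖ ^ 2 ≤ 1 := by nlinarith [norm_nonneg (χ.1 g)]
            nlinarith [sq_nonneg ‖χ.1 g‖]
      _ ≤ ∑ g, if g ∈ center G then ((n ^ 2) ^ 2 - n ^ 2 : ℝ) else 0 :=
          Finset.sum_le_sum_of_subset_of_nonneg (Finset.subset_univ _) fun g _ _ => by
            split_ifs
            · nlinarith [show (4 : ℝ) ≤ n ^ 2 by nlinarith]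
            · exact le_rfl
      _ = _ := by
          rw [← Finset.sum_filter, Finset.sum_const, nsmul_eq_mul, Nat.card_eq_fintype_card,
            Fintype.card_subtype]
  rw [Finset.sum_sub_distrib] at c6
  have c7 : N * (n * (n - 1)) ≤ 2 * p * n * (n + 1) * Nat.card (center G) * (n * (n - 1)) := by
    have e1 : ∑ g ∈ S, ‖χ.1 g‖ ^ 2 = S.card * (n + 1) / 2 := by linarith
    have e2 : 2 * p * (∑ g ∈ R, (‖χ.1 g‖ ^ 2) ^ 2 - ∑ g ∈ R, ‖χ.1 g‖ ^ 2) = N * (n * (n - 1)) := by
      rw [e1] at c2 c5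
      rw [eq_neg_of_add_eq_zero_right c5, eq_sub_of_add_eq' c2]
      linear_combination ((n + 1) * (n + 2) / 2) * c1 - 2 * N * hp
    rw [← e2]
    refine (mul_le_mul_of_nonneg_left c6 (by positivity)).trans (le_of_eq (by ring))
  have := le_of_mul_le_mul_right c7 (by nlinarith)
  rw [hN] at this
  exact_mod_cast this

theorem eta_add (lam μ : NT P) (hμ : ¬ LRel lam.1 μ.1) {x : P} (hx : x ≠ 1) :
    eta lam.1 x + eta μ.1 x = -1 := by
  obtain ⟨ξ, hξ, v⟩ := h.surj _ lam.2
  obtain ⟨ξ', hξ', v'⟩ := h.surj _ μ.2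
  have hδ : (δ : ℂ) ≠ 0 := by rcases h.sign with rfl | rfl <;> simp
  replace v := fun x hx => v x hx 1 (one_mem _) h.reg_one
  replace v' := fun x hx => v' x hx 1 (one_mem _) h.reg_one
  have hne : ξ ≠ ξ' := by
    rintro rfl
    have : eta lam.1 = eta μ.1 := funext fun x => by
      by_cases hx : x = 1
      · rw [hx, h.abFrob.eta_one lam.2, h.abFrob.eta_one μ.2]
      · exact mul_left_cancel₀ hδ ((v x hx).symm.trans (v' x hx))
    have h1 := inner_eta lam.1 μ.1
    rw [this, inner_eta, if_pos (equivalence_lRel.refl _), if_neg hμ] at h1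
    exact one_ne_zero h1
  have h1 := h.sumY x (h.dvd_orderOf hx)
  rw [← Finset.eq_of_subset_of_card_le (s := {ξ, ξ'}) (t := Y) (by simp [Finset.insert_subset_iff, hξ, hξ'])
    (by rw [h.cardY, Finset.card_pair hne]), Finset.sum_pair hne, ← mul_one (x : G), v x hx,
    v' x hx] at h1
  exact mul_left_cancel₀ hδ (by linear_combination h1)

end PW

theorem OrdP.half_index (h : OrdP p P) (hg : normalClosure (P : Set G) = ⊤) (hn : ¬ P.Normal)
    {χ : G → ℂ} (hχ : IsCharacter G χ) (hk : charKer χ = ⊥) (hd : 2 * charDegree χ < p) :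
    (normalizer (P : Set G)).index = p + 1 := by
  obtain ⟨hK, h1, h2, hi⟩ := h.small_main hg hn hχ hk hd
  have hZ : ¬ P ≤ center G := fun e =>
    hn ⟨fun y hy g => by rwa [mem_center_iff.1 (e hy) g, mul_inv_cancel_right]⟩
  obtain ⟨B, θ, ζ, b, X', lam, hθ, hD, e, h3, h4⟩ := h.small_exc (ψ := ⟨χ, hi⟩) hd
    fun e => hZ (e.trans (hk.trans_le bot_le))
  obtain rfl : χ = (ζ lam).1 := congrArg Subtype.val e
  obtain ⟨M, hM⟩ := exists_isPModular h.prime
  obtain ⟨n, t, δ, X, Y, a, hw, hB⟩ := h.exists_pW' hM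
  have hte := hw.te
  have hn0 := hw.e_pos
  rw [hw.he] at h1 h3
  obtain rfl : t = 2 := Nat.eq_of_mul_eq_mul_right hn0 (by omega)
  have h5 : charDegree (ζ lam).1 = n := by omega
  have h6 : charDegree θ.1 = 1 := Nat.eq_of_mul_eq_mul_left hn0 (by rw [← h3, mul_one]; exact h5)
  simp only [h6, Nat.cast_one, one_mul] at h4
  obtain ⟨μ, hμ⟩ := h.abFrob.exists_not_lRel (by rw [hw.he, h.card]; omega) lam
  have h7 : ∀ ν, (ζ ν).1 1 = n := fun ν => by
    rw [hD.agree ν lam 1 hw.reg_one, ← irr_degree_cast, h5]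
  have h8 := hw.half_bound hM hB hg (χ := ζ lam) (χ' := ζ μ)
    (fun e => hμ (((hD.eq_iff _ _).1 e).imp fun _ => And.right)) hk h5 (hD.agree μ lam)
    (fun g hg => by
      obtain ⟨u, x, y, hx, hy, e⟩ := h.exists_conj_eq hg
      have hy' : ¬ p ∣ orderOf (y : G) := by rwa [orderOf_coe]
      have hz := hK y y.2 hy'
      have h9 := fun ν => mul_of_mem_charCenter (irr_isChar (ζ ν))
        (center_le_charCenter (ζ ν).2 hz) x
      have h10 := (mem_charCenter_iff (irr_isChar (ζ lam))).1 (center_le_charCenter (ζ lam).2 hz)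
      rw [← irr_classFun _ g u, ← irr_classFun (ζ μ) g u, e, mem_center_iff.1 hz]
      have h11 : ((ζ lam).1 (y * x) + (ζ μ).1 (y * x)) * n = -(ζ lam).1 y := by
        have e1 := h9 lam
        have e2 := h9 μ
        rw [h7, h4] at e1 e2
        rw [hD.agree μ lam y hy'] at e2
        linear_combination e1 + e2 + (ζ lam).1 y * hw.eta_add lam μ hμ hx
      have h12 := congrArg norm h11
      rw [norm_mul, norm_neg, h10, h7] at h12
      exact mul_right_cancel₀ (by simpa using hn0.ne') (h12.trans (one_mul _).symm))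
    (by
      by_contra hlt
      obtain rfl : n = 1 := by omega
      obtain ⟨l, hl⟩ := isChar_linear_of_degree_one hχ (by rw [h7, Nat.cast_one])
      exact hZ fun x _ => charCenter_le_center (isChar_classFun hχ) hk
        ((mem_charCenter_iff hχ).2 (by rw [hl, linear_norm, linear_norm])))
  have h9 : p ≤ (center G).relIndex (centralizer (P : Set G)) := by
    refine Nat.le_of_dvd (Nat.pos_of_ne_zero index_ne_zero_of_finite)
      ((h.prime.dvd_mul.1 ?_).resolve_left (mt h.le_of_dvd hZ))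
    rw [Core.card_mul_relIndex (center_le_centralizer _), ← h.card]
    exact card_dvd_of_le h.ab.comm
  rw [← (normalizer (P : Set G)).card_mul_index, ← Core.card_mul_relIndex (centralizer_le_normalizer _),
    ← Core.card_mul_relIndex (center_le_centralizer (P : Set G)), hw.he] at h8
  obtain ⟨k, hk⟩ := h.exists_index_eq
  have h10 : k ≠ 0 := by
    rintro rfl
    exact hn (normalizer_eq_top_iff.1 (index_eq_one.1 (by simpa using hk)))
  have h11 : (normalizer (P : Set G)).index ≤ p + 1 := by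
    have hz : 0 < Nat.card (center G) := Nat.card_pos
    refine Nat.le_of_mul_le_mul_left (le_trans ?_ (h8.trans (le_of_eq ?_)))
      (Nat.mul_pos (Nat.mul_pos hz h.prime.pos) hn0)
    · gcongr
    · rw [show p + 1 = 2 * (n + 1) by omega]; ring
  obtain rfl : k = 1 := by
    have := h.prime.pos
    nlinarith [Nat.pos_of_ne_zero h10, (by nlinarith : k ≤ 1)]
  omega

theorem OrdP.sc_of_index (h : OrdP p P) (hO : pPrimeCore p G = ⊥)
    (hv : (normalizer (P : Set G)).index = p + 1) : SC p P := by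
  have hp := h.prime.two_le
  have := h.faithful hO fun e => by rw [normalizer_eq_top, index_top] at hv; omega
  refine ⟨h, fun c hc => ?_⟩
  have hfix : ∀ {g : G}, g ∈ normalizer (P : Set G) → ∀ ω : G ⧸ normalizer (P : Set G),
      g • ω = (1 : G) ↔ ω = (1 : G) := fun hg ω => by
    conv_lhs => rw [← smul_one_eq_iff.2 hg]
    exact smul_left_cancel_iff _
  have : Nontrivial (G ⧸ normalizer (P : Set G)) :=
    Finite.one_lt_card_iff_nontrivial.1 (by rw [← index_eq_card]; omega)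
  obtain ⟨ω, hω⟩ := exists_ne ((1 : G) : G ⧸ normalizer (P : Set G))
  have hs : Function.Surjective fun x : P => (⟨(x : G) • ω, mt (hfix (le_normalizer x.2) ω).1 hω⟩ :
      {ω' : G ⧸ normalizer (P : Set G) // ω' ≠ (1 : G)}) := by
    refine (Function.Injective.bijective_of_nat_card_le (fun x y e => ?_) ?_).2
    · have e' : (x : G) • ω = (y : G) • ω := congrArg Subtype.val e
      exact Subtype.ext (inv_mul_eq_one.1 (h.one_of_smul_eq (mul_mem (inv_mem y.2) x.2) hω
        (by rw [mul_smul, e', inv_smul_smul]))).symm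
    · rw [Nat.card_eq_fintype_card, Fintype.card_subtype_compl, Fintype.card_subtype_eq,
        ← Nat.card_eq_fintype_card, ← index_eq_card, hv, h.card]
      omega
  have hc' := centralizer_le_normalizer _ hc
  obtain ⟨x, hx⟩ := hs ⟨c • ω, mt (hfix hc' ω).1 hω⟩
  have hx' : (x : G) • ω = c • ω := congrArg Subtype.val hx
  rw [← FaithfulSMul.eq_of_smul_eq_smul (α := G ⧸ normalizer (P : Set G)) (m₁ := (x : G))
    (m₂ := c) fun ω' => ?_]
  · exact x.2
  by_cases h1 : ω' = (1 : G)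
  · rw [(hfix hc' _).2 h1, (hfix (le_normalizer x.2) _).2 h1]
  · obtain ⟨y, hy⟩ := hs ⟨ω', h1⟩
    obtain rfl : (y : G) • ω = ω' := congrArg Subtype.val hy
    rw [smul_smul, smul_smul, ← hc y y.2, ← h.ab.comm x.2 y y.2, mul_smul, mul_smul, hx']

/-- Brauer's theorem on groups with a faithful character of degree `(p - 1) / 2`. -/
theorem OrdP.psl_of_small (h : OrdP p P) (hn : ¬ P.Normal) {χ : G → ℂ} (hχ : IsCharacter G χ)
    (hk : charKer χ = ⊥) (hd : 2 * charDegree χ < p) :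
    Nonempty (G ⧸ center G ≃* Matrix.ProjectiveSpecialLinearGroup (Fin 2) (ZMod p)) := by
  have := Fact.mk h.prime
  have hZ : ¬ P ≤ center G := fun e =>
    hn ⟨fun y hy g => by rwa [mem_center_iff.1 (e hy) g, mul_inv_cancel_right]⟩
  set H := normalClosure (P : Set G) with hH
  have hPH : P ≤ H := le_normalClosure
  have h' := h.subgroupOf hPH
  have hn' := mt h.normal_of_subgroupOf hn
  obtain ⟨-, h1, h2, h3⟩ := h'.small_main h.normalClosure_subgroupOf hn' (isChar_res _ hχ)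
    (faithful_res hχ hk _) hd
  have h4 := h'.half_index h.normalClosure_subgroupOf hn' (isChar_res _ hχ)
    (faithful_res hχ hk _) hd
  have h5 : (normalizer (P : Set G)).index = p + 1 := by
    rw [← subgroupOf_normalizer_eq hPH] at h4
    rw [← h4, Core.index_eq_relIndex_of_sup_eq_top' ((sup_comm _ _).trans (h.frattini hPH))]
    rfl
  have h6 : center G = pPrimeCore p G := le_antisymm (h.le_pPrimeCore hZ) fun k hk' => by
    have h7 : H ≤ centralizer ({k} : Set G) :=
      (normalClosure_le_normal (N := centralizer (pPrimeCore p G : Set G))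
        (le_centralizer_iff.1 (h.pPrimeCore_le_of_small hχ hk hd))).trans
        (centralizer_le (Set.singleton_subset_iff.2 hk'))
    have h8 : IsIrrCharacter (centralizer ({k} : Set G)) fun x => χ x :=
      isIrr_of_isIrr_res (H.subgroupOf _) (isChar_res _ hχ)
        (isIrr_comp_equiv (subgroupOfEquivOfLe h7) h3)
    refine charCenter_le_center (isChar_classFun hχ) hk ((mem_charCenter_iff hχ).2 ?_)
    exact (mem_charCenter_iff (isIrr_isChar h8)).1 (center_le_charCenter h8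
      (show (⟨k, mem_centralizer_singleton_iff.2 rfl⟩ : centralizer ({k} : Set G)) ∈ center _ from
        mem_center_iff.2 fun g => Subtype.ext (mem_centralizer_singleton_iff.1 g.2)))
  have h7 : 2 * (centralizer (P : Set G)).relIndex (normalizer (P : Set G)) + 1 = p := by
    obtain ⟨B, θ, ζ, b, X', lam, -, -, -, h8, -⟩ := h.small_exc
      (ψ := ⟨χ, isIrr_of_isIrr_res H hχ h3⟩) hd fun e => hZ (e.trans (hk.trans_le bot_le))
    have h9 := Nat.le_of_dvd (Nat.pos_of_ne_zero index_ne_zero_of_finite)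
      (h.relIndex_normalClosure_dvd hPH)
    have h10 := Nat.le_mul_of_pos_right ((centralizer (P : Set G)).relIndex (normalizer (P : Set G)))
      (Nat.pos_of_ne_zero (isIrr_charDegree_ne_zero θ.2))
    change charDegree χ = _ at h8
    change p = 2 * charDegree χ + 1 at h2
    rw [← relIndex] at h9
    omega
  have hK : ¬ p ∣ Nat.card (center G) := mt h.le_of_dvd hZ
  have := Fintype.ofFinite (G ⧸ center G)
  have hq := h.map_mk _ hK
  have hO : pPrimeCore p (G ⧸ center G) = ⊥ := by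
    have key : ∀ (K : Subgroup G) [K.Normal], K = pPrimeCore p G → pPrimeCore p (G ⧸ K) = ⊥ := by
      rintro _ _ rfl
      exact Core.pPrimeCore_quotient_pPrimeCore p
    exact key _ h6
  have hZN : center G ≤ centralizer (P : Set G) := center_le_centralizer _
  have h8 : ((normalizer (P : Set G)).map (QuotientGroup.mk' (center G))).index = p + 1 := by
    rw [index_map_eq _ (QuotientGroup.mk'_surjective _) (by
      rw [QuotientGroup.ker_mk']; exact hZN.trans (centralizer_le_normalizer _)), h5]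
  have h9 : (normalizer (P.map (QuotientGroup.mk' (center G)) : Set (G ⧸ center G))).index =
      p + 1 := by
    obtain ⟨k, hk⟩ := hq.exists_index_eq
    have h10 := Nat.le_of_dvd (by omega) (h5 ▸ index_normalizer_map_dvd (P := P) (center G))
    have h11 : k ≠ 0 := by
      rintro rfl
      have h12 := normalizer_eq_top_iff.1 (index_eq_one.1 (hk.trans (by simp)))
      refine hn (h.normal_of_conj fun x hx g => ?_)
      have h13 := (h12.comap (QuotientGroup.mk' _)).conj_mem x (mem_map_of_mem _ hx) g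
      rw [comap_map_eq, QuotientGroup.ker_mk'] at h13
      exact sup_le le_normalizer (hZN.trans (centralizer_le_normalizer _)) h13
    obtain rfl : k = 1 := by
      have := h.prime.pos
      nlinarith [Nat.pos_of_ne_zero h11, (by nlinarith : k ≤ 1)]
    omega
  refine (hq.sc_of_index hO h9).psl_of_index hO h9 ?_
  rw [← eq_of_le_of_card_ge (le_normalizer_map (QuotientGroup.mk' (center G))) (le_of_eq
      (Nat.eq_of_mul_eq_mul_right p.succ_pos (by
        rw [← Nat.add_one, ← h9, card_mul_index, h9, ← h8, card_mul_index]))),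
    Core.centralizer_map_mk' P _ (by rw [h.card]; exact (h.prime.coprime_iff_not_dvd).2 hK)
      (Or.inr (Group.isSolvable_of_comm fun a b => Subtype.ext (mem_center_iff.1 b.2 a))),
    relIndex_map_map, QuotientGroup.ker_mk', sup_eq_left.2 hZN,
    sup_eq_left.2 (hZN.trans (centralizer_le_normalizer _)), h7]

end Cfsg.Agent.Block
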