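import Mathlib
import Cfsg.Agent.Block.Mod3
import Cfsg.Agent.Block.Tate
import Cfsg.Agent.Block.SelfC

/-! The simple modules of a group algebra and ranks of idempotents. -/

namespace Cfsg.Agent.Block

open Cfsg Cfsg.Agent.Char MonoidAlgebra Subgroup Module
open scoped _root_.Classical ComplexConjugate

section Lin

variable {k W : Type*} [Field k] [AddCommGroup W] [Module k W] [FiniteDimensional k W]

theorem mul_finrank_range_pow_le {t : End k W} {n : ℕ} (h : t ^ (n + 1) = 0) :
    (n + 1) * finrank k (LinearMap.range (t ^ n)) ≤ finrank k W := by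
  suffices H : ∀ j ≤ n + 1, j * finrank k (LinearMap.range (t ^ n)) +
      finrank k (LinearMap.range (t ^ j)) ≤ finrank k W from (Nat.le_add_right _ _).trans (H _ le_rfl)
  intro j hj
  induction j with
  | zero => simpa using Submodule.finrank_le _
  | succ j ih =>
    have h1 := LinearMap.finrank_range_add_finrank_ker (t.domRestrict (LinearMap.range (t ^ j)))
    have h2 : LinearMap.range (t ^ n) ≤ LinearMap.range (t ^ j) := by
      rw [← Nat.add_sub_cancel' (show j ≤ n by omega), pow_add]
      exact LinearMap.range_comp_le_range _ _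
    have h3 : (LinearMap.range (t ^ n)).comap (LinearMap.range (t ^ j)).subtype ≤
        LinearMap.ker (t.domRestrict (LinearMap.range (t ^ j))) := by
      rintro ⟨v, hv⟩ ⟨w, hw⟩
      change t v = 0
      rw [← show (t ^ n) w = v from hw, ← End.mul_apply, ← pow_succ', h, LinearMap.zero_apply]
    have h4 := Submodule.finrank_mono h3
    rw [(Submodule.comapSubtypeEquivOfLe h2).finrank_eq] at h4
    rw [LinearMap.range_domRestrict, ← LinearMap.range_comp, ← End.mul_eq_comp, ← pow_succ'] at h1
    have := ih (by omega)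
    rw [add_mul]
    omega

theorem finrank_range_add {f g : End k W} (hf : f * f = f) (hg : g * g = g) (hfg : f * g = 0)
    (hgf : g * f = 0) : finrank k (LinearMap.range (f + g)) =
      finrank k (LinearMap.range f) + finrank k (LinearMap.range g) := by
  have h1 : LinearMap.range (f + g) = LinearMap.range f ⊔ LinearMap.range g := by
    refine le_antisymm (LinearMap.range_add_le _ _) (sup_le ?_ ?_)
    · rintro _ ⟨v, rfl⟩
      exact ⟨f v, by rw [← End.mul_apply, add_mul, hf, hgf, add_zero]⟩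
    · rintro _ ⟨v, rfl⟩
      exact ⟨g v, by rw [← End.mul_apply, add_mul, hg, hfg, zero_add]⟩
  have h2 : LinearMap.range f ⊓ LinearMap.range g = ⊥ := by
    rw [eq_bot_iff]
    rintro _ ⟨⟨v, rfl⟩, w, hw⟩
    rw [Submodule.mem_bot, ← hf, End.mul_apply, ← hw, ← End.mul_apply, hfg, LinearMap.zero_apply]
  rw [h1, ← Submodule.finrank_sup_add_finrank_inf_eq, h2, finrank_bot, add_zero]

theorem finrank_range_mul_comm {a b : End k W} (h : a * b * (a * b) = a * b) :
    finrank k (LinearMap.range (a * b)) ≤ finrank k (LinearMap.range (b * a)) := by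
  rw [← h, mul_assoc, ← mul_assoc b, End.mul_eq_comp a, LinearMap.range_comp]
  exact (Submodule.finrank_map_le _ _).trans (Submodule.finrank_mono (LinearMap.range_comp_le_range _ _))

theorem sum_range_pow_eq {A : Type*} [Ring A] [Algebra k A] {p : ℕ} [hp : Fact p.Prime]
    [CharP k p] (a : A) : ∑ i ∈ Finset.range p, a ^ i = (a - 1) ^ (p - 1) := by
  have : ∑ i ∈ Finset.range p, (Polynomial.X : Polynomial k) ^ i = (Polynomial.X - 1) ^ (p - 1) := by
    refine mul_left_cancel₀ (Polynomial.X_sub_C_ne_zero (1 : k)) ?_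
    rw [map_one, mul_geom_sum, ← pow_succ', Nat.sub_add_cancel hp.out.one_le, sub_pow_char, one_pow]
  simpa [map_sum] using congrArg (Polynomial.aeval a) this

theorem mul_mul_eq_of_double {A : Type*} [Ring A] [Algebra k A] {q s a n c : A} {p e : k}
    (hp : p ≠ 0) (h : q * a * q = s - n) (e1 : q * n = p • n) (e2 : n * q = p • n)
    (e4 : n * n = (p * e) • n) (hc : Commute c n) (e3 : s * c = 0) :
    n * a * (n * c) = -(e * e) • (n * c) := by
  refine smul_right_injective _ (mul_ne_zero hp hp) ?_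
  have : (p * p) • (n * a * (n * c)) = n * (q * a * q) * (n * c) := by
    rw [← mul_assoc n, ← mul_assoc n, e2, mul_assoc _ q, ← mul_assoc q, e1]
    simp only [smul_mul_assoc, mul_smul_comm, smul_smul]
  change (p * p) • _ = (p * p) • _
  rw [this, h, mul_sub, sub_mul, ← hc.eq, mul_assoc n s, ← mul_assoc s, e3, hc.eq, e4,
    smul_mul_assoc, ← mul_assoc n n, e4]
  simp only [smul_mul_assoc, smul_smul, zero_mul, mul_zero, zero_sub, ← neg_smul]
  congr 1
  ring

end Lin

theorem SP.exists_ε_eq {Λ k : Type*} [Ring Λ] [Field k] (S : SP Λ k) {a : Λ} {i : Fin S.n}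
    (h : S.ρ a i ≠ 0) : ∃ b c, S.ε i = b * a * c := by
  obtain ⟨j, l, hc⟩ : ∃ j l, S.ρ a i j l ≠ 0 := by
    by_contra hn
    push Not at hn
    exact h (Matrix.ext hn)
  obtain ⟨b, hb⟩ := S.surj (Pi.single i (Matrix.single ⟨0, S.pos i⟩ j (S.ρ a i j l)⁻¹))
  obtain ⟨c, hc'⟩ := S.surj (Pi.single i (Matrix.single l ⟨0, S.pos i⟩ 1))
  obtain ⟨u, hu⟩ := S.unit (S.ε i * b * a * (c * S.ε i) - S.ε i) (by
    rw [map_sub, sub_eq_zero, mul_assoc (S.ε i), mul_assoc (S.ε i), ← mul_assoc (b * a), map_mul,
      map_mul, map_mul, map_mul, hb, hc', ← Pi.single_mul_left, ← Pi.single_mul,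
      Matrix.single_mul_mul_single, mul_one, inv_mul_cancel₀ hc, S.ρ_ε]
    exact (congrArg _ (S.E0_mul_self i)).trans (S.E0_mul_self i))
  refine ⟨S.ε i * b, c * S.ε i * u⁻¹, ?_⟩
  rw [← mul_assoc, Units.eq_mul_inv_iff_mul_eq, hu, mul_add, mul_sub, mul_one, S.ε_mul_self,
    add_sub_cancel]
  simp only [← mul_assoc, S.ε_mul_self]

variable {G : Type*} [Group G] [Finite G] {p : ℕ} {M : Ideal AlgInt} {B : Set (IrrCharacter G)}

omit [Finite G] in
theorem single_eq_smul_one' {R : Type*} [CommRing R] (g : G) (r : R) :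
    single g r = r • single g (1 : R) := by simp

omit [Finite G] in
theorem lin_idem_mul_eq_zero {χ : G → ℂ} (hχ : IsCharacter G χ) {j : MonoidAlgebra ℂ G}
    (hj : j * j = j) (h0 : lin χ j = 0) (y : MonoidAlgebra ℂ G) : lin χ (j * y) = 0 := by
  obtain ⟨n, ρ, rfl⟩ := hχ
  have h : IsIdempotentElem (ρ.asAlgebraHom j) := by rw [IsIdempotentElem, ← map_mul, hj]
  rw [lin_character, (LinearMap.IsIdempotentElem.isProj_range _ h).trace, Nat.cast_eq_zero,
    Submodule.finrank_eq_zero, LinearMap.range_eq_bot] at h0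
  rw [lin_character, map_mul, h0, zero_mul, map_zero]

/-- The anti-automorphism inverting the group elements. -/
noncomputable def opI : MonoidAlgebra ℂ G →ₗ[ℂ] MonoidAlgebra ℂ G :=
  mapDomainLinearMap ℂ ℂ (·⁻¹)

omit [Finite G] in
theorem opI_single (g : G) (a : ℂ) : opI (single g a) = single g⁻¹ a :=
  mapDomainLinearMap_single _ _ _

omit [Finite G] in
theorem opI_mul (x y : MonoidAlgebra ℂ G) : opI (x * y) = opI y * opI x := by
  induction x using MonoidAlgebra.induction_linear with
  | zero => simp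
  | add a b ha hb => simp only [add_mul, mul_add, map_add, ha, hb]
  | single g a =>
    induction y using MonoidAlgebra.induction_linear with
    | zero => simp
    | add a b ha hb => simp only [add_mul, mul_add, map_add, ha, hb]
    | single h b => simp only [single_mul_single, opI_single, mul_inv_rev, mul_comm]

omit [Finite G] in
theorem lin_opI (f : G → ℂ) (x : MonoidAlgebra ℂ G) : lin f (opI x) = lin (fun g => f g⁻¹) x := by
  induction x using MonoidAlgebra.induction_linear with
  | zero => simp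
  | add a b ha hb => simp only [map_add, ha, hb]
  | single g a => rw [opI_single, lin_single, lin_single]

theorem IsV.opI {x : MonoidAlgebra ℂ G} (hx : IsV M x) : IsV M (opI x) := by
  have := Fintype.ofFinite G
  rw [eq_sum_single x, map_sum]
  exact isV_sum _ fun g _ => by rw [opI_single]; exact isV_single _ (hx g)

/-- The sum over a subgroup twisted by a linear character. -/
noncomputable def sl (A : Subgroup G) (lam : A →* ℂˣ) : MonoidAlgebra ℂ G :=
  ∑ᶠ a : A, single (a : G) (lam a : ℂ)⁻¹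

/-- The idempotent of a linear character of a subgroup. -/
noncomputable def fl (A : Subgroup G) (lam : A →* ℂˣ) : MonoidAlgebra ℂ G :=
  (Nat.card A : ℂ)⁻¹ • sl A lam

section Sl

variable {A : Subgroup G} (lam μ : A →* ℂˣ)

omit [Finite G] in
theorem sl_eq [Fintype A] : sl A lam = ∑ a : A, single (a : G) (lam a : ℂ)⁻¹ :=
  finsum_eq_sum_of_fintype _

theorem single_mul_sl (a : A) : single (a : G) 1 * sl A lam = (lam a : ℂ) • sl A lam := by
  have := Fintype.ofFinite A
  rw [sl_eq, Finset.mul_sum, Finset.smul_sum]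
  refine Fintype.sum_equiv (Equiv.mulLeft a) _ _ fun b => ?_
  simp [single_mul_single, mul_comm]

theorem sl_mul_single (a : A) : sl A lam * single (a : G) 1 = (lam a : ℂ) • sl A lam := by
  have := Fintype.ofFinite A
  rw [sl_eq, Finset.sum_mul, Finset.smul_sum]
  refine Fintype.sum_equiv (Equiv.mulRight a) _ _ fun b => ?_
  simp [single_mul_single]

theorem sl_mul_of [Fintype A] {x : MonoidAlgebra ℂ G} {c : A → ℂ}
    (h : ∀ a : A, single (a : G) 1 * x = c a • x) :
    sl A lam * x = (∑ a, (lam a : ℂ)⁻¹ * c a) • x := by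
  rw [sl_eq, Finset.sum_mul, Finset.sum_smul]
  refine Finset.sum_congr rfl fun a _ => ?_
  rw [mul_smul, ← h, ← smul_mul_assoc, smul_single, smul_eq_mul, mul_one]

theorem mul_sl_of [Fintype A] {x : MonoidAlgebra ℂ G} {c : A → ℂ}
    (h : ∀ a : A, x * single (a : G) 1 = c a • x) :
    x * sl A lam = (∑ a, (lam a : ℂ)⁻¹ * c a) • x := by
  rw [sl_eq, Finset.mul_sum, Finset.sum_smul]
  refine Finset.sum_congr rfl fun a _ => ?_
  rw [mul_smul, ← h, ← mul_smul_comm, smul_single, smul_eq_mul, mul_one]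

theorem sl_mul_self : sl A lam * sl A lam = (Nat.card A : ℂ) • sl A lam := by
  have := Fintype.ofFinite A
  rw [sl_mul_of _ (single_mul_sl lam)]
  simp

theorem sl_mul_sl (h : lam ≠ μ) : sl A lam * sl A μ = 0 := by
  have := Fintype.ofFinite A
  have h1 := card_mul_classInner (fun a => (μ a : ℂ)) fun a => (lam a : ℂ)
  rw [classInner_isIrr_ne (isIrr_linear μ) (isIrr_linear lam) fun e => h (by
    ext a; exact (congrFun e a).symm), mul_zero] at h1
  simp only [linear_conj, mul_comm (μ _ : ℂ)] at h1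
  rw [sl_mul_of _ (single_mul_sl μ), ← h1, zero_smul]

theorem lin_sl [Fintype A] (f : G → ℂ) :
    lin f (sl A lam) = Nat.card A * classInner (fun a : A => f a) fun a => (lam a : ℂ) := by
  rw [card_mul_classInner, sl_eq, map_sum]
  exact Finset.sum_congr rfl fun a _ => by rw [lin_single, linear_conj, mul_comm]

theorem lam_mem_V (a : A) : (lam a : ℂ) ∈ V M :=
  mem_V_of_isIntegral _ (isChar_isIntegral (isChar_linear lam) a)

theorem isV_sl : IsV M (sl A lam) := by
  have := Fintype.ofFinite A
  rw [sl_eq]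
  exact isV_sum _ fun a _ => isV_single _ (by simpa using lam_mem_V lam a⁻¹)

theorem opI_sl : opI (sl A lam) = sl A lam⁻¹ := by
  have := Fintype.ofFinite A
  rw [sl_eq, sl_eq, map_sum]
  exact Fintype.sum_equiv (Equiv.inv A) _ _ fun b => by simp [opI_single]

theorem commute_single_sl {n : G} (hn : n ∈ normalizer (A : Set G)) :
    Commute (single n (1 : ℂ)) (sl A 1) := by
  have := Fintype.ofFinite A
  rw [Commute, SemiconjBy, sl_eq, Finset.mul_sum, Finset.sum_mul]
  refine Fintype.sum_equiv (A.normalizerMonoidHom ⟨n, hn⟩).toEquiv _ _ fun b => ?_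
  change single n 1 * single (b : G) _ = single (n * b * n⁻¹) _ * single n 1
  simp [single_mul_single]

theorem commute_sl_sl {E : Subgroup G} (hE : E ≤ normalizer (A : Set G)) (ν : E →* ℂˣ) :
    Commute (sl E ν) (sl A 1) := by
  have := Fintype.ofFinite E
  rw [sl_eq ν]
  refine Commute.sum_left _ _ _ fun a _ => ?_
  rw [← mul_one (_⁻¹), ← smul_eq_mul, ← smul_single]
  exact (commute_single_sl (hE a.2)).smul_left _

theorem fl_mul_self : fl A lam * fl A lam = fl A lam := by
  rw [fl, smul_mul_smul_comm, sl_mul_self, smul_smul, mul_assoc, inv_mul_cancel₀ card_ne_zero, mul_one]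

theorem fl_mul_fl (h : lam ≠ μ) : fl A lam * fl A μ = 0 := by
  rw [fl, fl, smul_mul_smul_comm, sl_mul_sl _ _ h, smul_zero]

theorem single_mul_fl (a : A) : single (a : G) 1 * fl A lam = (lam a : ℂ) • fl A lam := by
  rw [fl, mul_smul_comm, single_mul_sl, smul_comm]

theorem fl_mul_single (a : A) : fl A lam * single (a : G) 1 = (lam a : ℂ) • fl A lam := by
  rw [fl, smul_mul_assoc, sl_mul_single, smul_comm]

theorem lin_fl [Fintype A] (f : G → ℂ) :
    lin f (fl A lam) = classInner (fun a : A => f a) fun a => (lam a : ℂ) := by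
  rw [fl, map_smul, lin_sl, smul_eq_mul, inv_mul_cancel_left₀ card_ne_zero]

theorem isV_fl (hM : IsPModular p M) (hA : ¬ p ∣ Nat.card A) : IsV M (fl A lam) :=
  (isV_sl lam).smul (inv_mem_V_of_val_eq_one ((val_natCast_eq_one_iff hM _).2 hA))

theorem opI_fl : opI (fl A lam) = fl A lam⁻¹ := by rw [fl, map_smul, opI_sl, fl]

end Sl

namespace MS

variable (S : MS M G)

/-- The simple modules. -/
noncomputable def τ (i : Fin S.S.n) :
    MonoidAlgebra (F M) G →ₐ[F M] End (F M) (Fin (S.S.d i) → F M) :=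
  Matrix.toLinAlgEquiv'.toAlgHom.comp ((Pi.evalAlgHom _ _ i).comp S.π)

omit [Finite G] in
theorem τ_eq_zero {i : Fin S.S.n} {x : MonoidAlgebra (F M) G} : S.τ i x = 0 ↔ S.π x i = 0 :=
  map_eq_zero_iff _ Matrix.toLinAlgEquiv'.injective

omit [Finite G] in
theorem τ_surjective (i : Fin S.S.n) : Function.Surjective (S.τ i) := fun f => by
  obtain ⟨y, hy⟩ := S.S.surj (Pi.single i (Matrix.toLinAlgEquiv'.symm f))
  refine ⟨toF M G y, ?_⟩
  change Matrix.toLinAlgEquiv' (S.π (toF M G y) i) = f
  rw [← S.hρ, hy, Pi.single_eq_same, AlgEquiv.apply_symm_apply]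

theorem exists_e_eq {i : Fin S.S.n} {a : MonoidAlgebra ℂ G} (ha : IsV M a)
    (h : S.τ i (redG M a) ≠ 0) : ∃ b c, IsV M b ∧ IsV M c ∧ S.e i = b * a * c := by
  obtain ⟨y, rfl⟩ := ha.exists_toC
  rw [Ne, τ_eq_zero, redG_toC, ← S.hρ] at h
  obtain ⟨b, c, hbc⟩ := S.S.exists_ε_eq h
  exact ⟨_, _, isV_toC b, isV_toC c, by rw [e, hbc, map_mul, map_mul]⟩

theorem τ_eq_zero_of_lin {i : Fin S.S.n} {χ : IrrCharacter G} (hd : S.dn χ i ≠ 0)
    {a : MonoidAlgebra ℂ G} (ha : IsV M a) (h : ∀ y, lin χ.1 (a * y) = 0) :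
    S.τ i (redG M a) = 0 := by
  by_contra h0
  obtain ⟨b, c, -, -, hbc⟩ := S.exists_e_eq ha h0
  have := S.lin_e χ i
  rw [hbc, mul_assoc, lin_mul_comm (irr_classFun χ), mul_assoc, h] at this
  exact hd (by exact_mod_cast this.symm)

theorem lin_φ_eq_rank (i : Fin S.S.n) {x : MonoidAlgebra ℂ G} (hV : IsV M x) (hx : x * x = x) :
    lin (S.φ i) x = finrank (F M) (LinearMap.range (S.τ i (redG M x))) := by
  obtain ⟨y, rfl⟩ := hV.exists_toC
  rw [redG_toC]
  refine S.S.induction (Φ := fun y => lin (S.φ i) (toC M G y) =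
    finrank (F M) (LinearMap.range (S.τ i (toF M G y)))) (by
      rw [map_zero, map_zero, map_zero, map_zero, LinearMap.range_zero, finrank_bot, Nat.cast_zero]) ?_
    (toC_injective (by rw [map_mul, hx]))
  rintro e f j he hf hef hfe ⟨a, b, hab, hba⟩ ih
  have h1 : lin (S.φ i) (toC M G f) = finrank (F M) (LinearMap.range (S.τ i (toF M G f))) := by
    have h2 : finrank (F M) (LinearMap.range (S.τ i (toF M G f))) =
        finrank (F M) (LinearMap.range (S.τ i (toF M G (S.S.ε j)))) := by
      have h3 := S.S.ε_mul_self j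
      rw [← hba] at h3 ⊢
      rw [← hab] at hf ⊢
      rw [map_mul (toF M G) a, map_mul (toF M G) b, map_mul (S.τ i), map_mul (S.τ i)]
      refine le_antisymm (finrank_range_mul_comm ?_) (finrank_range_mul_comm ?_)
      · rw [← map_mul, ← map_mul, ← map_mul, ← map_mul, hf]
      · rw [← map_mul, ← map_mul, ← map_mul, ← map_mul, h3]
    rw [h2, ← hab, map_mul, lin_mul_comm (S.classFun_φ i), ← map_mul, hba, ← MS.e, lin_φ_e]
    change _ = ((finrank (F M) (LinearMap.range (Matrix.toLin' (S.π (toF M G _) i))) : ℕ) : ℂ)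
    rw [← S.hρ, S.S.ρ_ε, SP.E0]
    split_ifs with h
    · subst h
      rw [Pi.single_eq_same, show LinearMap.range _ = Submodule.span (F M)
        {Pi.single (⟨0, S.S.pos i⟩ : Fin (S.S.d i)) (1 : F M)} from ?_, finrank_span_singleton (by simp),
        Nat.cast_one]
      ext v
      simp only [LinearMap.mem_range, Matrix.toLin'_apply, Submodule.mem_span_singleton,
        Matrix.single_mulVec]
      constructor
      · rintro ⟨w, rfl⟩
        exact ⟨w ⟨0, S.S.pos i⟩, by ext l; simp [Pi.single_apply, Function.update_apply]⟩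
      · rintro ⟨c, rfl⟩
        exact ⟨fun _ => c, by ext l; simp [Pi.single_apply, Function.update_apply]⟩
    · rw [Pi.single_eq_of_ne h, map_zero, LinearMap.range_zero, finrank_bot, Nat.cast_zero]
  have h4 := finrank_range_add (f := S.τ i (toF M G f)) (g := S.τ i (toF M G (e - f)))
    (by rw [← map_mul, ← map_mul, hf])
    (by rw [← map_mul, ← map_mul, sub_mul, mul_sub, mul_sub, he, hf, hef, hfe, sub_self, sub_zero])
    (by rw [← map_mul, ← map_mul, mul_sub, hf, hfe, sub_self, map_zero, map_zero])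
    (by rw [← map_mul, ← map_mul, sub_mul, hf, hef, sub_self, map_zero, map_zero])
  rw [← map_add, ← map_add, add_sub_cancel] at h4
  rw [h4, Nat.cast_add, ← ih, ← h1, ← map_add, ← map_add, add_sub_cancel]

theorem φ_one (i : Fin S.S.n) : S.φ i 1 = S.S.d i := by
  have := S.lin_φ_eq_rank i isV_one (mul_one 1)
  rw [lin_one, redG_one, map_one, End.one_eq_id, LinearMap.range_id] at this
  simpa using this

theorem lin_φ_eq_zero {i : Fin S.S.n} {x : MonoidAlgebra ℂ G} (hV : IsV M x) (hx : x * x = x) :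
    lin (S.φ i) x = 0 ↔ S.τ i (redG M x) = 0 := by
  rw [S.lin_φ_eq_rank i hV hx, Nat.cast_eq_zero, Submodule.finrank_eq_zero, LinearMap.range_eq_bot]

theorem lin_eq_sum_rank {x : MonoidAlgebra ℂ G} (hV : IsV M x) (hx : x * x = x)
    (χ : IrrCharacter G) : lin χ.1 x =
      (∑ i, S.dn χ i * finrank (F M) (LinearMap.range (S.τ i (redG M x))) : ℕ) := by
  rw [S.lin_idem hV hx (irr_classFun χ), Nat.cast_sum]
  exact Finset.sum_congr rfl fun i _ => by rw [S.lin_φ_eq_rank i hV hx, lin_e, mul_comm, Nat.cast_mul]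

theorem degree_eq (χ : IrrCharacter G) : charDegree χ.1 = ∑ i, S.dn χ i * S.S.d i := by
  have := S.lin_idem isV_one (mul_one 1) (irr_classFun χ)
  simp only [lin_one, φ_one, lin_e, ← irr_degree_cast, mul_comm (S.S.d _ : ℂ)] at this
  exact_mod_cast this

theorem isUnit_one_add {x : MonoidAlgebra ℂ G} (hV : IsV M x) (h : ∀ i, S.τ i (redG M x) = 0) :
    IsUnit (1 + x) := by
  obtain ⟨y, rfl⟩ := hV.exists_toC
  simpa using (S.S.unit y (funext fun i => by
    rw [S.hρ, ← redG_toC]; exact S.τ_eq_zero.1 (h i))).map (toC M G)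

theorem τ_blockIdem (hB : IsV M (blockIdem B)) {i : Fin S.S.n} (hi : i ∉ S.IB B) :
    S.τ i (redG M (blockIdem B)) = 0 := by
  by_contra h
  obtain ⟨b, c, -, -, hbc⟩ := S.exists_e_eq hB h
  refine hi (S.mem_IB.2 ?_)
  rw [hbc, ← mul_assoc, ← mul_assoc, ((isCentral_blockIdem B).commute b).eq, mul_assoc b,
    blockIdem_mul_self]

theorem commute_scalar (i : Fin S.S.n) (f : End (F M) (Fin (S.S.d i) → F M))
    (h : ∀ g, f * S.τ i (single g 1) = S.τ i (single g 1) * f) : ∃ c : F M, f = c • 1 := by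
  have h1 : ∀ y, f * S.τ i y = S.τ i y * f := fun y => by
    induction y using MonoidAlgebra.induction_linear with
    | zero => simp
    | add a b ha hb => simp only [map_add, mul_add, add_mul, ha, hb]
    | single g a =>
      rw [single_eq_smul_one', map_smul, mul_smul_comm, h, smul_mul_assoc]
  obtain ⟨c, hc⟩ := (Matrix.mem_range_scalar_iff_commute_single'
    (M := Matrix.toLinAlgEquiv'.symm f)).2 fun j l => by
      obtain ⟨y, hy⟩ := S.τ_surjective i (Matrix.toLinAlgEquiv' (Matrix.single j l 1))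
      refine Matrix.toLinAlgEquiv'.injective ?_
      rw [map_mul, map_mul, AlgEquiv.apply_symm_apply, ← hy, h1]
  refine ⟨c, Matrix.toLinAlgEquiv'.symm.injective ?_⟩
  rw [← hc, map_smul, map_one, Matrix.scalar_apply, Matrix.smul_one_eq_diagonal]

end MS

variable [Fintype G] {P : Subgroup G}

theorem OrdP.exists_double (h : OrdP p P) : ∃ a, IsV M a ∧ sl P 1 * a * sl P 1 =
    ∑ g, single g (1 : ℂ) - sl (normalizer (P : Set G)) 1 := by
  let U : AddSubgroup (MonoidAlgebra ℂ G) := (VG M G).toAddSubgroup.map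
    ((AddMonoidHom.mulRight (sl P 1)).comp (AddMonoidHom.mulLeft (sl P 1)))
  letI : MulAction (P × P) G :=
    { smul := fun y g => y.1 * g * y.2⁻¹
      one_smul := fun g => by change (1 : G) * g * 1⁻¹ = g; simp
      mul_smul := fun y z g => by
        change (y.1 * z.1 : G) * g * (y.2 * z.2)⁻¹ = y.1 * (z.1 * g * z.2⁻¹) * y.2⁻¹
        simp [mul_assoc] }
  have hs : ∀ (y : P × P) (g : G), y • g = y.1 * g * (y.2 : G)⁻¹ := fun _ _ => rfl
  have key := sum_eq_zero_of_free (P := P × P) (fun g : G => QuotientAddGroup.mk' U (single g 1))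
    (Finset.univ.filter fun g => g ∉ normalizer (P : Set G)) (fun y g hg => by
      simp only [Finset.mem_filter, Finset.mem_univ, true_and, hs] at hg ⊢
      rwa [mul_mem_cancel_right (inv_mem (le_normalizer y.2.2)),
        mul_mem_cancel_left (le_normalizer y.1.2)])
    (fun g hg y hy => by
      rw [hs, mul_inv_eq_iff_eq_mul] at hy
      have h1 : y.1 = 1 := by_contra fun h1 => (Finset.mem_filter.1 hg).2
        (h.mem_of_conj_mem y.1.2 (by simpa using h1) (by
          rw [mul_assoc, hy, inv_mul_cancel_left]; exact le_normalizer y.2.2))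
      rw [h1, OneMemClass.coe_one, one_mul, left_eq_mul, OneMemClass.coe_eq_one] at hy
      exact Prod.ext h1 hy)
    (fun g _ => by
      rw [← map_sum, QuotientAddGroup.mk'_apply, QuotientAddGroup.eq_zero_iff]
      refine ⟨single g 1, isV_single_one g, ?_⟩
      change sl P 1 * single g 1 * sl P 1 = _
      rw [sl_eq, Finset.sum_mul, Finset.sum_mul_sum, Fintype.sum_prod_type]
      refine Finset.sum_congr rfl fun a _ => Fintype.sum_equiv (Equiv.inv P) _ _ fun b => ?_
      simp [hs, single_mul_single])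
  rw [← map_sum, QuotientAddGroup.mk'_apply, QuotientAddGroup.eq_zero_iff] at key
  obtain ⟨a, ha, e⟩ := key
  refine ⟨a, ha, (e.trans ?_ :)⟩
  rw [eq_sub_iff_add_eq', ← Finset.sum_filter_add_sum_filter_not Finset.univ
    (· ∈ normalizer (P : Set G)), sl_eq, Finset.sum_subtype (p := (· ∈ normalizer (P : Set G)))
    (F := inferInstance) (Finset.univ.filter (· ∈ normalizer (P : Set G))) (by simp)]
  simp

/-- If the sum over `N(P)` kills all simple modules in `B` then it kills the nontrivial members. -/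
theorem SC.lin_sl_eq_zero (h : SC p P) (hM : IsPModular p M) (S : MS M G)
    (hB : IsV M (blockIdem B))
    (hg : ∀ i ∈ S.IB B, S.τ i (redG M (sl (normalizer (P : Set G)) 1)) = 0)
    {v : IrrCharacter G} (hv : v ∈ B) (h1 : v ≠ oneIrr G) :
    lin v.1 (sl (normalizer (P : Set G)) 1) = 0 := by
  obtain ⟨a, ha, e⟩ := h.toOrdP.exists_double (M := M)
  have e1 : sl P 1 * sl (normalizer (P : Set G)) 1 = (p : ℂ) • sl (normalizer (P : Set G)) 1 := by
    rw [sl_mul_of _ fun a : P => single_mul_sl _ (⟨a, le_normalizer a.2⟩ : normalizer (P : Set G))]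
    simp [← h.card]
  have e2 : sl (normalizer (P : Set G)) 1 * sl P 1 = (p : ℂ) • sl (normalizer (P : Set G)) 1 := by
    rw [mul_sl_of _ fun a : P => sl_mul_single _ (⟨a, le_normalizer a.2⟩ : normalizer (P : Set G))]
    simp [← h.card]
  have e4 := sl_mul_self (1 : normalizer (P : Set G) →* ℂˣ)
  rw [h.card_N, Nat.cast_mul] at e4
  have hn := isV_sl (M := M) (1 : normalizer (P : Set G) →* ℂˣ)
  have hd := h.relIndex_dvd
  generalize sl (normalizer (P : Set G)) 1 = n at *
  generalize (centralizer (P : Set G)).relIndex (normalizer (P : Set G)) = e' at *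
  have he : val M (e' : ℂ) = 1 := (val_natCast_eq_one_iff hM _).2 fun hd' =>
    Nat.not_dvd_of_pos_of_lt (by have := h.prime.two_le; omega) (Nat.sub_one_lt h.prime.ne_zero)
      (hd'.trans hd)
  have he0 : (e' : ℂ) ≠ 0 := fun e => by simp [e] at he
  have hp0 : (p : ℂ) ≠ 0 := Nat.cast_ne_zero.2 h.prime.ne_zero
  have hc := (isCentral_blockIdem {v}).commute
  have e3 : (∑ g, single g (1 : ℂ)) * blockIdem {v} = 0 := by
    have : ∀ y : MonoidAlgebra ℂ G, (∑ g, single g (1 : ℂ)) * y =
        lin (fun _ => 1) y • ∑ g, single g (1 : ℂ) := fun y => by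
      induction y using MonoidAlgebra.induction_linear with
      | zero => simp
      | add a b ha hb => rw [mul_add, ha, hb, map_add, add_smul]
      | single g a =>
        rw [lin_single, Finset.sum_mul, Finset.smul_sum]
        exact Fintype.sum_equiv (Equiv.mulRight g) _ _ fun b => by simp [single_mul_single]
    rw [this, lin_blockIdem_singleton _ (classFun_const 1),
      show classInner (fun _ => 1) v.1 = 0 from classInner_irr_ne (χ := oneIrr G) h1.symm, zero_mul,
      zero_smul]
  have e5 := mul_mul_eq_of_double hp0 e e1 e2 e4 (hc n) e3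
  have hV : (e' * e' : ℂ)⁻¹ ∈ V M := inv_mem_V_of_val_eq_one (by rw [map_mul, he, one_mul])
  have hx := (hB.mul hn).mul ha
  have hu := S.isUnit_one_add (hx.smul hV) fun i => by
    rw [redG_smul hV hx, redG_mul (hB.mul hn) ha, redG_mul hB hn, map_smul, map_mul,
      map_mul]
    by_cases hi : i ∈ S.IB B
    · rw [hg i hi, mul_zero, zero_mul, smul_zero]
    · rw [S.τ_blockIdem hB hi, zero_mul, zero_mul, smul_zero]
  have e6 : n * blockIdem {v} = 0 := hu.mul_right_eq_zero.1 (by
    rw [add_mul, one_mul, smul_mul_assoc, mul_assoc (blockIdem B), mul_assoc (blockIdem B), e5,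
      mul_smul_comm, ← mul_assoc, ((isCentral_blockIdem B).commute n).eq, mul_assoc,
      blockIdem_mul_blockIdem, Set.inter_eq_right.2 (Set.singleton_subset_iff.2 hv), smul_smul,
      mul_neg, inv_mul_cancel₀ (mul_ne_zero he0 he0), neg_smul, one_smul, add_neg_cancel])
  rw [← lin_blockIdem_mul_of_mem (Set.mem_singleton v), (hc n).eq, e6, map_zero]

end Cfsg.Agent.Block
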