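import Mathlib
import Cfsg.Agent.Block.Ito1
import Cfsg.Agent.Block.LocSys

/-! Simple modules restricted to the normaliser of a self-centralising subgroup of order `p`. -/

namespace Cfsg.Agent.Block

open Cfsg Cfsg.Agent.Char MonoidAlgebra Subgroup Module
open scoped _root_.Classical ComplexConjugate

variable {G : Type*} [Group G] {p : ℕ} {M : Ideal AlgInt} {u x : G}

theorem exists_one_add_pow {A : Type*} [Ring A] (t : A) (s : ℕ) :
    ∃ q, Commute q t ∧ (1 + t) ^ s = 1 + s * t + t * t * q := by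
  induction s with
  | zero => exact ⟨0, Commute.zero_left _, by simp⟩
  | succ s ih =>
    obtain ⟨q, h1, h2⟩ := ih
    refine ⟨s + q + q * t, ((Nat.cast_commute s t).add_left h1).add_left
      (h1.mul_left (Commute.refl t)), ?_⟩
    rw [pow_succ, h2, Nat.cast_succ]
    simp only [mul_add, add_mul, mul_one, one_mul, mul_assoc, (Nat.cast_commute s _).eq]
    abel

/-- A self-centralising Sylow subgroup `⟨u⟩` of order `p` with complement `⟨x⟩` in its normaliser. -/
structure Cmp (p : ℕ) (u x : G) : Prop extends SC p (zpowers u) where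
  mem : x ∈ normalizer (zpowers u : Set G)
  disj : Disjoint (zpowers u) (zpowers x)
  sup : zpowers u ⊔ zpowers x = normalizer (zpowers u : Set G)

local notation "P" => zpowers u
local notation "E" => zpowers x
local notation "N" => normalizer (zpowers u : Set G)

theorem lam_ext {lam μ : E →* ℂˣ} (h : lam ⟨x, mem_zpowers x⟩ = μ ⟨x, mem_zpowers x⟩) : lam = μ := by
  refine MonoidHom.ext fun ⟨_, k, rfl⟩ => ?_
  rw [show (⟨x ^ k, _⟩ : E) = ⟨x, mem_zpowers x⟩ ^ k from rfl, map_zpow, map_zpow, h]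

variable [Fintype G]

theorem MS.τ_sl (S : MS M G) (i : Fin S.S.n) (A : Subgroup G) (lam : A →* ℂˣ) :
    S.τ i (redG M (sl A lam)) = ∑ a : A, red M (lam a : ℂ)⁻¹ • S.τ i (single (a : G) 1) := by
  rw [sl_eq, redG_sum _ fun a _ => isV_single _ (by simpa using lam_mem_V lam a⁻¹), map_sum]
  exact Finset.sum_congr rfl fun a _ => by rw [redG_single, single_eq_smul_one', map_smul]

theorem MS.τ_single_of_one (S : MS M G) {i : Fin S.S.n} (h : S.dn (oneIrr G) i ≠ 0) (g : G) :
    S.τ i (single g 1) = 1 := by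
  have := S.τ_eq_zero_of_lin h ((isV_single_one g).sub isV_one) fun y => by
    rw [sub_mul, map_sub, lin_single_mul, one_mul, lin_apply, sub_eq_zero]
    rfl
  rwa [redG_sub (isV_single_one g) isV_one, redG_single_one, redG_one, map_sub, map_one,
    sub_eq_zero] at this

theorem MS.τ_sl_eq_zero (S : MS M G) {i : Fin S.S.n} {χ : IrrCharacter G} (hd : S.dn χ i ≠ 0)
    {A : Subgroup G} {lam : A →* ℂˣ} (h : lin χ.1 (sl A lam) = 0) :
    S.τ i (redG M (sl A lam)) = 0 :=
  S.τ_eq_zero_of_lin hd (isV_sl lam) fun y => by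
    have := lin_idem_mul_eq_zero (irr_isChar χ) (fl_mul_self lam) (by rw [fl, map_smul, h, smul_zero]) y
    rwa [fl, smul_mul_assoc, map_smul, smul_eq_zero, or_iff_right (inv_ne_zero card_ne_zero)] at this

namespace Cmp

variable (h : Cmp p u x)
include h

theorem order : orderOf u = p := (Nat.card_zpowers u).symm.trans h.card

theorem le' : E ≤ N := zpowers_le.2 h.mem

theorem notMem {f : E} (hf : f ≠ 1) : (f : G) ∉ P := fun e =>
  hf (Subtype.ext (disjoint_def.1 h.disj e f.2))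

theorem card_N' : Nat.card N = p * Nat.card E := by
  rw [← h.sup, Core.card_sup_of_disjoint h.le' h.disj, h.card]

theorem relIndex : (centralizer (P : Set G)).relIndex N = Nat.card E :=
  Nat.eq_of_mul_eq_mul_left h.prime.pos (h.card_N.symm.trans h.card_N')

theorem card_dvd : Nat.card E ∣ p - 1 := h.relIndex ▸ h.relIndex_dvd

theorem not_dvd : ¬ p ∣ Nat.card E := fun hd =>
  Nat.not_dvd_of_pos_of_lt (by have := h.prime.two_le; omega) (Nat.sub_one_lt h.prime.ne_zero)
    (hd.trans h.card_dvd)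

theorem regE (f : E) : ¬ p ∣ orderOf (f : G) := fun e =>
  h.not_dvd (e.trans (orderOf_coe f ▸ orderOf_dvd_natCard f))

theorem dec {n : G} (hn : n ∈ N) : ∃ a ∈ P, ∃ f ∈ E, a * f = n := by
  rw [← h.sup, ← SetLike.mem_coe, coe_mul_of_right_le_normalizer_left _ _ h.le'] at hn
  exact hn

theorem sl_N : sl N 1 = sl E 1 * sl P 1 := by
  have e1 : sl N 1 * (sl E 1 * sl P 1) = (Nat.card N : ℂ) • (sl E 1 * sl P 1) := by
    rw [sl_mul_of (c := fun _ => 1) _ fun n => ?_]
    · simp
    obtain ⟨a, ha, f, hf, e⟩ := h.dec n.2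
    rw [← e, ← single_one_mul_single_one, mul_assoc, ← mul_assoc (single f 1),
      single_mul_sl _ ⟨f, hf⟩, (commute_sl_sl h.le' 1).eq]
    simp [(commute_sl_sl h.le' 1).eq, ← mul_assoc, single_mul_sl _ (⟨a, ha⟩ : P)]
  rw [← mul_assoc, mul_sl_of _ fun a : E => sl_mul_single _ (⟨a, h.le' a.2⟩ : N), smul_mul_assoc,
    mul_sl_of _ fun a : P => sl_mul_single _ (⟨a, le_normalizer a.2⟩ : N), smul_smul] at e1
  refine smul_right_injective _ (card_ne_zero (G := N)) (Eq.trans ?_ e1)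
  simp only [MonoidHom.one_apply, Units.val_one, inv_one, mul_one, Finset.sum_const, Finset.card_univ,
    ← Nat.card_eq_fintype_card, nsmul_eq_mul, h.card_N', h.card, Nat.cast_mul, mul_comm, one_mul]

theorem lin_fl_sl {v : G → ℂ} (hv : IsClassFunction G v) (lam : E →* ℂˣ) :
    lin v (fl E lam * sl P 1) = p * classInner (fun f : E => v f) (lc lam) +
      (∑ a : P, v a - p * v 1) / Nat.card E := by
  have e : ∀ f : E, lin v (single (f : G) (lam f : ℂ)⁻¹ * sl P 1) =
      p * (v f * conj (lam f : ℂ)) + if f = 1 then ∑ a : P, v a - p * v 1 else 0 := fun f => by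
    rw [sl_eq, Finset.mul_sum, map_sum]
    simp only [single_mul_single, lin_single, MonoidHom.one_apply, Units.val_one, inv_one, mul_one]
    split_ifs with hf
    · simp [hf]
    · simp only [fun a : P => classFun_mul_comm hv f a,
        fun a : P => h.apply_mul hv (h.le' f.2) (h.notMem hf) a.2]
      rw [Finset.sum_const, Finset.card_univ, ← Nat.card_eq_fintype_card, h.card, linear_conj]
      simp [mul_comm]
  rw [fl, smul_mul_assoc, map_smul, sl_eq lam, Finset.sum_mul, map_sum]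
  simp only [e, Finset.sum_add_distrib, Finset.sum_ite_eq', Finset.mem_univ, if_true,
    ← Finset.mul_sum, ← card_mul_classInner, smul_eq_mul]
  field_simp [card_ne_zero (G := E)]

theorem exists_σ (hM : IsPModular p M) : ∃ σ : E →* ℂˣ, ∀ f : E, ∃ s : ℕ,
    (f : G) * u * (f : G)⁻¹ = u ^ s ∧ red M (σ f) = s := by
  obtain ⟨s, hs⟩ := exists_pow_of_mem_zpowers ((mem_normalizer_iff.1 h.mem u).1 (mem_zpowers u))
  have h1 : ∀ n : ℕ, x ^ n * u * (x ^ n)⁻¹ = u ^ s ^ n := fun n => by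
    induction n with
    | zero => simp
    | succ n ih =>
      rw [pow_succ', pow_succ' s, pow_mul, ← hs, conj_pow, ← ih]
      group
  have hx := orderOf_pos x
  have h2 : val M (((s : ℤ) ^ orderOf x - 1 : ℤ) : ℂ) < 1 := by
    have := h1 (orderOf x)
    rw [pow_orderOf_eq_one, one_mul, inv_one, mul_one, ← pow_one u, ← pow_mul, one_mul,
      pow_eq_pow_iff_modEq, h.order] at this
    exact (val_intCast_lt_one_iff hM _).2 (by exact_mod_cast this.dvd)
  have h3 := congrArg (Polynomial.eval (s : ℂ))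
    (Polynomial.X_pow_sub_one_eq_prod hx (Complex.isPrimitiveRoot_exp _ hx.ne'))
  simp only [Polynomial.eval_sub, Polynomial.eval_pow, Polynomial.eval_X, Polynomial.eval_one,
    Polynomial.eval_prod, Polynomial.eval_C] at h3
  push_cast at h2
  rw [h3, map_prod] at h2
  obtain ⟨ζ, hζ, h4⟩ : ∃ ζ ∈ Polynomial.nthRootsFinset (orderOf x) (1 : ℂ), val M (s - ζ) < 1 := by
    by_contra hc
    push Not at hc
    exact h2.not_ge (Finset.one_le_prod' hc)
  rw [Polynomial.mem_nthRootsFinset hx] at hζ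
  have hV := mem_V_of_val_eq_one (M := M) (val_eq_one_of_pow_eq_one hx.ne' hζ)
  have h5 : red M ζ = s := by
    rw [← red_natCast, eq_comm, red_eq_iff (natCast_mem _ s) hV]
    exact h4
  obtain ⟨ζ, rfl⟩ := IsUnit.of_pow_eq_one hζ hx.ne'
  have hg : ∀ z : E, z ∈ zpowers (⟨x, mem_zpowers x⟩ : E) := fun ⟨_, k, rfl⟩ => ⟨k, rfl⟩
  have h6 : orderOf ζ ∣ orderOf (⟨x, mem_zpowers x⟩ : E) := by
    rw [← orderOf_coe]
    exact orderOf_dvd_of_pow_eq_one (Units.ext (by simpa using hζ))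
  refine ⟨monoidHomOfForallMemZpowers hg h6, fun ⟨f, hf⟩ => ?_⟩
  obtain ⟨n, rfl⟩ := exists_pow_of_mem_zpowers hf
  refine ⟨s ^ n, h1 n, ?_⟩
  rw [show (⟨x ^ n, _⟩ : E) = ⟨x, mem_zpowers x⟩ ^ n from rfl, map_pow,
    monoidHomOfForallMemZpowers_apply_gen, Units.val_pow_eq_pow_val, red_pow hV, h5, Nat.cast_pow]

theorem red_inj (hM : IsPModular p M) {lam μ : E →* ℂˣ}
    (e : red M (lam ⟨x, mem_zpowers x⟩) = red M (μ ⟨x, mem_zpowers x⟩)) : lam = μ := by
  refine lam_ext (mul_inv_eq_one.1 (Units.ext ?_))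
  refine eq_one_of_pow_eq_one_of_val_sub_one_lt_one hM h.not_dvd
    (by rw [← Units.val_pow_eq_pow_val, ← map_inv, mul_pow, ← map_pow, ← map_pow]; simp) ?_
  have hV := lam_mem_V (M := M) μ (⟨x, mem_zpowers x⟩ : E)⁻¹
  rw [← map_inv, Units.val_mul, ← red_eq_iff (mul_mem (lam_mem_V _ _) hV) (one_mem _),
    red_mul (lam_mem_V _ _) hV, e, ← red_mul (lam_mem_V _ _) hV, ← Units.val_mul, ← map_mul]
  simp

theorem σ_ne (hM : IsPModular p M) {σ : E →* ℂˣ} (hx : x ≠ 1)
    (hσ : ∀ f : E, ∃ s : ℕ, (f : G) * u * (f : G)⁻¹ = u ^ s ∧ red M (σ f) = s) : σ ≠ 1 := by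
  rintro rfl
  obtain ⟨s, h1, h2⟩ := hσ ⟨x, mem_zpowers x⟩
  have := charP_F hM
  rw [MonoidHom.one_apply, Units.val_one, red_one, ← Nat.cast_one, CharP.natCast_eq_natCast _ p,
    ← h.order, ← pow_eq_pow_iff_modEq, ← h1, pow_one, eq_mul_inv_iff_mul_eq] at h2
  have h3 := h.eq_one h.mem (h.notMem (f := ⟨x, mem_zpowers x⟩) (by simpa using hx))
    (mem_zpowers u) h2.symm
  exact h.prime.one_lt.ne (by rw [← h.order, h3, orderOf_one])

theorem mul_rank_le (hM : IsPModular p M) (S : MS M G) (i : Fin S.S.n) :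
    p * finrank (F M) (LinearMap.range (S.τ i (redG M (sl P 1)))) ≤ S.S.d i := by
  have := charP_F hM
  have := Fact.mk h.prime
  have h1 := sum_range_pow_eq (k := F M) (p := p) (S.τ i (single u 1))
  have h2 : S.τ i (redG M (sl P 1)) = (S.τ i (single u 1) - 1) ^ (p - 1) := by
    rw [S.τ_sl, ← h1, ← (finEquivZPowers (isOfFinOrder_of_finite u)).sum_comp, ← h.order,
      Finset.sum_range]
    refine Finset.sum_congr rfl fun n _ => ?_
    rw [← map_pow, single_pow]
    simp [red_one, finEquivZPowers_apply]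
  have h3 := mul_finrank_range_pow_le (t := S.τ i (single u 1) - 1) (n := p - 1) (by
    rw [pow_succ', ← h1, mul_geom_sum, ← map_pow, single_pow, ← h.order, pow_orderOf_eq_one, one_pow,
      ← one_def, map_one, sub_self])
  rwa [Nat.sub_add_cancel h.prime.one_le, ← h2, finrank_fin_fun] at h3

theorem head (hM : IsPModular p M) (S : MS M G) {σ : E →* ℂˣ} (hx : x ≠ 1)
    (hσ : ∀ f : E, ∃ s : ℕ, (f : G) * u * (f : G)⁻¹ = u ^ s ∧ red M (σ f) = s) (i : Fin S.S.n) :
    ∃ c : F M, S.τ i (redG M (sl P 1)) = 0 → ∀ lam : E →* ℂˣ, red M (lam ⟨x, mem_zpowers x⟩) ≠ c →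
      finrank (F M) (LinearMap.range (S.τ i (redG M (fl E lam)))) ≤
        finrank (F M) (LinearMap.range (S.τ i (redG M (fl E (lam * σ⁻¹))))) := by
  have := charP_F hM
  have := Fact.mk h.prime
  let ρ : G →* End (F M) (Fin (S.S.d i) → F M) := (S.τ i : _ →* _).comp (of (F M) G)
  have hρ : ∀ g, S.τ i (single g 1) = ρ g := fun _ => rfl
  have hc : ∀ n ∈ N, ∃ w, Commute w (ρ u) ∧ ρ n * (ρ u - 1) = (ρ u - 1) * w * ρ n := fun n hn => by
    obtain ⟨w, h1, h2⟩ := exists_sub_one_eq_mul ρ ((mem_normalizer_iff.1 hn u).1 (mem_zpowers u))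
    exact ⟨w, h1, by rw [← h2, sub_mul, mul_sub, ← map_mul, ← map_mul]; simp⟩
  obtain ⟨c, hc'⟩ := tate_scalar (CharP.cast_eq_zero _ p) ρ (S.commute_scalar i) h.order h.ind (ρ x)
    (fun j v hv => by
      obtain ⟨w, h1, h2⟩ := hc _ (inv_mem h.mem)
      have h3 : ρ x⁻¹ * (ρ u - 1) ^ j = w ^ j * (ρ u - 1) ^ j * ρ x⁻¹ := by
        rw [← (h1.sub_right (Commute.one_right w)).mul_pow, (h1.sub_right (Commute.one_right w)).eq]
        exact SemiconjBy.pow_right h2 j
      have h4 : (ρ u - 1) ^ j * ρ x = ρ x * (w ^ j * (ρ u - 1) ^ j) := by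
        have h5 : ρ x⁻¹ * ρ x = 1 := by rw [← map_mul, inv_mul_cancel, map_one]
        rw [← mul_one (w ^ j * _), ← congrArg (w ^ j * (ρ u - 1) ^ j * ·) h5, ← mul_assoc _ (ρ x⁻¹),
          ← h3, ← mul_assoc, ← mul_assoc, ← map_mul, mul_inv_cancel, map_one, one_mul]
      rw [← End.mul_apply, h4, End.mul_apply, End.mul_apply, hv, map_zero, map_zero])
    (fun v => by
      obtain ⟨w, -, h2⟩ := hc _ h.mem
      exact ⟨_, by rw [← End.mul_apply, h2, mul_assoc, End.mul_apply]⟩)
    (fun n hn v => by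
      obtain ⟨a, ha, f, hf, rfl⟩ := h.dec hn
      have hfx : f * x = x * f := by
        obtain ⟨k, rfl⟩ := hf
        exact ((Commute.refl x).zpow_left k).eq
      obtain ⟨w, -, h2⟩ := exists_sub_one_eq_mul ρ
        (mul_mem ha ((mem_normalizer_iff.1 h.mem _).1 (inv_mem ha)))
      refine ⟨w (ρ (x * (a * f)) v), ?_⟩
      rw [← End.mul_apply _ w, ← h2, LinearMap.sub_apply, ← End.mul_apply, ← End.mul_apply,
        ← End.mul_apply, ← map_mul, ← map_mul, ← map_mul, mul_assoc a f, hfx]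
      simp [mul_assoc])
  refine ⟨c, fun h0 lam hl => ?_⟩
  choose s hs hs' using hσ
  let Y : MonoidAlgebra ℂ G := ∑ f : E, single ((f : G) * u * (f : G)⁻¹) (σ f : ℂ)⁻¹
  have hY0 : ∀ f : E, IsV M (single ((f : G) * u * (f : G)⁻¹) (σ f : ℂ)⁻¹) := fun f =>
    isV_single _ (by simpa using lam_mem_V σ f⁻¹)
  have hY : IsV M Y := isV_sum _ fun f _ => hY0 f
  have h1 : fl E lam * Y = Y * fl E (lam * σ⁻¹) := by
    rw [fl, fl, smul_mul_assoc, mul_smul_comm, sl_eq, sl_eq, Finset.sum_mul, Finset.mul_sum]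
    refine congrArg _ (Finset.sum_congr rfl fun g _ => ?_)
    rw [Finset.mul_sum, Finset.sum_mul]
    refine Fintype.sum_equiv (Equiv.mulLeft g) _ _ fun f => ?_
    simp only [single_mul_single, Equiv.coe_mulLeft, coe_mul, map_mul, Units.val_mul,
      MonoidHom.mul_apply, MonoidHom.inv_apply, Units.val_inv_eq_inv_val]
    congr 1
    · group
    · field_simp
  obtain ⟨z, hz⟩ : ∃ z, ρ u - 1 = S.τ i (redG M Y) * z := by
    choose q hq hq' using fun f : E => exists_one_add_pow (ρ u - 1) (s f)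
    have hn : IsNilpotent (ρ u - 1) := isNilpotent_sub_one (k := F M) (CharP.cast_eq_zero _ p)
      (n := 1) (by rw [pow_one, ← map_pow, ← h.order, pow_orderOf_eq_one, map_one])
    have hv : ∀ f : E, val M (σ f : ℂ) = 1 := fun f =>
      val_eq_one_of_pow_eq_one (orderOf_pos f).ne' (linear_pow_orderOf σ f)
    have h2 : ∑ f : E, red M (σ f : ℂ)⁻¹ = 0 := by
      have := card_mul_classInner (lc (1 : E →* ℂˣ)) (lc σ)
      rw [inner_lc, if_neg (h.σ_ne hM hx fun f => ⟨_, hs f, hs' f⟩).symm, mul_zero] at this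
      simp only [lc, linear_conj, MonoidHom.one_apply, Units.val_one, one_mul] at this
      rw [← red_sum _ fun f _ => inv_mem_V_of_val_eq_one (hv f), ← this, red_zero]
    have h3 : S.τ i (redG M Y) = (ρ u - 1) * ((ρ u - 1) * (∑ f : E, red M (σ f : ℂ)⁻¹ • q f) +
        (Nat.card E : F M) • 1) := by
      rw [redG_sum _ fun f _ => hY0 f, map_sum, mul_add, ← mul_assoc, Finset.mul_sum,
        Nat.card_eq_fintype_card, Nat.cast_smul_eq_nsmul, mul_smul_comm, mul_one, ← Finset.card_univ,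
        ← Finset.sum_const, ← Finset.sum_add_distrib, ← zero_add (∑ _, (_ + _)), ← zero_smul (F M) 1,
        ← h2, Finset.sum_smul, ← Finset.sum_add_distrib]
      refine Finset.sum_congr rfl fun f _ => ?_
      have h4 := hq' f
      rw [add_sub_cancel] at h4
      rw [redG_single, single_eq_smul_one', map_smul, hρ, hs, map_pow, h4, smul_add, smul_add,
        ← nsmul_eq_mul, ← Nat.cast_smul_eq_nsmul (F M), smul_smul, ← hs', red_inv (hv f),
        inv_mul_cancel₀ ((red_ne_zero_iff (lam_mem_V _ _)).2 (hv f)), one_smul, mul_smul_comm]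
      abel
    have h4 : (Nat.card E : F M) ≠ 0 := fun e => h.not_dvd ((CharP.cast_eq_zero_iff _ p _).1 e)
    obtain ⟨y, hy⟩ := IsNilpotent.isUnit_add_right_of_commute
      (r := (ρ u - 1) * (∑ f : E, red M (σ f : ℂ)⁻¹ • q f)) (u := (Nat.card E : F M) • 1)
      (Commute.isNilpotent_mul_right (Commute.sum_right _ _ _ fun f _ => (hq f).symm.smul_right _) hn)
      (by rw [← Algebra.algebraMap_eq_smul_one]; exact h4.isUnit.map _)
      ((Commute.one_right _).smul_right _)
    exact ⟨(y⁻¹ :), by rw [h3, ← hy, Units.mul_inv_cancel_right]⟩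
  have hV := fun ν : E →* ℂˣ => isV_fl ν hM h.not_dvd
  refine (Submodule.finrank_mono ?_).trans (Submodule.finrank_map_le (S.τ i (redG M Y)) _)
  rintro _ ⟨v, rfl⟩
  obtain ⟨w, hw⟩ := hc' (S.τ i (redG M (fl E lam)) v) (by
    have := congrArg (· (S.τ i (redG M (fl E lam)) v)) h0
    simpa [S.τ_sl, red_one, hρ] using this)
  rw [← End.mul_apply, ← hρ, ← map_mul, ← redG_single_one, ← redG_mul (isV_single_one x) (hV lam),
    single_mul_fl lam ⟨x, mem_zpowers x⟩, redG_smul (lam_mem_V _ _) (hV lam), map_smul,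
    LinearMap.smul_apply, ← sub_smul, hz, End.mul_apply] at hw
  refine ⟨_, ⟨(red M (lam ⟨x, mem_zpowers x⟩) - c)⁻¹ • z w, rfl⟩, ?_⟩
  rw [← End.mul_apply, ← map_mul, ← redG_mul hY (hV _), ← h1, redG_mul (hV _) hY, map_mul,
    End.mul_apply, map_smul, ← hw, smul_smul, inv_mul_cancel₀ (sub_ne_zero.2 hl), one_smul,
    ← End.mul_apply, ← map_mul, ← redG_mul (hV _) (hV _), fl_mul_self]

end Cmp

end Cfsg.Agent.Block
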