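import Mathlib
import Cfsg.Agent.Block.Ito2

/-! The simple modules of the principal block when there are many real characters of degree `p + 1`. -/

namespace Cfsg.Agent.Block

open Cfsg Cfsg.Agent.Char MonoidAlgebra Subgroup Module
open scoped _root_.Classical ComplexConjugate

variable {G : Type*} [Group G] [Fintype G] {p : ℕ} {M : Ideal AlgInt} {u x : G}

local notation "P" => zpowers u
local notation "E" => zpowers x
local notation "N" => normalizer (zpowers u : Set G)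

theorem PW.card_IB_le {Q : Subgroup G} {e t : ℕ} {δ : ℤ} {X Y : Finset (IrrCharacter G)}
    {a : IrrCharacter G → ℤ} (h : PW p Q e t δ X Y a) (hM : IsPModular p M) (S : MS M G)
    (hB : ∀ χ, χ ∈ principalBlock M G ↔ χ ∈ X ∨ χ ∈ Y) : (S.IB (principalBlock M G)).card ≤ e := by
  rw [← S.blockRank_eq hM (isV_blockIdem hM isPBlock_principalBlock), blockRank, ← h.cardX]
  refine (Submodule.finrank_mono (Submodule.span_le.2 ?_)).trans ((finrank_span_finset_le_card
    (X.image fun χ : IrrCharacter G => pRegularPart p χ.1)).trans Finset.card_image_le)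
  have h1 : ∀ χ ∈ X, pRegularPart p χ.1 ∈ Submodule.span ℂ
      (X.image fun χ : IrrCharacter G => pRegularPart p χ.1 : Set (G → ℂ)) := fun χ hχ =>
    Submodule.subset_span (by simpa using ⟨χ.1, ⟨χ.2, hχ⟩, rfl⟩)
  rintro _ ⟨χ, hχ, rfl⟩
  rcases (hB χ).1 hχ with h2 | h2
  · simpa using h1 χ h2
  have : pRegularPart p χ.1 = ∑ ψ ∈ X, (δ * a ψ : ℂ) • pRegularPart p ψ.1 := by
    funext g
    rw [Finset.sum_apply]
    by_cases hg : p ∣ orderOf g
    · simp [pRegularPart_of_dvd hg]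
    · have h3 : (δ : ℂ) * δ = 1 := by exact_mod_cast h.sq
      simp only [Pi.smul_apply, pRegularPart_of_not_dvd hg, smul_eq_mul, mul_assoc, ← Finset.mul_sum,
        ← h.rel χ h2 g hg]
      rw [← mul_assoc, h3, one_mul]
  simpa [this] using Submodule.sum_mem _ fun ψ hψ => Submodule.smul_mem _ _ (h1 ψ hψ)

namespace Cmp

variable (h : Cmp p u x)
include h

theorem τ_fl_sl (hM : IsPModular p M) (S : MS M G) {θ : IrrCharacter G}
    (hr : ∀ g, θ.1 g⁻¹ = θ.1 g) (hd : charDegree θ.1 < 2 * p) {ν : E →* ℂˣ} (hν : ν ≠ ν⁻¹)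
    {i : Fin S.S.n} (hi : S.dn θ i ≠ 0) : S.τ i (redG M (fl E ν * sl P 1)) = 0 := by
  by_contra h0
  have hV := fun ν : E →* ℂˣ => isV_fl ν hM h.not_dvd
  have hQ := isV_sl (M := M) (1 : P →* ℂˣ)
  have hc : ∀ ν : E →* ℂˣ, fl E ν * sl P 1 = sl P 1 * fl E ν := fun ν =>
    ((commute_sl_sl h.le' ν).smul_left _).eq
  obtain ⟨b, c, hb, hc', e⟩ := S.exists_e_eq ((hV ν).mul hQ) h0
  have h1 := S.lin_eq_sum_rank (S.isV_e i).opI (by rw [← opI_mul, S.e_mul_self]) θ
  simp only [lin_opI, hr] at h1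
  rw [S.lin_e, Nat.cast_inj] at h1
  obtain ⟨j, -, hj⟩ := Finset.exists_ne_zero_of_sum_ne_zero (h1 ▸ hi)
  have h2 : S.τ j (redG M (fl E ν⁻¹ * sl P 1)) ≠ 0 := fun h2 => right_ne_zero_of_mul hj (by
    rw [e, opI_mul, opI_mul, opI_mul, opI_sl, opI_fl, show (1 : P →* ℂˣ)⁻¹ = 1 from MonoidHom.ext fun _ => inv_one, ← hc,
      redG_mul hc'.opI (((hV _).mul hQ).mul hb.opI), redG_mul ((hV _).mul hQ) hb.opI, map_mul,
      map_mul, h2, zero_mul, mul_zero, LinearMap.range_zero, finrank_bot])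
  have h3 : ∀ {j} {ν : E →* ℂˣ}, S.τ j (redG M (fl E ν * sl P 1)) ≠ 0 →
      1 ≤ finrank (F M) (LinearMap.range (S.τ j (redG M (fl E ν * sl P 1)))) := fun h =>
    Nat.one_le_iff_ne_zero.2 fun e => h (by rwa [Submodule.finrank_eq_zero, LinearMap.range_eq_bot] at e)
  have h4 : ∀ j (ν : E →* ℂˣ), LinearMap.range (S.τ j (redG M (fl E ν * sl P 1))) ≤
      LinearMap.range (S.τ j (redG M (sl P 1))) := fun j ν => by
    rw [hc, redG_mul hQ (hV ν), map_mul]
    exact LinearMap.range_comp_le_range _ _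
  have h5 := S.degree_eq θ
  have h6 : ∀ j, S.dn θ j ≠ 0 → S.S.d j ≤ S.dn θ j * S.S.d j := fun j hj =>
    Nat.le_mul_of_pos_left _ (Nat.pos_of_ne_zero hj)
  by_cases hij : j = i
  · subst hij
    have h7 := Submodule.finrank_mono (sup_le (h4 j ν) (h4 j ν⁻¹))
    have h8 := Submodule.finrank_sup_add_finrank_inf_eq
      (LinearMap.range (S.τ j (redG M (fl E ν * sl P 1))))
      (LinearMap.range (S.τ j (redG M (fl E ν⁻¹ * sl P 1))))
    rw [show _ ⊓ _ = ⊥ from eq_bot_iff.2 ?_, finrank_bot] at h8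
    · have h9 := Finset.single_le_sum (f := fun j => S.dn θ j * S.S.d j) (fun _ _ => Nat.zero_le _)
        (Finset.mem_univ j)
      have := h3 h0
      have := h3 h2
      have := h6 j hi
      have := (Nat.mul_le_mul_left p (show 2 ≤ _ by omega)).trans (h.mul_rank_le hM S j)
      omega
    rintro _ ⟨⟨v, rfl⟩, w, hw⟩
    rw [Submodule.mem_bot, ← fl_mul_self, mul_assoc, redG_mul (hV _) ((hV _).mul hQ), map_mul,
      End.mul_apply, ← hw, ← End.mul_apply, ← map_mul, ← redG_mul (hV _) ((hV _).mul hQ), ← mul_assoc,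
      fl_mul_fl _ _ hν, zero_mul, redG_zero, map_zero, LinearMap.zero_apply]
  · have h9 := Finset.add_le_sum (f := fun j => S.dn θ j * S.S.d j) (fun _ _ => Nat.zero_le _)
      (Finset.mem_univ j) (Finset.mem_univ i) hij
    have := h6 j (left_ne_zero_of_mul hj)
    have := h6 i hi
    have := (Nat.mul_le_mul_left p ((h3 h0).trans (Submodule.finrank_mono (h4 i ν)))).trans
      (h.mul_rank_le hM S i)
    have := (Nat.mul_le_mul_left p ((h3 h2).trans (Submodule.finrank_mono (h4 j ν⁻¹)))).trans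
      (h.mul_rank_le hM S j)
    omega

theorem τ_sl_P (hM : IsPModular p M) (S : MS M G) {θ : IrrCharacter G}
    (hr : ∀ g, θ.1 g⁻¹ = θ.1 g) (hd : charDegree θ.1 < 2 * p) {ν : E →* ℂˣ} (hν : ν ≠ ν⁻¹)
    (hs : lin θ.1 (sl P 1) = lin θ.1 (fl E ν * sl P 1) + lin θ.1 (fl E ν⁻¹ * sl P 1))
    {i : Fin S.S.n} (hi : S.dn θ i ≠ 0) : S.τ i (redG M (sl P 1)) = 0 := by
  have hV := fun ν : E →* ℂˣ => isV_fl ν hM h.not_dvd
  have hQ := isV_sl (M := M) (1 : P →* ℂˣ)
  have hc : ∀ ν : E →* ℂˣ, Commute (fl E ν) (fl P 1) := fun ν =>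
    ((commute_sl_sl h.le' ν).smul_left _).smul_right _
  have h1 := S.τ_eq_zero_of_lin hi ((hQ.sub ((hV ν).mul hQ)).sub ((hV ν⁻¹).mul hQ)) fun y => by
    have e : sl P 1 - fl E ν * sl P 1 - fl E ν⁻¹ * sl P 1 =
        (Nat.card P : ℂ) • ((1 - fl E ν - fl E ν⁻¹) * fl P 1) := by
      rw [← mul_smul_comm, fl.eq_1 P, smul_inv_smul₀ card_ne_zero, sub_mul, sub_mul, one_mul]
    rw [e, smul_mul_assoc, map_smul, lin_idem_mul_eq_zero (irr_isChar θ), smul_zero]
    · rw [(((Commute.one_left _).sub_left (hc _)).sub_left (hc _)).symm.mul_mul_mul_comm, fl_mul_self]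
      simp only [mul_sub, sub_mul, fl_mul_self, fl_mul_fl _ _ hν, fl_mul_fl _ _ hν.symm, one_mul,
        mul_one, sub_zero, sub_self, zero_sub, zero_mul]
    · refine (smul_eq_zero.1 ?_).resolve_left (card_ne_zero (G := P))
      rw [← map_smul, ← e, map_sub, map_sub, hs]
      ring
  rwa [redG_sub (hQ.sub ((hV ν).mul hQ)) ((hV _).mul hQ), redG_sub hQ ((hV _).mul hQ), map_sub,
    map_sub, h.τ_fl_sl hM S hr hd hν hi, h.τ_fl_sl hM S hr hd (fun e => hν ((inv_inv ν).symm.trans e.symm)) hi,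
    sub_zero, sub_zero] at h1

theorem exists_dn (hM : IsPModular p M) (S : MS M G) (hodd : Odd (Nat.card E)) (hx : x ≠ 1)
    (θ : (E →* ℂˣ) → IrrCharacter G) (hd : ∀ lam ≠ 1, charDegree (θ lam).1 = p + 1)
    (hP : ∀ lam ≠ 1, ∀ a : P, a ≠ 1 → (θ lam).1 a = 1)
    (hE : ∀ lam ≠ 1, ∀ f : E, f ≠ 1 → (θ lam).1 f = (lc lam + lc lam⁻¹) f)
    (hr : ∀ lam ≠ 1, ∀ g, (θ lam).1 g⁻¹ = (θ lam).1 g)
    (ho : ∀ v ∈ principalBlock M G, v ≠ oneIrr G → (∀ lam ≠ 1, v ≠ θ lam) → ∀ f : E, f ≠ 1 → v.1 f = 0)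
    {i₀ D : Fin S.S.n} (h0 : S.dn (oneIrr G) i₀ ≠ 0) (h0' : ∀ lam ≠ 1, S.dn (θ lam) i₀ = 0)
    {ξ : IrrCharacter G} (hξ : ∀ a : P, a ≠ 1 → ξ.1 a ≠ 0) (hξ0 : fx P ξ.1 = 0) (hD : S.dn ξ D ≠ 0)
    (hD' : S.dn (oneIrr G) D = 0) : ∃ lam ≠ 1, S.dn (θ lam) D ≠ 0 := by
  by_contra hc
  push Not at hc
  obtain ⟨e, t, δ, X, Y, a, hw, hB⟩ := h.toOrdP.exists_pW' hM
  have hBV := isV_blockIdem (G := G) hM isPBlock_principalBlock
  obtain ⟨a₀, ha₀⟩ := h.toOrdP.exists_ne_one
  have hmem : ∀ v : IrrCharacter G, v.1 a₀ ≠ 0 → ∀ i, S.dn v i ≠ 0 → i ∈ S.IB (principalBlock M G) :=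
    fun v hv i hi => by_contra fun h1 => hi (S.dn_of_notMem_IB hBV ((hB v).2 (by_contra fun h2 =>
      hv (hw.out h.le v (not_or.1 h2).1 (not_or.1 h2).2 _ (h.toOrdP.dvd_orderOf ha₀)))) h1)
  have hcard : Nat.card (E →* ℂˣ) = Nat.card E := card_lin_of_comm inferInstance
  have hsq := (bijective_sq_of_odd (G := E →* ℂˣ) (hcard ▸ hodd)).1
  have hne : ∀ lam : E →* ℂˣ, lam ≠ 1 → lam ≠ lam⁻¹ := fun lam h1 h2 =>
    h1 (hsq (((congrArg (lam * ·) h2).trans (mul_inv_cancel lam)).trans (one_mul (1 : E →* ℂˣ)).symm))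
  have hθ1 : ∀ lam ≠ 1, (θ lam).1 1 = p + 1 := fun lam h1 => by
    rw [← irr_degree_cast, hd lam h1, Nat.cast_succ]
  have hin : ∀ lam ≠ 1, ∀ ν, classInner (fun f : E => (θ lam).1 f) (lc ν) =
      ((if lam = ν then 1 else 0) + if lam⁻¹ = ν then 1 else 0) + (p - 1) / Nat.card E :=
    fun lam h1 ν => by
      rw [inner_eq_add_of_eq_off_one (hE lam h1), classInner_add_left, inner_lc, inner_lc,
        OneMemClass.coe_one, hθ1 lam h1]
      congr 2
      simp only [Pi.add_apply, lc, map_one, Units.val_one]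
      ring
  have hsum : ∀ lam ≠ 1, ∑ a : P, (θ lam).1 a = 2 * p := fun lam h1 => by
    rw [sum_eq_add_of_off_one (ψ := fun _ => 1) (hP lam h1), OneMemClass.coe_one, hθ1 lam h1,
      Finset.sum_const, Finset.card_univ, ← Nat.card_eq_fintype_card, h.card]
    simp only [nsmul_eq_mul]
    ring
  have hlin : ∀ lam ≠ 1, ∀ ν, lin (θ lam).1 (fl E ν * sl P 1) =
      p * ((if lam = ν then 1 else 0) + if lam⁻¹ = ν then 1 else 0) := fun lam h1 ν => by
    rw [h.lin_fl_sl (irr_classFun _), hin lam h1, hsum lam h1, hθ1 lam h1]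
    ring
  have hsl : ∀ v : G → ℂ, lin v (sl P 1) = ∑ a : P, v a := fun v => by simp [sl_eq, lin_single]
  have hN : sl N 1 = (Nat.card E : ℂ) • (fl E 1 * sl P 1) := by
    rw [h.sl_N, fl, smul_mul_assoc, smul_inv_smul₀ card_ne_zero]
  obtain ⟨σ, hσ⟩ := h.exists_σ hM
  choose c hc' using h.head hM S hx hσ
  let T : Finset (E →* ℂˣ) := (Finset.univ.erase 1).filter fun lam => ¬ lam * lam = σ
  have hT : ∀ lam ∈ T, ∃ i, S.dn (θ lam) i ≠ 0 ∧ red M (lam ⟨x, mem_zpowers x⟩) = c i := by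
    intro lam hl
    simp only [T, Finset.mem_filter, Finset.mem_erase, Finset.mem_univ, and_true] at hl
    by_contra h1
    push Not at h1
    have h2 := fun ν : E →* ℂˣ => S.lin_eq_sum_rank (isV_fl ν hM h.not_dvd) (fl_mul_self ν) (θ lam)
    have h3 := h2 lam
    have h4 := h2 (lam * σ⁻¹)
    rw [lin_fl, hin _ hl.1] at h3 h4
    rw [if_pos rfl, if_neg (hne _ hl.1).symm] at h3
    have hg : ∀ {A : Type _} [CommGroup A] (a b : A), (a = a * b⁻¹ → b = 1) ∧
        (a⁻¹ = a * b⁻¹ → a * a = b) := fun a b => ⟨fun e => inv_eq_one.1 (left_eq_mul.1 e),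
      fun e => (inv_mul_eq_iff_eq_mul.1 (eq_mul_inv_iff_mul_eq.1 e)).symm⟩
    rw [if_neg (show ¬ lam = lam * σ⁻¹ from fun e => h.σ_ne hM hx hσ ((hg lam σ).1 e)),
      if_neg (show ¬ lam⁻¹ = lam * σ⁻¹ from fun e => hl.2 ((hg lam σ).2 e)), add_zero, zero_add] at h4
    rw [add_zero, h4] at h3
    rw [← Nat.cast_one (R := ℂ), ← Nat.cast_add, Nat.cast_inj] at h3
    refine absurd (Finset.sum_le_sum fun i _ => ?_) (not_le.2 ((Nat.lt_one_add_iff.2 le_rfl).trans_eq h3))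
    by_cases hi : S.dn (θ lam) i = 0
    · simp [hi]
    refine Nat.mul_le_mul_left _ (hc' i (h.τ_sl_P hM S (hr _ hl.1) ?_ (hne _ hl.1) ?_ hi) _ (h1 i hi))
    · have := h.prime.one_lt
      rw [hd _ hl.1]
      omega
    · rw [hsl, hsum _ hl.1, hlin _ hl.1, hlin _ hl.1, if_pos rfl, if_pos rfl, if_neg (hne _ hl.1),
        if_neg (hne _ hl.1).symm]
      ring
  have : Nonempty (Fin S.S.n) := ⟨D⟩
  choose! ι hι hι' using hT
  have hT1 : ∀ lam ∈ T, lam ≠ 1 := fun lam hl => (Finset.mem_erase.1 (Finset.mem_filter.1 hl).1).1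
  have hsub : insert i₀ (insert D (T.image ι)) ⊆ S.IB (principalBlock M G) := by
    refine Finset.insert_subset (hmem _ one_ne_zero _ h0) (Finset.insert_subset
      (hmem _ (hξ _ ha₀) _ hD) (Finset.image_subset_iff.2 fun lam hl => hmem _ ?_ _ (hι lam hl)))
    rw [hP _ (hT1 _ hl) _ ha₀]
    exact one_ne_zero
  have hall := Finset.eq_of_subset_of_card_le hsub (by
    have h1 := Finset.card_filter_add_card_filter_not (s := Finset.univ.erase (1 : E →* ℂˣ))
      fun lam => lam * lam = σ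
    have h2 : ((Finset.univ.erase (1 : E →* ℂˣ)).filter fun lam => lam * lam = σ).card ≤ 1 :=
      Finset.card_le_one.2 fun a ha b hb =>
        hsq ((Finset.mem_filter.1 ha).2.trans (Finset.mem_filter.1 hb).2.symm)
    rw [Finset.card_erase_of_mem (Finset.mem_univ _), Finset.card_univ, ← Nat.card_eq_fintype_card,
      hcard, ← h.relIndex, hw.he] at h1
    rw [Finset.card_insert_of_notMem, Finset.card_insert_of_notMem, Finset.card_image_of_injOn
      fun a ha b hb e => h.red_inj hM (by rw [hι' a ha, hι' b hb, e])]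
    · have := hw.card_IB_le hM S hB
      change _ + T.card = _ at h1
      omega
    · rw [Finset.mem_image]
      rintro ⟨lam, hl, rfl⟩
      exact hι lam hl (hc _ (hT1 _ hl))
    · rw [Finset.mem_insert, Finset.mem_image]
      rintro (rfl | ⟨lam, hl, rfl⟩)
      exacts [h0 hD', hι lam hl (h0' _ (hT1 _ hl))])
  have hg := fun v => h.toSC.lin_sl_eq_zero hM S hBV (v := v) fun i hi => by
    simp only [← hall, Finset.mem_insert, Finset.mem_image] at hi
    rcases hi with rfl | rfl | ⟨lam, hl, rfl⟩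
    · have := charP_F hM
      simp only [S.τ_sl, S.τ_single_of_one h0, MonoidHom.one_apply, Units.val_one, inv_one, red_one,
        ← Finset.sum_smul, Finset.sum_const, Finset.card_univ, ← Nat.card_eq_fintype_card, h.card_N']
      simp
    · refine S.τ_sl_eq_zero hD ?_
      rw [h.sl_N, (commute_sl_sl h.le' 1).eq, ← smul_inv_smul₀ (card_ne_zero (G := P)) (sl P 1),
        smul_mul_assoc, map_smul, ← fl, lin_idem_mul_eq_zero (irr_isChar ξ) (fl_mul_self 1), smul_zero]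
      rw [lin_fl]
      exact (fx_cast (irr_isChar ξ)).symm.trans (by rw [hξ0, Nat.cast_zero])
    · refine S.τ_sl_eq_zero (hι lam hl) ?_
      rw [hN, map_smul, hlin _ (hT1 _ hl), if_neg (hT1 _ hl), if_neg (show ¬ lam⁻¹ = 1 from fun e =>
        hT1 _ hl (MonoidHom.ext fun y => inv_eq_one.1 (DFunLike.congr_fun e y)))]
      simp
  have h1 : ∑ a : P, S.Φ D a = 0 := by
    simp only [MS.Φ, Finset.sum_apply, Pi.smul_apply, smul_eq_mul]
    rw [Finset.sum_comm]
    refine Finset.sum_eq_zero fun v _ => ?_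
    by_cases hv : S.dn v D = 0
    · simp [hv]
    have h2 : v ∈ principalBlock M G := by_contra fun h2 =>
      hv (S.dn_of_notMem h2 (hmem _ (hξ _ ha₀) _ hD))
    have h3 : v ≠ oneIrr G := fun e => hv (e ▸ hD')
    have h4 := hg v h2 h3
    rw [hN, map_smul, h.lin_fl_sl (irr_classFun v), inner_eq_add_of_eq_off_one (ψ := 0)
      (ho v h2 h3 fun lam h5 e => hv (e ▸ hc lam h5)), classInner_zero_left, smul_eq_mul] at h4
    rw [← Finset.mul_sum, show ∑ a : P, v.1 a = 0 from ?_, mul_zero]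
    rw [← h4]
    simp only [Pi.zero_apply, OneMemClass.coe_one]
    field_simp [card_ne_zero (G := E)]
    ring
  rw [sum_eq_add_of_off_one (ψ := 0) fun a ha => S.Φ_eq_zero hM D (h.toOrdP.dvd_orderOf ha)] at h1
  have h2 := S.inner_Φ (irr_classFun ξ) D
  rw [isChar_eq_zero_of_degree (S.isChar_Φ D) (by simpa using h1), classInner_zero_right,
    S.lin_e] at h2
  exact hD (by exact_mod_cast h2.symm)

end Cmp

end Cfsg.Agent.Block
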