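import Mathlib
import Cfsg.Agent.Block.Ito3
import Cfsg.Agent.Block.Dih
import Cfsg.Agent.Char.IndTI
import Cfsg.Prelude.Def_Perm

/-! The heart of the permutation module of prime degree and a three-dimensional Brauer character. -/

namespace Cfsg.Agent.Block

open Cfsg Cfsg.Agent.Char MonoidAlgebra Subgroup Module MulAction
open scoped _root_.Classical ComplexConjugate

variable {G : Type*} [Group G] {p : ℕ} {M : Ideal AlgInt} {u x : G} {α : Type*} [MulAction G α]

theorem perm_apply {K : Type*} [CommRing K] (y : MonoidAlgebra K G) (v : α → K) (a : α) :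
    (permRep K G α).asAlgebraHom y v a = lin (fun g => v (g⁻¹ • a)) y := by
  induction y using MonoidAlgebra.induction_linear with
  | zero => simp
  | add a b ha hb => simp only [map_add, LinearMap.add_apply, Pi.add_apply, ha, hb]
  | single g c => rw [Representation.asAlgebraHom_single, lin_single]; rfl

theorem subrep_mem {K W : Type*} [CommRing K] [AddCommGroup W] [Module K W] {ρ : Representation K G W}
    (U : Subrepresentation ρ) (y : MonoidAlgebra K G) {v : W} (hv : v ∈ U.toSubmodule) :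
    ρ.asAlgebraHom y v ∈ U.toSubmodule := by
  induction y using MonoidAlgebra.induction_linear with
  | zero => simp
  | add a b ha hb => rw [map_add]; exact add_mem ha hb
  | single g c =>
    rw [Representation.asAlgebraHom_single]
    exact U.toSubmodule.smul_mem c (U.apply_mem_toSubmodule g hv)

variable [Fintype G] [Fintype α]

theorem lin_perm_eq_zero {y : MonoidAlgebra ℂ G} (hV : IsV M y) (hy : y * y = y)
    (h : (permRep (F M) G α).asAlgebraHom (redG M y) = 0) :
    lin (fun g => (Nat.card (fixedBy α g) : ℂ)) y = 0 := by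
  have h1 : ∀ a b, val M ((permRep ℂ G α).asAlgebraHom y (Pi.single b 1) a) < 1 := fun a b => by
    have h2 : ∀ g : G, (Pi.single b 1 : α → ℂ) (g⁻¹ • a) ∈ V M := fun g => by
      rw [Pi.single_apply]
      split_ifs
      exacts [one_mem _, zero_mem _]
    have h3 := perm_apply (redG M y) (Pi.single b 1) a
    rw [h] at h3
    rw [perm_apply, ← red_eq_zero_iff (hV.lin_mem h2), red_lin hV h2]
    refine Eq.trans (congrArg (lin · _) (funext fun g => ?_)) h3.symm
    simp only [Pi.single_apply]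
    split_ifs
    exacts [red_one, red_zero]
  have h2 : ∀ v, (permRep ℂ G α).asAlgebraHom y v = 0 := fun v =>
    eq_zero_of_eq_sum_val_lt_one _ h1 _ fun a => by
      conv_lhs => rw [← hy, map_mul, End.mul_apply, pi_eq_sum_univ' ((permRep ℂ G α).asAlgebraHom y v)]
      simp [map_sum, mul_comm]
  have h3 : (fun g : G => (Nat.card (fixedBy α g) : ℂ)) =
      ∑ a : α, fun g : G => (Pi.single a 1 : α → ℂ) (g⁻¹ • a) := by
    funext g
    simp only [Finset.sum_apply, Pi.single_apply, inv_smul_eq_iff, Finset.sum_boole]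
    rw [Nat.card_eq_fintype_card, Fintype.card_subtype]
    simp [eq_comm]
  rw [h3, lin_sum_left]
  exact Finset.sum_eq_zero fun a _ => by rw [← perm_apply, h2, Pi.zero_apply]

namespace MS

variable (S : MS M G)

theorem heart (hirr : ∀ W : Subrepresentation (permRep (F M) G α),
      (permConstants (F M) G α).toSubmodule ≤ W.toSubmodule →
      W.toSubmodule ≤ (permSumZero (F M) G α).toSubmodule →
      W = permConstants (F M) G α ∨ W = permSumZero (F M) G α)
    (hC : (permConstants (F M) G α).toSubmodule ≤ (permSumZero (F M) G α).toSubmodule)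
    {j : Fin S.S.n} (h1 : S.dn (oneIrr G) j = 0)
    (h2 : lin (fun g => (Nat.card (fixedBy α g) : ℂ)) (S.e j) ≠ 0) :
    Fintype.card α ≤ S.S.d j + 2 := by
  set R := (permRep (F M) G α).asAlgebraHom
  set C := permConstants (F M) G α
  set Z := permSumZero (F M) G α
  set e := redG M (S.e j) with he
  have hee : e * e = e := by rw [← redG_mul (S.isV_e j) (S.isV_e j), S.e_mul_self]
  have haug : ∀ c : F M, lin (fun _ => c) e = 0 := fun c => by
    have := red_lin (S.isV_e j) (χ := fun _ => 1) fun _ => one_mem _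
    rw [show lin (fun _ => 1) (S.e j) = _ from S.lin_e (oneIrr G) j, h1, Nat.cast_zero, red_zero, red_one] at this
    rw [show (fun _ : G => c) = c • fun _ => 1 by ext; simp, lin_smul_left, ← this, mul_zero]
  have hA : ∀ z ∈ Z.toSubmodule, z ∉ C.toSubmodule → ∀ y ∈ Z.toSubmodule, ∃ c ∈ C.toSubmodule,
      ∃ b, c + R b z = y := fun z hz hz' y hy => by
    let L : MonoidAlgebra (F M) G →ₗ[F M] α → F M := LinearMap.applyₗ z ∘ₗ R.toLinearMap
    let W : Subrepresentation (permRep (F M) G α) := ⟨LinearMap.range L, by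
      rintro g _ ⟨b, rfl⟩
      exact ⟨single g 1 * b, by simp [L, R]⟩⟩
    rcases hirr (C ⊔ W) le_sup_left (sup_le hC (by rintro _ ⟨b, rfl⟩; exact subrep_mem Z b hz))
      with h | h
    · refine absurd ?_ hz'
      rw [← h]
      exact Submodule.mem_sup_right (LinearMap.mem_range.2 ⟨1, by simp [L]⟩)
    · rw [← h] at hy
      obtain ⟨c, hc, _, ⟨b, rfl⟩, e⟩ := Submodule.mem_sup.1 hy
      exact ⟨c, hc, b, e⟩
  obtain ⟨w, hw, hw', hew⟩ : ∃ w ∈ Z.toSubmodule, w ∉ C.toSubmodule ∧ R e w = w := by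
    by_contra hc
    push Not at hc
    refine h2 (lin_perm_eq_zero (S.isV_e j) (S.e_mul_self j) (LinearMap.ext fun v => ?_))
    have h3 : R e (R e v) = R e v := by rw [← End.mul_apply, ← map_mul, hee]
    obtain ⟨c, hc⟩ := Submodule.mem_span_singleton.1 (by_contra fun h4 => hc (R e v) (by
      change ∑ a, _ = 0
      simp only [R, perm_apply]
      rw [← lin_sum_left, ← haug (∑ a, v a)]
      refine congrArg (lin · _) (funext fun g => ?_)
      rw [Finset.sum_apply]
      exact Fintype.sum_equiv (MulAction.toPerm g⁻¹) _ _ fun _ => rfl) h4 h3)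
    change R e v = 0
    rw [← h3, ← hc]
    funext a
    exact (perm_apply _ _ _).trans (haug _)
  have hJ : ∀ n, S.π n = 0 → R n w ∈ C.toSubmodule := fun n hn => by
    by_contra h3
    obtain ⟨c, hc, b, h4⟩ := hA _ (subrep_mem Z n hw) h3 w hw
    obtain ⟨y, hy⟩ := (isNilpotent_of_mem_nilpotent S.nil (x := b * n)
      (by rw [RingHom.mem_ker, map_mul, hn, mul_zero])).isUnit_one_sub
    refine hw' (?_ : w ∈ _)
    have := subrep_mem C (y⁻¹ :) hc
    rwa [show c = R y w by rw [hy, map_sub, map_one, map_mul]; exact eq_sub_of_add_eq h4,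
      ← End.mul_apply, ← map_mul, Units.inv_mul, map_one, End.one_apply] at this
  choose a ha using fun l : Fin (S.S.d j) =>
    S.S.surj (Pi.single j (Matrix.single l ⟨0, S.S.pos j⟩ 1))
  have h3 : Z.toSubmodule ≤ C.toSubmodule ⊔ Submodule.span (F M)
      (Set.range fun l => R (toF M G (a l)) w) := fun y hy => by
    obtain ⟨c, hc, b, rfl⟩ := hA w hw hw' y hy
    have h4 := hJ ((b - ∑ l, S.π b j l ⟨0, S.S.pos j⟩ • toF M G (a l)) * e) (by
      simp only [map_mul, map_sub, map_sum, map_smul, ← S.hρ, ha, he, S.π_e, SP.E0]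
      rw [← Pi.single_mul_right, Pi.single_eq_zero_iff]
      ext l m
      simp [Matrix.mul_apply, Matrix.single_apply, Matrix.sum_apply, ite_and])
    rw [map_mul, End.mul_apply, hew, map_sub, LinearMap.sub_apply] at h4
    refine add_mem (Submodule.mem_sup_left hc) (Submodule.mem_sup.2 ⟨_, h4, _, ?_, sub_add_cancel _ _⟩)
    rw [map_sum, LinearMap.sum_apply]
    exact Submodule.sum_mem _ fun l _ => by
      rw [map_smul]; exact Submodule.smul_mem _ _ (Submodule.subset_span ⟨l, rfl⟩)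
  have h4 := (Submodule.finrank_mono h3).trans (Submodule.finrank_add_le_finrank_add_finrank _ _)
  have h5 := finrank_range_le_card (R := F M) fun l => R (toF M G (a l)) w
  have h6 : finrank (F M) C.toSubmodule ≤ 1 := (finrank_span_le_card _).trans (by simp)
  let T : (α → F M) →ₗ[F M] F M := ∑ a, LinearMap.proj a
  have h7 := T.finrank_range_add_finrank_ker
  have h8 := (Submodule.finrank_le (LinearMap.range T)).trans (finrank_self _).le
  rw [show LinearMap.ker T = Z.toSubmodule from Submodule.ext fun v => by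
    simp only [T, LinearMap.mem_ker, LinearMap.sum_apply]; rfl, finrank_fintype_fun_eq_card] at h7
  rw [Set.finrank, Fintype.card_fin] at h5
  omega

theorem isChar_res (hM : IsPModular p M) {f : G → ℂ} (hf : IsGeneralizedCharacter G f)
    {m : Fin S.S.n → ℕ} (hm : ∀ j, lin f (S.e j) = m j) {A : Subgroup G} (hA : ¬ p ∣ Nat.card A) :
    IsCharacter A fun a => f a := by
  refine isChar_of_isGenChar_of_nonneg (isGenChar_res A hf) fun η hη => ?_
  have h1 := (isV_blockIdem_of_not_dvd hM hA {⟨η, hη⟩}).incl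
  have h2 : incl A (blockIdem {⟨η, hη⟩}) * incl A (blockIdem {⟨η, hη⟩}) = incl A (blockIdem {⟨η, hη⟩}) := by
    rw [← map_mul, blockIdem_mul_self]
  have h3 := S.lin_idem h1 h2 (isGenChar_classFun hf)
  simp only [S.lin_φ_eq_rank _ h1 h2, hm, ← Nat.cast_mul, ← Nat.cast_sum] at h3
  obtain ⟨n, hn, h4⟩ := isIrr_degree hη
  rw [lin_incl, lin_blockIdem_singleton _ (classFun_res A (isGenChar_classFun hf)), Subtype.coe_mk, h4,
    ← eq_div_iff (Nat.cast_ne_zero.2 hn.ne')] at h3
  rw [h3, ← Complex.ofReal_natCast, ← Complex.ofReal_natCast, ← Complex.ofReal_div, Complex.ofReal_re]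
  positivity

theorem exists_smul (hM : IsPModular p M) {f : G → ℂ} (hf : IsGeneralizedCharacter G f)
    {m : Fin S.S.n → ℕ} (hm : ∀ j, lin f (S.e j) = m j) {j : Fin S.S.n} (hj : m j ≠ 0) {g : G}
    (hg : ¬ p ∣ orderOf g) (h : ‖f g‖ = ‖f 1‖) : ∃ c : F M, S.τ j (single g 1) = c • 1 := by
  have hA : ¬ p ∣ Nat.card (zpowers g) := by rwa [Nat.card_zpowers]
  have hc := S.isChar_res hM hf hm hA
  have key : ∀ y, IsV M y → y * y = y → lin f y = 0 → S.τ j (redG M y) = 0 := fun y h1 h2 h3 => by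
    have h4 := S.lin_idem h1 h2 (isGenChar_classFun hf)
    simp only [S.lin_φ_eq_rank _ h1 h2, hm, ← Nat.cast_mul, ← Nat.cast_sum, h3] at h4
    have h5 := Finset.sum_eq_zero_iff.1 (Nat.cast_eq_zero.1 h4.symm) j (Finset.mem_univ j)
    rwa [mul_eq_zero, or_iff_left hj, Submodule.finrank_eq_zero, LinearMap.range_eq_bot] at h5
  by_cases h0 : f 1 = 0
  · have := key 1 isV_one (mul_one 1) (by rw [lin_one, h0])
    rw [redG_one] at this
    exact ⟨0, by rw [← mul_one (single g 1), map_mul, this, mul_zero, zero_smul]⟩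
  obtain ⟨lam, hl⟩ := exists_linear_on_charCenter hc h0 ⊤ (by
    rintro ⟨_, k, rfl⟩ -
    exact zpow_mem ((mem_charCenter_iff hc (z := ⟨g, mem_zpowers g⟩)).2 h) k)
  let μ : zpowers g →* ℂˣ := lam.comp topEquiv.symm.toMonoidHom
  have hV := isV_fl μ hM hA
  have h1 := key _ (isV_one.sub hV) (by
    rw [sub_mul, mul_sub, mul_sub, fl_mul_self, one_mul, one_mul, mul_one, sub_self, sub_zero]) (by
    rw [map_sub, lin_one, lin_fl, show (fun a : zpowers g => f a) = f 1 • lc μ from funext fun a => by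
      simpa [mul_comm, lc, μ] using hl (topEquiv.symm a) 1, classInner_smul_left, inner_lc, if_pos rfl, mul_one,
      sub_self])
  rw [redG_sub isV_one hV, redG_one, map_sub, map_one, sub_eq_zero] at h1
  refine ⟨red M (μ ⟨g, mem_zpowers g⟩), ?_⟩
  rw [h1, ← map_smul, ← redG_smul (lam_mem_V _ _) hV, ← single_mul_fl, redG_mul (isV_single_one _) hV,
    map_mul, ← h1, mul_one, redG_single_one]

theorem exists_one : ∃ i, S.dn (oneIrr G) i = 1 ∧ S.S.d i = 1 ∧ ∀ j ≠ i, S.dn (oneIrr G) j = 0 := by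
  have h1 := S.degree_eq (oneIrr G)
  rw [show charDegree (oneIrr G).1 = 1 from charDegree_one_fun] at h1
  obtain ⟨i, -, hi⟩ := Finset.exists_ne_zero_of_sum_ne_zero (h1 ▸ one_ne_zero)
  rw [← Finset.add_sum_erase _ _ (Finset.mem_univ i)] at h1
  have h2 : S.dn (oneIrr G) i * S.S.d i = 1 := by omega
  refine ⟨i, Nat.eq_one_of_mul_eq_one_right h2, Nat.eq_one_of_mul_eq_one_left h2, fun j hj => ?_⟩
  exact (mul_eq_zero.1 (Finset.sum_eq_zero_iff.1
    (show ∑ j ∈ Finset.univ.erase i, S.dn (oneIrr G) j * S.S.d j = 0 by omega) j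
    (Finset.mem_erase.2 ⟨hj, Finset.mem_univ _⟩))).resolve_right (S.S.pos j).ne'

theorem τ_avg (hM : IsPModular p M) {A : Subgroup G} (hA : ¬ p ∣ Nat.card A) {i : Fin S.S.n}
    (h : ∀ g, S.τ i (single g 1) = 1) : S.τ i (redG M (fl A 1)) = 1 := by
  have hv := (val_natCast_eq_one_iff hM _).2 hA
  rw [fl, redG_smul (inv_mem_V_of_val_eq_one hv) (isV_sl _), map_smul, S.τ_sl, red_inv hv]
  simp only [h, MonoidHom.one_apply, Units.val_one, inv_one, red_one, ← Finset.sum_smul,
    Finset.sum_const, Finset.card_univ, ← Nat.card_eq_fintype_card, nsmul_eq_mul, mul_one, smul_smul]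
  rw [← red_natCast, inv_mul_cancel₀ ((red_ne_zero_iff (natCast_mem _ _)).2 hv), one_smul]

end MS

local notation "P" => zpowers u
local notation "E" => zpowers x

theorem Cmp.exists_three (h : Cmp p u x) [IsSimpleGroup G] (hZ : center G = ⊥)
    (hM : IsPModular p M) (hodd : Odd (Nat.card E)) (hx : x ≠ 1)
    (θ : (E →* ℂˣ) → IrrCharacter G) (hd : ∀ lam ≠ 1, charDegree (θ lam).1 = p + 1)
    (hP : ∀ lam ≠ 1, ∀ a : P, a ≠ 1 → (θ lam).1 a = 1)
    (hE : ∀ lam ≠ 1, ∀ f : E, f ≠ 1 → (θ lam).1 f = (lc lam + lc lam⁻¹) f)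
    (hr : ∀ lam ≠ 1, ∀ g, (θ lam).1 g⁻¹ = (θ lam).1 g)
    (ho : ∀ v ∈ principalBlock M G, v ≠ oneIrr G → (∀ lam ≠ 1, v ≠ θ lam) → ∀ f : E, f ≠ 1 → v.1 f = 0)
    [IsPretransitive G α] (hα : Fintype.card α = p) (hp : 3 < p) {ξ : IrrCharacter G}
    (hξ : ξ.1 = fun g => (Nat.card (fixedBy α g) : ℂ) - 1)
    (hirr : ∀ W : Subrepresentation (permRep (F M) G α),
      (permConstants (F M) G α).toSubmodule ≤ W.toSubmodule →
      W.toSubmodule ≤ (permSumZero (F M) G α).toSubmodule →
      W = permConstants (F M) G α ∨ W = permSumZero (F M) G α) :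
    ∃ lam ≠ 1, (∀ A : Subgroup G, ¬ p ∣ Nat.card A →
      IsCharacter A fun a => ((oneIrr G).1 + (θ lam).1 - ξ.1) a) ∧
      ∀ g, ¬ p ∣ orderOf g → ‖((oneIrr G).1 + (θ lam).1 - ξ.1) g‖ = 3 → g = 1 := by
  obtain ⟨S⟩ := exists_ms M G
  have := charP_F hM
  obtain ⟨i, h1, h2, h3⟩ := S.exists_one
  have hπ : (fun g => (Nat.card (fixedBy α g) : ℂ)) = (oneIrr G).1 + ξ.1 := by
    rw [hξ]; ext; simp
  have hξP : ∀ a : P, a ≠ 1 → ξ.1 a = (-1 : ℤ) := fun a ha => by
    rw [hξ]
    simp only [h.toOrdP.card_fixedBy_eq_zero α (by rw [Nat.card_eq_fintype_card, hα])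
      (h.toOrdP.dvd_orderOf ha)]
    simp
  have hξ1 : charDegree ξ.1 + 1 = p := by
    have : ξ.1 1 + 1 = p := by simp [hξ, hα]
    rw [← irr_degree_cast] at this
    exact_mod_cast this
  have hξ0 : fx P ξ.1 = 0 := by
    have h4 := (h.toOrdP.of_const (irr_isChar ξ) hξP).1
    have h5 : (charDegree ξ.1 : ℤ) + 1 = p := by exact_mod_cast hξ1
    have : (p : ℤ) * fx P ξ.1 = 0 := by linarith
    simpa [h.prime.ne_zero] using this
  obtain ⟨a⟩ : Nonempty α := Fintype.card_pos_iff.1 (by omega)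
  have hH : ¬ p ∣ Nat.card (stabilizer G a) := fun e => h.ind (by
    have h4 := card_mul_index (stabilizer G a)
    rw [index_stabilizer_of_transitive, Nat.card_eq_fintype_card (α := α), hα, h.toOrdP.card_eq, mul_comm] at h4
    exact Nat.eq_of_mul_eq_mul_left h.prime.pos h4 ▸ e)
  have h4 : ∀ j, (∀ g, S.τ j (single g 1) = 1) → ∀ v : IrrCharacter G, v ≠ oneIrr G → v ≠ ξ →
      S.dn v j = 0 := fun j hj v e1 e2 => by
    have h5 := S.lin_eq_sum_rank (isV_fl (1 : stabilizer G a →* ℂˣ) hM hH) (fl_mul_self 1) v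
    rw [lin_fl, show classInner _ (fun b => ((1 : stabilizer G a →* ℂˣ) b : ℂ)) = _ from
      (Ind.inner_indFun_right _ (fun _ => 1) (irr_classFun v)).symm,
      ← funext (IndTI.card_fixedBy_eq_indFun α a), hπ, classInner_add_right, classInner_irr_ne e1,
      classInner_irr_ne e2, add_zero] at h5
    have h6 := Finset.sum_eq_zero_iff.1 (Nat.cast_eq_zero.1 h5.symm) j (Finset.mem_univ j)
    rw [S.τ_avg hM hH hj, End.one_eq_id, LinearMap.range_id, finrank_top, finrank_fin_fun] at h6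
    exact (mul_eq_zero.1 h6).resolve_right (S.S.pos j).ne'
  have hi := S.τ_single_of_one (h1 ▸ one_ne_zero)
  have hθ : ∀ lam ≠ 1, θ lam ≠ oneIrr G ∧ θ lam ≠ ξ := fun lam hl => by
    have := hd lam hl
    constructor <;> intro e <;> rw [e] at this
    · rw [show charDegree (oneIrr G).1 = 1 from charDegree_one_fun] at this
      omega
    · omega
  have hne : ξ ≠ oneIrr G := fun e => by
    rw [e, show charDegree (oneIrr G).1 = 1 from charDegree_one_fun] at hξ1
    omega
  have h5 : S.dn ξ i = 1 := by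
    obtain ⟨b, hb⟩ := h.toOrdP.exists_ne_one
    have h6 := S.Φ_eq_zero hM i (h.toOrdP.dvd_orderOf hb)
    rw [MS.Φ, Finset.sum_apply, Fintype.sum_eq_add _ _ hne fun v hv => by
      simp [h4 i hi v hv.2 hv.1]] at h6
    simp only [Pi.smul_apply, hξP b hb, h1, smul_eq_mul, coe_oneIrr] at h6
    exact Nat.cast_injective (R := ℂ) (by push_cast at h6 ⊢; linear_combination -h6)
  have h6 := S.degree_eq ξ
  rw [← Finset.add_sum_erase _ _ (Finset.mem_univ i), h5, h2] at h6
  obtain ⟨D, hD, hD'⟩ := Finset.exists_ne_zero_of_sum_ne_zero (s := Finset.univ.erase i)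
    (f := fun j => S.dn ξ j * S.S.d j) (by omega)
  have hDi := (Finset.mem_erase.1 hD).1
  have h7 := S.heart hirr (Submodule.span_le.2 (Set.singleton_subset_iff.2 (by
    change ∑ _, _ = 0
    simp [hα]))) (h3 D hDi) (by
    rw [hπ, lin_add_left, S.lin_e, S.lin_e, h3 D hDi, Nat.cast_zero, zero_add]
    exact Nat.cast_ne_zero.2 (left_ne_zero_of_mul hD'))
  rw [← Finset.add_sum_erase _ _ hD] at h6
  have h8 : S.dn ξ D = 1 := by
    by_contra h8
    have := left_ne_zero_of_mul hD'
    have := Nat.mul_le_mul_right (S.S.d D) (show 2 ≤ S.dn ξ D by omega)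
    omega
  rw [h8] at h6
  have h9 : ∀ j, j ≠ i → j ≠ D → S.dn ξ j = 0 := fun j e1 e2 =>
    (mul_eq_zero.1 (Finset.sum_eq_zero_iff.1
      (show ∑ j ∈ (Finset.univ.erase i).erase D, S.dn ξ j * S.S.d j = 0 by omega) j
      (Finset.mem_erase.2 ⟨e2, Finset.mem_erase.2 ⟨e1, Finset.mem_univ _⟩⟩))).resolve_right
      (S.S.pos j).ne'
  obtain ⟨lam, hl, hlD⟩ := h.exists_dn hM S hodd hx θ hd hP hE hr ho (h1 ▸ one_ne_zero)
    (fun lam hl => h4 i hi _ (hθ lam hl).1 (hθ lam hl).2) (fun a ha => by simp [hξP a ha]) hξ0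
    (h8 ▸ one_ne_zero) (h3 D hDi)
  have hf : IsGeneralizedCharacter G ((oneIrr G).1 + (θ lam).1 - ξ.1) :=
    isGenChar_sub (isGenChar_add (isIrr_isGenChar (oneIrr G).2) (isIrr_isGenChar (θ lam).2))
      (isIrr_isGenChar ξ.2)
  have hle : ∀ j, S.dn ξ j ≤ S.dn (oneIrr G) j + S.dn (θ lam) j := fun j => by
    by_cases e1 : j = i
    · rw [e1]; omega
    by_cases e2 : j = D
    · rw [e2]; omega
    · rw [h9 j e1 e2]; omega
  have hm : ∀ j, lin ((oneIrr G).1 + (θ lam).1 - ξ.1) (S.e j) =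
      (S.dn (oneIrr G) j + S.dn (θ lam) j - S.dn ξ j : ℕ) := fun j => by
    rw [lin_sub_left, lin_add_left, S.lin_e, S.lin_e, S.lin_e, Nat.cast_sub (hle j), Nat.cast_add]
  have h10 : ((oneIrr G).1 + (θ lam).1 - ξ.1) 1 = 3 := by
    simp only [Pi.sub_apply, Pi.add_apply, ← irr_degree_cast (θ lam), ← irr_degree_cast ξ, hd lam hl,
      ← hξ1, coe_oneIrr]
    push_cast
    ring
  refine ⟨lam, hl, fun A hA => S.isChar_res hM hf hm hA, fun g hg e => ?_⟩
  obtain ⟨j, hj⟩ : ∃ j, S.dn (oneIrr G) j + S.dn (θ lam) j - S.dn ξ j ≠ 0 := by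
    by_contra hc
    push Not at hc
    have := S.lin_idem isV_one (mul_one 1) (isGenChar_classFun hf)
    simp only [hm, hc, lin_one, h10, Nat.cast_zero, mul_zero, Finset.sum_const_zero] at this
    norm_num at this
  obtain ⟨c, hc⟩ := S.exists_smul hM hf hm hj hg (by rw [e, h10]; simp)
  let ρ : G →* End (F M) (Fin (S.S.d j) → F M) := (S.τ j : _ →* _).comp (of (F M) G)
  rcases ρ.normal_ker.eq_bot_or_eq_top with e1 | e1
  · rw [← mem_bot, ← hZ, mem_center_iff]
    refine fun y => (MonoidHom.ker_eq_bot_iff _).1 e1 ?_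
    rw [map_mul, map_mul, show ρ g = _ from hc, mul_smul_comm, smul_mul_assoc, mul_one, one_mul]
  · have := h4 j (fun g => show g ∈ ρ.ker from e1 ▸ mem_top g) _ (hθ lam hl).1 (hθ lam hl).2
    by_cases e2 : j = i
    · rw [e2] at hj this
      omega
    · have := h3 j e2
      omega

end Cfsg.Agent.Block
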