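import Mathlib
import Cfsg.Agent.Block.Ito4
import Cfsg.Agent.Block.SCGrp
import Cfsg.Agent.Char.Galois

/-! Cyclic TI-subgroups of index two in their normaliser; the character of degree `p`. -/

namespace Cfsg.Agent.Block

open Cfsg Cfsg.Agent.Char MonoidAlgebra Subgroup Module MulAction
open scoped _root_.Classical ComplexConjugate commutatorElement

variable {G : Type*} [Group G] {p : ℕ} {u x : G}

local notation "P" => zpowers u
local notation "E" => zpowers x
local notation "NE" => normalizer (zpowers x : Set G)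

/-- A cyclic TI-subgroup of index two in its normaliser. -/
structure TIc (x : G) : Prop where
  cardN : Nat.card (normalizer (zpowers x : Set G)) = 2 * Nat.card (zpowers x)
  ti : ∀ g, ∀ f ∈ zpowers x, f ≠ 1 → g * f * g⁻¹ ∈ zpowers x → g ∈ normalizer (zpowers x : Set G)

theorem comm_zpowers {a b : G} (ha : a ∈ E) (hb : b ∈ E) : a * b = b * a :=
  congrArg Subtype.val (mul_comm' (⟨a, ha⟩ : E) ⟨b, hb⟩)

namespace TIc

variable [Fintype G] (h : TIc x)
include h

theorem mul_mem' {a b : G} (ha : a ∈ NE) (hb : b ∈ NE) (ha' : a ∉ E) (hb' : b ∉ E) : a * b ∈ E := by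
  have h2 : ((E).subgroupOf NE).index = 2 := by
    refine Nat.eq_of_mul_eq_mul_left (Nat.card_pos (α := E)) ?_
    rw [← Nat.card_congr (subgroupOfEquivOfLe (le_normalizer (H := E))).toEquiv, card_mul_index,
      h.cardN, Nat.card_congr (subgroupOfEquivOfLe (le_normalizer (H := E))).toEquiv, mul_comm]
  exact (mul_mem_iff_of_index_two h2 (a := ⟨a, ha⟩) (b := ⟨b, hb⟩)).2 (iff_of_false ha' hb')

theorem exists_w : ∃ w ∈ NE, w ∉ E := by
  by_contra hc
  push Not at hc
  have := card_le_of_le (show NE ≤ E from hc)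
  have := Nat.card_pos (α := E)
  have := h.cardN
  omega

theorem coprime (hodd : Odd (Nat.card E)) : (Nat.card E).Coprime (E).index := by
  refine Nat.Coprime.symm (Nat.coprime_of_dvd fun q hq h1 h2 => ?_)
  have := Fact.mk hq
  obtain ⟨Q⟩ : Nonempty (Sylow q E) := inferInstance
  have h0 : Nat.card E ≠ 0 := Nat.card_pos.ne'
  have hc : Nat.card ((Q : Subgroup E).map (E).subtype) = q ^ (Nat.card E).factorization q := by
    rw [card_map_of_injective (subtype_injective _), Q.card_eq_multiplicity]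
  have h3 : q ^ ((Nat.card E).factorization q + 1) ∣ Nat.card G := by
    rw [← card_mul_index E, pow_succ]
    exact mul_dvd_mul (Nat.ordProj_dvd _ _) h1
  have h4 : normalizer (((Q : Subgroup E).map (E).subtype : Subgroup G) : Set G) ≤ NE := fun g hg => by
    obtain ⟨⟨f, hf⟩, h1⟩ := (ne_bot_iff_exists_ne_one (H := (Q : Subgroup E).map (E).subtype)).1
      fun e => by
        rw [e, card_bot] at hc
        exact (Nat.one_lt_pow (hq.factorization_pos_of_dvd h0 h2).ne' hq.one_lt).ne hc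
    exact h.ti g f (map_subtype_le _ hf) (fun e => h1 (Subtype.ext e))
      (map_subtype_le _ ((mem_normalizer_iff.1 hg f).1 hf))
  have h5 := (Sylow.prime_pow_dvd_card_normalizer h3 hc).trans (card_dvd_of_le h4)
  rw [h.cardN] at h5
  refine Nat.pow_succ_factorization_not_dvd h0 hq (Nat.Coprime.dvd_of_dvd_mul_left ?_ h5)
  exact Nat.Coprime.pow_left _ (hodd.of_dvd_nat h2).coprime_two_right

theorem inverts (hodd : Odd (Nat.card E)) (hG : commutator G = ⊤) {w f : G}
    (hw : w ∈ NE) (hw' : w ∉ E) (hf : f ∈ E) : w * f * w⁻¹ = f⁻¹ := by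
  have h1 : w * f * w⁻¹ ∈ E := (mem_normalizer_iff.1 hw f).1 hf
  have hc : f * (w * f * w⁻¹) ∈ E := mul_mem hf h1
  have h2 : w * (f * (w * f * w⁻¹)) * w⁻¹ = f * (w * f * w⁻¹) := by
    calc _ = w * f * w⁻¹ * (w * w * f * (w * w)⁻¹) := by group
      _ = _ := by
        rw [comm_zpowers (h.mul_mem' hw hw hw' hw') hf, mul_inv_cancel_right, comm_zpowers hf h1]
  refine eq_inv_of_mul_eq_one_right ?_
  generalize f * (w * f * w⁻¹) = c at hc h2
  have key : ∀ (k : ℕ) (g : G), g⁻¹ * c ^ k * g ∈ E → g⁻¹ * c ^ k * g = c ^ k := fun k g hg => by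
    by_cases e : c ^ k = 1
    · simp [e]
    have h3 := h.ti g⁻¹ _ (pow_mem hc k) e (by rwa [inv_inv])
    by_cases h4 : g⁻¹ ∈ E
    · rw [comm_zpowers h4 (pow_mem hc k), inv_mul_cancel_right]
    have h5 := h.mul_mem' h3 (inv_mem hw) h4 (by rwa [inv_mem_iff])
    calc _ = g⁻¹ * w⁻¹ * (w * c * w⁻¹) ^ k * (g⁻¹ * w⁻¹)⁻¹ := by rw [conj_pow]; group
      _ = _ := by rw [h2, comm_zpowers h5 (pow_mem hc k), mul_inv_cancel_right]
  letI : CommGroup E := IsCyclic.commGroup
  have h6 := MonoidHom.transfer_eq_pow (MonoidHom.id E) c key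
  have h7 : c ∈ commutator G := hG ▸ mem_top c
  rw [MonoidHom.mem_ker.1 (Abelianization.commutator_subset_ker _ h7)] at h6
  have h8 : 1 = c ^ (E).index := congrArg Subtype.val h6
  exact orderOf_eq_one_iff.1 (Nat.eq_one_of_dvd_coprimes (h.coprime hodd)
    (orderOf_dvd_natCard _ hc) (orderOf_dvd_of_pow_eq_one h8.symm))

theorem ind_apply (hodd : Odd (Nat.card E)) (hG : commutator G = ⊤) (ψ : E → ℂ) {f : E}
    (hf : f ≠ 1) : indFun E ψ f = ψ f + ψ f⁻¹ := by
  have e : ∀ y : G, extendByZero E ψ (y * f * y⁻¹) = (if y ∈ E then ψ f else 0) +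
      ((if y ∈ NE then ψ f⁻¹ else 0) - if y ∈ E then ψ f⁻¹ else 0) := fun y => by
    by_cases h1 : y ∈ E
    · rw [comm_zpowers h1 f.2, mul_inv_cancel_right, Ind.extendByZero_coe]
      have h2 : y ∈ NE := le_normalizer h1
      simp [h1, h2]
    by_cases h2 : y ∈ NE
    · rw [h.inverts hodd hG h2 h1 f.2, ← coe_inv, Ind.extendByZero_coe]
      simp [h1, h2]
    · rw [Ind.extendByZero_of_notMem _ _ (mt (h.ti y f f.2 fun e => hf (Subtype.ext e)) h2)]
      simp [h1, h2]
  have c : ∀ (A : Subgroup G) (z : ℂ), ∑ y, (if y ∈ A then z else 0) = Nat.card A * z := fun A z => by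
    rw [← Finset.sum_filter, Finset.sum_const, nsmul_eq_mul, Nat.card_eq_fintype_card,
      Fintype.card_subtype]
  rw [Ind.indFun_apply']
  simp only [e, Finset.sum_add_distrib, Finset.sum_sub_distrib, c, h.cardN, Nat.cast_mul]
  field_simp [card_ne_zero (G := E)]
  ring

end TIc

variable [Fintype G] {χ : IrrCharacter G}

theorem OrdP.vanish {Q : Subgroup G} (h : OrdP p Q) (hχ : charDegree χ.1 = p) {g : G}
    (hg : p ∣ orderOf g) : χ.1 g = 0 := by
  obtain ⟨M, hM⟩ := exists_isPModular h.prime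
  exact char_eq_zero_of_defect_zero hM (by rw [h.factorization, hχ, h.prime.factorization_self]) hg

theorem Cmp.exists_lam (h : Cmp p u x) (hχ : charDegree χ.1 = p) :
    ∃ lam : E →* ℂˣ, ∀ f : E, f ≠ 1 → χ.1 f = lam f := by
  have h1 : χ.1 1 = p := by rw [← irr_degree_cast, hχ]
  have hp : (p : ℂ) ≠ 0 := Nat.cast_ne_zero.2 h.prime.ne_zero
  have hs : ∑ a : P, χ.1 a = p := by
    rw [Finset.sum_eq_single 1 (fun a _ ha => h.toOrdP.vanish hχ (h.toOrdP.dvd_orderOf ha))
      (by simp), coe_one, h1]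
  have ha : ∀ lam : E →* ℂˣ, ∃ n : ℕ,
      classInner (fun f : E => χ.1 f) (lc lam) = n + (p - 1) / Nat.card E := fun lam => by
    have hc : Commute (fl E lam) (fl P 1) :=
      ((commute_sl_sl h.le' lam).smul_left _).smul_right _
    obtain ⟨n, hn⟩ := exists_nat_lin_idem (irr_isChar χ) (x := fl E lam * fl P 1) (by
      rw [hc.symm.mul_mul_mul_comm, fl_mul_self, fl_mul_self])
    rw [fl.eq_1 P, mul_smul_comm, map_smul, h.lin_fl_sl (irr_classFun χ), hs, h1, h.card,
      smul_eq_mul] at hn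
    refine ⟨n, ?_⟩
    rw [← hn]
    field_simp [card_ne_zero (G := E)]
    ring
  choose n hn using ha
  have h2 := apply_eq_sum_lc (fun f : E => χ.1 f) 1
  simp only [hn, coe_one, h1, map_one, Units.val_one, mul_one, Finset.sum_add_distrib,
    Finset.sum_const, Finset.card_univ, ← Nat.card_eq_fintype_card,
    card_lin_of_comm (inferInstance : IsMulCommutative E), nsmul_eq_mul,
    mul_div_cancel₀ _ (card_ne_zero (G := E))] at h2
  have h3 : ∑ lam, n lam = 1 := by exact_mod_cast (by linear_combination -h2 : ∑ lam, (n lam : ℂ) = 1)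
  obtain ⟨lam, -, h4⟩ := Finset.exists_ne_zero_of_sum_ne_zero (h3 ▸ one_ne_zero)
  rw [← Finset.add_sum_erase _ _ (Finset.mem_univ lam)] at h3
  have h5 := Finset.sum_eq_zero_iff.1 (show ∑ μ ∈ Finset.univ.erase lam, n μ = 0 by omega)
  refine ⟨lam, fun f hf => ?_⟩
  rw [apply_eq_sum_lc (fun f : E => χ.1 f) f]
  simp only [hn, add_mul, Finset.sum_add_distrib, ← Finset.mul_sum, sum_lc_eq_zero hf]
  rw [Finset.sum_eq_single lam (fun μ _ e => by simp [h5 μ (by simp [e])]) (by simp),
    show n lam = 1 by omega]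
  simp

theorem eq_of_uniq (hu : ∀ ψ : IrrCharacter G, charDegree ψ.1 = p → ψ = χ) (hχ : charDegree χ.1 = p)
    {ψ : G → ℂ} (hψ : IsIrrCharacter G ψ) (h1 : ψ 1 = χ.1 1) (g : G) : ψ g = χ.1 g :=
  congrFun (congrArg Subtype.val (hu ⟨ψ, hψ⟩ (charDegree_of_eq (by
    rw [← hχ, irr_degree_cast]; exact h1)))) g

theorem int_of_uniq (hu : ∀ ψ : IrrCharacter G, charDegree ψ.1 = p → ψ = χ)
    (hχ : charDegree χ.1 = p) (g : G) : ∃ m : ℤ, χ.1 g = m :=
  GaloisAut.exists_int_of_forall_aut (isChar_isIntegral (irr_isChar χ) g) fun σ =>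
    eq_of_uniq hu hχ (Galois.isIrr_map (σ : ℂ →+* ℂ) χ.2) (by rw [← irr_degree_cast, map_natCast]) g

theorem Cmp.perfect (h : Cmp p u x) (hx : x ≠ 1)
    (hu : ∀ ψ : IrrCharacter G, charDegree ψ.1 = p → ψ = χ) (hχ : charDegree χ.1 = p) :
    commutator G = ⊤ := by
  obtain ⟨lam, hl⟩ := h.exists_lam hχ
  have hx1 : (⟨x, mem_zpowers x⟩ : E) ≠ 1 := fun e => hx (congrArg Subtype.val e)
  have h1 : x ∈ commutator G := by
    by_contra hc
    have := Fintype.ofFinite (Abelianization G)
    have e : Abelianization.of x ≠ 1 := fun e => hc (Abelianization.ker_of G ▸ e)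
    refine card_ne_zero (G := Abelianization G) ((sum_lc_eq_zero e).symm.trans ?_).symm
    rw [Finset.sum_congr rfl (g := fun _ => 1) fun μ _ => ?_]
    · rw [Finset.sum_const, Finset.card_univ, ← Nat.card_eq_fintype_card,
        card_lin_of_comm inferInstance, nsmul_eq_mul, mul_one]
    have := eq_of_uniq hu hχ (isIrr_mul_linear χ.2 (μ.comp Abelianization.of)) (by simp) x
    rwa [mul_eq_left₀ (by rw [hl _ hx1]; exact Units.ne_zero _)] at this
  have h2 : ⁅x, u⁆ ∈ P := mul_mem ((mem_normalizer_iff.1 h.mem u).1 (mem_zpowers u)) (inv_mem (mem_zpowers u))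
  have h3 : P ≤ commutator G := by
    rw [eq_zpowers_of_card_prime h.prime h.card h2 fun e => ?_, zpowers_le]
    · exact commutator_mem_commutator (mem_top x) (mem_top u)
    have := h.toSC.eq_one h.mem (h.notMem hx1) (mem_zpowers u) (commutatorElement_eq_one_iff_mul_comm.1 e)
    exact h.prime.one_lt.ne' (by rw [← h.order, this, orderOf_one])
  rw [← h.toOrdP.frattini h3, ← h.sup, eq_comm, sup_eq_right]
  exact sup_le h3 (zpowers_le.2 h1)

end Cfsg.Agent.Block
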