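import Mathlib
import Cfsg.Agent.Block.Ito5
import Cfsg.Agent.Block.BrRey

/-! Permutation groups of prime degree with a unique character of that degree: odd complement. -/

namespace Cfsg.Agent.Block

theorem arith24 {p m e : ℕ} (h1 : p < 24) (h2 : m < 6) (h3 : 3 < p) (h4 : m ≠ 0)
    (h5 : 1 + m * p ∣ 24) (h6 : e ∣ p - 1) (h7 : e % 2 = 1) (h8 : e ≠ 1) :
    (p = 7 ∨ p = 11 ∨ p = 23) ∧ m = 1 ∧ 2 * e + 1 = p := by
  have h9 := Nat.le_of_dvd (by omega) h6
  have h : (p = 5 ∨ p = 7 ∨ p = 11 ∨ p = 23) ∧ m = 1 := by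
    clear h6 h9
    interval_cases p <;> interval_cases m <;> simp_all
  obtain ⟨rfl | rfl | rfl | rfl, rfl⟩ := h <;> interval_cases e <;> simp_all

open Cfsg Cfsg.Agent.Char MonoidAlgebra Subgroup Module MulAction
open scoped _root_.Classical ComplexConjugate

variable {G : Type*} [Group G] [Fintype G] {p : ℕ} {u x : G} {χ : IrrCharacter G}
  {M : Ideal AlgInt} {α : Type*} [MulAction G α] [Fintype α]

local notation "P" => zpowers u
local notation "E" => zpowers x

theorem ind_eq_zero (lam : E →* ℂˣ) {g : G} (hg : (orderOf g).Coprime (Nat.card E)) :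
    indFun E (lc 1 - lc lam) g = 0 :=
  Ind.indFun_eq_zero_of_forall _ _ fun y hy => by
    have h1 : orderOf g = orderOf (y⁻¹ * g * y) := by
      simpa using (orderOf_injective (MulAut.conj y⁻¹).toMonoidHom (MulEquiv.injective _) g).symm
    have h2 : (⟨_, hy⟩ : E) = 1 := Subtype.ext (orderOf_eq_one_iff.1
      (Nat.eq_one_of_dvd_coprimes hg h1.symm.dvd (orderOf_dvd_natCard _ hy)))
    simp [h2, lc]

namespace TIc

variable (t : TIc x)
include t

theorem ind_res (hodd : Odd (Nat.card E)) (hG : commutator G = ⊤) (lam : E →* ℂˣ) :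
    (fun f : E => indFun E (lc 1 - lc lam) f) = lc 1 - lc lam + (lc 1 - lc lam⁻¹) := by
  funext f
  by_cases hf : f = 1
  · simp [hf, Ind.indFun_one, lc]
  · simp [t.ind_apply hodd hG _ hf, lc]

theorem ind_inv (hodd : Odd (Nat.card E)) (hG : commutator G = ⊤) (lam : E →* ℂˣ) (g : G) :
    indFun E (lc 1 - lc lam) g⁻¹ = indFun E (lc 1 - lc lam) g := by
  by_cases hg : ∃ y, y⁻¹ * g * y ∈ E
  · obtain ⟨y, hy⟩ := hg
    have e := t.ind_res hodd hG lam
    rw [← classFun_conj_inv (Ind.indFun_classFun _ _) g y,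
      ← classFun_conj_inv (Ind.indFun_classFun _ _) g⁻¹ y,
      show y⁻¹ * g⁻¹ * y = ((⟨_, hy⟩ : E)⁻¹ : E) by simp [mul_assoc]]
    refine (congrFun e _).trans (Eq.trans ?_ (congrFun e ⟨_, hy⟩).symm)
    simp [add_comm, lc]
  · push Not at hg
    rw [Ind.indFun_eq_zero _ _ hg, Ind.indFun_eq_zero _ _ fun y hy => hg y ?_]
    simpa [mul_assoc] using inv_mem hy

end TIc

theorem lam_ne_inv (hodd : Odd (Nat.card E)) {lam : E →* ℂˣ} (hl : lam ≠ 1) : lam ≠ lam⁻¹ :=
  fun e => hl (MonoidHom.ext fun f => by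
    have h1 : lam f ^ 2 = 1 := by
      rw [sq]
      exact mul_eq_one_iff_eq_inv.2 (DFunLike.congr_fun e f)
    have h2 : lam f ^ Nat.card E = 1 := by rw [← map_pow, pow_card_eq_one', map_one]
    exact orderOf_eq_one_iff.1 (Nat.eq_one_of_dvd_coprimes hodd.coprime_two_left
      (orderOf_dvd_of_pow_eq_one h1) (orderOf_dvd_of_pow_eq_one h2)))

theorem Cmp.exists_psi (h : Cmp p u x) (t : TIc x) [IsSimpleGroup G] (hG : commutator G = ⊤)
    (hodd : Odd (Nat.card E)) (hx : x ≠ 1)
    (hu : ∀ ψ : IrrCharacter G, charDegree ψ.1 = p → ψ = χ) (hχ : charDegree χ.1 = p)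
    [IsPretransitive G α] (hα : Fintype.card α = p) (hp : 3 < p)
    (h2 : IsMultiplyPretransitive G α 2) (hM : IsPModular p M)
    (hirr : ∀ W : Subrepresentation (permRep (F M) G α),
      (permConstants (F M) G α).toSubmodule ≤ W.toSubmodule →
      W.toSubmodule ≤ (permSumZero (F M) G α).toSubmodule →
      W = permConstants (F M) G α ∨ W = permSumZero (F M) G α) :
    ∃ ψ : G → ℂ, ψ 1 = 3 ∧ (∀ A : Subgroup G, ¬ p ∣ Nat.card A → IsCharacter A fun a => ψ a) ∧
      (∀ g, ¬ p ∣ orderOf g → ‖ψ g‖ = 3 → g = 1) ∧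
      ∀ g, (orderOf g).Coprime (Nat.card E) → ∃ m : ℤ, ψ g = m := by
  have : Nontrivial α := Fintype.one_lt_card_iff_nontrivial.1 (by omega)
  have h1 : χ.1 1 = p := by rw [← irr_degree_cast, hχ]
  have hreal : ∀ g, χ.1 g⁻¹ = χ.1 g := fun g => by
    obtain ⟨m, hm⟩ := int_of_uniq hu hχ g
    rw [isChar_inv (irr_isChar χ), hm, map_intCast]
  have hχE : ∀ f : E, f ≠ 1 → χ.1 f = lc 1 f := by
    obtain ⟨lam, hl⟩ := h.exists_lam hχ
    by_cases e : lam = 1
    · exact e ▸ hl
    refine absurd (MonoidHom.ext fun f => ?_) (lam_ne_inv hodd e)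
    by_cases hf : f = 1
    · simp [hf]
    · have := hreal f
      rw [← coe_inv, hl f hf, hl f⁻¹ (inv_ne_one.2 hf), map_inv] at this
      exact (Units.ext this).symm
  have hne : oneIrr G ≠ χ := fun e => by
    rw [← e, show charDegree (oneIrr G).1 = 1 from charDegree_one_fun] at hχ
    omega
  have hin : ∀ (lam : E →* ℂˣ) (v : G → ℂ), IsClassFunction G v →
      classInner v (indFun E (lc 1 - lc lam)) =
      classInner (fun f : E => v f) (lc 1) - classInner (fun f : E => v f) (lc lam) :=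
    fun lam v hv => by rw [Ind.inner_indFun_right _ _ hv, classInner_sub_right]
  have hgen : ∀ lam : E →* ℂˣ, IsGeneralizedCharacter G (indFun E (lc 1 - lc lam)) := fun lam =>
    IndRep.isGenChar_indFun _ (isGenChar_sub (isChar_isGenChar (isChar_linear _))
      (isChar_isGenChar (isChar_linear _)))
  have h0 : ∀ lam : E →* ℂˣ, indFun E (lc 1 - lc lam) 1 = 0 := fun lam => ind_eq_zero lam (by simp)
  have hirrθ : ∀ lam : E →* ℂˣ, lam ≠ 1 →
      IsIrrCharacter G ((oneIrr G).1 + χ.1 - indFun E (lc 1 - lc lam)) := fun lam hl => by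
    have i1 : classInner (oneIrr G).1 (indFun E (lc 1 - lc lam)) = (1 : ℕ) := by
      rw [hin _ _ (irr_classFun _), show (fun f : E => (oneIrr G).1 f) = lc 1 from rfl, inner_lc,
        inner_lc, if_pos rfl, if_neg hl.symm, sub_zero, Nat.cast_one]
    have i2 : classInner χ.1 (indFun E (lc 1 - lc lam)) = (1 : ℕ) := by
      rw [hin _ _ (irr_classFun _), inner_eq_add_of_eq_off_one hχE,
        inner_eq_add_of_eq_off_one hχE, inner_lc, inner_lc, if_pos rfl, if_neg hl.symm]
      simp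
    have i3 : classInner (indFun E (lc 1 - lc lam)) (indFun E (lc 1 - lc lam)) = 3 := by
      have hl' : lam⁻¹ ≠ 1 := fun e => lam_ne_inv hodd hl (by rw [e]; ext; simpa using congr($e _))
      rw [hin _ _ (Ind.indFun_classFun _ _), t.ind_res hodd hG]
      simp only [classInner_add_left, classInner_sub_left, inner_lc, if_neg hl, if_neg hl.symm,
        if_neg hl', if_neg (lam_ne_inv hodd hl).symm, if_true]
      norm_num
    refine isIrr_of_isGenChar_norm_one (isGenChar_sub (isGenChar_add (irr_isGenChar _)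
      (irr_isGenChar _)) (hgen lam)) ?_ ?_
    · simp only [classInner_add_left, classInner_sub_left, classInner_add_right,
        classInner_sub_right, i1, i2, i3, classInner_comm_of_natCast i1,
        classInner_comm_of_natCast i2, classInner_irr_self, classInner_irr_ne hne,
        classInner_irr_ne hne.symm]
      norm_num
    · simp only [Pi.sub_apply, Pi.add_apply, h0, h1, coe_oneIrr]
      simp
      positivity
  obtain ⟨θ, hθ⟩ : ∃ θ : (E →* ℂˣ) → IrrCharacter G, ∀ lam ≠ 1, ∀ g,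
      (θ lam).1 g = 1 + χ.1 g - indFun E (lc 1 - lc lam) g :=
    ⟨fun lam => if e : lam = 1 then χ else ⟨_, hirrθ lam e⟩, fun lam hl g => by
      simp only [dif_neg hl]; rfl⟩
  have hZ : center G = ⊥ := (center G).normal_of_characteristic.eq_bot_or_eq_top.resolve_right
    fun e => h.toOrdP.not_le_of_perfect hG fun g _ => mem_centralizer_iff.2 fun y _ =>
      mem_center_iff.1 (e ▸ mem_top g) y
  obtain ⟨lam, hl, h3, h4⟩ := h.exists_three hZ hM hodd hx θ
    (fun lam hl => charDegree_of_eq (by rw [hθ lam hl, h0, h1]; push_cast; ring))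
    (fun lam hl a ha => by
      rw [hθ lam hl, h.toOrdP.vanish hχ (h.toOrdP.dvd_orderOf ha), ind_eq_zero, add_zero, sub_zero]
      exact Nat.Coprime.of_dvd_left (h.card ▸ orderOf_dvd_natCard _ a.2)
        (h.prime.coprime_iff_not_dvd.2 h.not_dvd))
    (fun lam hl f hf => by
      rw [hθ lam hl, hχE f hf, congrFun (t.ind_res hodd hG lam) f]
      simp only [Pi.add_apply, Pi.sub_apply, lc, MonoidHom.one_apply, Units.val_one]
      ring)
    (fun lam hl g => by rw [hθ lam hl, hθ lam hl, hreal, t.ind_inv hodd hG])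
    (fun v hv h5 h6 f hf => by
      have h7 : v ≠ χ := by
        rintro rfl
        obtain ⟨e, t, δ, X, Y, a, hw, hB⟩ := h.toOrdP.exists_pW' hM
        rcases (hB v).1 hv with hv | hv
        · have := hw.valX v hv u h.order.symm.dvd
          rw [h.toOrdP.vanish hχ h.order.symm.dvd, eq_comm, Int.cast_eq_zero] at this
          rcases hw.a_sign v hv with e | e <;> omega
        · have e1 := (hw.degY hv).1
          rw [hχ, ← hw.he, h.relIndex] at e1
          refine h.not_dvd (Int.natCast_dvd_natCast.1 ⟨δ * (1 - fx P v.1), ?_⟩)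
          linear_combination -δ * e1 - Nat.card E * hw.sq
      have h8 : ∀ lam : E →* ℂˣ, classInner (fun f : E => v.1 f) (lc lam) =
          classInner (fun f : E => v.1 f) (lc 1) := fun lam => by
        by_cases hl : lam = 1
        · rw [hl]
        have := classInner_irr_ne (h6 lam hl)
        rwa [show (θ lam).1 = (oneIrr G).1 + χ.1 - indFun E (lc 1 - lc lam) from funext (hθ lam hl),
          classInner_sub_right, classInner_add_right, classInner_irr_ne h5, classInner_irr_ne h7,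
          hin _ _ (irr_classFun _), add_zero, zero_sub, neg_sub, sub_eq_zero] at this
      rw [apply_eq_sum_lc (fun f : E => v.1 f) f]
      simp only [h8, ← Finset.mul_sum, sum_lc_eq_zero hf, mul_zero])
    hα hp (ξ := ⟨_, (isIrr_perm_sub_one_iff α).2 h2⟩) rfl hirr
  refine ⟨_, ?_, h3, h4, fun g hg => ?_⟩
  · simp [hθ lam hl, h0, h1, hα]
    ring
  · obtain ⟨m, hm⟩ := int_of_uniq hu hχ g
    exact ⟨1 + (1 + m) - (Nat.card (fixedBy α g) - 1), by simp [hθ lam hl, hm, ind_eq_zero lam hg]⟩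

theorem card_dvd_24 {Q : Type*} [Group Q] [Fintype Q] {q : ℕ} (hq : q.Prime) (hQ : IsPGroup q Q)
    {ψ : Q → ℂ} (hψ : IsCharacter Q ψ) (h3 : ψ 1 = 3) (hn : ∀ g, ‖ψ g‖ = 3 → g = 1)
    (hint : ∀ g, ∃ m : ℤ, ψ g = m) : Nat.card Q ∣ 24 := by
  obtain ⟨M, hM⟩ := exists_isPModular hq
  have := Fact.mk hq
  have hv : ∀ g ≠ 1, ∃ m : ℤ, ψ g = m ∧ -3 < m ∧ m < 3 ∧ (q : ℤ) ∣ m - 3 := fun g hg => by
    obtain ⟨m, hm⟩ := hint g
    have h1 := isChar_norm_le hψ g (n := 3) h3
    have h2 := mt (hn g) hg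
    rw [hm, Complex.norm_intCast] at h1 h2
    have h4 : |m| < 3 := by exact_mod_cast lt_of_le_of_ne h1 h2
    have h5 := (int_modEq_of_val hM hψ (IsPGroup.iff_orderOf.1 hQ g) hm).dvd
    rw [charDegree_of_eq (n := 3) h3] at h5
    exact ⟨m, hm, (abs_lt.1 h4).1, (abs_lt.1 h4).2, h5⟩
  have key : ∀ (φ : Q → ℂ) (c : ℂ), IsCharacter Q φ → (∀ g ≠ 1, ψ g * conj (φ g) = c) →
      ∃ k : ℕ, (Nat.card Q : ℂ) * k = Nat.card Q * c + (3 * conj (φ 1) - c) := fun φ c hφ hc => by
    obtain ⟨k, hk⟩ := classInner_isChar_nat hψ hφ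
    refine ⟨k, ?_⟩
    rw [← hk, card_mul_classInner, sum_eq_add_of_off_one (ψ := fun _ => c) hc, h3]
    simp
  rcases subsingleton_or_nontrivial Q with hs | hs
  · rw [Nat.card_unique]; exact one_dvd _
  obtain ⟨g, hg⟩ := exists_ne (1 : Q)
  obtain ⟨m, -, h1, h2, h4⟩ := hv g hg
  have h5 := Int.le_of_dvd (by omega) (dvd_sub_comm.1 h4)
  have h6 := hq.two_le
  have h7 : q ≤ 5 := by omega
  interval_cases q
  · obtain ⟨k, hk⟩ := key ψ 1 hψ fun g hg => by
      obtain ⟨m, h0, h1, h2, h4⟩ := hv g hg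
      obtain rfl | rfl : m = 1 ∨ m = -1 := by omega
      all_goals simp [h0]
    rw [h3, map_ofNat] at hk
    have : Nat.card Q * k = Nat.card Q + 8 := by
      exact_mod_cast (by linear_combination hk : (Nat.card Q : ℂ) * k = Nat.card Q + 8)
    exact ((Nat.dvd_add_right dvd_rfl).1 ⟨k, this.symm⟩).trans (by norm_num)
  · obtain ⟨k, hk⟩ := key _ 0 (isIrr_isChar isIrr_one) fun g hg => by
      obtain ⟨m, h0, h1, h2, h4⟩ := hv g hg
      obtain rfl : m = 0 := by omega
      simp [h0]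
    have : Nat.card Q * k = 3 := by
      exact_mod_cast (by rw [hk]; simp : (Nat.card Q : ℂ) * k = 3)
    exact (Dvd.intro _ this).trans (by norm_num)
  · norm_num at hq
  · obtain ⟨k, hk⟩ := key _ (-2) (isIrr_isChar isIrr_one) fun g hg => by
      obtain ⟨m, h0, h1, h2, h4⟩ := hv g hg
      obtain rfl : m = -2 := by omega
      simp [h0]
    rw [map_one] at hk
    have : Nat.card Q * (k + 2) = 5 := by
      exact_mod_cast (by linear_combination hk : (Nat.card Q : ℂ) * (k + 2) = 5)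
    rcases (Nat.dvd_prime hq).1 (Dvd.intro _ this) with e | e
    · rw [e]; exact one_dvd _
    · rw [e] at this; omega

theorem SC.psl_of_simple {Q : Subgroup G} (h : SC p Q) [IsSimpleGroup G]
    (hv : (normalizer (Q : Set G)).index = p + 1)
    (he : 2 * (centralizer (Q : Set G)).relIndex (normalizer (Q : Set G)) + 1 = p) :
    Nonempty (G ≃* Matrix.ProjectiveSpecialLinearGroup (Fin 2) (ZMod p)) :=
  h.psl_of_index ((inferInstance : (pPrimeCore p G).Normal).eq_bot_or_eq_top.resolve_right fun e =>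
    Core.not_dvd_card_pPrimeCore h.prime (by
      rw [e, card_top, h.toOrdP.card_eq]; exact dvd_mul_right _ _)) hv he

theorem Cmp.odd_case (h : Cmp p u x) (t : TIc x) [IsSimpleGroup G] (hG : commutator G = ⊤)
    (hodd : Odd (Nat.card E)) (hx : x ≠ 1) [IsPretransitive G α] (hα : Fintype.card α = p)
    (hp : 3 < p) {ψ : G → ℂ} (h3 : ψ 1 = 3)
    (hc : ∀ A : Subgroup G, ¬ p ∣ Nat.card A → IsCharacter A fun a => ψ a)
    (hn : ∀ g, ¬ p ∣ orderOf g → ‖ψ g‖ = 3 → g = 1)
    (hi : ∀ g, (orderOf g).Coprime (Nat.card E) → ∃ m : ℤ, ψ g = m) :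
    (p = 7 ∨ p = 11) ∧ Nonempty (G ≃* Matrix.ProjectiveSpecialLinearGroup (Fin 2) (ZMod p)) := by
  obtain ⟨m, hm⟩ := h.toOrdP.exists_index_eq
  have hcop := t.coprime hodd
  have hd : (normalizer (P : Set G)).index ∣ 24 := by
    refine (Nat.dvd_iff_prime_pow_dvd_dvd _ _).2 fun q k hq hk => ?_
    rcases k.eq_zero_or_pos with rfl | hk0
    · simp
    have := Fact.mk hq
    have h1 := (dvd_pow_self q hk0.ne').trans hk
    have h2 : ¬ p ∣ q ^ k := fun e => h.prime.one_lt.ne' (Nat.dvd_one.1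
      ((Nat.dvd_add_left (dvd_mul_left p m)).1 (hm ▸ e.trans hk)))
    obtain ⟨Q, hQ⟩ := Sylow.exists_subgroup_card_pow_prime q (hk.trans (index_dvd_card _))
    have h4 : ∀ g : Q, orderOf (g : G) ∣ q ^ k := fun g => hQ ▸ orderOf_dvd_natCard _ g.2
    rw [← hQ]
    exact card_dvd_24 hq (IsPGroup.of_card hQ) (hc Q (hQ ▸ h2)) h3
      (fun g hg => Subtype.ext (hn g (fun e => h2 (e.trans (h4 g))) hg)) fun g =>
        hi g (hcop.symm.of_dvd_left ((h4 g).trans (hk.trans (index_dvd_of_le h.le'))))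
  have hm0 : m ≠ 0 := fun e => h.toOrdP.not_normal_of_perfect hG
    (normalizer_eq_top_iff.1 (index_eq_one.1 (by rw [hm, e, zero_mul, add_zero])))
  have h24 := Nat.le_of_dvd (by norm_num) hd
  rw [hm] at hd h24
  have h5 : p < 24 := by nlinarith [Nat.pos_of_ne_zero hm0]
  obtain ⟨h6, rfl, h7⟩ := arith24 h5 (by nlinarith) hp hm0 hd h.card_dvd
    (Nat.odd_iff.1 hodd) fun e => hx (zpowers_eq_bot.1 (card_eq_one.1 e))
  refine ⟨?_, h.toSC.psl_of_simple (by omega) (h.relIndex ▸ h7)⟩
  rw [← or_assoc] at h6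
  refine h6.resolve_right ?_
  rintro rfl
  have e1 : Nat.card E = 11 := by omega
  have : Fact (Nat.Prime 11) := ⟨by norm_num⟩
  obtain ⟨a, ha⟩ := (IsPGroup.of_card (p := 11) (n := 1) e1).nonempty_fixed_point_of_prime_not_dvd_card α
    (by rw [Nat.card_eq_fintype_card, hα]; norm_num)
  have hE : E ≤ stabilizer G a := fun g hg => ha ⟨g, hg⟩
  have e2 : Nat.card (stabilizer G a) = 264 := by
    have e3 := (stabilizer G a).card_mul_index
    rw [index_stabilizer_of_transitive, Nat.card_eq_fintype_card (α := α), hα,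
      ← (normalizer (P : Set G)).card_mul_index, h.card_N', hm, e1] at e3
    omega
  have hO : OrdP 11 E := ⟨this.out, e1, this.out.coprime_iff_not_dvd.1 (e1 ▸ hcop)⟩
  have hψ := hc (stabilizer G a) (by rw [e2]; norm_num)
  have := (hO.subgroupOf hE).small (fun hn => by
      have := card_le_of_le ((normal_subgroupOf_iff_le_normalizer hE).1 hn)
      rw [t.cardN] at this
      omega) hψ
    (charKer_eq_bot hψ fun g hg => Subtype.ext (hn g (fun e => by
      have := e.trans (orderOf_dvd_natCard _ g.2)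
      omega) (by rw [hg, coe_one, h3]; simp)))
  rw [charDegree_of_eq (χ := fun g : stabilizer G a => ψ g) (n := 3) h3] at this
  omega

end Cfsg.Agent.Block
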