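import Mathlib
import Cfsg.Agent.Block.Ito6
import Cfsg.Agent.Perm.PrimeDegree
import Cfsg.Agent.Perm.Multi

/-! Permutation groups of prime degree with a unique character of that degree: even complement. -/

namespace Cfsg.Agent.Block

open Cfsg Cfsg.Agent.Char Subgroup MulAction
open scoped _root_.Classical

variable {G : Type*} [Group G] [Fintype G] {p : ℕ} {u x : G} {α : Type*} [MulAction G α] [Fintype α]
  [FaithfulSMul G α]

local notation "P" => zpowers u
local notation "E" => zpowers x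

theorem Cmp.fix_unique (h : Cmp p u x) [IsPretransitive G α] (hα : Nat.card α = p) {z : E}
    (hz : z ≠ 1) {a b : α} (ha : (z : G) • a = a) (hb : (z : G) • b = b) : a = b := by
  have := Fact.mk h.prime
  obtain ⟨e, he⟩ := Perm.exists_coord hα u h.order
  obtain ⟨v, hv, rfl⟩ : ∃ v ∈ P, v • a = b := ⟨_, pow_mem (mem_zpowers u) _, Perm.coord_trans he a b⟩
  have h1 : v⁻¹ * (z * v * (z : G)⁻¹) ∈ P :=
    mul_mem (inv_mem hv) ((mem_normalizer_iff.1 (h.le' z.2) v).1 hv)
  have h2 : v⁻¹ * (z * v * (z : G)⁻¹) = 1 := by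
    by_contra hc
    have := h.toOrdP.card_fixedBy_eq_zero α hα.symm.dvd
      (h.toOrdP.dvd_orderOf (x := ⟨_, h1⟩) fun e => hc (congrArg Subtype.val e))
    refine (Nat.card_pos_iff.2 ⟨⟨⟨a, ?_⟩⟩, inferInstance⟩).ne' this
    rw [mem_fixedBy]
    simp only [mul_smul, inv_smul_eq_iff.2 ha.symm, hb, inv_smul_smul]
  rw [h.toSC.eq_one (h.le' z.2) (h.notMem hz) hv
    (mul_inv_eq_iff_eq_mul.1 (inv_mul_eq_one.1 h2).symm), one_smul]

theorem Cmp.comm_stab (h : Cmp p u x) (t : TIc x) (hα : Nat.card α = p)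
    (hev : Even (Nat.card E)) (ht : 2 * Nat.card E + 1 ≤ p) (h2 : IsMultiplyPretransitive G α 2)
    [IsPretransitive G α] {β γ : α} (hβ : β ≠ γ) : 2 * Nat.card E + 1 = p ∧
      ∀ k ∈ stabilizer G β ⊓ stabilizer G γ, ∀ l ∈ stabilizer G β ⊓ stabilizer G γ, k * l = l * k := by
  set K := stabilizer G β ⊓ stabilizer G γ
  obtain ⟨z, hz⟩ := exists_prime_orderOf_dvd_card' (G := E) 2 hev.two_dvd
  have z1 : z ≠ 1 := fun e => by simp [e] at hz
  have z2 : (z : G) * z = 1 := by rw [← coe_mul, ← sq, ← hz, pow_orderOf_eq_one, coe_one]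
  choose y hy using fun a : {a : α // ¬ (z : G) • a = a} => Perm.two_trans h2 (Ne.symm a.2) hβ
  set Φ : {a : α // ¬ (z : G) • a = a} × K → G := fun d => d.2 * y d.1 with hΦ
  have hi : Function.Injective Φ := fun ⟨a, k⟩ ⟨b, l⟩ e => by
    obtain rfl : a = b := Subtype.ext (smul_left_cancel (Φ (a, k)) (by
      conv_rhs => rw [e]
      simp only [hΦ, mul_smul, (hy _).1]
      exact k.2.1.trans l.2.1.symm))
    exact Prod.ext rfl (Subtype.ext (mul_right_cancel e))
  set F := Finset.univ.image fun d => Φ d * z * (Φ d)⁻¹ with hF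
  have hFm : ∀ b ∈ F, b * b = 1 ∧ b • β = γ := fun b hb => by
    obtain ⟨⟨a, k⟩, -, rfl⟩ := Finset.mem_image.1 hb
    refine ⟨by rw [conj_mul, z2, mul_one, mul_inv_cancel], ?_⟩
    have : (Φ (a, k))⁻¹ • β = a := by
      rw [inv_smul_eq_iff, hΦ, mul_smul, (hy a).1]
      exact k.2.1.symm
    rw [mul_smul, this, mul_smul, hΦ, mul_smul, (hy a).2]
    exact k.2.2
  have cf : ∀ A : Subgroup G, (Finset.univ.filter (· ∈ A)).card = Nat.card A := fun A => by
    rw [Nat.card_eq_fintype_card, Fintype.card_subtype]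
  have h1 := Finset.card_le_mul_card_image (f := fun d => Φ d * z * (Φ d)⁻¹) Finset.univ
    (2 * Nat.card E) fun b hb => by
      obtain ⟨d, -, rfl⟩ := Finset.mem_image.1 hb
      rw [← t.cardN, ← cf]
      refine Finset.card_le_card_of_injOn (fun c => (Φ d)⁻¹ * Φ c) (fun c hc => ?_)
        fun c _ c' _ e => hi (mul_left_cancel e)
      simp only [Finset.coe_filter, Finset.mem_univ, true_and, Set.mem_ofPred_eq] at hc ⊢
      refine t.ti _ z z.2 (fun e => z1 (Subtype.ext e)) ?_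
      rw [show (Φ d)⁻¹ * Φ c * z * ((Φ d)⁻¹ * Φ c)⁻¹ = (Φ d)⁻¹ * (Φ c * z * (Φ c)⁻¹) * Φ d by group, hc]
      simp [mul_assoc]
  have h3 : Fintype.card {a : α // (z : G) • a = a} ≤ 1 :=
    Fintype.card_le_one_iff.2 fun a b => Subtype.ext (h.fix_unique hα z1 a.2 b.2)
  rw [Finset.card_univ, Fintype.card_prod, Fintype.card_subtype_compl, ← Nat.card_eq_fintype_card,
    ← Nat.card_eq_fintype_card (α := K), hα, ← hF] at h1
  have hK := Nat.card_pos (α := K)
  have hE := Nat.card_pos (α := E)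
  have h4 : Nat.card K ≤ F.card := Nat.le_of_mul_le_mul_left
    ((Nat.mul_le_mul_right _ (by omega)).trans h1) (by omega : 0 < 2 * Nat.card E)
  obtain ⟨w, hw⟩ := Finset.card_pos.1 (hK.trans_le h4)
  obtain ⟨w1, w2⟩ := hFm w hw
  have sw : ∀ b : G, b * b = 1 → b • β = γ → b • γ = β := fun b b1 b2 => by
    rw [← b2, smul_smul, b1, one_smul]
  have h5 : F.image (w * ·) ⊆ Finset.univ.filter (· ∈ K) := fun k hk => by
    obtain ⟨b, hb, rfl⟩ := Finset.mem_image.1 hk
    obtain ⟨b1, b2⟩ := hFm b hb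
    refine Finset.mem_filter.2 ⟨Finset.mem_univ _, ?_, ?_⟩
    · exact (mul_smul w b β).trans (b2 ▸ sw w w1 w2)
    · exact (mul_smul w b γ).trans ((sw b b1 b2).symm ▸ w2)
  have h6 := Finset.card_image_of_injective F (mul_right_injective w)
  have h7 := Finset.card_le_card h5
  rw [cf, h6] at h7
  have h8 : ∀ k ∈ K, w * k * w = k⁻¹ := fun k hk => by
    obtain ⟨b, hb, rfl⟩ := Finset.mem_image.1 (Finset.eq_of_subset_of_card_le h5
      (by rw [cf, h6]; exact h4) ▸ Finset.mem_filter.2 ⟨Finset.mem_univ k, hk⟩)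
    rw [← mul_assoc, w1, one_mul, mul_inv_rev, inv_eq_of_mul_eq_one_right w1,
      inv_eq_of_mul_eq_one_right (hFm b hb).1]
  refine ⟨?_, fun k hk l hl => inv_injective ?_⟩
  · have := Nat.le_of_mul_le_mul_right (h1.trans (Nat.mul_le_mul_left _ h7)) hK
    omega
  · rw [← h8 _ (mul_mem hk hl), mul_inv_rev, ← h8 k hk, ← h8 l hl]
    simp only [mul_assoc, ← mul_assoc w w, w1, one_mul]

theorem Cmp.even_case (h : Cmp p u x) (t : TIc x) [IsSimpleGroup G] (hα : Nat.card α = p)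
    (hev : Even (Nat.card E)) (ht : 2 * Nat.card E + 1 ≤ p) (h3 : IsMultiplyPretransitive G α 3)
    [IsPretransitive G α] :
    p = 5 ∧ Nonempty (G ≃* Matrix.ProjectiveSpecialLinearGroup (Fin 2) (ZMod p)) := by
  have hE := Nat.card_pos (α := E)
  obtain ⟨β, γ, δ, h1, h2, h4⟩ := Fintype.two_lt_card_iff.1
    (show 2 < Fintype.card α by rw [← Nat.card_eq_fintype_card]; omega)
  obtain ⟨h5, h6⟩ := h.comm_stab t hα hev ht
    (isMultiplyPretransitive_of_le (n := 3) (by norm_num) (by omega)) h1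
  have h7 : stabilizer G (⟨_, Perm.inj3 h1 h2 h4⟩ : Fin 3 ↪ α) = ⊥ := eq_bot_iff.2 fun s hs => by
    have e := fun i => DFunLike.congr_fun (mem_stabilizer_iff.1 hs) i
    have e0 : s • β = β := e 0
    have e1 : s • γ = γ := e 1
    have e2 : s • δ = δ := e 2
    refine Perm.eq_one_of_forall_smul (α := α) fun a => ?_
    by_cases ha : β = a
    · exact ha ▸ e0
    by_cases hb : γ = a
    · exact hb ▸ e1
    obtain ⟨k, k0, k1, rfl⟩ := Perm.three_trans h3 h1 h2 h4 h1 ha hb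
    rw [smul_smul, h6 s ⟨e0, e1⟩ k ⟨k0, k1⟩, mul_smul, e2]
  have h8 := Perm.card_eq_descFactorial_mul h3 ⟨_, Perm.inj3 h1 h2 h4⟩
  obtain ⟨m, hm⟩ := h.toOrdP.exists_index_eq
  rw [h7, card_bot, hα, ← (normalizer (P : Set G)).card_mul_index, h.card_N', hm] at h8
  obtain ⟨e, he⟩ : ∃ e, Nat.card E = e + 1 := ⟨_, (Nat.succ_pred_eq_of_pos hE).symm⟩
  have h9 : 1 + m * p = 4 * e + 2 := by
    refine Nat.eq_of_mul_eq_mul_left (Nat.mul_pos h.prime.pos hE) (h8.trans ?_)
    rw [← h5, he]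
    simp only [Nat.descFactorial, show 2 * (e + 1) + 1 - 2 = 2 * e + 1 by omega,
      show 2 * (e + 1) + 1 - 1 = 2 * e + 2 by omega, Nat.sub_zero]
    ring
  obtain rfl : m = 1 := by
    rcases m with _ | _ | m
    · omega
    · rfl
    · nlinarith
  exact ⟨by omega, h.toSC.psl_of_simple (by omega) (h.relIndex ▸ h5)⟩

end Cfsg.Agent.Block
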