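import Mathlib
import Cfsg.Agent.Block.Dade
import Cfsg.Agent.Char.Extend

/-!
# Extensions of principal block characters that stay in the principal block
-/

set_option autoImplicit false

namespace Cfsg.Agent.Block

open Cfsg Cfsg.Agent.Char MonoidAlgebra Subgroup
open scoped ComplexConjugate

variable {G : Type*} [Group G] [Finite G] {p : ℕ} {M : Ideal AlgInt} {N : Subgroup G}

theorem omega_invUnder_mul {ψ : G → ℂ} (hψ : IsCharacter G ψ)
    (hirr : IsIrrCharacter N fun n : N => ψ n) {z : MonoidAlgebra ℂ G} (hz : InvUnder N z)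
    (a : MonoidAlgebra ℂ G) : omega ψ (z * a) = omega ψ z * omega ψ a := by
  have h1 : ψ 1 ≠ 0 := isIrr_one_ne_zero (G := N) hirr
  obtain ⟨n, ρ, rfl⟩ := hψ
  have := isIrreducible_of_isIrr_character (ρ.comp N.subtype : Representation ℂ N _) hirr
  obtain ⟨c, hc⟩ := exists_eq_smul_of_comm (ρ.comp N.subtype : Representation ℂ N _)
    (ρ.asAlgebraHom z) fun g => by
      have := congrArg ρ.asAlgebraHom (invUnder_iff.1 hz g g.2).eq
      rw [map_mul, map_mul, Representation.asAlgebraHom_single_one] at this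
      exact this.symm
  have key : ∀ a, lin ρ.character (z * a) = c * lin ρ.character a := by
    intro a
    rw [lin_character, lin_character, map_mul, hc, smul_mul_assoc, map_smul]
    rfl
  have : omega ρ.character z = c := by
    have h2 := key 1
    rw [mul_one, lin_one] at h2
    rw [omega_apply, h2, mul_div_cancel_right₀ _ h1]
  rw [omega_apply, key, this, omega_apply _ a, mul_div_assoc]

theorem exists_pPrime_root (hM : IsPModular p M) {u : ℂ} {n : ℕ} (hn : n ≠ 0) (hu : u ^ n = 1) :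
    ∃ b : ℂ, b ^ ordCompl[p] n = 1 ∧ val M (u - b) < 1 := by
  have h0 : u ≠ 0 := fun e => by simp [e, hn] at hu
  have hc : (ordProj[p] n).Coprime (ordCompl[p] n) := (Nat.coprime_ordCompl hM.1 hn).pow_left _
  have h1 := Nat.gcd_eq_gcd_ab (ordProj[p] n) (ordCompl[p] n)
  rw [hc.gcd_eq_one] at h1
  have h2 : ∀ s : ℤ, u ^ ((ordProj[p] n : ℕ) * (ordCompl[p] n : ℕ) * s) = 1 := fun s => by
    rw [← Nat.cast_mul, Nat.ordProj_mul_ordCompl_eq_self, zpow_mul, zpow_natCast, hu, one_zpow]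
  set s := Nat.gcdA (ordProj[p] n) (ordCompl[p] n)
  set t := Nat.gcdB (ordProj[p] n) (ordCompl[p] n)
  have h3 : (u ^ ((ordProj[p] n : ℕ) * s)) ^ ordCompl[p] n = 1 := by
    rw [← zpow_natCast, ← zpow_mul, mul_right_comm, h2]
  refine ⟨_, h3, ?_⟩
  have h4 : (u ^ ((ordCompl[p] n : ℕ) * t)) ^ p ^ n.factorization p = 1 := by
    rw [← zpow_natCast, ← zpow_mul, mul_comm, ← mul_assoc, h2]
  have h5 : u - u ^ ((ordProj[p] n : ℕ) * s) =
      u ^ ((ordProj[p] n : ℕ) * s) * (u ^ ((ordCompl[p] n : ℕ) * t) - 1) := by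
    rw [mul_sub, ← zpow_add₀ h0, ← h1, mul_one, Nat.cast_one, zpow_one]
  rw [h5, map_mul, val_eq_one_of_pow_eq_one (Nat.ordCompl_pos p hn).ne' h3, one_mul]
  exact val_sub_one_lt_one_of_pow_eq_one hM h4

theorem eq_of_pow_of_val (hM : IsPModular p M) {u v : ℂ} {m : ℕ} (hm : ¬ p ∣ m) (hu : u ^ m = 1)
    (hv : v ^ m = 1) (h : val M (u - v) < 1) : u = v := by
  have h0 : m ≠ 0 := fun e => hm (e ▸ dvd_zero p)
  have h1 : v ≠ 0 := fun e => by simp [e, h0] at hv
  rw [← div_eq_one_iff_eq h1]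
  refine eq_one_of_pow_eq_one_of_val_sub_one_lt_one hM hm (by rw [div_pow, hu, hv, div_one]) ?_
  rwa [div_sub_one h1, map_div₀, val_eq_one_of_pow_eq_one h0 hv, div_one]

omit [Finite G] in
theorem omega_lin_mul [Fintype G] (lam : G →* ℂˣ) (ψ : G → ℂ) {z : MonoidAlgebra ℂ G} {c : ℂ}
    (h : ∀ g, z.coeff g ≠ 0 → (lam g : ℂ) = c) :
    omega (fun g => lam g * ψ g) z = c * omega ψ z := by
  rw [omega_eq_sum, omega_eq_sum, Finset.mul_sum]
  refine Finset.sum_congr rfl fun g _ => ?_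
  by_cases h0 : z.coeff g = 0
  · simp [h0]
  · rw [h g h0, map_one, Units.val_one, one_mul]
    ring

variable [hN : N.Normal]

omit [Finite G] in
theorem InvUnder.sup_zpowers {R : Type*} [CommRing R] {z : MonoidAlgebra R G} (hz : InvUnder N z)
    {x : G} (hs : ∀ g, z.coeff g ≠ 0 → (g : G ⧸ N) = x) : InvUnder (N ⊔ zpowers x) z := by
  have h1 : Commute (single x (1 : R)) z := by
    rw [commute_single_iff]
    intro g
    by_cases hg : (g : G ⧸ N) = x
    · have h2 : g⁻¹ * x ∈ N := QuotientGroup.eq.1 hg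
      have := hz _ (hN.conj_mem _ h2 g) g
      rw [← this]
      congr 1
      group
    · have h2 : ((x * g * x⁻¹ : G) : G ⧸ N) ≠ x := fun e => hg (by
        simpa [mul_inv_eq_iff_eq_mul] using e)
      rw [of_not_not (mt (hs g) hg), of_not_not (mt (hs _) h2)]
  rw [invUnder_iff] at hz ⊢
  let S : Subgroup G :=
    { carrier := {g | Commute (single g (1 : R)) z}
      mul_mem' := fun {a b} ha hb => by
        rw [Set.mem_ofPred_eq, ← single_one_mul_single_one]
        exact Commute.mul_left ha hb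
      one_mem' := Commute.one_left z
      inv_mem' := fun {a} ha => by
        rw [Set.mem_ofPred_eq, commute_single_iff] at ha ⊢
        intro g
        rw [← ha]
        congr 1
        group }
  exact (sup_le (c := S) hz (zpowers_le.2 h1) :)

theorem exists_coset_const (hM : IsPModular p M) {θ : IrrCharacter N}
    (hθ : θ ∈ principalBlock M N) {ψ : G → ℂ} (hψ : IsCharacter G ψ)
    (he : ∀ n : N, ψ n = (θ : N → ℂ) n) (x : G) :
    ∃ b : ℂ, b ^ ordCompl[p] (Nat.card G) = 1 ∧ ∀ z, IsV M z → InvUnder N z →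
      (∀ g, z.coeff g ≠ 0 → (g : G ⧸ N) = x) →
        val M (omega ψ z - b * omega (fun _ => 1) z) < 1 := by
  classical
  set J := N ⊔ zpowers x
  have hl : N ≤ J := le_sup_left
  have := Fintype.ofFinite J
  let θ' := irrComp (subgroupOfEquivOfLe hl) θ
  have h1 : θ' ∈ principalBlock M (N.subgroupOf J) := by
    rw [← compSet_principalBlock (subgroupOfEquivOfLe hl)]
    exact irrComp_mem_compSet.2 hθ
  obtain ⟨χ, hχ, h2⟩ := (covers_principal hM).exists_over hM
    (isV_blockIdem hM isPBlock_principalBlock) isPBlock_principalBlock h1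
  have h3 : (fun n : N.subgroupOf J => ψ (n : J)) = θ' := funext fun n => he ⟨_, n.2⟩
  have h4 : IsIrrCharacter J fun g : J => ψ g :=
    isIrr_of_isIrr_res (N.subgroupOf J) (isChar_res J hψ) (h3 ▸ θ'.2)
  let x' : J := ⟨x, mem_sup_right (mem_zpowers x)⟩
  have h5 : commutator J ≤ N.subgroupOf J := by
    have : IsCyclic (J ⧸ N.subgroupOf J) := by
      refine ⟨⟨(x' : J ⧸ N.subgroupOf J), fun t => ?_⟩⟩
      obtain ⟨⟨g, hg⟩, rfl⟩ := QuotientGroup.mk_surjective t
      obtain ⟨n, hn, _, ⟨k, rfl⟩, rfl⟩ := mem_sup_of_normal_left.1 hg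
      refine ⟨k, ?_⟩
      change ((x' ^ k : J) : J ⧸ N.subgroupOf J) = _
      rw [QuotientGroup.eq, mem_subgroupOf]
      simpa [x', mul_assoc] using hN.conj_mem _ hn (x ^ k)⁻¹
    exact Normal.quotient_commutative_iff_commutator_le.1 inferInstance
  obtain ⟨lam, hk, e⟩ := Gallagher.exists_linear_of_commutator_le h5 χ.2 h4 (by rwa [h3])
  obtain ⟨b, hb, hv⟩ := exists_pPrime_root hM (u := lam x') (n := Nat.card G) Nat.card_pos.ne' (by
    obtain ⟨c, hc⟩ := (orderOf_dvd_natCard x').trans (card_subgroup_dvd_card J)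
    rw [hc, pow_mul, linear_pow_orderOf, one_pow])
  refine ⟨b, hb, fun z hV hz hs => ?_⟩
  have h7 : incl J (resTo J z) = z := incl_resTo J fun g hg => by
    by_contra h0
    have := mul_mem (hl (QuotientGroup.eq.1 (hs g h0))) (inv_mem x'.2)
    exact hg (by simpa [x'] using this)
  have hc := (hz.sup_zpowers hs).isCentral_resTo
  have hV' := hV.resTo J
  have h8 := (red_eq_iff (omega_mem_V χ hc hV') (omega_mem_V _ hc hV')).1
    (red_omega_eq_of_sameBlock hM (block_sameBlock hM isPBlock_principalBlock hχ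
      (oneIrr_mem_principalBlock hM)) hc hV')
  have h9 := omega_lin_mul lam χ (z := resTo J z) (c := lam x') fun g hg => by
    have : g⁻¹ * x' ∈ N.subgroupOf J := (QuotientGroup.eq.1 (hs g hg) : (g : G)⁻¹ * x ∈ N)
    have := hk this
    rw [MonoidHom.mem_ker, map_mul, map_inv, inv_mul_eq_one] at this
    rw [this]
  rw [← h7, omega_incl, omega_incl, e, h9]
  have h10 := omega_mem_V (oneIrr J) hc hV'
  rw [coe_oneIrr] at h8 h10
  set α := omega (χ : J → ℂ) (resTo J z)
  set β := omega (fun _ : J => (1 : ℂ)) (resTo J z)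
  rw [show (lam x' : ℂ) * α - b * β = lam x' * (α - β) + (lam x' - b) * β by ring]
  exact val_add_lt_one (val_mul_lt_one_right (mem_V_of_val_eq_one (val_eq_one_of_pow_eq_one
    (orderOf_pos x').ne' (linear_pow_orderOf lam x'))) h8) (val_mul_lt_one_left hv h10)

variable (N) in
/-- The `N`-conjugacy class of `c`. -/
def nOrb (c : G) : Set G := {g | ∃ n ∈ N, n * c * n⁻¹ = g}

variable (N) in
open Classical in
/-- The average over the `N`-conjugacy class of `c`. -/
noncomputable def nAvg (c : G) : MonoidAlgebra ℂ G :=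
  ofFun fun g => if g ∈ nOrb N c then ((nOrb N c).ncard : ℂ)⁻¹ else 0

omit [Finite G] hN in
theorem self_mem_nOrb (c : G) : c ∈ nOrb N c := ⟨1, one_mem N, by simp⟩

omit [Finite G] hN in
theorem ncard_nOrb (c : G) : (nOrb N c).ncard = (centralizer ({c} : Set G)).relIndex N := by
  let _ : MulAction N G := MulAction.compHom G (MulAut.conj.comp N.subtype)
  have h1 : nOrb N c = MulAction.orbit N c := by
    ext g
    exact ⟨fun ⟨n, hn, e⟩ => ⟨⟨n, hn⟩, e⟩, fun ⟨n, e⟩ => ⟨n, n.2, e⟩⟩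
  rw [h1, ← MulAction.index_stabilizer, relIndex]
  congr 1
  ext n
  rw [mem_subgroupOf, mem_centralizer_singleton_iff, MulAction.mem_stabilizer_iff]
  exact mul_inv_eq_iff_eq_mul

omit [Finite G] in
theorem ncard_nOrb_conj (c g : G) : (nOrb N (g * c * g⁻¹)).ncard = (nOrb N c).ncard := by
  rw [← Set.ncard_image_of_injective (nOrb N c) (MulAut.conj g).injective]
  congr 1
  ext y
  constructor
  · rintro ⟨n, hn, rfl⟩
    exact ⟨_, ⟨g⁻¹ * n * g⁻¹⁻¹, hN.conj_mem n hn _, rfl⟩, by simp [mul_assoc]⟩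
  · rintro ⟨_, ⟨n, hn, rfl⟩, rfl⟩
    exact ⟨g * n * g⁻¹, hN.conj_mem n hn _, by simp [mul_assoc]⟩

omit hN in
theorem mem_nOrb_of_coeff {c g : G} (h : (nAvg N c).coeff g ≠ 0) : g ∈ nOrb N c := by
  by_contra h0
  exact h (by rw [nAvg, coeff_ofFun, if_neg h0])

theorem mk_eq_of_coeff_nAvg {c g : G} (h : (nAvg N c).coeff g ≠ 0) : (g : G ⧸ N) = c := by
  obtain ⟨n, hn, rfl⟩ := mem_nOrb_of_coeff h
  simp [(QuotientGroup.eq_one_iff n).2 hn]

omit hN in
theorem invUnder_nAvg (c : G) : InvUnder N (nAvg N c) := fun q hq g => by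
  have : q * g * q⁻¹ ∈ nOrb N c ↔ g ∈ nOrb N c := by
    constructor
    · rintro ⟨n, hn, e⟩
      exact ⟨q⁻¹ * n, mul_mem (inv_mem hq) hn, by
        calc _ = q⁻¹ * (n * c * n⁻¹) * q := by group
          _ = _ := by rw [e]; group⟩
    · rintro ⟨n, hn, rfl⟩
      exact ⟨q * n, mul_mem hq hn, by group⟩
  simp only [nAvg, coeff_ofFun]
  by_cases h : g ∈ nOrb N c
  · rw [if_pos h, if_pos (this.2 h)]
  · rw [if_neg h, if_neg (mt this.1 h)]

omit hN in
theorem isV_nAvg (hM : IsPModular p M) {c : G} (h : ¬ p ∣ (nOrb N c).ncard) :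
    IsV M (nAvg N c) := isV_ofFun fun g => by
  split_ifs
  exacts [inv_mem_V_of_val_eq_one ((val_natCast_eq_one_iff hM _).2 h), zero_mem _]

omit hN in
theorem omega_nAvg {ψ : G → ℂ} (hψ : IsClassFunction G ψ) (c : G) :
    omega ψ (nAvg N c) = ψ c / ψ 1 := by
  classical
  have := Fintype.ofFinite G
  have h0 : ((nOrb N c).ncard : ℂ) ≠ 0 := by
    exact_mod_cast ((Set.ncard_pos (Set.toFinite _)).2 ⟨c, self_mem_nOrb c⟩).ne'
  rw [omega_apply, nAvg, lin_ofFun]
  congr 1
  simp only [ite_mul, zero_mul]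
  rw [← Finset.sum_filter, Finset.sum_congr rfl (g := fun _ => ((nOrb N c).ncard : ℂ)⁻¹ * ψ c)
    fun g hg => by
      obtain ⟨n, -, rfl⟩ := (Finset.mem_filter.1 hg).2
      rw [hψ], Finset.sum_const, nsmul_eq_mul, ← mul_assoc,
    ← Set.ncard_coe_finset, Finset.coe_filter_univ, Set.ofPred_mem_eq, mul_inv_cancel₀ h0, one_mul]

theorem exists_strong (hM : IsPModular p M) {θ : IrrCharacter N}
    (hθ : θ ∈ principalBlock M N) {ψ : G → ℂ} (hψ : IsCharacter G ψ)
    (he : ∀ n : N, ψ n = (θ : N → ℂ) n) {L : Subgroup G} [hLn : L.Normal] (hNL : N ≤ L)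
    (hL : ∃ a, L.index = p ^ a)
    (hg : ∀ x ∈ L, ∃ c : G, (c : G ⧸ N) = x ∧ ¬ p ∣ (nOrb N c).ncard) :
    ∃ μ : G →* ℂˣ, N ≤ μ.ker ∧ μ ^ ordCompl[p] (Nat.card G) = 1 ∧
      ∀ z, IsV M z → InvUnder N z → (∀ g, z.coeff g ≠ 0 → g ∈ L) →
        val M (omega (fun g => μ g * ψ g) z - omega (fun _ => 1) z) < 1 := by
  classical
  have := Fintype.ofFinite G
  choose b hb1 hb2 using exists_coset_const hM hθ hψ he
  set m := ordCompl[p] (Nat.card G)
  have hm : ¬ p ∣ m := Nat.not_dvd_ordCompl hM.1 Nat.card_pos.ne'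
  have hm0 : m ≠ 0 := fun e => hm (e ▸ dvd_zero p)
  have hirr : IsIrrCharacter N fun n : N => ψ n := (funext he :) ▸ θ.2
  have hcl := isChar_classFun hψ
  have hv : ∀ x, val M (b x) = 1 := fun x => val_eq_one_of_pow_eq_one hm0 (hb1 x)
  have h0 : ∀ x, b x ≠ 0 := fun x e => by simpa [e] using hv x
  have h1 : ∀ c : G, omega (fun _ => 1) (nAvg N c) = 1 := fun c => by
    rw [omega_nAvg (fun _ _ => rfl), div_one]
  have hU : ∀ x c : G, (c : G ⧸ N) = x → ¬ p ∣ (nOrb N c).ncard →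
      val M (ψ c / ψ 1 - b x) < 1 := fun x c hc hp => by
    have := hb2 x _ (isV_nAvg hM hp) (invUnder_nAvg c) fun g hg => (mk_eq_of_coeff_nAvg hg).trans hc
    rwa [omega_nAvg hcl, h1, mul_one] at this
  have hW : ∀ (x y : G) (α : ℂ), val M (α - b x) < 1 → val M (α - b y) < 1 → b x = b y :=
    fun x y α hx hy => eq_of_pow_of_val hM hm (hb1 x) (hb1 y) (by
      have := val_sub_lt_one hy hx
      rwa [sub_sub_sub_cancel_left] at this)
  have hmul : ∀ x ∈ L, ∀ y ∈ L, b (x * y) = b x * b y := fun x hx y hy => by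
    obtain ⟨c, hc, hc'⟩ := hg x hx
    obtain ⟨d, hd, hd'⟩ := hg y hy
    have h2 := hb2 (x * y) _ ((isV_nAvg hM hc').mul (isV_nAvg hM hd'))
      ((invUnder_nAvg c).mul (invUnder_nAvg d)) fun g hg => by
        rw [coeff_mul_left] at hg
        obtain ⟨h, -, hh⟩ := Finset.exists_ne_zero_of_sum_ne_zero hg
        have h3 := mk_eq_of_coeff_nAvg (left_ne_zero_of_mul hh)
        have h4 := mk_eq_of_coeff_nAvg (right_ne_zero_of_mul hh)
        rw [QuotientGroup.mk_mul, ← hc, ← hd, ← h3, ← h4, ← QuotientGroup.mk_mul,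
          mul_inv_cancel_left]
    rw [omega_invUnder_mul hψ hirr (invUnder_nAvg c), omega_invUnder_mul (N := N)
      (isIrr_isChar isIrr_one) isIrr_one (invUnder_nAvg c), h1, h1, omega_nAvg hcl,
      omega_nAvg hcl, mul_one, mul_one] at h2
    have h3 := hU x c hc hc'
    have h4 := hU y d hd hd'
    refine eq_of_pow_of_val hM hm (hb1 _) (by rw [mul_pow, hb1, hb1, mul_one]) ?_
    set α := ψ c / ψ 1
    set β := ψ d / ψ 1
    rw [show b (x * y) - b x * b y = (α - b x) * (β - b y) + (α - b x) * b y + b x * (β - b y) -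
      (α * β - b (x * y)) by ring]
    exact val_sub_lt_one (val_add_lt_one (val_add_lt_one
      (val_mul_lt_one_left h3 (mem_V_of_val_lt_one h4))
      (val_mul_lt_one_left h3 (mem_V_of_val_eq_one (hv y))))
      (val_mul_lt_one_right (mem_V_of_val_eq_one (hv x)) h4)) h2
  have hone : ∀ n ∈ N, b n = 1 := fun n hn => by
    have h2 := hU n 1 ((QuotientGroup.eq_one_iff n).2 hn).symm (by
      rw [ncard_nOrb, relIndex_eq_one.2 fun x _ => mem_centralizer_singleton_iff.2 (by simp)]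
      exact hM.1.not_dvd_one)
    rw [div_self (a := ψ 1) (isIrr_one_ne_zero (G := N) hirr)] at h2
    exact (eq_of_pow_of_val hM hm (one_pow m) (hb1 n) h2).symm
  let ν : L →* ℂˣ := MonoidHom.mk' (fun x => Units.mk0 (b x) (h0 x)) fun x y =>
    Units.ext (hmul x x.2 y y.2)
  have hν : orderOf ν ∣ m := orderOf_dvd_of_pow_eq_one
    (MonoidHom.ext fun x => Units.ext (by simpa [ν] using hb1 x))
  obtain ⟨μ, hμ, ho⟩ := Extend.exists_linear_ext_of_coprime ν (Clifford.inertia_eq_top.2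
    fun g x => by
      obtain ⟨c, hc, hc'⟩ := hg x x.2
      refine hW _ _ _ ?_ (hU x c hc hc')
      rw [← hcl c g]
      refine hU _ _ ?_ (by rwa [ncard_nOrb_conj])
      simp only [QuotientGroup.mk_mul, QuotientGroup.mk_inv, hc]) (by
      obtain ⟨a, ha⟩ := hL
      rw [ha]
      exact (((Nat.Prime.coprime_iff_not_dvd hM.1).2 hm).coprime_dvd_right hν).pow_left _)
  have hμ' : ∀ x ∈ L, (μ x : ℂ) = b x := fun x hx => congrArg Units.val (hμ ⟨x, hx⟩)
  have hk : N ≤ (μ⁻¹).ker := fun n hn => by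
    rw [MonoidHom.mem_ker, MonoidHom.inv_apply, inv_eq_one]
    exact Units.ext ((hμ' n (hNL hn)).trans (hone n hn))
  refine ⟨μ⁻¹, hk, orderOf_dvd_iff_pow_eq_one.1 ((orderOf_inv μ).trans ho ▸ hν),
    fun z hV hz hs => ?_⟩
  have := Fintype.ofFinite (G ⧸ N)
  rw [← sum_cmp (N := N) z, map_sum, map_sum, ← Finset.sum_sub_distrib]
  refine val_sum_lt_one _ fun t _ => ?_
  by_cases h2 : cmp N t z = 0
  · simp [h2]
  obtain ⟨x, hx⟩ : ∃ x, (cmp N t z).coeff x ≠ 0 := by
    by_contra h3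
    push Not at h3
    exact h2 (ga_ext h3)
  have h3 : ∀ g, (cmp N t z).coeff g ≠ 0 → (g : G ⧸ N) = t ∧ z.coeff g ≠ 0 := fun g hg => by
    rw [coeff_cmp] at hg
    split_ifs at hg with h
    exacts [⟨h, hg⟩, absurd rfl hg]
  have h4 : ∀ g, (cmp N t z).coeff g ≠ 0 → (g : G ⧸ N) = x := fun g hg =>
    (h3 g hg).1.trans (h3 x hx).1.symm
  have h5 := hb2 x _ (hV.trunc _) (hz.cmp t) h4
  rw [omega_lin_mul μ⁻¹ ψ (c := (b x)⁻¹) fun g hg => by
    have := hk (QuotientGroup.eq.1 (h4 g hg))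
    rw [MonoidHom.mem_ker, map_mul, map_inv, inv_mul_eq_one] at this
    rw [this, MonoidHom.inv_apply, Units.val_inv_eq_inv_val, hμ' x (hs x (h3 x hx).2)]]
  rw [show ∀ α β : ℂ, (b x)⁻¹ * α - β = (b x)⁻¹ * (α - b x * β) from fun α β => by
    field_simp [h0 x]]
  exact val_mul_lt_one_right (inv_mem_V_of_val_eq_one (hv x)) h5

omit hN in
theorem not_dvd_ncard_nOrb [Fact p.Prime] (P : Sylow p N) {c : G}
    (hc : c ∈ centralizer (((P : Subgroup N).map N.subtype : Subgroup G) : Set G)) :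
    ¬ p ∣ (nOrb N c).ncard := by
  rw [ncard_nOrb]
  refine fun h => P.not_dvd_index (h.trans (index_dvd_of_le fun x hx => ?_))
  rw [mem_subgroupOf, mem_centralizer_singleton_iff]
  exact hc x (mem_map_of_mem _ hx)

theorem exists_good_of_mem_sup [Fact p.Prime] (P : Sylow p N) {x : G}
    (hx : x ∈ N ⊔ centralizer (((P : Subgroup N).map N.subtype : Subgroup G) : Set G)) :
    ∃ c : G, (c : G ⧸ N) = x ∧ ¬ p ∣ (nOrb N c).ncard := by
  obtain ⟨n, hn, c, hc, rfl⟩ := mem_sup_of_normal_left.1 hx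
  exact ⟨c, by simp [(QuotientGroup.eq_one_iff n).2 hn], not_dvd_ncard_nOrb P hc⟩

omit hN in
theorem mem_principal_of_val (hM : IsPModular p M) {χ : IrrCharacter G}
    (h : val M (omega (χ : G → ℂ) (blockIdem (principalBlock M G)) -
      omega (fun _ => 1) (blockIdem (principalBlock M G))) < 1) : χ ∈ principalBlock M G := by
  by_contra h0
  have h1 := omega_blockIdem_of_mem (oneIrr_mem_principalBlock (G := G) hM)
  rw [coe_oneIrr] at h1
  rw [omega_blockIdem_of_notMem h0, h1] at h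
  simp at h

end Cfsg.Agent.Block
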