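import Cfsg.Agent.Block.OTy

/-! Order types: the solvable factors. -/

namespace Cfsg.Agent.Block.OTy

open Finset

/-- inner action -/
def a0 : Act (Multiplicative (ZMod 2 × ZMod 1)) (ZMod 1) :=
  Act.chr (fun k => (0 : ZMod 1) ^ k.toAdd.1.val * (0 : ZMod 1) ^ k.toAdd.2.val)
    (by decide +kernel) (by decide +kernel)

/-- outer action -/
def b0 : Act (Aff a0) (ZMod 1) :=
  Act.chr (fun k => (0 : ZMod 1) ^ k.1.val * (0 : ZMod 1) ^ k.2.toAdd.1.val *
    (0 : ZMod 1) ^ k.2.toAdd.2.val) (by decide +kernel) (by decide +kernel)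

/-- a group of order 2 -/
def g0 : TG := TG.of (Aff b0)
  [(1, 1), (2, 1)]
  (by decide +kernel) (by decide +kernel) (by decide +kernel)

theorem s0 : Group.IsSolvable g0.C := inferInstanceAs (Group.IsSolvable (Aff b0))

/-- inner action -/
def a1 : Act (Multiplicative (ZMod 3 × ZMod 1)) (ZMod 1) :=
  Act.chr (fun k => (0 : ZMod 1) ^ k.toAdd.1.val * (0 : ZMod 1) ^ k.toAdd.2.val)
    (by decide +kernel) (by decide +kernel)

/-- outer action -/
def b1 : Act (Aff a1) (ZMod 1) :=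
  Act.chr (fun k => (0 : ZMod 1) ^ k.1.val * (0 : ZMod 1) ^ k.2.toAdd.1.val *
    (0 : ZMod 1) ^ k.2.toAdd.2.val) (by decide +kernel) (by decide +kernel)

/-- a group of order 3 -/
def g1 : TG := TG.of (Aff b1)
  [(1, 1), (3, 2)]
  (by decide +kernel) (by decide +kernel) (by decide +kernel)

theorem s1 : Group.IsSolvable g1.C := inferInstanceAs (Group.IsSolvable (Aff b1))

/-- inner action -/
def a2 : Act (Multiplicative (ZMod 4 × ZMod 1)) (ZMod 1) :=
  Act.chr (fun k => (0 : ZMod 1) ^ k.toAdd.1.val * (0 : ZMod 1) ^ k.toAdd.2.val)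
    (by decide +kernel) (by decide +kernel)

/-- outer action -/
def b2 : Act (Aff a2) (ZMod 1) :=
  Act.chr (fun k => (0 : ZMod 1) ^ k.1.val * (0 : ZMod 1) ^ k.2.toAdd.1.val *
    (0 : ZMod 1) ^ k.2.toAdd.2.val) (by decide +kernel) (by decide +kernel)

/-- a group of order 4 -/
def g2 : TG := TG.of (Aff b2)
  [(1, 1), (2, 1), (4, 2)]
  (by decide +kernel) (by decide +kernel) (by decide +kernel)

theorem s2 : Group.IsSolvable g2.C := inferInstanceAs (Group.IsSolvable (Aff b2))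

/-- inner action -/
def a3 : Act (Multiplicative (ZMod 2 × ZMod 1)) (ZMod 8) :=
  Act.chr (fun k => (7 : ZMod 8) ^ k.toAdd.1.val * (1 : ZMod 8) ^ k.toAdd.2.val)
    (by decide +kernel) (by decide +kernel)

/-- outer action -/
def b3 : Act (Aff a3) (ZMod 1) :=
  Act.chr (fun k => (0 : ZMod 1) ^ k.1.val * (0 : ZMod 1) ^ k.2.toAdd.1.val *
    (0 : ZMod 1) ^ k.2.toAdd.2.val) (by decide +kernel) (by decide +kernel)

/-- a group of order 16 -/
def g3 : TG := TG.of (Aff b3)
  [(1, 1), (2, 9), (4, 2), (8, 4)]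
  (by decide +kernel) (by decide +kernel) (by decide +kernel)

theorem s3 : Group.IsSolvable g3.C := inferInstanceAs (Group.IsSolvable (Aff b3))

/-- inner action -/
def a4 : Act (Multiplicative (ZMod 2 × ZMod 1)) (ZMod 8) :=
  Act.chr (fun k => (3 : ZMod 8) ^ k.toAdd.1.val * (1 : ZMod 8) ^ k.toAdd.2.val)
    (by decide +kernel) (by decide +kernel)

/-- outer action -/
def b4 : Act (Aff a4) (ZMod 1) :=
  Act.chr (fun k => (0 : ZMod 1) ^ k.1.val * (0 : ZMod 1) ^ k.2.toAdd.1.val *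
    (0 : ZMod 1) ^ k.2.toAdd.2.val) (by decide +kernel) (by decide +kernel)

/-- a group of order 16 -/
def g4 : TG := TG.of (Aff b4)
  [(1, 1), (2, 5), (4, 6), (8, 4)]
  (by decide +kernel) (by decide +kernel) (by decide +kernel)

theorem s4 : Group.IsSolvable g4.C := inferInstanceAs (Group.IsSolvable (Aff b4))

/-- inner action -/
def a5 : Act (Multiplicative (ZMod 3 × ZMod 1)) (ZMod 1) :=
  Act.chr (fun k => (0 : ZMod 1) ^ k.toAdd.1.val * (0 : ZMod 1) ^ k.toAdd.2.val)
    (by decide +kernel) (by decide +kernel)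

/-- outer action -/
def b5 : Act (Aff a5) (ZMod 7) :=
  Act.chr (fun k => (1 : ZMod 7) ^ k.1.val * (2 : ZMod 7) ^ k.2.toAdd.1.val *
    (1 : ZMod 7) ^ k.2.toAdd.2.val) (by decide +kernel) (by decide +kernel)

/-- a group of order 21 -/
def g5 : TG := TG.of (Aff b5)
  [(1, 1), (3, 14), (7, 6)]
  (by decide +kernel) (by decide +kernel) (by decide +kernel)

theorem s5 : Group.IsSolvable g5.C := inferInstanceAs (Group.IsSolvable (Aff b5))

/-- inner action -/
def a6 : Act (Multiplicative (ZMod 2 × ZMod 1)) (ZMod 4) :=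
  Act.chr (fun k => (3 : ZMod 4) ^ k.toAdd.1.val * (1 : ZMod 4) ^ k.toAdd.2.val)
    (by decide +kernel) (by decide +kernel)

/-- outer action -/
def b6 : Act (Aff a6) (ZMod 3) :=
  Act.chr (fun k => (2 : ZMod 3) ^ k.1.val * (1 : ZMod 3) ^ k.2.toAdd.1.val *
    (1 : ZMod 3) ^ k.2.toAdd.2.val) (by decide +kernel) (by decide +kernel)

/-- a group of order 24 -/
def g6 : TG := TG.of (Aff b6)
  [(1, 1), (2, 9), (3, 2), (4, 6), (6, 6)]
  (by decide +kernel) (by decide +kernel) (by decide +kernel)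

theorem s6 : Group.IsSolvable g6.C := inferInstanceAs (Group.IsSolvable (Aff b6))

/-- inner action -/
def a7 : Act (Multiplicative (ZMod 4 × ZMod 1)) (ZMod 1) :=
  Act.chr (fun k => (0 : ZMod 1) ^ k.toAdd.1.val * (0 : ZMod 1) ^ k.toAdd.2.val)
    (by decide +kernel) (by decide +kernel)

/-- outer action -/
def b7 : Act (Aff a7) (ZMod 7) :=
  Act.chr (fun k => (1 : ZMod 7) ^ k.1.val * (6 : ZMod 7) ^ k.2.toAdd.1.val *
    (1 : ZMod 7) ^ k.2.toAdd.2.val) (by decide +kernel) (by decide +kernel)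

/-- a group of order 28 -/
def g7 : TG := TG.of (Aff b7)
  [(1, 1), (2, 1), (4, 14), (7, 6), (14, 6)]
  (by decide +kernel) (by decide +kernel) (by decide +kernel)

theorem s7 : Group.IsSolvable g7.C := inferInstanceAs (Group.IsSolvable (Aff b7))

/-- inner action -/
def a8 : Act (Multiplicative (ZMod 2 × ZMod 1)) (ZMod 4) :=
  Act.chr (fun k => (3 : ZMod 4) ^ k.toAdd.1.val * (1 : ZMod 4) ^ k.toAdd.2.val)
    (by decide +kernel) (by decide +kernel)

/-- outer action -/
def b8 : Act (Aff a8) (ZMod 7) :=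
  Act.chr (fun k => (1 : ZMod 7) ^ k.1.val * (6 : ZMod 7) ^ k.2.toAdd.1.val *
    (1 : ZMod 7) ^ k.2.toAdd.2.val) (by decide +kernel) (by decide +kernel)

/-- a group of order 56 -/
def g8 : TG := TG.of (Aff b8)
  [(1, 1), (2, 29), (4, 2), (7, 6), (14, 6), (28, 12)]
  (by decide +kernel) (by decide +kernel) (by decide +kernel)

theorem s8 : Group.IsSolvable g8.C := inferInstanceAs (Group.IsSolvable (Aff b8))

/-- inner action -/
def a9 : Act (Multiplicative (ZMod 2 × ZMod 1)) (ZMod 4) :=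
  Act.chr (fun k => (3 : ZMod 4) ^ k.toAdd.1.val * (1 : ZMod 4) ^ k.toAdd.2.val)
    (by decide +kernel) (by decide +kernel)

/-- outer action -/
def b9 : Act (Aff a9) (ZMod 7) :=
  Act.chr (fun k => (6 : ZMod 7) ^ k.1.val * (1 : ZMod 7) ^ k.2.toAdd.1.val *
    (1 : ZMod 7) ^ k.2.toAdd.2.val) (by decide +kernel) (by decide +kernel)

/-- a group of order 56 -/
def g9 : TG := TG.of (Aff b9)
  [(1, 1), (2, 17), (4, 14), (7, 6), (14, 18)]
  (by decide +kernel) (by decide +kernel) (by decide +kernel)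

theorem s9 : Group.IsSolvable g9.C := inferInstanceAs (Group.IsSolvable (Aff b9))

/-- inner action -/
def a10 : Act (Multiplicative (ZMod 2 × ZMod 1)) (ZMod 8) :=
  Act.chr (fun k => (3 : ZMod 8) ^ k.toAdd.1.val * (1 : ZMod 8) ^ k.toAdd.2.val)
    (by decide +kernel) (by decide +kernel)

/-- outer action -/
def b10 : Act (Aff a10) (ZMod 7) :=
  Act.chr (fun k => (6 : ZMod 7) ^ k.1.val * (1 : ZMod 7) ^ k.2.toAdd.1.val *
    (1 : ZMod 7) ^ k.2.toAdd.2.val) (by decide +kernel) (by decide +kernel)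

/-- a group of order 112 -/
def g10 : TG := TG.of (Aff b10)
  [(1, 1), (2, 5), (4, 30), (7, 6), (8, 28), (14, 30), (28, 12)]
  (by decide +kernel) (by decide +kernel) (by decide +kernel)

theorem s10 : Group.IsSolvable g10.C := inferInstanceAs (Group.IsSolvable (Aff b10))

/-- inner action -/
def a11 : Act (Multiplicative (ZMod 4 × ZMod 1)) (ZMod 2) :=
  Act.chr (fun k => (1 : ZMod 2) ^ k.toAdd.1.val * (1 : ZMod 2) ^ k.toAdd.2.val)
    (by decide +kernel) (by decide +kernel)

/-- outer action -/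
def b11 : Act (Aff a11) (ZMod 21) :=
  Act.chr (fun k => (20 : ZMod 21) ^ k.1.val * (8 : ZMod 21) ^ k.2.toAdd.1.val *
    (1 : ZMod 21) ^ k.2.toAdd.2.val) (by decide +kernel) (by decide +kernel)

/-- a group of order 168 -/
def g11 : TG := TG.of (Aff b11)
  [(1, 1), (2, 43), (3, 2), (4, 20), (6, 2), (7, 6), (12, 28), (14, 6), (21, 12), (28, 36), (42, 12)]
  (by decide +kernel) (by decide +kernel) (by decide +kernel)

theorem s11 : Group.IsSolvable g11.C := inferInstanceAs (Group.IsSolvable (Aff b11))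

/-- inner action -/
def a12 : Act (Multiplicative (ZMod 2 × ZMod 1)) (ZMod 4) :=
  Act.chr (fun k => (3 : ZMod 4) ^ k.toAdd.1.val * (1 : ZMod 4) ^ k.toAdd.2.val)
    (by decide +kernel) (by decide +kernel)

/-- outer action -/
def b12 : Act (Aff a12) (ZMod 21) :=
  Act.chr (fun k => (13 : ZMod 21) ^ k.1.val * (8 : ZMod 21) ^ k.2.toAdd.1.val *
    (1 : ZMod 21) ^ k.2.toAdd.2.val) (by decide +kernel) (by decide +kernel)

/-- a group of order 168 -/
def g12 : TG := TG.of (Aff b12)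
  [(1, 1), (2, 49), (3, 2), (4, 14), (6, 2), (7, 6), (12, 28), (14, 42), (21, 12), (42, 12)]
  (by decide +kernel) (by decide +kernel) (by decide +kernel)

theorem s12 : Group.IsSolvable g12.C := inferInstanceAs (Group.IsSolvable (Aff b12))

/-- `7:3` -/
def f21 : Act (Multiplicative (ZMod 3)) (ZMod 7) :=
  Act.chr (fun k => (2 : ZMod 7) ^ k.toAdd.val) (by decide +kernel) (by decide +kernel)

/-- multiplication by a generator of `F₈ˣ` -/
def mA (v : ZMod 2 × ZMod 2 × ZMod 2) : ZMod 2 × ZMod 2 × ZMod 2 := (v.2.2, v.1 + v.2.2, v.2.1)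

/-- squaring in `F₈` -/
def mF (v : ZMod 2 × ZMod 2 × ZMod 2) : ZMod 2 × ZMod 2 × ZMod 2 := (v.1, v.2.2, v.2.1 + v.2.2)

/-- `ΓL(1,8)` on `F₈` -/
def b13 : Act (Aff f21) (ZMod 2 × ZMod 2 × ZMod 2) where
  f k v := mA^[k.1.val] (mF^[k.2.toAdd.val] v)
  one := by decide +kernel
  mul := by decide +kernel
  add := by decide +kernel

/-- a group of order 168 -/
def g13 : TG := TG.of (Aff b13)
  [(1, 1), (2, 7), (3, 56), (6, 56), (7, 48)]
  (by decide +kernel) (by decide +kernel) (by decide +kernel)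

theorem s13 : Group.IsSolvable g13.C := inferInstanceAs (Group.IsSolvable (Aff b13))

/-- inner action -/
def a14 : Act (Multiplicative (ZMod 2 × ZMod 1)) (ZMod 4) :=
  Act.chr (fun k => (3 : ZMod 4) ^ k.toAdd.1.val * (1 : ZMod 4) ^ k.toAdd.2.val)
    (by decide +kernel) (by decide +kernel)

/-- outer action -/
def b14 : Act (Aff a14) (ZMod 21) :=
  Act.chr (fun k => (20 : ZMod 21) ^ k.1.val * (8 : ZMod 21) ^ k.2.toAdd.1.val *
    (1 : ZMod 21) ^ k.2.toAdd.2.val) (by decide +kernel) (by decide +kernel)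

/-- a group of order 168 -/
def g14 : TG := TG.of (Aff b14)
  [(1, 1), (2, 21), (3, 2), (4, 42), (6, 30), (7, 6), (14, 42), (21, 12), (42, 12)]
  (by decide +kernel) (by decide +kernel) (by decide +kernel)

theorem s14 : Group.IsSolvable g14.C := inferInstanceAs (Group.IsSolvable (Aff b14))

/-- inner action -/
def a15 : Act (Multiplicative (ZMod 6 × ZMod 1)) (ZMod 8) :=
  Act.chr (fun k => (3 : ZMod 8) ^ k.toAdd.1.val * (1 : ZMod 8) ^ k.toAdd.2.val)
    (by decide +kernel) (by decide +kernel)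

/-- outer action -/
def b15 : Act (Aff a15) (ZMod 7) :=
  Act.chr (fun k => (6 : ZMod 7) ^ k.1.val * (2 : ZMod 7) ^ k.2.toAdd.1.val *
    (1 : ZMod 7) ^ k.2.toAdd.2.val) (by decide +kernel) (by decide +kernel)

/-- a group of order 336 -/
def g15 : TG := TG.of (Aff b15)
  [(1, 1), (2, 5), (3, 14), (4, 30), (6, 70), (7, 6), (8, 28), (12, 84), (14, 30), (24, 56), (28, 12)]
  (by decide +kernel) (by decide +kernel) (by decide +kernel)

theorem s15 : Group.IsSolvable g15.C := inferInstanceAs (Group.IsSolvable (Aff b15))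

/-- inner action -/
def a16 : Act (Multiplicative (ZMod 2 × ZMod 2)) (ZMod 4) :=
  Act.chr (fun k => (3 : ZMod 4) ^ k.toAdd.1.val * (1 : ZMod 4) ^ k.toAdd.2.val)
    (by decide +kernel) (by decide +kernel)

/-- outer action -/
def b16 : Act (Aff a16) (ZMod 21) :=
  Act.chr (fun k => (8 : ZMod 21) ^ k.1.val * (1 : ZMod 21) ^ k.2.toAdd.1.val *
    (20 : ZMod 21) ^ k.2.toAdd.2.val) (by decide +kernel) (by decide +kernel)

/-- a group of order 336 -/
def g16 : TG := TG.of (Aff b16)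
  [(1, 1), (2, 107), (3, 2), (4, 20), (6, 34), (7, 6), (12, 28), (14, 54), (21, 12), (28, 36), (42, 36)]
  (by decide +kernel) (by decide +kernel) (by decide +kernel)

theorem s16 : Group.IsSolvable g16.C := inferInstanceAs (Group.IsSolvable (Aff b16))

/-- inner action -/
def a17 : Act (Multiplicative (ZMod 2 × ZMod 1)) (ZMod 8) :=
  Act.chr (fun k => (3 : ZMod 8) ^ k.toAdd.1.val * (1 : ZMod 8) ^ k.toAdd.2.val)
    (by decide +kernel) (by decide +kernel)

/-- outer action -/
def b17 : Act (Aff a17) (ZMod 21) :=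
  Act.chr (fun k => (20 : ZMod 21) ^ k.1.val * (1 : ZMod 21) ^ k.2.toAdd.1.val *
    (1 : ZMod 21) ^ k.2.toAdd.2.val) (by decide +kernel) (by decide +kernel)

/-- a group of order 336 -/
def g17 : TG := TG.of (Aff b17)
  [(1, 1), (2, 5), (3, 2), (4, 86), (6, 10), (7, 6), (8, 84), (12, 4), (14, 30), (21, 12), (28, 12), (42, 60), (84, 24)]
  (by decide +kernel) (by decide +kernel) (by decide +kernel)

theorem s17 : Group.IsSolvable g17.C := inferInstanceAs (Group.IsSolvable (Aff b17))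

/-- the factors -/
def lG : List TG := [g3, g6, g9, g9, g9, g9, g11, g11, g12, g13, g15, g17]

/-- the factors -/
def lH : List TG := [g0, g0, g0, g1, g2, g4, g5, g7, g8, g8, g10, g14, g14, g16, g16]

theorem solv_lG : ∀ X ∈ lG, Group.IsSolvable X.C := by
  simp only [lG, List.forall_mem_cons]
  exact ⟨s3, s6, s9, s9, s9, s9, s11, s11, s12, s13, s15, s17, by simp⟩

end Cfsg.Agent.Block.OTy
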