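import Mathlib
import Cfsg.Agent.Block.Half
import Cfsg.Agent.Char.Det

/-! Feit's theorem on groups with a faithful irreducible character of degree `p - 2`. -/

set_option autoImplicit false

namespace Cfsg.Agent.Block

open Cfsg Cfsg.Agent.Char Subgroup ComplexConjugate
open scoped _root_.Classical commutatorElement

variable {G : Type*} [Group G] [Fintype G] {p : ℕ} {P : Subgroup G}

theorem sum_mul_eq_zero_of_inner {χ : G → ℂ} (hχ : IsCharacter G χ) {lam : P →* ℂˣ}
    (h : classInner (fun x : P => χ x) (lc lam) = 0) (g : G) :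
    ∑ u : P, conj (lam u : ℂ) * χ (u * g) = 0 := by
  obtain ⟨n, ρ, rfl⟩ := hχ
  let σ := twistRep (G := P) (ρ.comp P.subtype) lam⁻¹
  have h2 := classInner_character_one (G := P) σ
  have h3 : Representation.invariants σ = ⊥ := by
    rw [← Submodule.finrank_eq_zero]
    have : classInner σ.character (fun _ => 1) = 0 := by
      rw [← h, classInner_def, classInner_def]
      refine congrArg _ (Finset.sum_congr rfl fun x _ => ?_)
      rw [twistRep_character, linear_conj]
      simp [mul_comm, Representation.character]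
    exact_mod_cast h2.symm.trans this
  have h4 : ∑ u : P, σ u = 0 := by
    refine LinearMap.ext fun v => ?_
    rw [LinearMap.zero_apply, ← Submodule.mem_bot ℂ, ← h3]
    intro y
    change (σ y * ∑ u : P, σ u) v = _
    rw [Finset.mul_sum]
    congr 1
    exact Fintype.sum_equiv (Equiv.mulLeft y) _ _ fun u => (map_mul σ _ _).symm
  have := congrArg (fun f => LinearMap.trace ℂ _ (f * ρ g)) h4
  simp only [Finset.sum_mul, map_sum, zero_mul, map_zero] at this
  rw [← this]
  refine Finset.sum_congr rfl fun u _ => ?_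
  rw [linear_conj]
  simp [σ, twistRep, Representation.character]

theorem OrdP.eta_of_two (h : OrdP p P) (hp : p ≠ 2)
    (he : (centralizer (P : Set G)).relIndex (normalizer (P : Set G)) = 2) :
    (∃ n : normalizer (P : Set G), ∀ x, cP n x = x⁻¹) ∧
      ∀ (lam : NT P) x, eta lam.1 x = lam.1 x + (lam.1 x : ℂ)⁻¹ := by
  have := Fact.mk h.prime
  obtain ⟨n, hn⟩ : ∃ n : normalizer (P : Set G), (n : G) ∉ centralizer (P : Set G) := by
    by_contra! hc
    rw [relIndex_eq_one.2 fun g hg => hc ⟨g, hg⟩] at he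
    omega
  have h1 : ∀ x, cP n x = x⁻¹ := fun x => by
    by_contra e
    have e1 : cP n (x * cP n x) = x * cP n x := by
      rw [map_mul, ← cP_mul, cP_of_mem (n := n * n)
        ((mul_mem_iff_of_index_two he).2 Iff.rfl)]
      exact Subtype.ext (h.ab.comm x.2 _ (cP n x).2)
    have e2 := eq_zpowers_of_card_prime h.prime h.card (x * cP n x).2
      fun e2 => e (eq_inv_of_mul_eq_one_right (Subtype.ext e2))
    refine hn ?_
    intro u hu
    obtain ⟨k, rfl⟩ := e2.le hu
    exact (Commute.zpow_right (mul_inv_eq_iff_eq_mul.1 (congrArg Subtype.val e1)) k).symm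
  refine ⟨⟨n, h1⟩, fun lam x => ?_⟩
  have h2 : lam.1 ≠ lam.1⁻¹ := fun e => by
    have e1 : orderOf lam.1 = p := orderOf_eq_prime
      (by rw [← h.card, ← h.ab.card_hom, pow_card_eq_one']) lam.2
    have e2 : p ∣ 2 := e1 ▸ orderOf_dvd_of_pow_eq_one (by rw [pow_two, mul_eq_one_iff_eq_inv, ← e])
    exact hp ((Nat.prime_dvd_prime_iff_eq h.prime Nat.prime_two).1 e2)
  rw [eta, ← Finset.eq_of_subset_of_card_le (s := {lam.1, lam.1⁻¹})
    (t := Finset.univ.filter (LRel lam.1)) (by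
      simp only [Finset.insert_subset_iff, Finset.mem_filter, Finset.mem_univ, true_and,
        Finset.singleton_subset_iff]
      exact ⟨equivalence_lRel.refl _, n, MonoidHom.ext fun x => by simp [h1]⟩)
    (by rw [h.abFrob.card_lRel lam.2, he, Finset.card_pair h2]), Finset.sum_pair h2]
  simp [lc]

theorem OrdP.pm2_data (h : OrdP p P) (hp : 3 < p) (hn : ¬ P.Normal) {χ : IrrCharacter G}
    (hk : charKer χ.1 = ⊥) (hd : charDegree χ.1 + 2 = p) :
    (centralizer (P : Set G)).relIndex (normalizer (P : Set G)) = 2 ∧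
    (∀ y ∈ centralizer (P : Set G), ¬ p ∣ orderOf y → y ∈ center G) ∧
    (∃ lam : NT P, ∀ x : P, x ≠ 1 → χ.1 x = -eta lam.1 x) ∧
    ∃ S : Finset (IrrCharacter G), p ≤ 2 * S.card + 1 ∧ ∀ ξ ∈ S, ∃ σ : ℂ ≃+* ℂ,
      (∀ z : ℂ, z ^ P.index = 1 → σ z = z) ∧ (fun g => σ (χ.1 g)) = ξ.1 := by
  have hZ : ¬ P ≤ center G := fun e =>
    hn ⟨fun y hy g => by rwa [mem_center_iff.1 (e hy) g, mul_inv_cancel_right]⟩
  have hk' : fx P χ.1 ≠ charDegree χ.1 := fun e =>
    hZ (((le_charKer_iff_fx (irr_isChar χ)).2 e).trans (hk.trans_le bot_le))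
  obtain ⟨B, θ, δ, ζ, a, X, hθ, hD, hψ⟩ := h.exists_defOne_of_not_dvd (ψ := χ)
    fun e => by have := Nat.le_of_dvd (by omega) e; omega
  have hp' : (3 : ℤ) < p := by exact_mod_cast hp
  have hd' : (charDegree χ.1 : ℤ) + 2 = p := by exact_mod_cast hd
  have hk'' : (fx P χ.1 : ℤ) ≠ charDegree χ.1 := by exact_mod_cast hk'
  rw [hD.union] at hψ
  rcases hψ with hψ | ⟨lam, rfl⟩
  · obtain ⟨h1, h2⟩ := h.of_const (irr_isChar χ) fun x hx => hD.valX_one hψ hx
    generalize a χ * _ = c at h1 h2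
    have h3 : (0 : ℤ) ≤ fx P χ.1 := by positivity
    rcases h2.eq_or_lt with e | e
    · exact absurd (by rw [h1, ← e]; ring) hk''
    · nlinarith
  obtain ⟨h1, h2, h2'⟩ := h.of_eta (irr_isChar _) lam.2 fun x hx => hD.valY_one lam hx
  have h3 : (0 : ℤ) < charDegree θ.1 := by
    exact_mod_cast Nat.pos_of_ne_zero (isIrr_charDegree_ne_zero θ.2)
  obtain ⟨t, ht⟩ := h.relIndex_dvd
  have he : 0 < (centralizer (P : Set G)).relIndex (normalizer (P : Set G)) :=
    Nat.pos_of_ne_zero index_ne_zero_of_finite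
  generalize hE : (centralizer (P : Set G)).relIndex (normalizer (P : Set G)) = e at h1 ht he ⊢
  have ht' : (p : ℤ) = e * t + 1 := by exact_mod_cast (show p = e * t + 1 by omega)
  have he' : (0 : ℤ) < e := by exact_mod_cast he
  have h4 : (0 : ℤ) ≤ fx P (ζ lam).1 := by positivity
  rcases hD.sign with rfl | rfl
  · exfalso
    have h5 : (fx P (ζ lam).1 : ℤ) = 0 := by nlinarith [mul_pos h3 he']
    have h6 : (e : ℤ) * (t - charDegree θ.1) = 1 := by rw [h5] at h1; linarith
    have h7 : e = 1 := by exact_mod_cast Int.eq_one_of_mul_eq_one_right he'.le h6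
    subst h7
    refine hZ fun x hx => charCenter_le_center (irr_classFun _) hk
      ((mem_charCenter_iff (irr_isChar _)).2 ?_)
    by_cases e1 : x = 1
    · rw [e1]
    rw [hD.valY_one lam (x := ⟨x, hx⟩) (by simpa using e1), eta_of_le (relIndex_eq_one.1 hE),
      ← irr_degree_cast, norm_mul, linear_norm, mul_one]
    exact congrArg _ (by exact_mod_cast (show 1 * (charDegree θ.1 : ℤ) = charDegree (ζ lam).1 by
      rw [h1, h5]; simp))
  obtain ⟨m, hm⟩ : ∃ m : ℤ, m = fx P (ζ lam).1 - charDegree θ.1 := ⟨_, rfl⟩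
  have h5 : (charDegree (ζ lam).1 : ℤ) = charDegree θ.1 * (p - e) + p * m := by rw [h1, hm]; ring
  have ht0 : t ≠ 0 := by rintro rfl; simp at ht'; omega
  have h7 : (1 : ℤ) ≤ t := by omega
  have h6 : m = 0 := by nlinarith [mul_pos h3 (show (0 : ℤ) < p - e by nlinarith)]
  have h8 : (2 : ℤ) ≤ t := by
    refine h7.lt_of_ne fun e1 => hk'' ?_
    rw [h5, h6, ht', ← e1]; linarith
  have h9 : (charDegree θ.1 : ℤ) = 1 := by
    nlinarith [mul_le_mul_of_nonneg_left h8 he'.le]
  obtain rfl : e = 2 := by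
    rw [h9, h6] at h5
    omega
  have h10 : θ.1 1 = 1 := by rw [← irr_degree_cast]; exact_mod_cast h9
  refine ⟨rfl, fun y hy hr => ?_, ⟨lam, fun x hx => by rw [hD.valY_one lam hx, h9]; simp⟩,
    (Set.range ζ).toFinset, ?_, fun ξ hξ => ?_⟩
  · have h11 := sum_mul_eq_zero_of_inner (irr_isChar (ζ lam)) (lam := lam.1) (by
      rw [h2', if_pos (equivalence_lRel.refl _)]
      exact_mod_cast (show (fx P (ζ lam).1 : ℤ) + -1 * charDegree θ.1 = 0 by omega)) y
    let C := centralizer (P : Set G)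
    let y' : C := ⟨y, hy⟩
    have hc0 : (Nat.card C : ℂ) ≠ 0 := card_ne_zero
    have hθ1 : ∀ c, ‖θ.1 c‖ = 1 := fun c => by
      obtain ⟨l, hl⟩ := isChar_linear_of_degree_one (irr_isChar θ) h10
      rw [hl, linear_norm]
    have h12 : ∑ u : P, conj (lam.1 u : ℂ) * ((Nat.card C : ℂ)⁻¹ *
        ∑ n, (lam.1 (cP n u) : ℂ) * θ.1 (cH n y')) = p * θ.1 y' := by
      simp only [Finset.mul_sum]
      rw [Finset.sum_comm, Finset.sum_congr rfl (g := fun n : normalizer (P : Set G) =>
        if n ∈ C.subgroupOf _ then (Nat.card C : ℂ)⁻¹ * (p * θ.1 y') else 0) fun n _ => ?_,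
        ← Finset.sum_filter, Finset.sum_const, card_filter_eq_card
          (s := (C.subgroupOf (normalizer (P : Set G)) : Set (normalizer (P : Set G))))
          (q := fun n : normalizer (P : Set G) => n ∈ C.subgroupOf _) fun _ => Iff.rfl, nsmul_eq_mul, ← mul_assoc, SetLike.coe_sort_coe,
        Nat.card_congr (subgroupOfEquivOfLe (centralizer_le_normalizer _)).toEquiv,
        mul_inv_cancel₀ hc0, one_mul]
      have e1 := card_mul_classInner (lc (lam.1.comp (cP n))) (lc lam.1)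
      rw [inner_lc, h.card] at e1
      rw [Finset.sum_congr rfl (g := fun u : P => (Nat.card C : ℂ)⁻¹ * θ.1 (cH n y') *
        (lc (lam.1.comp (cP n)) u * conj (lc lam.1 u))) fun u _ => by simp only [lc]; simp; ring,
        ← Finset.mul_sum, ← e1]
      by_cases e2 : n ∈ C.subgroupOf _
      · rw [if_pos e2, if_pos (show lam.1.comp (cP n) = lam.1 from
          MonoidHom.ext fun x => congrArg lam.1 (cP_of_mem e2 x)),
          ← irr_classFun θ y' ⟨n, e2⟩, show cH n y' = ⟨n, e2⟩ * y' * (⟨n, e2⟩ : C)⁻¹ from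
            Subtype.ext (coe_cH _ _)]
        ring
      · rw [if_neg e2, if_neg fun e => e2 (h.abFrob.free lam.2 e), mul_zero, mul_zero]
    rw [← Finset.add_sum_erase _ _ (Finset.mem_univ 1)] at h11 h12
    rw [Finset.sum_congr rfl fun u hu => by
      rw [hD.valY lam u (Finset.ne_of_mem_erase hu) y' (by rwa [← orderOf_coe])]] at h11
    simp only [map_one, Units.val_one, one_mul, OneMemClass.coe_one, Int.cast_neg, Int.cast_one,
      neg_mul, mul_neg, Finset.sum_neg_distrib] at h11 h12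
    have h13 : ‖(Nat.card C : ℂ)⁻¹ * ∑ n, θ.1 (cH n y')‖ ≤ 2 := by
      rw [norm_mul, norm_inv, inv_mul_le_iff₀ (norm_pos_iff.2 hc0)]
      refine (norm_sum_le _ _).trans (le_of_eq ?_)
      simp only [hθ1, Finset.sum_const, Finset.card_univ, ← Nat.card_eq_fintype_card, nsmul_eq_mul,
        mul_one, ← Core.card_mul_relIndex (centralizer_le_normalizer (P : Set G)), hE]
      simp [C]
    refine charCenter_le_center (irr_classFun _) hk ((mem_charCenter_iff (irr_isChar _)).2
      (le_antisymm (isChar_norm_le' (irr_isChar _) _) ?_))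
    have h14 := norm_add_le ((ζ lam).1 y) ((Nat.card C : ℂ)⁻¹ * ∑ n, θ.1 (cH n y'))
    rw [show (ζ lam).1 y + _ = p * θ.1 y' by linear_combination h11 + h12, norm_mul, hθ1] at h14
    have h15 : (charDegree (ζ lam).1 : ℝ) + 2 = p := by exact_mod_cast hd
    rw [← irr_degree_cast]
    simp only [Complex.norm_natCast, mul_one] at h14 ⊢
    linarith
  · have h11 := hD.cardY
    have h12 : (centralizer (P : Set G)).relIndex (stabI θ) ≤ 2 :=
      hE ▸ relIndex_le_of_le_right (fun g hg => hg.1) (hE ▸ two_ne_zero)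
    rw [Set.toFinset_card, ← Nat.card_eq_fintype_card]
    nlinarith
  · obtain ⟨μ, rfl⟩ := Set.mem_toFinset.1 hξ
    obtain ⟨σ, h11, rfl⟩ := h.exists_ntMap lam μ
    exact ⟨σ, h11, hD.mapY (σ := σ) h11 lam⟩

theorem eq_zero_or_eq_of_sq {u : ℕ → ℝ} {c : ℝ} (hc : 0 < c) (h : ∀ i, u i ^ 2 = c * u (i + 1))
    {n : ℕ} (hn : n ≠ 0) (e : u n = u 0) (h0 : 0 ≤ u 0) : u 0 = 0 ∨ u 0 = c := by
  have h1 : ∀ i, u i / c = (u 0 / c) ^ 2 ^ i := fun i => by
    induction i with
    | zero => simp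
    | succ i ih => rw [pow_succ, pow_mul, ← ih, div_pow, h]; field_simp
  have h2 := h1 n
  obtain ⟨m, hm⟩ := Nat.exists_eq_add_of_lt (Nat.one_lt_two_pow hn)
  rw [e, hm, pow_succ] at h2
  refine or_iff_not_imp_left.2 fun h3 => (div_eq_one_iff_eq hc.ne').1
    ((pow_eq_one_iff_of_nonneg (div_nonneg h0 hc.le) (n := 1 + m) (by omega)).1 ?_)
  exact mul_right_cancel₀ (div_ne_zero h3 hc.ne') (h2.symm.trans (one_mul _).symm)

omit [Fintype G] in
theorem pow_two_pow_totient {g : G} (h : Odd (orderOf g)) : g ^ 2 ^ (orderOf g).totient = g := by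
  conv_rhs => rw [← pow_one g]
  exact pow_eq_pow_iff_modEq.2 (Nat.ModEq.pow_totient (Nat.coprime_two_left.2 h))

omit [Fintype G] in
theorem mul_self_of_order {t : G} (ht : orderOf t = 2) : t * t = 1 := by
  rw [← pow_two]; exact orderOf_dvd_iff_pow_eq_one.1 ht.dvd

/-- The situation of Feit's theorem for a group generated by its `p`-elements. -/
structure PM2 (p : ℕ) (P : Subgroup G) (χ : IrrCharacter G) : Prop extends OrdP p P where
  gt : 5 < p
  gen : normalClosure (P : Set G) = ⊤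
  nn : ¬ P.Normal
  ker : charKer χ.1 = ⊥
  deg : charDegree χ.1 + 2 = p

namespace PM2

variable {χ : IrrCharacter G} (h : PM2 p P χ)
include h

theorem data : (centralizer (P : Set G)).relIndex (normalizer (P : Set G)) = 2 ∧
    (∀ y ∈ centralizer (P : Set G), ¬ p ∣ orderOf y → y ∈ center G) ∧
    (∃ lam : NT P, ∀ x : P, x ≠ 1 → χ.1 x = -eta lam.1 x) ∧
    ∃ S : Finset (IrrCharacter G), p ≤ 2 * S.card + 1 ∧ ∀ ξ ∈ S, ∃ σ : ℂ ≃+* ℂ,
      (∀ z : ℂ, z ^ P.index = 1 → σ z = z) ∧ (fun g => σ (χ.1 g)) = ξ.1 :=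
  h.toOrdP.pm2_data (by have := h.gt; omega) h.nn h.ker h.deg

theorem ne_two : p ≠ 2 := by have := h.gt; omega

theorem reg_one : ¬ p ∣ orderOf (1 : G) := by simpa using h.prime.one_lt.ne'

theorem one : χ.1 1 = p - 2 := by
  rw [← irr_degree_cast, ← h.deg]; simp

theorem odd_of_mem {x : G} (hx : x ∈ P) : Odd (orderOf x) :=
  (h.prime.odd_of_ne_two h.ne_two).of_dvd_nat (h.card ▸ P.orderOf_dvd_natCard hx)

theorem perfect : commutator G = ⊤ := by
  obtain ⟨n, hn⟩ := (h.toOrdP.eta_of_two h.ne_two h.data.1).1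
  rw [eq_top_iff, ← h.gen]
  refine normalClosure_le_normal fun x hx => ?_
  have h1 : x ^ 2 ∈ commutator G := by
    have : (n : G) * x * (n : G)⁻¹ = x⁻¹ := congrArg Subtype.val (hn ⟨x, hx⟩)
    rw [show x ^ 2 = ⁅(n : G), x⁆⁻¹ by rw [commutatorElement_def, this]; group]
    exact inv_mem (commutator_mem_commutator (mem_top _) (mem_top _))
  exact zpowers_le.2 h1 (mem_zpowers_pow_iff.2 (Nat.coprime_two_left.2 (h.odd_of_mem hx)))

theorem not_dvd : ¬ p ∣ Nat.card (center G) := fun e => h.nn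
  ⟨fun y hy g => by rwa [mem_center_iff.1 (h.toOrdP.le_of_dvd e hy) g, mul_inv_cancel_right]⟩

theorem mul_central {z : G} (hz : z ∈ center G) (g : G) : χ.1 (z * g) = χ.1 z / χ.1 1 * χ.1 g := by
  rw [div_mul_eq_mul_div, eq_div_iff (irr_one_ne_zero χ),
    mul_of_mem_charCenter (irr_isChar χ) (center_le_charCenter χ.2 hz)]

theorem inv_val {t : G} (ht : orderOf t = 2) (e : χ.1 t = χ.1 1) : False := by
  have := (mem_charKer_iff (irr_isChar χ)).2 e
  rw [h.ker, mem_bot] at this
  simp [this] at ht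

theorem not_mem_center {t : G} (ht : orderOf t = 2) : t ∉ center G := fun hz => by
  have h1 := h.mul_central hz
  have h2 := h1 t
  rw [← pow_two, ← ht, pow_orderOf_eq_one] at h2
  have h0 := irr_one_ne_zero χ
  have h3 : χ.1 t / χ.1 1 = -1 := by
    refine (mul_self_eq_one_iff.1 ?_).resolve_left fun e => h.inv_val ht ((div_eq_one_iff_eq h0).1 e)
    rw [← mul_div_assoc, ← h2, div_self h0]
  have h4 := Det.detChar_of_scalar (irr_isChar χ) (irr_degree_cast χ).symm (by simp) (h3 ▸ h1)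
  obtain ⟨l, hl⟩ := Det.exists_detHom (irr_isChar χ)
  have h5 : l t = 1 := Abelianization.commutator_subset_ker l (h.perfect ▸ mem_top t)
  have h6 : Odd (charDegree χ.1) := by
    have := h.deg ▸ h.prime.odd_of_ne_two h.ne_two
    simpa [parity_simps] using this
  rw [hl, h6.neg_one_pow] at h4
  simp only [h5, Units.val_one] at h4
  norm_num at h4

theorem odd_center : Odd (Nat.card (center G)) := by
  by_contra e
  obtain ⟨t, ht⟩ := exists_prime_orderOf_dvd_card' 2 (Nat.not_odd_iff_even.1 e).two_dvd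
  exact h.not_mem_center ((orderOf_coe t).trans ht) t.2

theorem alt : ∃ k : ℕ, (∀ g : G, Odd (orderOf g) → g ^ k = g * g) ∧
    (∀ g : G, orderOf g ∣ 4 → g ^ k = g) ∧
    ∀ g, ¬ p ∣ orderOf g → χ.1 g * χ.1 g - χ.1 (g * g) = (p - 3) * χ.1 (g ^ k) := by
  obtain ⟨a, m, hm, e⟩ := Nat.exists_eq_two_pow_mul_odd (Nat.card_pos (α := G)).ne'
  have hc : (2 ^ a).Coprime m := (Nat.coprime_two_left.2 hm).pow_left _
  obtain ⟨k, k1, k2⟩ := Nat.chineseRemainder hc 1 2
  have hk : k.Coprime (Nat.card G) := e ▸ Nat.Coprime.mul_right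
    (Nat.coprime_of_mul_modEq_one 1 (by rwa [mul_one]))
    ((k2.gcd_eq).trans (Nat.coprime_two_left.2 hm))
  have h1 : ∀ g : G, Odd (orderOf g) → g ^ k = g * g := fun g hg => by
    rw [← pow_two, pow_eq_pow_iff_modEq]
    exact k2.of_dvd (((Nat.coprime_two_right.2 hg).pow_right a).dvd_of_dvd_mul_left
      (e ▸ orderOf_dvd_natCard g))
  refine ⟨k, h1, fun g hg => ?_, ?_⟩
  · conv_rhs => rw [← pow_one g]
    exact pow_eq_pow_iff_modEq.2 (k1.of_dvd ((((Nat.coprime_two_left.2 hm).pow_left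
      2).coprime_dvd_left hg).dvd_of_dvd_mul_right (e ▸ orderOf_dvd_natCard g)))
  obtain ⟨he, hZ, ⟨lam, hl⟩, S, hS, hσ⟩ := h.data
  obtain ⟨α, β, -, hβ, h2, h3⟩ := isChar_exists_sym_alt (irr_isChar χ)
  have hv : ∀ g, 2 * β g = χ.1 g * χ.1 g - χ.1 (g * g) := fun g => by
    have e1 := congrFun h2 g
    have e2 := congrFun h3 g
    simp only [Pi.mul_apply, Pi.add_apply, Pi.sub_apply] at e1 e2
    linear_combination e2 - e1
  let f : IrrCharacter G → IrrCharacter G := fun ξ => ⟨_, Galois.isIrr_pow_arg ξ.2 hk⟩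
  have hf : Function.Injective f := fun ξ ξ' e => Subtype.ext (funext fun g => by
    obtain ⟨g, rfl⟩ := (powCoprime hk.symm).surjective g
    exact congrFun (congrArg Subtype.val e) g)
  have hD := isChar_add (irr_isChar (f χ)) hβ
  have h4 : ∀ x : P, x ≠ 1 → ∀ y : centralizer (P : Set G), ¬ p ∣ orderOf y →
      ((f χ).1 + β) (x * y) = (χ.1 y / χ.1 1) ^ 2 := fun x hx y hy => by
    have hz := hZ y y.2 (by rwa [orderOf_coe])
    have e1 : (x : G) * y * (x * y) = y * (y * (x * x : P)) := by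
      rw [coe_mul, mem_center_iff.1 hz, mul_assoc, ← mul_assoc (x : G), mem_center_iff.1 hz,
        mul_assoc]
    have e2 : ((x : G) * y) ^ k = x * y * (x * y) := by
      rw [Commute.mul_pow (y.2 x x.2), h1 _ (h.odd_of_mem x.2),
        h1 _ (h.odd_center.of_dvd_nat ((center G).orderOf_dvd_natCard hz)), 
        Commute.mul_mul_mul_comm (y.2 x x.2)]
    have e3 : x * x ≠ 1 := fun e => hx (Subtype.ext (orderOf_eq_one_iff.1
      ((Nat.coprime_two_right.2 (h.odd_of_mem x.2)).eq_one_of_dvd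
        (orderOf_dvd_of_pow_eq_one (by rw [pow_two]; exact congrArg Subtype.val e)))))
    have e4 := hv (x * y)
    have e5 := (h.toOrdP.eta_of_two h.ne_two he).2 lam
    change χ.1 (_ ^ k) + _ = _
    rw [e2]
    rw [e1, h.mul_central hz, h.mul_central hz, hl _ e3, e5] at e4 ⊢
    have e7 := h.mul_central hz x
    rw [← mem_center_iff.1 hz] at e7
    rw [e7, hl _ hx, e5] at e4
    have e6 : (lam.1 x : ℂ) * (lam.1 x : ℂ)⁻¹ = 1 := mul_inv_cancel₀ (Units.ne_zero _)
    rw [map_mul, Units.val_mul, mul_inv] at e4 ⊢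
    linear_combination e4 / 2 + (χ.1 y / χ.1 1) ^ 2 * e6
  have h5 : ∀ ψ ∈ S.image f, classInner ((f χ).1 + β) ψ.1 ≠ 0 ∧
      ∀ g, ¬ p ∣ orderOf g → ψ.1 g = χ.1 (g ^ k) := by
    simp only [Finset.mem_image]
    rintro _ ⟨ξ, hξ, rfl⟩
    obtain ⟨σ, s1, s2⟩ := hσ ξ hξ
    have e1 : (f ξ).1 = fun g => (σ : ℂ →+* ℂ) ((f χ).1 g) := funext fun g => (congrFun s2 _).symm
    have e2 : (fun g => (σ : ℂ →+* ℂ) (((f χ).1 + β) g)) = (f χ).1 + β :=
      h.toOrdP.classFun_ext (classFun_map (isChar_classFun hD) _) (isChar_classFun hD)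
        (fun g hg => Galois.isGenChar_map_eq_self _ (Coh.vc_of_char hD) fun z hz => s1 z (by
          obtain ⟨k, hk⟩ := h.toOrdP.orderOf_dvd_index hg
          rw [hk, pow_mul, hz, one_pow])) fun x hx y hy => by
        rw [h4 x hx y hy, map_pow, map_div₀, h.toOrdP.map_regular' (σ := σ) s1 χ
          (by rwa [orderOf_coe]), h.toOrdP.map_regular' (σ := σ) s1 χ (h.reg_one)]
    refine ⟨?_, fun g hg => ?_⟩
    · rw [e1, ← e2, Galois.classInner_map_map _ (Coh.vc_of_char hD) (Coh.vc_of_irr (f χ).2)]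
      exact Constit.inner_add_ne_zero_left (irr_isChar _) hβ (irr_isChar _)
        (by rw [classInner_irr_self]; exact one_ne_zero)
    · rw [e1]
      exact h.toOrdP.map_regular' (σ := σ) s1 (f χ) hg
  have h6 : ∀ ψ ∈ S.image f, charDegree χ.1 ≤ charDegree ψ.1 := fun ψ hψ => by
    have := (h5 ψ hψ).2 1 (h.reg_one)
    rw [one_pow, ← irr_degree_cast, ← irr_degree_cast, Nat.cast_inj] at this
    exact this.ge
  obtain ⟨h7, h8⟩ := eq_sum_of_weight hD (fun ψ hψ => (h5 ψ hψ).1) h6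
  rw [Finset.sum_const, Finset.card_image_of_injective _ hf, smul_eq_mul] at h7 h8
  have h9 : 2 * charDegree ((f χ).1 + β) = (charDegree χ.1 + 1) * charDegree χ.1 := by
    have := hv 1
    rw [mul_one, ← irr_degree_cast] at this
    apply Nat.cast_injective (R := ℂ)
    push_cast
    rw [charDegree_cast hD]
    change 2 * (χ.1 (1 ^ k) + _) = _
    rw [one_pow, ← irr_degree_cast]
    linear_combination this
  have h10 := h.deg
  have h11 := h.gt
  have h12 : 2 * S.card + 1 = p := by nlinarith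
  intro g hg
  have h13 := congrFun (h8 (by nlinarith)).1 g
  rw [Finset.sum_apply, Finset.sum_congr rfl fun ψ hψ => (h5 ψ hψ).2 g hg, Finset.sum_const,
    Finset.card_image_of_injective _ hf, nsmul_eq_mul] at h13
  change χ.1 (g ^ k) + _ = _ at h13
  rw [← h12]
  push_cast
  linear_combination 2 * h13 - hv g

theorem val_odd {g : G} (ho : Odd (orderOf g)) (hg : ¬ p ∣ orderOf g) (hz : g ∉ center G) :
    χ.1 g = 0 := by
  obtain ⟨k, h1, -, h2⟩ := h.alt
  have h5 : (5 : ℝ) < p := by exact_mod_cast h.gt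
  have h3 : ‖(p - 2 : ℂ)‖ = p - 2 := by
    rw [show (p - 2 : ℂ) = (p - 2 : ℝ) by simp, Complex.norm_of_nonneg (by linarith)]
  have := eq_zero_or_eq_of_sq (u := fun i => ‖χ.1 (g ^ 2 ^ i)‖) (c := p - 2) (by linarith)
    (fun i => by
      have e := h2 (g ^ 2 ^ i) fun e => hg (e.trans (orderOf_pow_dvd _))
      rw [h1 _ (ho.of_dvd_nat (orderOf_pow_dvd _)), ← pow_two (g ^ 2 ^ i), ← pow_mul,
        ← pow_succ] at e
      rw [← norm_pow, ← h3, ← norm_mul]
      exact congrArg _ (by linear_combination e))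
    (Nat.totient_pos.2 (orderOf_pos g)).ne' (by simp [pow_two_pow_totient ho]) (norm_nonneg _)
  simp only [pow_zero, pow_one, norm_eq_zero] at this
  exact this.resolve_right fun e => hz (charCenter_le_center (irr_classFun _) h.ker
    ((mem_charCenter_iff (irr_isChar _)).2 (by rw [e, h.one, h3])))

omit h in
theorem regular_of_dvd (h : p ≠ 2) (hp : p.Prime) {g : G} (hg : orderOf g ∣ 4) :
    ¬ p ∣ orderOf g := fun e =>
  h ((Nat.prime_dvd_prime_iff_eq hp Nat.prime_two).1 (hp.dvd_of_dvd_pow (n := 2) (e.trans hg)))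

theorem val_inv {t : G} (ht : orderOf t = 2) : χ.1 t = -1 := by
  obtain ⟨k, -, h1, h2⟩ := h.alt
  have h3 : orderOf t ∣ 4 := by rw [ht]; norm_num
  have e := h2 t (regular_of_dvd h.ne_two h.prime h3)
  rw [h1 t h3, mul_self_of_order ht, h.one] at e
  have : (χ.1 t + 1) * (χ.1 t - χ.1 1) = 0 := by rw [h.one]; linear_combination e
  exact eq_neg_of_add_eq_zero_left
    ((mul_eq_zero.1 this).resolve_right fun e => h.inv_val ht (sub_eq_zero.1 e))

theorem ne_four (s : G) : orderOf s ≠ 4 := fun hs => by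
  obtain ⟨k, -, h1, h2⟩ := h.alt
  have key : ∀ s : G, orderOf s = 4 → χ.1 s * χ.1 s + 1 = (p - 3) * χ.1 s := fun s hs => by
    have e := h2 s (regular_of_dvd h.ne_two h.prime hs.dvd)
    rw [h1 s hs.dvd, h.val_inv (t := s * s) (by rw [← pow_two, orderOf_pow' _ two_ne_zero, hs]; rfl)] at e
    linear_combination e
  have e1 := key s hs
  have e2 := key s⁻¹ (by rwa [orderOf_inv])
  have h5 : (5 : ℝ) < p := by exact_mod_cast h.gt
  have e3 : χ.1 s⁻¹ = χ.1 s := by
    by_contra e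
    have e4 : χ.1 s⁻¹ + χ.1 s = p - 3 :=
      mul_left_cancel₀ (sub_ne_zero.2 e) (by linear_combination e2 - e1)
    have e5 : χ.1 s * χ.1 s⁻¹ = 1 := by linear_combination χ.1 s * e4 - e1
    rw [isIrr_inv χ.2] at e4 e5
    have e6 := congrArg Complex.re e4
    rw [Complex.mul_conj, Complex.ofReal_eq_one, Complex.normSq_apply] at e5
    simp at e6
    nlinarith [mul_self_nonneg (χ.1 s).im]
  obtain ⟨n, hn⟩ := Galois.exists_int_of_forall_pow (Coh.vc_of_irr χ.2) (g := s) fun j hj => by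
    rw [← pow_mod_orderOf, hs]
    rw [hs, show 4 = 2 ^ 2 from rfl, Nat.coprime_pow_right_iff two_pos, Nat.coprime_two_right,
      Nat.odd_iff] at hj
    rcases (by omega : j % 4 = 1 ∨ j % 4 = 3) with e | e <;> rw [e]
    · rw [pow_one]
    · rw [← e3, eq_inv_of_mul_eq_one_left (by
        rw [← pow_succ]; exact orderOf_dvd_iff_pow_eq_one.1 hs.dvd : s ^ 3 * s = 1)]
  rw [hn] at e1
  have e4 : n * (p - 3 - n) = 1 := by
    apply Int.cast_injective (α := ℂ)
    push_cast
    linear_combination -e1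
  have := h.gt
  rcases Int.eq_one_or_neg_one_of_mul_eq_one' e4 with e | e <;> omega

theorem regular_of_commute {t x : G} (ht : orderOf t = 2) (e : Commute t x) : ¬ p ∣ orderOf x := by
  intro hx
  obtain ⟨y, hy⟩ := h.toOrdP.exists_le_zpowers hx
  have h1 : orderOf (y * t * y⁻¹) = 2 := (orderOf_conj' t y).trans ht
  refine h.not_mem_center h1 (h.data.2.1 _ (fun u hu => ?_)
    (regular_of_dvd h.ne_two h.prime (by rw [h1]; norm_num)))
  obtain ⟨k, rfl⟩ := hy hu
  exact ((e.map (MulAut.conj y)).zpow_right k).symm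

theorem val_mix {t x : G} (ht : orderOf t = 2) (e : Commute t x) (ho : Odd (orderOf x))
    (hz : x ∉ center G) : ‖χ.1 (x * t)‖ = 0 ∨ ‖χ.1 (x * t)‖ = p - 3 := by
  obtain ⟨k, h1, h2, h3⟩ := h.alt
  have hx := h.regular_of_commute ht e
  have h5 : (5 : ℝ) < p := by exact_mod_cast h.gt
  have h4 : ‖(p - 3 : ℂ)‖ = p - 3 := by
    rw [show (p - 3 : ℂ) = (p - 3 : ℝ) by simp, Complex.norm_of_nonneg (by linarith)]
  have := eq_zero_or_eq_of_sq (u := fun i => ‖χ.1 (x ^ 2 ^ i * t)‖) (c := p - 3) (by linarith)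
    (fun i => by
      have e0 := (e.pow_right (2 ^ i)).symm
      have e1 := h3 (x ^ 2 ^ i * t) (h.regular_of_commute ht (e0.symm.mul_right (Commute.refl t)))
      rw [e0.mul_pow, h1 _ (ho.of_dvd_nat (orderOf_pow_dvd _)), h2 t (by rw [ht]; norm_num),
        e0.symm.mul_mul_mul_comm, mul_self_of_order ht, mul_one,
        ← pow_two (x ^ 2 ^ i), ← pow_mul, ← pow_succ,
        h.val_odd (ho.of_dvd_nat (orderOf_pow_dvd _)) (fun e => hx (e.trans (orderOf_pow_dvd _)))
          fun e => hz (zpowers_le.2 e (mem_zpowers_pow_iff.2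
            ((Nat.coprime_two_left.2 ho).pow_left _)))] at e1
      rw [← norm_pow, ← h4, ← norm_mul]
      exact congrArg _ (by linear_combination e1))
    (Nat.totient_pos.2 (orderOf_pos x)).ne' (by simp [pow_two_pow_totient ho]) (norm_nonneg _)
  simpa using this

end PM2

end Cfsg.Agent.Block
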