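import Mathlib
import Cfsg.Agent.Block.PM2
import Cfsg.Agent.S4706
import Cfsg.Agent.S2117
import Cfsg.Agent.H2.Schur1

/-! Feit's theorem on degree `p - 2`: the endgame. -/

set_option autoImplicit false

namespace Cfsg.Agent.Block

open Cfsg Cfsg.Agent.Char Subgroup ComplexConjugate
open scoped _root_.Classical

variable {G : Type*} [Group G] [Fintype G] {p : ℕ} {P : Subgroup G}

theorem exists_avg {Ψ : G → ℂ} (hΨ : IsCharacter G Ψ) (K : Subgroup G) [K.Normal] :
    ∃ Φ, IsCharacter G Φ ∧ ∀ g, ∑ k : K, Ψ (k * g) = Nat.card K * Φ g := by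
  obtain ⟨n, -, rfl⟩ := Constit.isChar_expand_nat hΨ
  refine ⟨∑ ψ : IrrCharacter G with K ≤ charKer ψ.1, (n ψ : ℂ) • ψ.1,
    isChar_sum _ fun ψ _ => isChar_natCast_smul _ (irr_isChar ψ), fun g => ?_⟩
  simp only [Finset.sum_apply, Pi.smul_apply, smul_eq_mul, Finset.sum_filter, Finset.mul_sum]
  rw [Finset.sum_comm]
  refine Finset.sum_congr rfl fun ψ _ => ?_
  rw [← Finset.mul_sum]
  split_ifs with h
  · simp [fun k : K => mem_charKer.1 (h k.2) g, mul_left_comm]
  · rw [sum_mul_eq_zero_of_fx (irr_isChar ψ) (by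
      by_contra e
      exact h (le_charKer_of_inner_ne_zero K ψ.2 (by
        rw [← fx_cast (irr_isChar ψ)]; exact_mod_cast e)))]
    simp

/-- Data on the central quotient. -/
structure EG (p : ℕ) (Ψ : G → ℝ) : Prop where
  gt : 5 < p
  char : IsCharacter G fun g => Ψ g
  one : Ψ 1 = (p - 2) ^ 2
  odd : ∀ g, g ≠ 1 → Odd (orderOf g) → ¬ p ∣ orderOf g → Ψ g = 0
  inv : ∀ t, orderOf t = 2 → Ψ t = 1
  four : ∀ g : G, orderOf g ≠ 4
  mix : ∀ t x, orderOf t = 2 → Commute t x → Odd (orderOf x) → x ≠ 1 →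
    ¬ p ∣ orderOf x ∧ (Ψ (x * t) = 0 ∨ Ψ (x * t) = (p - 3) ^ 2)
  sum : p * ∑ g with ¬ p ∣ orderOf g, Ψ g = 2 * Nat.card G
  syl : ∀ S : Sylow 2 G, Nat.card S ∣ p - 1
  ne : ¬ p ∣ 2
  even : 2 ∣ Nat.card G

namespace EG

variable {Ψ : G → ℝ} (h : EG p Ψ)
include h

theorem cit {t x : G} (ht : orderOf t = 2) (e : Commute t x) (ho : Odd (orderOf x)) : x = 1 := by
  by_contra hx
  set A := centralizer ({x} : Set G)
  let x' : A := ⟨x, mem_centralizer_singleton_iff.2 rfl⟩
  let t' : A := ⟨t, mem_centralizer_singleton_iff.2 e⟩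
  have hc : zpowers x' ≤ center A :=
    zpowers_le.2 (mem_center_iff.2 fun g => Subtype.ext (mem_centralizer_singleton_iff.1 g.2))
  have : (zpowers x').Normal := ⟨fun y hy g => by
    rwa [mem_center_iff.1 (hc hy) g, mul_inv_cancel_right]⟩
  obtain ⟨Φ, hΦ, h1⟩ := exists_avg (isChar_res A h.char) (zpowers x')
  have h2 : ∀ k : zpowers x', k ≠ 1 → Odd (orderOf (k : G)) ∧ (k : G) ≠ 1 ∧ Commute t k :=
    fun k hk => ⟨ho.of_dvd_nat ((orderOf_coe _).dvd.trans ((orderOf_dvd_of_mem_zpowers k.2).trans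
      (orderOf_coe x').symm.dvd)), by simpa using hk,
      congrArg Subtype.val (mem_center_iff.1 (hc k.2) t')⟩
  have h3 := fun k hk => h.mix t _ ht (h2 k hk).2.2 (h2 k hk).1 (h2 k hk).2.1
  have h4 := h1 1
  rw [Finset.sum_eq_single_of_mem 1 (Finset.mem_univ _) fun k _ hk => by
    simp [h.odd _ (h2 k hk).2.1 (h2 k hk).1 (h3 k hk).1]] at h4
  have h5 := h1 t'
  simp only [coe_mul, OneMemClass.coe_one, mul_one, h.one] at h4 h5
  by_cases h6 : ∀ k : zpowers x', k ≠ 1 → Ψ (k * t) = 0
  · rw [Finset.sum_eq_single_of_mem 1 (Finset.mem_univ _) fun k _ hk => by simp [t', h6 k hk]] at h5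
    have h7 := nat_dvd_of_isIntegral_div (a := 1) (Nat.card_pos (α := zpowers x')).ne' (by
      convert isChar_isIntegral hΦ t' using 1
      rw [div_eq_iff card_ne_zero, mul_comm, ← h5]
      simp [t', h.inv t ht])
    rw [Nat.dvd_one, card_eq_one, zpowers_eq_bot] at h7
    exact hx (congrArg Subtype.val h7)
  push Not at h6
  obtain ⟨k, hk, h6⟩ := h6
  have h7 : k⁻¹ ≠ k := fun e => hk (Subtype.ext (Subtype.ext (orderOf_eq_one_iff.1
    ((Nat.coprime_two_right.2 (h2 k hk).1).eq_one_of_dvd (orderOf_dvd_of_pow_eq_one (by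
      rw [pow_two, mul_eq_one_iff_eq_inv]; exact congrArg (fun a : zpowers x' => (a : G)) e.symm))))))
  have h8 : Ψ ((k⁻¹ : zpowers x') * t) = Ψ (k * t) := by
    have := isChar_inv h.char (k * t)
    rw [Complex.conj_ofReal, Complex.ofReal_inj, mul_inv_rev,
      inv_eq_of_mul_eq_one_right (mul_self_of_order ht), (h2 k hk).2.2.inv_right.eq] at this
    exact this
  have h9 := Finset.sum_le_sum_of_subset_of_nonneg (f := fun k : zpowers x' => Ψ (k * t))
    (Finset.subset_univ {1, k⁻¹, k}) fun k _ hk => by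
      rcases (h3 k (by rintro rfl; simp at hk)).2 with e | e <;> simp only [e] <;> positivity
  rw [Finset.sum_insert (by simp [hk, hk.symm]), Finset.sum_pair h7, h8,
    (h3 k hk).2.resolve_left h6] at h9
  have h10 := mul_le_mul_of_nonneg_left (isChar_norm_le' hΦ t') (norm_nonneg (Nat.card (zpowers x') : ℂ))
  rw [← norm_mul, ← norm_mul, ← h4, ← h5, ← Complex.ofReal_sum, Complex.norm_real,
    Complex.norm_real, Real.norm_of_nonneg (sq_nonneg _)] at h10
  have h11 := (h9.trans (le_abs_self _)).trans h10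
  have h5 : (6 : ℝ) ≤ p := by exact_mod_cast h.gt
  simp only [OneMemClass.coe_one, one_mul, h.inv t ht] at h11
  nlinarith

theorem sq_eq_one {g : G} {k : ℕ} (hg : g ^ 2 ^ k = 1) : g * g = 1 := by
  obtain ⟨j, -, e⟩ := (Nat.dvd_prime_pow Nat.prime_two).1 (orderOf_dvd_of_pow_eq_one hg)
  rw [← pow_two, ← orderOf_dvd_iff_pow_eq_one, e]
  rcases j with _ | _ | j
  · simp
  · simp
  · refine absurd ?_ (h.four (g ^ 2 ^ j))
    rw [orderOf_pow_of_dvd (by positivity) (e ▸ pow_dvd_pow _ (by omega)), e, add_assoc, pow_add,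
      Nat.mul_div_cancel_left _ (by positivity)]
    rfl

theorem isPGroup {t : G} (ht : orderOf t = 2) : IsPGroup 2 (centralizer ({t} : Set G)) := fun g => by
  obtain ⟨n, m, hm, e⟩ := Nat.exists_eq_two_pow_mul_odd (orderOf_pos (g : G)).ne'
  refine ⟨n, Subtype.ext (h.cit ht
    (Commute.pow_right (mem_centralizer_singleton_iff.1 g.2).symm _) (hm.of_dvd_nat ?_))⟩
  rw [orderOf_dvd_iff_pow_eq_one, coe_pow, ← pow_mul, ← e, pow_orderOf_eq_one]

theorem sq_of_mem {S : Sylow 2 G} {g : G} (hg : g ∈ S) : g * g = 1 := by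
  obtain ⟨k, hk⟩ := S.isPGroup' ⟨g, hg⟩
  exact h.sq_eq_one (congrArg Subtype.val hk)

theorem cent {S : Sylow 2 G} {t : G} (ht : orderOf t = 2) (hS : t ∈ S) :
    centralizer ({t} : Set G) = S := S.is_maximal' (h.isPGroup ht) fun g hg => by
  have e1 := h.sq_of_mem (mul_mem hg hS)
  rw [mem_centralizer_singleton_iff, ← inv_eq_of_mul_eq_one_right e1, mul_inv_rev,
    inv_eq_of_mul_eq_one_right (h.sq_of_mem hg), inv_eq_of_mul_eq_one_right (h.sq_of_mem hS)]

omit h in
theorem exists_mem {t : G} (ht : orderOf t = 2) : ∃ S : Sylow 2 G, t ∈ S := by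
  obtain ⟨S, hS⟩ := (isPGroup_zpowers_of_orderOf (p := 2) (x := t) ⟨1, ht⟩).exists_le_sylow
  exact ⟨S, hS (mem_zpowers t)⟩

theorem dich (g : G) : Odd (orderOf g) ∨ orderOf g = 2 := by
  refine or_iff_not_imp_left.2 fun e => ?_
  have h1 := (Nat.not_odd_iff_even.1 e).two_dvd
  obtain ⟨k, hk⟩ := h.isPGroup (orderOf_pow_orderOf_div (orderOf_pos g).ne' h1)
    ⟨g, mem_centralizer_singleton_iff.2 (Commute.self_pow g _)⟩
  exact Nat.dvd_antisymm (orderOf_dvd_of_pow_eq_one (by
    rw [pow_two]; exact h.sq_eq_one (congrArg Subtype.val hk))) h1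

theorem card_sylow : Nat.card (Sylow 2 G) = p ∧ ∀ S : Sylow 2 G, Nat.card S + 1 = p := by
  set I := Finset.univ.filter fun g : G => orderOf g = 2 with hI
  obtain ⟨S⟩ : Nonempty (Sylow 2 G) := inferInstance
  have hc : ∀ T : Sylow 2 G, Nat.card T = Nat.card S := fun T => Nat.card_congr (T.equiv S).toEquiv
  have h1 : p * ((p - 2) ^ 2 + I.card) = 2 * Nat.card G := by
    have e := h.sum
    rw [← Finset.add_sum_erase _ _ (a := 1) (by simp; have := h.gt; omega), h.one,
      ← Finset.sum_subset (s₁ := I) (fun g hg => by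
        have := (Finset.mem_filter.1 hg).2
        simp only [Finset.mem_erase, Finset.mem_filter, Finset.mem_univ, true_and, this]
        exact ⟨by rintro rfl; simp at this, h.ne⟩) fun g hg hg' => by
        simp only [Finset.mem_erase, Finset.mem_filter, Finset.mem_univ, true_and, hI] at hg hg'
        exact h.odd g hg.1 ((h.dich g).resolve_right hg') hg.2,
      Finset.sum_congr rfl fun g hg => h.inv g (Finset.mem_filter.1 hg).2, Finset.sum_const,
      nsmul_eq_mul, mul_one] at e
    have := h.gt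
    apply Nat.cast_injective (R := ℝ)
    push_cast [show 2 ≤ p by omega]
    exact e
  have h2 : (S : Subgroup G).index ∣ I.card := by
    rw [Finset.card_eq_sum_card_image ConjClasses.mk]
    refine Finset.dvd_sum fun c hc' => ?_
    obtain ⟨t, ht, rfl⟩ := Finset.mem_image.1 hc'
    replace ht := (Finset.mem_filter.1 ht).2
    obtain ⟨T, hT⟩ := exists_mem ht
    have e := card_filter_isConj t
    rw [h.cent ht hT] at e
    rw [show I.filter (ConjClasses.mk · = ConjClasses.mk t) = Finset.univ.filter (IsConj t) from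
      Finset.ext fun g => by
        simp only [hI, Finset.mem_filter, Finset.mem_univ, true_and,
          ConjClasses.mk_eq_mk_iff_isConj, and_iff_right_iff_imp, isConj_comm (g := g)]
        intro e
        obtain ⟨c, rfl⟩ := isConj_iff.1 e
        exact (orderOf_conj' t c).trans ht, e]
    exact dvd_of_eq (Nat.eq_of_mul_eq_mul_left Nat.card_pos
      ((card_mul_index _).trans (by rw [← hc T, card_mul_index])))
  have h3 : I.card = Nat.card (Sylow 2 G) * (Nat.card S - 1) := by
    have := Fintype.ofFinite (Sylow 2 G)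
    have e1 : I = Finset.univ.biUnion fun T : Sylow 2 G => (Finset.univ.filter (· ∈ T)).erase 1 := by
      ext g
      simp only [hI, Finset.mem_biUnion, Finset.mem_erase, Finset.mem_filter, Finset.mem_univ,
        true_and]
      exact ⟨fun e => (exists_mem e).imp fun T hT => ⟨by rintro rfl; simp at e, hT⟩,
        fun ⟨T, e, hT⟩ => orderOf_eq_prime (by rw [pow_two]; exact h.sq_of_mem hT) e⟩
    rw [e1, Finset.card_biUnion fun T _ U _ e => Finset.disjoint_left.2 fun g hT hU => e (by
        simp only [Finset.mem_erase, Finset.mem_filter, Finset.mem_univ, true_and] at hT hU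
        have := orderOf_eq_prime (by rw [pow_two]; exact h.sq_of_mem hT.2) hT.1
        exact Sylow.ext ((h.cent this hT.2).symm.trans (h.cent this hU.2))),
      Finset.sum_congr rfl fun T _ => by
        rw [Finset.card_erase_of_mem (by simpa using T.one_mem),
          card_filter_eq_card (s := (T : Subgroup G)) (q := (· ∈ T)) fun _ => Iff.rfl,
          SetLike.coe_sort_coe, hc T],
      Finset.sum_const, smul_eq_mul, Finset.card_univ, Nat.card_eq_fintype_card (α := Sylow 2 G)]
  obtain ⟨t, ht⟩ := exists_prime_orderOf_dvd_card' 2 h.even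
  have h4 : 0 < I.card := Finset.card_pos.2 ⟨t, by simp [hI, ht]⟩
  obtain ⟨r, hr⟩ := h2
  obtain ⟨m, hm⟩ := h.syl S
  have h5 := card_mul_index (S : Subgroup G)
  have h6 := h.gt
  obtain ⟨q, rfl⟩ : ∃ q, p = q + 2 := ⟨p - 2, by omega⟩
  simp only [Nat.add_sub_cancel, hc] at h1 ⊢
  change q + 1 = _ at hm
  generalize Nat.card S = s at *
  generalize (S : Subgroup G).index = c at *
  generalize Nat.card (Sylow 2 G) = n at *
  have r0 : 0 < r := Nat.pos_of_ne_zero (by rintro rfl; omega)
  have c0 : 0 < c := Nat.pos_of_ne_zero (by rintro rfl; omega)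
  have h7 : (q + 2) * r < 2 * s := by
    refine lt_of_mul_lt_mul_left (a := c) ?_ c0.le
    have : 0 < (q + 2) * q ^ 2 := by positivity [show 0 < q by omega]
    nlinarith
  obtain rfl : m = 1 := by
    rcases m with _ | _ | m
    · omega
    · rfl
    · nlinarith
  obtain rfl : r = 1 := by nlinarith
  obtain rfl : s = q + 1 := by omega
  refine ⟨?_, fun _ => rfl⟩
  rw [mul_one] at hr
  rw [hr, ← h5, show c = n * q from hr.symm.trans h3] at h1
  have : q * q * (q + 2) = q * q * n := by nlinarith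
  exact (Nat.eq_of_mul_eq_mul_left (by positivity [show 0 < q by omega]) this).symm

theorem injective : Function.Injective (MulAction.toPermHom G (Sylow 2 G)) := by
  rw [← MonoidHom.ker_eq_bot_iff, eq_bot_iff]
  set K := (MulAction.toPermHom G (Sylow 2 G)).ker
  have h1 : ∀ t ∈ K, orderOf t ≠ 2 := fun t hK ht => by
    have h2 : ∀ T : Sylow 2 G, t ∈ T := fun T => (Core.isSylowOf_top T).le_of_le_normalizer'
      (isPGroup_zpowers_of_orderOf ⟨1, ht⟩) le_top (zpowers_le.2 (Sylow.smul_eq_iff_mem_normalizer.1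
        (congrFun (congrArg (⇑) (MonoidHom.mem_ker.1 hK)) T))) (mem_zpowers t)
    have : Subsingleton (Sylow 2 G) :=
      ⟨fun T U => Sylow.ext ((h.cent ht (h2 T)).symm.trans (h.cent ht (h2 U)))⟩
    have h3 := Finite.card_le_one_iff_subsingleton.2 this
    have := h.gt
    rw [h.card_sylow.1] at h3
    omega
  intro k hk
  obtain ⟨t, ht⟩ := exists_prime_orderOf_dvd_card' 2 h.even
  obtain ⟨T, hT⟩ := exists_mem ht
  refine h.cit ht ?_ ((h.dich k).resolve_right (h1 k hk))
  have h2 : k * t * k⁻¹ * t⁻¹ ∈ T := mul_mem ((mem_normalizer_iff.1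
    (Sylow.smul_eq_iff_mem_normalizer.1 (congrFun (congrArg (⇑) (MonoidHom.mem_ker.1 hk)) T)) t).1 hT)
    (inv_mem hT)
  by_contra e
  refine h1 _ ?_ (orderOf_eq_prime (by rw [pow_two]; exact h.sq_of_mem h2) fun e' => e ?_)
  · rw [mul_assoc, mul_assoc, ← mul_assoc t]
    exact mul_mem hk (Normal.conj_mem inferInstance _ (inv_mem hk) t)
  · rw [mul_inv_eq_one, mul_inv_eq_iff_eq_mul] at e'
    exact e'.symm

end EG

namespace PM2

variable {χ : IrrCharacter G} (h : PM2 p P χ)
include h

theorem sum_regular : p * ∑ g with ¬ p ∣ orderOf g, ‖χ.1 g‖ ^ 2 = 2 * Nat.card G := by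
  obtain ⟨he, hZ, ⟨lam, hl⟩, -⟩ := h.data
  have hφ : NInv fun x : P => if x = 1 then (0 : ℂ) else 1 := fun n x => by
    simp only [map_eq_one_iff _ (cP_injective n)]
  have h0 := irr_one_ne_zero χ
  have h1 := h.toOrdP.abFrob.inner_spr hφ (by simp) (χ := fun g => (‖χ.1 g‖ ^ 2 : ℝ))
    (fun g a => by simp only [irr_classFun χ g a]) fun g x hx e => by
      have e1 := hZ _ (fun u hu => by
        obtain ⟨k, rfl⟩ := (eq_zpowers_of_card_prime h.prime h.card x.2 (by simpa using hx)).le hu
        exact (((Commute.refl (x : G)).inv_right.mul_right (pPart_commute e)).zpow_left k).eq)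
        (pPart_regular e)
      rw [show g = (x : G)⁻¹ * g * x by rw [mul_assoc, ← (pPart_commute e).eq]; group,
        h.mul_central e1, norm_mul, norm_div,
        (mem_charCenter_iff (irr_isChar χ)).1 (center_le_charCenter χ.2 e1),
        div_self (norm_ne_zero_iff.2 h0), one_mul]
  have h2 := card_mul_classInner (eta lam.1) (eta lam.1)
  have h3 := card_mul_classInner χ.1 χ.1
  rw [classInner_irr_self, ← Finset.sum_filter_add_sum_filter_not _ fun g => p ∣ orderOf g] at h3
  rw [show classInner (eta lam.1) (eta lam.1) = 2 by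
    nth_rw 2 [eta]
    rw [classInner_sum_right, Finset.sum_congr rfl fun μ hμ => by
      rw [inner_eta, if_pos (Finset.mem_filter.1 hμ).2], Finset.sum_const,
      h.toOrdP.abFrob.card_lRel lam.2, he]
    simp, ← Finset.add_sum_erase _ _ (Finset.mem_univ 1), h.toOrdP.abFrob.eta_one lam.2, he,
    Finset.sum_congr rfl fun x hx => by
      rw [← neg_mul_neg, ← map_neg, ← hl x (Finset.ne_of_mem_erase hx)], h.card] at h2
  rw [classInner_def, classInner_def, he, h.card, ← Finset.add_sum_erase _ _ (Finset.mem_univ (1 : P)),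
    Finset.sum_congr rfl (g := fun x : P => χ.1 x * conj (χ.1 x)) fun x hx => by
      simp [Finset.ne_of_mem_erase hx, Complex.mul_conj, Complex.normSq_eq_norm_sq],
    Finset.sum_congr rfl (g := fun g => if p ∣ orderOf g then χ.1 g * conj (χ.1 g) else 0)
      fun g _ => by
        split_ifs with e
        · simp [spr, h.toOrdP.ab.rep_ne_one e, Complex.mul_conj, Complex.normSq_eq_norm_sq]
        · simp [spr_of_regular hφ e], ← Finset.sum_filter] at h1
  apply Complex.ofReal_injective
  have hp : (p : ℂ) ≠ 0 := Nat.cast_ne_zero.2 h.prime.ne_zero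
  have hG : (Nat.card G : ℂ) ≠ 0 := card_ne_zero
  simp only [Complex.mul_conj, Complex.normSq_eq_norm_sq, Nat.cast_ofNat,
    Complex.norm_ofNat] at h1 h2 h3
  push_cast at h1 h2 h3 ⊢
  simp only [if_true, zero_mul, zero_add] at h1
  field_simp at h1
  linear_combination (-p : ℂ) * h3 - h1 / 2 + Nat.card G * h2 / 2

theorem card_dvd (S : Sylow 2 G) : Nat.card S ∣ p - 1 := by
  have h1 := card_mul_fx (P := S) (irr_isChar χ)
  rw [← Finset.add_sum_erase _ _ (Finset.mem_univ 1), Finset.sum_congr rfl (g := fun _ => (-1 : ℂ))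
    fun s hs => h.val_inv (by
      obtain ⟨j, e⟩ := exists_orderOf_eq_pow_of_mem Nat.prime_two S.isPGroup' s.2
      rcases j with _ | _ | j
      · exact absurd (Subtype.ext (orderOf_eq_one_iff.1 e)) (Finset.ne_of_mem_erase hs)
      · exact e
      · refine absurd ?_ (h.ne_four ((s : G) ^ 2 ^ j))
        rw [orderOf_pow_of_dvd (by positivity) (e ▸ pow_dvd_pow _ (by omega)), e, add_assoc,
          pow_add, Nat.mul_div_cancel_left _ (by positivity)]
        rfl), Finset.sum_const, Finset.card_erase_of_mem (Finset.mem_univ _), Finset.card_univ,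
    ← Nat.card_eq_fintype_card, OneMemClass.coe_one, h.one] at h1
  refine ⟨fx S χ.1 + 1, Nat.cast_injective (R := ℂ) ?_⟩
  simp only [nsmul_eq_mul] at h1
  push_cast [h.prime.one_le, Nat.one_le_iff_ne_zero.2 (Nat.card_pos (α := S)).ne'] at h1 ⊢
  linear_combination -h1

theorem exists_eg [Fintype (G ⧸ center G)] : ∃ Ψ : G ⧸ center G → ℝ, EG p Ψ := by
  obtain ⟨ψ, hψ, e⟩ := isChar_exists_quotient (center G)
    (isChar_mul (irr_isChar χ) (isChar_conj (irr_isChar χ))) fun z hz =>
      (mem_charKer_iff (isChar_mul (irr_isChar χ) (isChar_conj (irr_isChar χ)))).2 (by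
        simp [Complex.mul_conj, Complex.normSq_eq_norm_sq,
          (mem_charCenter_iff (irr_isChar χ)).1 (center_le_charCenter χ.2 hz)])
  have h1 : ∀ g : G, ψ g = (‖χ.1 g‖ ^ 2 : ℝ) := fun g => by
    rw [← congrFun e g]
    simp [Complex.mul_conj, Complex.normSq_eq_norm_sq]
  have h2 : ∀ g : G, (ψ g).re = ‖χ.1 g‖ ^ 2 := fun g => by rw [h1, Complex.ofReal_re]
  set z := Nat.card (center G) with hz
  have h3 : ∀ g : G, orderOf (g ^ z) ∣ orderOf (g : G ⧸ center G) := fun g => by
    rw [orderOf_dvd_iff_pow_eq_one, ← pow_mul, mul_comm, pow_mul]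
    have : g ^ orderOf (g : G ⧸ center G) ∈ center G := by
      rw [← QuotientGroup.eq_one_iff, QuotientGroup.mk_pow, pow_orderOf_eq_one]
    exact congrArg Subtype.val (pow_card_eq_one' (x := (⟨_, this⟩ : center G)))
  have h4 : ∀ g : G, orderOf g ∣ orderOf (g : G ⧸ center G) * z := fun g => by
    rw [orderOf_dvd_iff_pow_eq_one, mul_comm, pow_mul, ← orderOf_dvd_iff_pow_eq_one]
    exact h3 g
  have h5 : ∀ g : G, p ∣ orderOf (g : G ⧸ center G) ↔ p ∣ orderOf g := fun g =>
    ⟨fun e => e.trans (orderOf_map_dvd (QuotientGroup.mk' _) g), fun e =>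
      (h.prime.dvd_mul.1 (e.trans (h4 g))).resolve_right h.not_dvd⟩
  have h6 : ∀ g : G, Odd (orderOf (g : G ⧸ center G)) → Odd (orderOf g) := fun g e =>
    (e.mul h.odd_center).of_dvd_nat (h4 g)
  have h7 : ∀ (q : G ⧸ center G) (k : ℕ), orderOf q = 2 ^ k →
      ∃ g : G, orderOf g = 2 ^ k ∧ (g : G ⧸ center G) = q ^ z := fun q k hq => by
    obtain ⟨g, rfl⟩ := QuotientGroup.mk_surjective q
    refine ⟨g ^ z, Nat.dvd_antisymm (hq ▸ h3 g) ?_, rfl⟩
    rw [← hq, ← Nat.Coprime.orderOf_pow (y := (g : G ⧸ center G)) (m := z)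
      (hq ▸ (Nat.coprime_two_left.2 h.odd_center).pow_left k)]
    exact orderOf_map_dvd (QuotientGroup.mk' _) (g ^ z)
  have h8 : ∀ q : G ⧸ center G, orderOf q = 2 → ∃ g : G, orderOf g = 2 ∧ g = q := fun q hq => by
    obtain ⟨g, e1, e2⟩ := h7 q 1 hq
    exact ⟨g, e1, by rw [e2, ← pow_mod_orderOf, hq, Nat.odd_iff.1 h.odd_center, pow_one]⟩
  have h9 : (5 : ℝ) < p := by exact_mod_cast h.gt
  refine ⟨fun q => (ψ q).re, h.gt, ?_, ?_, fun q e1 e2 e3 => ?_, fun q hq => ?_, fun q hq => ?_,
    fun t x ht e ho hx => ?_, ?_, fun S => ?_, fun e => h.ne_two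
      ((Nat.prime_dvd_prime_iff_eq h.prime Nat.prime_two).1 e), ?_⟩
  · convert hψ with q
    obtain ⟨g, rfl⟩ := QuotientGroup.mk_surjective q
    rw [h2, h1]
  · rw [← QuotientGroup.mk_one, h2, h.one, show (p - 2 : ℂ) = (p - 2 : ℝ) by simp,
      Complex.norm_of_nonneg (by linarith)]
  · obtain ⟨g, rfl⟩ := QuotientGroup.mk_surjective q
    rw [h2, h.val_odd (h6 g e2) (mt (h5 g).2 e3) (mt (QuotientGroup.eq_one_iff g).2 e1)]
    simp
  · obtain ⟨g, e, rfl⟩ := h8 q hq
    simp [h2, h.val_inv e]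
  · obtain ⟨g, e, -⟩ := h7 q 2 hq
    exact h.ne_four g e
  · obtain ⟨t, ht', rfl⟩ := h8 t ht
    obtain ⟨x, rfl⟩ := QuotientGroup.mk_surjective x
    have e1 : x * t * x⁻¹ * t⁻¹ ∈ center G := by
      rw [← QuotientGroup.eq_one_iff]
      simp [← e.eq]
    have e2 : Commute t x := by
      by_contra e2
      refine h.not_mem_center (orderOf_eq_prime ?_ fun e3 => e2 ?_) e1
      · have e3 := mul_self_of_order ((orderOf_conj' t x).trans ht')
        generalize hw : x * t * x⁻¹ * t⁻¹ = w at e1 ⊢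
        rw [show x * t * x⁻¹ = w * t by rw [← hw]; group, mul_assoc, ← mul_assoc t,
          mem_center_iff.1 e1 t, mul_assoc, mul_self_of_order ht', mul_one] at e3
        rwa [pow_two]
      · rw [mul_inv_eq_one, mul_inv_eq_iff_eq_mul] at e3
        exact e3.symm
    refine ⟨mt (h5 x).1 (h.regular_of_commute ht' e2), ?_⟩
    rw [← QuotientGroup.mk_mul, h2]
    rcases h.val_mix ht' e2 (h6 x ho) (mt (QuotientGroup.eq_one_iff x).2 hx) with e | e <;> simp [e]
  · have e1 := IndTI.sum_comp_surjective (QuotientGroup.mk' (center G)) (QuotientGroup.mk'_surjective _)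
      fun q => if ¬ p ∣ orderOf q then (ψ q).re else 0
    have e2 := h.sum_regular
    simp only [QuotientGroup.mk'_apply, h5, h2, ← Finset.sum_filter, QuotientGroup.ker_mk'] at e1
    rw [card_eq_card_quotient_mul_card_subgroup (center G)] at e2
    norm_cast at e1
    rw [e1] at e2
    push_cast at e2
    exact mul_left_cancel₀ (Nat.cast_ne_zero.2 (Nat.card_pos (α := center G)).ne')
      (by linear_combination e2)
  · obtain ⟨T⟩ : Nonempty (Sylow 2 G) := inferInstance
    rw [← Nat.card_congr ((T.mapSurjective (QuotientGroup.mk'_surjective _)).equiv S).toEquiv]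
    exact (card_map_dvd _ _).trans (h.card_dvd T)
  · rw [← index_eq_card]
    exact (h.data.1 ▸ relIndex_dvd_index_of_le (centralizer_le_normalizer _)).trans
      (index_dvd_of_le (center_le_centralizer _))

theorem main : ∃ (a : ℕ) (F : Type) (_ : Field F) (_ : Fintype F), p = 2 ^ a + 1 ∧
    Fintype.card F = 2 ^ a ∧ center G = ⊥ ∧ Nonempty (G ≃* Matrix.SpecialLinearGroup (Fin 2) F) := by
  have := Fact.mk h.prime
  have := Fintype.ofFinite (G ⧸ center G)
  have := Fintype.ofFinite (Sylow 2 (G ⧸ center G))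
  obtain ⟨Ψ, hΨ⟩ := h.exists_eg
  set f := (MulAction.toPermHom _ (Sylow 2 (G ⧸ center G))).comp (QuotientGroup.mk' (center G))
  have hk : f.rangeRestrict.ker = center G := by
    rw [MonoidHom.ker_rangeRestrict, ← MonoidHom.comap_ker, (MonoidHom.ker_eq_bot_iff _).2 hΨ.injective,
      MonoidHom.comap_bot, QuotientGroup.ker_mk']
  have hs := f.rangeRestrict_surjective
  let S : Sylow p G := h.toOrdP.ab.pg.toSylow h.ind
  have hc : (Nat.card P).Coprime (Nat.card f.rangeRestrict.ker) := by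
    rw [hk, h.card]; exact h.prime.coprime_iff_not_dvd.2 h.not_dvd
  have h1 : (normalizer (P : Set G)).map f.rangeRestrict =
      normalizer ((S.mapSurjective hs : Subgroup f.range) : Set f.range) :=
    (Core.normalizer_map_of_coprime_ker hs P hc (Or.inl (by
      have := h.toOrdP.ab.pg.isNilpotent; infer_instance))).symm
  have hZ := center_le_centralizer (P : Set G)
  have h2 : Nat.card (centralizer (P : Set G)) = Nat.card (center G) * p := by
    rw [← h.card, mul_comm, ← Core.card_sup_of_disjoint (center_le_normalizer _)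
      (disjoint_of_coprime_natCard (by rwa [← hk]))]
    congr
    refine le_antisymm (fun c hc => ?_) (sup_le h.toOrdP.ab.comm hZ)
    obtain ⟨y, hy, e⟩ := exists_decomp h.toOrdP.ab ⟨c, hc⟩
    rw [show c = _ from congrArg Subtype.val e]
    exact mul_mem_sup (vp h.toOrdP.ab ⟨c, hc⟩).2 (h.data.2.1 y y.2 (by rwa [orderOf_coe]))
  rcases S4706.result (by have := h.gt; omega) (by rw [← Nat.card_eq_fintype_card, hΨ.card_sylow.1])
    f.range (S.mapSurjective hs) (by
      rw [← h1, ← relIndex_ker, hk]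
      refine Nat.eq_of_mul_eq_mul_left (Nat.card_pos (α := center G)) ?_
      rw [Core.card_mul_relIndex (hZ.trans (centralizer_le_normalizer _)),
        ← Core.card_mul_relIndex (centralizer_le_normalizer _), h.data.1, h2]
      ring) with e | ⟨a, F, _, _, e1, e2, ⟨e⟩⟩
  · refine absurd (normalizer_eq_top_iff.1 ?_) h.nn
    rw [← comap_map_eq_self (f := f.rangeRestrict) (H := normalizer _)
      (hk.trans_le (hZ.trans (centralizer_le_normalizer _))), h1, normalizer_eq_top, comap_top]
  have h3 : (e.toMonoidHom.comp f.rangeRestrict).ker = center G := by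
    rw [← MonoidHom.comap_ker, (MonoidHom.ker_eq_bot_iff _).2 e.injective, MonoidHom.comap_bot, hk]
  have h4 := H2.Schur.ker_eq_bot (S2117.result (F := F) (by have := h.gt; omega) (by
      rw [e2]; intro e3
      have := h.prime
      rw [e1, e3] at this
      norm_num at this)) (ξ := e.toMonoidHom.comp f.rangeRestrict)
    ⟨e.surjective.comp hs, h3.le, h.perfect ▸ le_top⟩
  exact ⟨a, F, inferInstance, inferInstance, e1, e2, h3.symm.trans h4,
    ⟨MulEquiv.ofBijective _ ⟨(MonoidHom.ker_eq_bot_iff _).1 h4, e.surjective.comp hs⟩⟩⟩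

end PM2

end Cfsg.Agent.Block
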