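import Mathlib
import Cfsg.Prelude.Def_DegreeGraph
import Cfsg.Agent.Block.LocSys
import Cfsg.Agent.Char.Extend
import Cfsg.Agent.Core.Product

/-! Relative character degrees: products with linear characters of a normal subgroup. -/

namespace Cfsg.Agent.Block.RD

open Cfsg Cfsg.Agent.Char Cfsg.Agent.Char.Clifford Cfsg.Agent.Char.Det Subgroup
open scoped _root_.Classical

variable {G : Type*} [Group G] [Fintype G] {N : Subgroup G} [N.Normal] {θ : N → ℂ}
  {lam μ : N →* ℂˣ} {a b : ℕ}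

/-- `a` is the degree of an irreducible character lying over `θ`. -/
def Ov (θ : N → ℂ) (a : ℕ) : Prop :=
  ∃ χ : IrrCharacter G, classInner (fun n : N => χ.1 n) θ ≠ 0 ∧ charDegree χ.1 = a

/-- The orbit length. -/
noncomputable def ti (θ : N → ℂ) : ℕ := (inertia N θ).index

/-- The orbit sum. -/
noncomputable def orb (θ : N → ℂ) : N → ℂ := ∑ ψ ∈ orbitFn N θ, ψ

/-- Conjugation of linear characters. -/
def cj (g : G) : (N →* ℂˣ) →* (N →* ℂˣ) :=
  MonoidHom.mk' (fun lam => lam.comp (MulAut.conjNormal g).toMonoidHom) fun _ _ => rfl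

omit [Fintype G] in
theorem lc_cj (g : G) (lam : N →* ℂˣ) : lc (cj g lam) = conjFn N g (lc lam) := rfl

omit [Fintype G] in
theorem cj_pow (g : G) (lam : N →* ℂˣ) (k : ℕ) : cj g (lam ^ k) = cj g lam ^ k := rfl

omit [Fintype G] in
theorem mem_inertia_lc {g : G} : g ∈ inertia N (lc lam) ↔ cj g lam = lam := by
  rw [mem_inertia, ← lc_cj, lc_injective.eq_iff]

omit [Fintype G] in
theorem ti_eq_one : ti (lc lam) = 1 ↔ ∀ g, cj g lam = lam := by
  simp only [ti, index_eq_one, eq_top_iff', mem_inertia_lc]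

theorem irr_mul (lam : N →* ℂˣ) (hθ : IsIrrCharacter N θ) : IsIrrCharacter N (lc lam * θ) :=
  isIrr_linear_mul hθ lam

omit [Fintype G] [N.Normal] in
theorem deg_mul (lam : N →* ℂˣ) (θ : N → ℂ) : charDegree (lc lam * θ) = charDegree θ := by
  simp [charDegree, lc]

omit [Fintype G] [N.Normal] in
theorem deg_lc (lam : N →* ℂˣ) : charDegree (lc lam) = 1 := charDegree_of_eq (by simp [lc])

theorem exists_ov (hθ : IsIrrCharacter N θ) : ∃ a, Ov θ a :=
  let ⟨χ, h1, h2⟩ := Clifford.exists_over hθ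
  ⟨_, ⟨χ, h1⟩, h2, rfl⟩

theorem isChar_orb (hθ : IsIrrCharacter N θ) : IsCharacter N (orb θ) :=
  isChar_sum _ fun _ h => isIrr_isChar (isIrr_of_mem_orbitFn hθ h)

theorem orb_one (hθ : IsIrrCharacter N θ) : orb θ 1 = (ti θ * charDegree θ : ℕ) := by
  rw [orb, sum_orbitFn_apply_one, Nat.cast_mul, charDegree_cast (isIrr_isChar hθ), ti]

theorem res_eq (hθ : IsIrrCharacter N θ) {χ : IrrCharacter G}
    (h : classInner (fun n : N => χ.1 n) θ ≠ 0) : ∃ e : ℕ, e ≠ 0 ∧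
      (fun n : N => χ.1 n) = (e : ℂ) • orb θ ∧ charDegree χ.1 = e * (ti θ * charDegree θ) := by
  obtain ⟨e, he⟩ := classInner_isChar_nat (isChar_res N (irr_isChar χ)) (isIrr_isChar hθ)
  have h1 := res_eq_smul_sum_orbit χ.2 hθ h
  rw [he] at h h1
  refine ⟨e, by simpa using h, h1, charDegree_of_eq ?_⟩
  rw [Nat.cast_mul, ← orb_one hθ]
  exact congrFun h1 1

theorem Ov.dvd (h : Ov θ a) (hθ : IsIrrCharacter N θ) : ti θ * charDegree θ ∣ a := by
  obtain ⟨χ, h1, rfl⟩ := h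
  obtain ⟨e, -, -, h2⟩ := res_eq hθ h1
  exact h2 ▸ dvd_mul_left _ _

theorem Ov.ti_dvd (h : Ov θ a) (hθ : IsIrrCharacter N θ) : ti θ ∣ a :=
  (dvd_mul_right _ _).trans (h.dvd hθ)

theorem Ov.deg_dvd (h : Ov θ a) (hθ : IsIrrCharacter N θ) : charDegree θ ∣ a :=
  (dvd_mul_left _ _).trans (h.dvd hθ)

theorem Ov.det (h : Ov θ a) (hθ : IsIrrCharacter N θ) (hN : N ≤ commutator G)
    (hμ : detChar (orb θ) = lc μ) : ∃ e, a = e * (ti θ * charDegree θ) ∧ μ ^ e = 1 := by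
  obtain ⟨χ, h1, rfl⟩ := h
  obtain ⟨e, -, h2, h3⟩ := res_eq hθ h1
  obtain ⟨ν, hν⟩ := exists_detHom (irr_isChar χ)
  refine ⟨e, h3, MonoidHom.ext fun n => Units.ext ?_⟩
  have := detChar_res N (irr_isChar χ) n
  rw [h2, detChar_nsmul (isChar_orb hθ), hμ, hν] at this
  simpa [lc, MonoidHom.mem_ker.1 (Abelianization.commutator_subset_ker ν (hN n.2))] using this

theorem conj_orb (hθ : IsIrrCharacter N θ) (g : G) : conjFn N g (orb θ) = orb θ := by
  obtain ⟨χ, h1, h2⟩ := Clifford.exists_over hθ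
  obtain ⟨e, h3, h4, -⟩ := res_eq hθ (χ := ⟨χ, h1⟩) h2
  exact mem_inertia.1 (invariant_of_res_eq_smul (isIrr_classFun h1) (Nat.cast_ne_zero.2 h3) h4 ▸
    mem_top g)

theorem exists_conj {φ : N → ℂ} (h : (ti θ).Coprime (ti φ)) (g : G) :
    ∃ s ∈ inertia N φ, conjFn N g θ = conjFn N s θ := by
  obtain ⟨u, hu, s, hs, rfl⟩ := Core.exists_mul_of_coprime_index h g
  exact ⟨s, hs, by rw [conjFn_mul, mem_inertia.1 hu]⟩

theorem orb_mul (h1 : (ti θ).Coprime (ti (lc lam))) (h2 : (ti (lc lam * θ)).Coprime (ti (lc lam))) :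
    orb (lc lam * θ) = lc lam * orb θ := by
  have hi : Function.Injective fun ψ : N → ℂ => lc lam * ψ := fun _ _ e =>
    funext fun n => mul_left_cancel₀ (Units.ne_zero _) (congrFun e n)
  rw [orb, orb, Finset.mul_sum, ← Finset.sum_image (f := fun ψ => ψ) hi.injOn]
  refine Finset.sum_congr (Finset.ext fun ψ => ?_) fun _ _ => rfl
  simp only [Finset.mem_image, mem_orbitFn]
  constructor
  · rintro ⟨g, rfl⟩
    obtain ⟨s, hs, e⟩ := exists_conj h2 g
    exact ⟨_, ⟨s, rfl⟩, by rw [e, conjFn_mul', mem_inertia.1 hs]⟩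
  · rintro ⟨_, ⟨g, rfl⟩, rfl⟩
    obtain ⟨s, hs, e⟩ := exists_conj h1 g
    exact ⟨s, by rw [e, conjFn_mul', mem_inertia.1 hs]⟩

theorem det_mul (hθ : IsIrrCharacter N θ) (lam : N →* ℂˣ) (hμ : detChar (orb θ) = lc μ) :
    detChar (lc lam * orb θ) = lc (lam ^ (ti θ * charDegree θ) * μ) := funext fun n =>
  (detChar_linear_mul (isChar_orb hθ) (orb_one hθ) lam n).trans (by simp [hμ, lc])

variable (N) in
/-- No nontrivial linear character of `N` is invariant. -/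
def NI : Prop := ∀ lam : N →* ℂˣ, (∀ g : G, cj g lam = lam) → lam = 1

theorem NI.pow (h : NI N) (hθ : IsIrrCharacter N θ) (h1 : (ti θ).Coprime (ti (lc lam)))
    (h2 : (ti (lc lam * θ)).Coprime (ti (lc lam))) : lam ^ (ti θ * charDegree θ) = 1 := by
  obtain ⟨μ, hμ⟩ := exists_detHom (isChar_orb hθ)
  refine h _ fun g => mul_right_cancel (b := μ) (lc_injective ?_)
  have := conj_orb (irr_mul lam hθ) g
  rw [orb_mul h1 h2, conjFn_mul', conj_orb hθ, ← lc_cj] at this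
  rw [cj_pow, ← det_mul hθ _ hμ, ← det_mul hθ _ hμ, this]

omit [Fintype G] in
theorem NI.ti_ne (h : NI N) (hl : lam ≠ 1) : ti (lc lam) ≠ 1 := fun e => hl (h _ (ti_eq_one.1 e))

omit [Fintype G] in
theorem ti_of_mul (h : lc lam * θ = fun _ => 1) : ti θ = ti (lc lam) := by
  have hi : ∀ (μ : N →* ℂˣ) (φ ψ : N → ℂ), lc μ * φ = lc μ * ψ → φ = ψ := fun μ _ _ e =>
    funext fun n => mul_left_cancel₀ (Units.ne_zero _) (congrFun e n)
  refine congrArg index (Subgroup.ext fun g => ?_)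
  have := conjFn_mul' g (lc lam) θ
  rw [h, conjFn_const, ← h] at this
  simp only [mem_inertia]
  refine ⟨fun e => ?_, fun e => hi lam _ _ (by rw [this, e])⟩
  funext n
  have h3 := congrFun h n
  have h4 := congrFun this n
  rw [e] at h4
  exact (mul_right_cancel₀ (right_ne_zero_of_mul_eq_one h3) h4).symm

theorem Ov.mem (h : Ov θ a) (hθ : IsIrrCharacter N θ) (h1 : θ ≠ fun _ => 1) :
    a ∈ relCharDegrees N := by
  obtain ⟨χ, h2, rfl⟩ := h
  refine ⟨χ, by_contra fun hc => h1 (isIrr_eq_one_of_charKer_eq_top hθ (top_le_iff.1 ?_)), rfl⟩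
  push Not at hc
  rw [← (charKer_eq_top_iff (f := fun n : N => χ.1 n)).2 fun n => hc n n.2]
  exact charKer_le_of_constituent (isChar_res N (irr_isChar χ)) hθ h2

theorem exists_under' (χ : IrrCharacter G) (h : ∃ x ∈ N, χ.1 x ≠ χ.1 1) :
    ∃ θ, IsIrrCharacter N θ ∧ θ ≠ (fun _ => 1) ∧ classInner (fun n : N => χ.1 n) θ ≠ 0 := by
  obtain ⟨θ, h1, h2⟩ := Clifford.exists_under (N := N) χ.2
  obtain ⟨x, hx, h3⟩ := h
  refine ⟨θ, h1, ?_, h2⟩
  rintro rfl
  exact h3 (apply_eq_of_mem_charKer (le_charKer_of_inner_ne_zero N χ.2 h2 hx))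

theorem exists_ov_of_mem (h : a ∈ relCharDegrees N) :
    ∃ θ : N → ℂ, IsIrrCharacter N θ ∧ θ ≠ (fun _ => 1) ∧ Ov θ a := by
  obtain ⟨χ, h1, rfl⟩ := h
  obtain ⟨θ, h2, h3, h4⟩ := exists_under' χ h1
  exact ⟨θ, h2, h3, χ, h4, rfl⟩

omit [Fintype G] [N.Normal] in
theorem lc_mul (lam μ : N →* ℂˣ) : lc (lam * μ) = lc lam * lc μ := funext fun n => by simp [lc]

omit [Fintype G] [N.Normal] in
theorem lc_ne_one (h : lam ≠ 1) : lc lam ≠ fun _ => 1 := fun e => h (lc_injective e)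

omit [Fintype G] [N.Normal] in
theorem eq_one_of_coprime {j k : ℕ} (h1 : lam ^ j = 1) (h2 : lam ^ k = 1) (h : j.Coprime k) :
    lam = 1 :=
  MonoidHom.ext fun n => orderOf_eq_one_iff.1 (Nat.eq_one_of_dvd_coprimes h
    (orderOf_dvd_of_pow_eq_one (DFunLike.congr_fun h1 n))
    (orderOf_dvd_of_pow_eq_one (DFunLike.congr_fun h2 n)))

omit [Fintype G] [N.Normal] in
theorem pow_of_dvd {j k : ℕ} (h1 : lam ^ j = 1) (h : j ∣ k) : lam ^ k = 1 :=
  MonoidHom.ext fun n => orderOf_dvd_iff_pow_eq_one.1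
    ((orderOf_dvd_of_pow_eq_one (x := lam n) (DFunLike.congr_fun h1 n)).trans h)

theorem exists_lc (hθ : IsIrrCharacter N θ) (h : charDegree θ = 1) : ∃ ν, θ = lc ν :=
  isChar_linear_of_degree_one (isIrr_isChar hθ)
    (by rw [← charDegree_cast (isIrr_isChar hθ), h, Nat.cast_one])

theorem not_coprime {c d k : ℕ} (h : k ≠ 1) (hc : k ∣ c) (hd : k ∣ d) : ¬ c.Coprime d := fun e =>
  h (Nat.eq_one_of_dvd_coprimes e hc hd)

theorem not_coprime_of {c d c' d' : ℕ} (h : ¬ c.Coprime d) (hc : c ∣ c') (hd : d ∣ d') :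
    ¬ c'.Coprime d' := fun e => h ((e.of_dvd_left hc).of_dvd_right hd)

/-- An invariant linear character of prime order `p`: every degree is near a multiple of `p`. -/
theorem central {p : ℕ} (hp : p.Prime) (hN : N ≤ commutator G) (hl : lam ≠ 1) (hlp : lam ^ p = 1)
    (hi : ∀ g : G, cj g lam = lam) (ha : a ∈ relCharDegrees N) :
    ∃ d ∈ relCharDegrees N, p ∣ d ∧ ¬ a.Coprime d := by
  by_cases hpa : p ∣ a
  · exact ⟨a, ha, hpa, not_coprime hp.one_lt.ne' hpa hpa⟩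
  obtain ⟨θ, hθ, h1, h2⟩ := exists_ov_of_mem ha
  have hs := ti_eq_one.2 hi
  have ho := orb_mul (θ := θ) (lam := lam) (hs ▸ Nat.coprime_one_right _) (hs ▸ Nat.coprime_one_right _)
  have hφ := irr_mul lam hθ
  obtain ⟨μ, hμ⟩ := exists_detHom (isChar_orb hθ)
  obtain ⟨e, he, h3⟩ := h2.det hθ hN hμ
  have hw : ti (lc lam * θ) * charDegree (lc lam * θ) = ti θ * charDegree θ := by
    have := congrFun ho 1
    rw [orb_one hφ, Pi.mul_apply, orb_one hθ] at this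
    simpa [lc, ← Nat.cast_mul] using this
  have key : ∀ d, Ov (lc lam * θ) d → p ∣ d ∧ ∃ e', d = e' * (ti θ * charDegree θ) ∧ μ ^ e' = 1 :=
    fun d hd => by
      obtain ⟨e', h4, h5⟩ := hd.det hφ hN (ho ▸ det_mul hθ lam hμ)
      rw [hw] at h4
      have h6 : ∀ n, lam n ^ d * μ n ^ e' = 1 := fun n => by
        rw [h4, mul_comm e', pow_mul, ← mul_pow]
        exact DFunLike.congr_fun h5 n
      have h7 : p ∣ d := by
        by_contra hc
        refine hl (eq_one_of_coprime hlp (k := d * e) (MonoidHom.ext fun n => ?_) ?_)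
        · have h8 : μ n ^ e = 1 := DFunLike.congr_fun h3 n
          have := congrArg (· ^ e) (h6 n)
          simp only [mul_pow, ← pow_mul, mul_comm e' e, pow_mul (μ n), h8, one_pow, mul_one] at this
          exact this
        · exact hp.coprime_iff_not_dvd.2 (hp.not_dvd_mul hc fun h => hpa (he ▸ h.mul_right _))
      refine ⟨h7, e', h4, MonoidHom.ext fun n => ?_⟩
      have h8 : lam n ^ d = 1 := DFunLike.congr_fun (pow_of_dvd hlp h7) n
      simpa [h8] using h6 n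
  have h4 : lc lam * θ ≠ fun _ => 1 := fun e => hp.one_lt.ne' (Nat.dvd_one.1 (key 1
    ⟨oneIrr G, by rw [e]; exact classInner_one_one.trans_ne one_ne_zero, charDegree_one_fun⟩).1)
  obtain ⟨d, hd⟩ := exists_ov hφ
  obtain ⟨h5, e', h6, h7⟩ := key d hd
  refine ⟨d, hd.mem hφ h4, h5, ?_⟩
  by_cases h8 : ti θ * charDegree θ = 1
  · intro hc
    obtain ⟨ν, rfl⟩ := exists_lc hθ (Nat.eq_one_of_mul_eq_one_left h8)
    rw [orb, orbitFn_of_invariant (index_eq_one.1 (Nat.eq_one_of_mul_eq_one_right h8)),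
      Finset.sum_singleton, detChar_linear] at hμ
    rw [h8, mul_one] at he h6
    exact h1 (hμ.trans (by rw [eq_one_of_coprime h3 h7 (he ▸ h6 ▸ hc)]; rfl))
  · exact not_coprime h8 (he ▸ dvd_mul_left _ _) (h6 ▸ dvd_mul_left _ _)

theorem NI.step (h : NI N) (hθ : IsIrrCharacter N θ) (h2 : Ov θ a) (hl : lam ≠ 1)
    (hc : (ti θ).Coprime (ti (lc lam))) (hla : lam ^ a ≠ 1) :
    lc lam * θ ≠ (fun _ => 1) ∧ ¬ (ti (lc lam * θ)).Coprime (ti (lc lam)) :=
  ⟨fun e => h.ti_ne hl (Nat.coprime_self _ |>.1 (ti_of_mul e ▸ hc :)),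
    fun e => hla (pow_of_dvd (h.pow hθ hc e) (h2.dvd hθ))⟩

theorem NI.near {p : ℕ} (h : NI N) (hp : p.Prime) (hl : lam ≠ 1) (hlp : lam ^ p = 1)
    (hs : ¬ p ∣ ti (lc lam)) (ha : a ∈ relCharDegrees N) (hpa : ¬ p ∣ a) :
    ∃ d ∈ relCharDegrees N, ¬ a.Coprime d ∧ ¬ d.Coprime (ti (lc lam)) := by
  obtain ⟨θ, hθ, h1, h2⟩ := exists_ov_of_mem ha
  by_cases hc : (ti θ).Coprime (ti (lc lam))
  swap
  · have := not_coprime_of hc (h2.ti_dvd hθ) dvd_rfl
    exact ⟨a, ha, fun e => this (by simp [(Nat.coprime_self _).1 e]), this⟩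
  have hφ := irr_mul lam hθ
  obtain ⟨d, hd⟩ := exists_ov hφ
  obtain ⟨h3, h4⟩ := h.step hθ h2 hl hc fun e =>
    hl (eq_one_of_coprime hlp e (hp.coprime_iff_not_dvd.2 hpa))
  refine ⟨d, hd.mem hφ h3, ?_, not_coprime_of h4 (hd.ti_dvd hφ) dvd_rfl⟩
  by_cases h5 : charDegree θ = 1
  swap
  · exact not_coprime h5 (h2.deg_dvd hθ) (deg_mul lam θ ▸ hd.deg_dvd hφ)
  obtain ⟨ν, rfl⟩ := exists_lc hθ h5
  refine not_coprime_of (fun h6 => h1 ?_) (h2.ti_dvd hθ) (hd.ti_dvd hφ)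
  have h7 := h.pow (isIrr_linear lam) hc.symm (mul_comm (lc lam) _ ▸ h6.symm)
  rw [deg_lc, mul_one] at h7
  rw [eq_one_of_coprime (h _ fun g => MonoidHom.ext fun n => ?_) h7 (hp.coprime_iff_not_dvd.2 hs)]
  · rfl
  obtain ⟨s, h8, h9⟩ := exists_conj h6.symm g
  have e1 : ∀ g : G, cj g lam n ^ p = 1 := fun g => DFunLike.congr_fun hlp _
  have e2 : cj g lam n * cj g ν n = cj s lam n * ν n := by
    rw [conjFn_mul', conjFn_mul', mem_inertia.1 h8] at h9
    exact Units.ext (congrFun h9 n)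
  have := congrArg (· ^ p) e2
  simp only [mul_pow, e1, one_mul] at this
  exact this

theorem ti_dvd_mul {p q : ℕ} (hl : lam ^ p = 1) (hμ : μ ^ q = 1) (h : p.Coprime q) :
    ti (lc lam) ∣ ti (lc (lam * μ)) := by
  refine index_dvd_of_le fun g hg => mem_inertia_lc.2 (MonoidHom.ext fun n => ?_)
  have e1 : cj g lam n * cj g μ n = lam n * μ n := DFunLike.congr_fun (mem_inertia_lc.1 hg) n
  have e2 : cj g μ n ^ q = 1 := DFunLike.congr_fun hμ _
  have e3 : μ n ^ q = 1 := DFunLike.congr_fun hμ _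
  have e4 : cj g lam n ^ p = 1 := DFunLike.congr_fun hl _
  have e5 : lam n ^ p = 1 := DFunLike.congr_fun hl _
  have := congrArg (· ^ q) e1
  simp only [mul_pow, e2, e3, mul_one] at this
  refine mul_inv_eq_one.1 (orderOf_eq_one_iff.1 (Nat.eq_one_of_dvd_coprimes h
    (orderOf_dvd_of_pow_eq_one ?_) (orderOf_dvd_of_pow_eq_one ?_)))
  · rw [mul_pow, inv_pow, e4, e5, mul_inv_cancel]
  · rw [mul_pow, inv_pow, this, mul_inv_cancel]

theorem exists_lam {p : ℕ} (hp : p.Prime) (hd : p ∣ (commutator N).index) :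
    ∃ lam : N →* ℂˣ, lam ≠ 1 ∧ lam ^ p = 1 ∧ ¬ p ∣ ti (lc lam) := by
  have := Fact.mk hp
  obtain ⟨P⟩ : Nonempty (Sylow p G) := inferInstance
  let Ω : Subgroup (N →* ℂˣ) := (powMonoidHom p).ker
  letI : MulAction P Ω :=
    { smul := fun g l => ⟨cj (g : G)⁻¹ l.1, MonoidHom.ext fun n => DFunLike.congr_fun l.2 _⟩
      one_smul := fun l => Subtype.ext (MonoidHom.ext fun n => congrArg l.1 (by simp))
      mul_smul := fun g h l => Subtype.ext (MonoidHom.ext fun n => congrArg l.1 (by simp)) }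
  have := Fintype.ofFinite (Abelianization N)
  obtain ⟨ν, hν⟩ := exists_prime_orderOf_dvd_card' (G := Abelianization N →* ℂˣ) p
    (by rwa [card_lin_of_comm inferInstance])
  have h1 : ν.comp Abelianization.of ∈ Ω := MonoidHom.ext fun n =>
    DFunLike.congr_fun (hν ▸ pow_orderOf_eq_one ν : ν ^ p = 1) _
  have h2 : (⟨_, h1⟩ : Ω) ≠ 1 := fun e => hp.one_lt.ne' (hν.symm.trans (orderOf_eq_one_iff.2
    (Abelianization.hom_ext _ _ (congrArg Subtype.val e))))
  obtain ⟨l, h3, h4⟩ := P.isPGroup'.exists_fixed_point_of_prime_dvd_card_of_fixed_point Ω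
    ((orderOf_eq_prime (x := (⟨_, h1⟩ : Ω)) (Subtype.ext h1) h2).symm.dvd.trans (orderOf_dvd_natCard _)) (a := 1) fun g => rfl
  refine ⟨l.1, fun e => h4 (Subtype.ext e.symm), l.2, fun e => P.not_dvd_index (e.trans
    (index_dvd_of_le fun g hg => mem_inertia_lc.2 ?_))⟩
  exact inv_inv g ▸ congrArg Subtype.val (h3 ⟨g, hg⟩⁻¹)

end Cfsg.Agent.Block.RD
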