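import Mathlib
import Cfsg.Agent.Block.RelDeg

/-! The common-divisor graph on the relative character degrees. -/

namespace Cfsg.Agent.Block.RD

open Cfsg Cfsg.Agent.Char Cfsg.Agent.Char.Clifford Cfsg.Agent.Char.Det Subgroup
open scoped _root_.Classical

variable {G : Type*} [Group G] {N : Subgroup G}

/-- The common-divisor graph on the degrees relative to `N`. -/
abbrev gr (N : Subgroup G) : SimpleGraph (relCharDegrees N) :=
  commonDivisorGraph.induce (relCharDegrees N)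

theorem adj {a b : relCharDegrees N} (h1 : a ≠ b) (h : ¬ a.1.Coprime b.1) : (gr N).Adj a b := by
  refine ⟨fun e => h1 (Subtype.ext e), ?_⟩
  have : a.1.gcd b.1 ≠ 0 := fun e => h1 (Subtype.ext
    ((Nat.gcd_eq_zero_iff.1 e).1.trans (Nat.gcd_eq_zero_iff.1 e).2.symm))
  exact Nat.one_lt_iff_ne_zero_and_ne_one.2 ⟨this, h⟩

theorem reach {a b : relCharDegrees N} (h : ¬ a.1.Coprime b.1) : (gr N).Reachable a b := by
  by_cases e : a = b
  · rw [e]
  · exact (adj e h).reachable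

theorem subgroupOf_comm (N : Subgroup G) : ⁅N, N⁆.subgroupOf N = commutator N := by
  rw [← map_subtype_commutator]
  exact comap_map_eq_self_of_injective (subtype_injective N) _

theorem relIndex_comm (N : Subgroup G) : ⁅N, N⁆.relIndex N = (commutator N).index :=
  congrArg index (subgroupOf_comm N)

theorem mem_of_le {M : Subgroup G} (h : M ≤ N) : relCharDegrees M ⊆ relCharDegrees N :=
  fun _ ⟨χ, ⟨x, hx, h1⟩, h2⟩ => ⟨χ, ⟨x, h hx, h1⟩, h2⟩

theorem reach_of_le {M : Subgroup G} (h : M ≤ N) {a b : relCharDegrees M}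
    (e : (gr M).Reachable a b) : (gr N).Reachable ⟨a, mem_of_le h a.2⟩ ⟨b, mem_of_le h b.2⟩ :=
  e.map (SimpleGraph.induceHomOfLE _ (mem_of_le h)).toHom

variable [Fintype G] [N.Normal] {a b : relCharDegrees N}

theorem exists_central (h : ¬ NI N) : ∃ (p : ℕ) (lam : N →* ℂˣ), p.Prime ∧ lam ≠ 1 ∧ lam ^ p = 1 ∧
    ∀ g : G, cj g lam = lam := by
  simp only [NI, not_forall] at h
  obtain ⟨lam, h1, h2⟩ := h
  obtain ⟨p, hp, h3⟩ := Nat.exists_prime_and_dvd (mt (orderOf_eq_one_iff (x := lam)).1 h2)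
  have h4 := orderOf_pow_orderOf_div (orderOf_linear_pos lam).ne' h3
  exact ⟨p, lam ^ (orderOf lam / p), hp, fun e => hp.one_lt.ne' (h4.symm.trans
    (orderOf_eq_one_iff.2 e)), orderOf_dvd_iff_pow_eq_one.1 h4.dvd, fun g => by rw [cj_pow, h1]⟩

theorem ni_of_not_reach (hN : N ≤ commutator G) (h : ¬ (gr N).Reachable a b) : NI N := by
  by_contra hc
  obtain ⟨p, lam, hp, h1, h2, h3⟩ := exists_central hc
  obtain ⟨c, hc, h4, h5⟩ := central hp hN h1 h2 h3 a.2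
  obtain ⟨d, hd, h6, h7⟩ := central hp hN h1 h2 h3 b.2
  exact h (((reach (b := ⟨c, hc⟩) h5).trans (reach (b := ⟨d, hd⟩)
    (not_coprime hp.one_lt.ne' h4 h6))).trans (reach h7).symm)

theorem NI.two (h : NI N) {p q : ℕ} (hp : p.Prime) (hq : q.Prime) (h1 : p ∣ (commutator N).index)
    (h2 : q ∣ (commutator N).index) {a b : ℕ} (ha : a ∈ relCharDegrees N)
    (hb : b ∈ relCharDegrees N) (hpa : ¬ p ∣ a) (hqb : ¬ q ∣ b) :
    ∃ c ∈ relCharDegrees N, ∃ d ∈ relCharDegrees N, ∃ e ∈ relCharDegrees N,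
      ¬ a.Coprime c ∧ ¬ c.Coprime d ∧ ¬ e.Coprime d ∧ ¬ b.Coprime e := by
  obtain ⟨lam, l1, l2, l3⟩ := exists_lam hp h1
  obtain ⟨c, hc, c1, c2⟩ := h.near hp l1 l2 l3 ha hpa
  by_cases e : p = q
  · obtain ⟨c', hc', c3, c4⟩ := h.near hp l1 l2 l3 hb (e ▸ hqb)
    obtain ⟨d, hd⟩ := exists_ov (isIrr_linear lam)
    have := hd.ti_dvd (isIrr_linear lam)
    exact ⟨c, hc, d, hd.mem (isIrr_linear lam) (lc_ne_one l1), c', hc', c1,
      not_coprime_of c2 dvd_rfl this, not_coprime_of c4 dvd_rfl this, c3⟩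
  obtain ⟨μ, m1, m2, m3⟩ := exists_lam hq h2
  obtain ⟨c', hc', c3, c4⟩ := h.near hq m1 m2 m3 hb hqb
  have hpq := (Nat.coprime_primes hp hq).2 e
  obtain ⟨d, hd⟩ := exists_ov (isIrr_linear (lam * μ))
  have := hd.ti_dvd (isIrr_linear _)
  have h3 := ti_dvd_mul l2 m2 hpq
  refine ⟨c, hc, d, hd.mem (isIrr_linear _) (lc_ne_one fun e => h.ti_ne l1 (Nat.dvd_one.1 ?_)), c',
    hc', c1, not_coprime_of c2 dvd_rfl (h3.trans this), not_coprime_of c4 dvd_rfl
      (((ti_dvd_mul m2 l2 hpq.symm).trans (by rw [lc_mul, mul_comm, ← lc_mul])).trans this), c3⟩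
  rwa [e, (ti_eq_one (lam := 1)).2 fun g => rfl] at h3

theorem NI.reach (h : NI N) {p q : ℕ} (hp : p.Prime) (hq : q.Prime)
    (h1 : p ∣ (commutator N).index) (h2 : q ∣ (commutator N).index) (hpa : ¬ p ∣ a.1)
    (hqb : ¬ q ∣ b.1) : (gr N).Reachable a b := by
  obtain ⟨c, hc, d, hd, e, he, h3, h4, h5, h6⟩ := h.two hp hq h1 h2 a.2 b.2 hpa hqb
  exact ((RD.reach (b := ⟨c, hc⟩) h3).trans (RD.reach (b := ⟨d, hd⟩) h4)).trans
    ((RD.reach (b := ⟨e, he⟩) h6).trans (RD.reach (b := ⟨d, hd⟩) h5)).symm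

theorem dich (hN : N ≤ commutator G) (h : ¬ (gr N).Reachable a b) :
    (a.1.Coprime (commutator N).index ∧ ∀ r : ℕ, r.Prime → r ∣ (commutator N).index → r ∣ b.1) ∨
    (b.1.Coprime (commutator N).index ∧ ∀ r : ℕ, r.Prime → r ∣ (commutator N).index → r ∣ a.1) := by
  have hi := ni_of_not_reach hN h
  by_cases hb : ∀ r : ℕ, r.Prime → r ∣ (commutator N).index → r ∣ b.1
  · exact Or.inl ⟨Nat.coprime_of_dvd fun r hr h1 h2 =>
      h (reach (not_coprime hr.one_lt.ne' h1 (hb r hr h2))), hb⟩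
  push Not at hb
  obtain ⟨q, hq, h1, h2⟩ := hb
  have ha := fun r hr h3 => by_contra fun h4 => h (hi.reach (p := r) hr hq h3 h1 h4 h2)
  exact Or.inr ⟨Nat.coprime_of_dvd fun r hr h3 h4 =>
    h (reach (not_coprime hr.one_lt.ne' (ha r hr h4) h3)), ha⟩

theorem exists_prime (h : ⁅N, N⁆ < N) : ∃ p : ℕ, p.Prime ∧ p ∣ (commutator N).index :=
  Nat.exists_prime_and_dvd fun e => h.not_ge (subgroupOf_eq_top.1
    ((subgroupOf_comm N).trans (index_eq_one.1 e)))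

theorem reach_of_not (hN : N ≤ commutator G) (h : ⁅N, N⁆ < N) {c : relCharDegrees N}
    (h1 : ¬ (gr N).Reachable a c) (h2 : ¬ (gr N).Reachable b c) : (gr N).Reachable a b := by
  obtain ⟨p, hp, h3⟩ := exists_prime h
  by_cases hc : p ∣ c.1
  · exact (ni_of_not_reach hN h1).reach hp hp h3 h3
      (fun e => h1 (reach (not_coprime hp.one_lt.ne' e hc)))
      fun e => h2 (reach (not_coprime hp.one_lt.ne' e hc))
  · exact reach (not_coprime hp.one_lt.ne' (((dich hN h1).resolve_left fun e => hc (e.2 p hp h3)).2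
      p hp h3) (((dich hN h2).resolve_left fun e => hc (e.2 p hp h3)).2 p hp h3))

theorem NI.lin (h : NI N) {a b : ℕ} {ν : N →* ℂˣ} {θ : N → ℂ} (hν : ν ≠ 1) (h1 : Ov (lc ν) a)
    (hθ : IsIrrCharacter N θ) (hθ1 : θ ≠ fun _ => 1) (h2 : Ov θ b)
    (ha : a.Coprime (commutator N).index) (hb : b.Coprime (commutator N).index) :
    ∃ d ∈ relCharDegrees N, ¬ a.Coprime d ∧ ¬ b.Coprime d := by
  have hm : ∀ {μ : N →* ℂˣ} {k}, μ ≠ 1 → k.Coprime (commutator N).index → μ ^ k ≠ 1 :=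
    fun {μ} _ h3 h4 e => h3 (eq_one_of_coprime e (orderOf_dvd_iff_pow_eq_one.1
      (orderOf_linear_dvd_index μ _ (Abelianization.commutator_subset_ker μ))) h4)
  have hl := isIrr_linear ν
  by_cases hc : (ti θ).Coprime (ti (lc ν))
  swap
  · have := not_coprime_of hc (h2.ti_dvd hθ) (h1.ti_dvd hl)
    exact ⟨a, h1.mem hl (lc_ne_one hν), fun e => this (by simp [(Nat.coprime_self _).1 e]), this⟩
  have hφ := irr_mul ν hθ
  obtain ⟨d, hd⟩ := exists_ov hφ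
  obtain ⟨h3, h4⟩ := h.step hθ h2 hν hc (hm hν hb)
  refine ⟨d, hd.mem hφ h3, not_coprime_of (fun e => h4 e.symm) (h1.ti_dvd hl) (hd.ti_dvd hφ), ?_⟩
  by_cases h5 : charDegree θ = 1
  swap
  · exact not_coprime h5 (h2.deg_dvd hθ) (deg_mul ν θ ▸ hd.deg_dvd hφ)
  obtain ⟨μ, rfl⟩ := exists_lc hθ h5
  have hμ : μ ≠ 1 := fun e => hθ1 (by rw [e]; rfl)
  exact not_coprime_of (fun e => (h.step hl h1 hμ hc.symm (hm hμ ha)).2 (mul_comm (lc ν) _ ▸ e.symm))
    (h2.ti_dvd hθ) (hd.ti_dvd hφ)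

theorem mem_comm {a : ℕ} {θ : N → ℂ} (hθ : IsIrrCharacter N θ) (h : Ov θ a)
    (h1 : charDegree θ ≠ 1) : a ∈ relCharDegrees ⁅N, N⁆ := by
  obtain ⟨χ, h2, rfl⟩ := h
  refine ⟨χ, by_contra fun hc => h1 (charDegree_of_eq (((isIrr_degree_one_iff hθ).2
    (le_trans (fun n hn => ?_) (charKer_le_of_constituent (isChar_res N (irr_isChar χ)) hθ h2))).trans
      Nat.cast_one.symm)), rfl⟩
  push Not at hc
  exact (mem_charKer_iff (isChar_res N (irr_isChar χ))).2 (hc n ((subgroupOf_comm N).ge hn))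

theorem exists_deep (h : ⁅⁅N, N⁆, ⁅N, N⁆⁆ < ⁅N, N⁆) :
    ∃ c ∈ relCharDegrees ⁅N, N⁆, ¬ c.Coprime (commutator N).index := by
  obtain ⟨z, h1, h2⟩ := SetLike.exists_of_lt h
  obtain ⟨χ, h3, h4, h5⟩ := exists_irr_of_not_mem _ h2
  rw [mem_charKer_iff (isIrr_isChar h3)] at h5
  refine ⟨_, ⟨⟨χ, h3⟩, ⟨z, h1, h5⟩, rfl⟩, fun hc => h5 ?_⟩
  obtain ⟨θ, hθ, h6⟩ := Clifford.exists_under (N := N) h3
  obtain ⟨e, -, h7, h8⟩ := res_eq hθ (χ := ⟨χ, h3⟩) h6
  have hk := charKer_le_of_constituent (isChar_res N (isIrr_isChar h3)) hθ h6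
  have h9 : θ 1 = 1 := (isIrr_degree_one_iff (Extend.isIrr_res_of_coprime (commutator N) hθ
    (charDegree_cast (isIrr_isChar hθ)).symm (hc.of_dvd_left
      (h8 ▸ (dvd_mul_left _ _).mul_left _)))).2 fun n hn =>
    (mem_charKer_iff (isChar_res _ (isIrr_isChar hθ))).2 (apply_eq_of_mem_charKer (hk
      ((mem_charKer_iff (isChar_res N (isIrr_isChar h3))).2 (apply_eq_of_mem_charKer (h4 (by
        rw [← map_subtype_commutator N, ← map_commutator, ← map_subtype_commutator]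
        exact ⟨n, ⟨n, hn, rfl⟩, rfl⟩))))))
  have hz : z ∈ N := commutator_le_left N N h1
  refine (congrFun h7 ⟨z, hz⟩).trans (Eq.trans ?_ (congrFun h7 1).symm)
  simp only [orb, Pi.smul_apply, Finset.sum_apply]
  refine congrArg _ (Finset.sum_congr rfl fun ψ hψ => apply_eq_of_mem_charKer
    (commutator_le_charKer (isIrr_isChar (isIrr_of_mem_orbitFn hθ hψ)) ?_
      ((subgroupOf_comm N).le h1)))
  obtain ⟨g, rfl⟩ := mem_orbitFn.1 hψ
  rwa [conjFn_apply_one]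

omit [Fintype G] in
theorem comm_lt [Group.IsSolvable N] (a : relCharDegrees N) : ⁅N, N⁆ < N := by
  obtain ⟨χ, ⟨x, hx, h⟩, -⟩ := a.2
  refine Core.commutator_lt_of_solvable inferInstance fun e => h ?_
  rw [show x = 1 from mem_bot.1 (e ▸ hx)]

theorem common (n : ℕ) : ∀ (N : Subgroup G) [N.Normal] [Group.IsSolvable N], Nat.card N = n →
    N ≤ commutator G → ∀ a b c : relCharDegrees N, ¬ (gr N).Reachable a c →
    ¬ (gr N).Reachable b c → ∃ d ∈ relCharDegrees N, ¬ a.1.Coprime d ∧ ¬ b.1.Coprime d := by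
  induction n using Nat.strong_induction_on with | _ n ih => ?_
  intro N _ _ hn hN a b c h1 h2
  have hlt := comm_lt a
  obtain ⟨p, hp, h3⟩ := exists_prime hlt
  by_cases hc : p ∣ c.1
  swap
  · have e1 := ((dich hN h1).resolve_left fun e => hc (e.2 p hp h3)).2 p hp h3
    exact ⟨a, a.2, not_coprime hp.one_lt.ne' e1 e1, not_coprime hp.one_lt.ne'
      (((dich hN h2).resolve_left fun e => hc (e.2 p hp h3)).2 p hp h3) e1⟩
  obtain ⟨ha, h4⟩ := (dich hN h1).resolve_right fun e => not_coprime hp.one_lt.ne' hc h3 e.1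
  have hb := ((dich hN h2).resolve_right fun e => not_coprime hp.one_lt.ne' hc h3 e.1).1
  have hi := ni_of_not_reach hN h1
  obtain ⟨θ, hθ, t1, t2⟩ := exists_ov_of_mem a.2
  obtain ⟨η, hη, s1, s2⟩ := exists_ov_of_mem b.2
  by_cases h5 : charDegree θ = 1
  · obtain ⟨ν, rfl⟩ := exists_lc hθ h5
    exact hi.lin (fun e => t1 (by rw [e]; rfl)) t2 hη s1 s2 ha hb
  by_cases h6 : charDegree η = 1
  · obtain ⟨ν, rfl⟩ := exists_lc hη h6
    obtain ⟨d, h7, h8⟩ := hi.lin (fun e => s1 (by rw [e]; rfl)) s2 hθ t1 t2 hb ha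
    exact ⟨d, h7, h8.symm⟩
  have : Group.IsSolvable (⁅N, N⁆ : Subgroup G) :=
    Group.isSolvable_of_isSolvable_injective (inclusion_injective hlt.le)
  have ha' := mem_comm hθ t2 h5
  obtain ⟨c', h7, h8⟩ := exists_deep (comm_lt ⟨_, ha'⟩)
  obtain ⟨r, hr, h9, h10⟩ := Nat.Prime.not_coprime_iff_dvd.1 h8
  have h11 : (gr N).Reachable ⟨c', mem_of_le hlt.le h7⟩ c :=
    reach (not_coprime hr.one_lt.ne' h9 (h4 r hr h10))
  obtain ⟨d, hd, h12⟩ := ih _ (hn ▸ Core.card_lt_of_lt hlt) ⁅N, N⁆ rfl (hlt.le.trans hN) ⟨_, ha'⟩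
    ⟨_, mem_comm hη s2 h6⟩ ⟨c', h7⟩ (fun e => h1 ((reach_of_le hlt.le e).trans h11))
    fun e => h2 ((reach_of_le hlt.le e).trans h11)
  exact ⟨d, mem_of_le hlt.le hd, h12⟩

end Cfsg.Agent.Block.RD
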