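import Mathlib

/-! Orbits of a permutation, removal of one cycle. -/

namespace Cfsg.Agent.Block.Sym

open Finset Equiv Equiv.Perm

variable {α : Type*} [Fintype α] [DecidableEq α]

/-- The cycle of `σ` through `x`. -/
def orb (σ : Perm α) (x : α) : Finset α := univ.filter (SameCycle σ x)

theorem mem_orb {σ : Perm α} {x y : α} : y ∈ orb σ x ↔ SameCycle σ x y := by simp [orb]

theorem self_mem_orb (σ : Perm α) (x : α) : x ∈ orb σ x := mem_orb.2 (SameCycle.refl _ _)

theorem apply_mem_orb {σ : Perm α} {x y : α} : σ y ∈ orb σ x ↔ y ∈ orb σ x := by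
  simp [mem_orb]

theorem orb_eq_of_mem {σ : Perm α} {x y : α} (h : y ∈ orb σ x) : orb σ y = orb σ x := by
  ext z
  rw [mem_orb] at h
  simp only [mem_orb]
  exact ⟨fun h' => h.trans h', fun h' => h.symm.trans h'⟩

theorem isCycleOn_orb (σ : Perm α) (x : α) : σ.IsCycleOn (orb σ x : Set α) := by
  refine ⟨⟨fun y hy => ?_, σ.injective.injOn, fun y hy => ⟨σ⁻¹ y, ?_, by simp⟩⟩, fun y hy z hz => ?_⟩
  · exact Finset.mem_coe.2 (apply_mem_orb.2 (Finset.mem_coe.1 hy))
  · refine Finset.mem_coe.2 (apply_mem_orb.1 ?_)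
    simpa using hy
  · exact (mem_orb.1 (Finset.mem_coe.1 hy)).symm.trans (mem_orb.1 (Finset.mem_coe.1 hz))

theorem pow_apply_eq_iff {σ : Perm α} {x : α} {n : ℕ} : (σ ^ n) x = x ↔ #(orb σ x) ∣ n :=
  (isCycleOn_orb σ x).pow_apply_eq (self_mem_orb σ x)

theorem card_orb_dvd (σ : Perm α) (x : α) : #(orb σ x) ∣ orderOf σ := by
  rw [← pow_apply_eq_iff, pow_orderOf_eq_one]; rfl

theorem card_orb_pos (σ : Perm α) (x : α) : 0 < #(orb σ x) := card_pos.2 ⟨x, self_mem_orb σ x⟩

theorem card_orb_le (σ : Perm α) (x : α) : #(orb σ x) ≤ Fintype.card α := card_le_univ _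

theorem card_orb_eq_one {σ : Perm α} {x : α} : #(orb σ x) = 1 ↔ σ x = x := by
  rw [← Nat.dvd_one, ← pow_apply_eq_iff, pow_one]

theorem exists_dvd_orb {p : ℕ} (hp : p.Prime) {σ : Perm α} (h : p ∣ orderOf σ) :
    ∃ x, p ∣ #(orb σ x) := by
  have : orderOf σ ∣ ∏ x, #(orb σ x) := by
    apply orderOf_dvd_of_pow_eq_one
    ext x
    exact pow_apply_eq_iff.2 (dvd_prod_of_mem _ (mem_univ x))
  obtain ⟨x, -, hx⟩ := (Prime.dvd_finsetProd_iff hp.prime _).1 (h.trans this)
  exact ⟨x, hx⟩

theorem card_orb_conj (σ g : Perm α) (x : α) : #(orb (g * σ * g⁻¹) (g x)) = #(orb σ x) := by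
  apply Nat.dvd_antisymm
  · rw [← pow_apply_eq_iff, conj_pow]
    simp [pow_apply_eq_iff.2 (dvd_refl #(orb σ x))]
  · have := pow_apply_eq_iff.2 (dvd_refl #(orb (g * σ * g⁻¹) (g x)))
    rw [conj_pow] at this
    rw [← pow_apply_eq_iff]
    simpa using this

/-- The permutation induced on the complement of `O` (junk if `O` is not invariant). -/
def res (O : Finset α) (σ : Perm α) : Perm {y // y ∉ O} :=
  if h : ∀ y, σ y ∉ O ↔ y ∉ O then σ.subtypePerm h else 1

theorem res_apply {O : Finset α} {σ : Perm α} (h : ∀ y, σ y ∈ O ↔ y ∈ O) (y : {y // y ∉ O}) :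
    (res O σ y : α) = σ y := by
  rw [res, dif_pos fun y => (h y).not]; rfl

theorem res_orb_apply (σ : Perm α) (x : α) (y : {y // y ∉ orb σ x}) :
    (res (orb σ x) σ y : α) = σ y := res_apply (fun _ => apply_mem_orb) y

theorem res_pow_apply {O : Finset α} {σ : Perm α} (h : ∀ y, σ y ∈ O ↔ y ∈ O) (n : ℕ)
    (y : {y // y ∉ O}) : ((res O σ ^ n) y : α) = (σ ^ n) y := by
  induction n with
  | zero => rfl
  | succ n ih => rw [pow_succ', pow_succ', Perm.mul_apply, Perm.mul_apply, res_apply h, ih]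

theorem card_orb_res {O : Finset α} {σ : Perm α} (h : ∀ y, σ y ∈ O ↔ y ∈ O) (y : {y // y ∉ O}) :
    #(orb (res O σ) y) = #(orb σ y) := by
  apply Nat.dvd_antisymm
  · rw [← pow_apply_eq_iff, Subtype.ext_iff, res_pow_apply h, pow_apply_eq_iff]
  · rw [← pow_apply_eq_iff, ← res_pow_apply h, ← Subtype.ext_iff, pow_apply_eq_iff]

theorem card_compl_subtype (O : Finset α) :
    Fintype.card {y // y ∉ O} + #O = Fintype.card α := by
  rw [Fintype.card_subtype_compl, Fintype.card_coe, Nat.sub_add_cancel (card_le_univ _)]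

/-- Counting over `α` as counting over `O` and its complement. -/
theorem card_filter_split (O : Finset α) (P : α → Prop) [DecidablePred P] :
    #{y | P y} = #{y ∈ O | P y} + #{y : {y // y ∉ O} | P y} := by
  rw [← card_filter_add_card_filter_not (s := univ.filter P) (· ∈ O)]
  congr 1
  · congr 1; ext y; simp [and_comm]
  · symm
    refine card_bij (fun y _ => (y : α)) (fun y hy => ?_) (fun _ _ _ _ h => Subtype.ext h)
      fun y hy => ?_
    · simpa using ⟨by simpa using hy, y.2⟩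
    · simp only [mem_filter, mem_univ, true_and] at hy
      exact ⟨⟨y, hy.2⟩, by simpa using hy.1, rfl⟩

/-- A permutation with a single orbit. -/
def Tr (ρ : Perm α) : Prop := ∀ y z, SameCycle ρ y z

instance : DecidablePred (Tr (α := α)) := fun _ => by unfold Tr; infer_instance

theorem card_tr [Nonempty α] : #{ρ : Perm α | Tr ρ} = (Fintype.card α - 1).factorial := by
  rcases subsingleton_or_nontrivial α with hs | hn
  · have h1 : Fintype.card α = 1 :=
      le_antisymm (Fintype.card_le_one_iff_subsingleton.2 hs) Fintype.card_pos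
    rw [filter_true_of_mem, card_univ, Fintype.card_perm, h1]
    · rfl
    · intro ρ _ y z
      rw [Subsingleton.elim y z]
  · have h2 : 2 ≤ Fintype.card α := Fintype.one_lt_card
    have := card_of_cycleType_singleton (α := α) h2 le_rfl
    rw [Nat.choose_self, mul_one] at this
    rw [← this]
    congr 1
    ext ρ
    simp only [mem_filter, mem_univ, true_and]
    constructor
    · intro h
      have hm : ∀ y, ρ y ≠ y := fun y hy => by
        obtain ⟨z, hz⟩ := exists_ne y
        exact hz ((h y z).eq_of_left hy).symm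
      have hc : ρ.IsCycle := ⟨Classical.arbitrary α, hm _, fun y _ => h _ y⟩
      rw [hc.cycleType, eq_univ_of_forall fun y => mem_support.2 (hm y), card_univ]
    · intro h
      have hc : ρ.IsCycle := card_cycleType_eq_one.1 (by rw [h]; rfl)
      have hs : ρ.support = univ := by
        rw [← card_eq_iff_eq_univ, ← sum_cycleType, h, Multiset.sum_singleton]
      intro y z
      exact hc.sameCycle (mem_support.1 (hs ▸ mem_univ y)) (mem_support.1 (hs ▸ mem_univ z))

/-- Gluing a permutation of `O` and one of the complement. -/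
def glue (O : Finset α) (ρ : Perm {y // y ∈ O}) (τ : Perm {y // y ∉ O}) : Perm α :=
  Perm.subtypeCongr ρ τ

theorem glue_mem {O : Finset α} (ρ : Perm {y // y ∈ O}) (τ : Perm {y // y ∉ O}) (y : α) :
    glue O ρ τ y ∈ O ↔ y ∈ O := by
  by_cases h : y ∈ O
  · simp [glue, h]
  · simpa [glue, h] using (τ ⟨y, h⟩).2

theorem res_glue {O : Finset α} (ρ : Perm {y // y ∈ O}) (τ : Perm {y // y ∉ O}) :
    res O (glue O ρ τ) = τ := by
  ext y
  rw [res_apply (glue_mem ρ τ)]
  simp [glue, y.2]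

theorem subtypePerm_glue {O : Finset α} (ρ : Perm {y // y ∈ O}) (τ : Perm {y // y ∉ O}) :
    (glue O ρ τ).subtypePerm (glue_mem ρ τ) = ρ := by
  ext y
  simp [glue]

theorem orb_eq_iff {O : Finset α} {σ : Perm α} (h : ∀ y, σ y ∈ O ↔ y ∈ O) {x : α} (hx : x ∈ O) :
    orb σ x = O ↔ Tr (σ.subtypePerm h) := by
  constructor
  · rintro rfl y z
    exact sameCycle_subtypePerm.2 ((mem_orb.1 y.2).symm.trans (mem_orb.1 z.2))
  · intro ht
    ext y
    rw [mem_orb]
    refine ⟨fun hy => ?_, fun hy => sameCycle_subtypePerm.1 (ht ⟨x, hx⟩ ⟨y, hy⟩)⟩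
    obtain ⟨n, rfl⟩ := hy.exists_nat_pow_eq
    induction n with
    | zero => exact hx
    | succ n ih =>
      rw [pow_succ', Perm.mul_apply, h]
      exact ih (sameCycle_pow_right.2 (SameCycle.refl _ _))

theorem orb_glue {O : Finset α} {ρ : Perm {y // y ∈ O}} (hρ : Tr ρ) (τ : Perm {y // y ∉ O}) {x : α}
    (hx : x ∈ O) : orb (glue O ρ τ) x = O :=
  (orb_eq_iff (glue_mem ρ τ) hx).2 (by rwa [subtypePerm_glue])

theorem exists_tr [Nonempty α] : ∃ ρ : Perm α, Tr ρ := by
  obtain ⟨ρ, h⟩ := card_pos.1 (card_tr (α := α) ▸ Nat.factorial_pos _)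
  exact ⟨ρ, (mem_filter.1 h).2⟩

/-- Summation by removal of the cycle through `x`. -/
theorem sum_orb (x : α) (H : (O : Finset α) → Perm {y // y ∉ O} → ℂ) :
    ∑ σ : Perm α, H (orb σ x) (res (orb σ x) σ) =
      ∑ O : Finset α with x ∈ O, ((#O - 1).factorial : ℂ) * ∑ τ, H O τ := by
  rw [← sum_fiberwise_of_maps_to (s := univ) (t := univ.filter (x ∈ ·)) (g := fun σ => orb σ x)
    fun σ _ => by simpa using self_mem_orb σ x]
  refine sum_congr rfl fun O hO => ?_
  have hx : x ∈ O := (mem_filter.1 hO).2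
  haveI : Nonempty {y // y ∈ O} := ⟨⟨x, hx⟩⟩
  have hc := card_tr (α := {y // y ∈ O})
  rw [Fintype.card_coe] at hc
  rw [← hc, ← nsmul_eq_mul, ← sum_const, ← sum_product']
  symm
  refine sum_bij (fun a _ => glue O a.1 a.2) (fun a ha => ?_) (fun a _ b _ h => ?_)
    (fun σ hσ => ?_) fun a ha => ?_
  · simpa using orb_glue (mem_filter.1 (mem_product.1 ha).1).2 _ hx
  · exact subtypeCongrHom_injective (· ∈ O) h
  · have h1 : orb σ x = O := (mem_filter.1 hσ).2
    have h : ∀ y, σ y ∈ O ↔ y ∈ O := fun y => h1 ▸ apply_mem_orb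
    refine ⟨(σ.subtypePerm h, res O σ), by simpa using (orb_eq_iff h hx).1 h1, ?_⟩
    ext y
    by_cases hy : y ∈ O
    · simp [glue, hy]
    · simp [glue, hy, res_apply h]
  · have := orb_glue (mem_filter.1 (mem_product.1 ha).1).2 a.2 hx
    rw [this, res_glue]

end Cfsg.Agent.Block.Sym
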