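import Mathlib
import Cfsg.Agent.Char.Virtual
import Cfsg.Agent.Block.Sym1

/-! Characters of symmetric groups indexed by beta-numbers; the Murnaghan–Nakayama rule. -/

namespace Cfsg.Agent.Block.Sym

open Finset Equiv Equiv.Perm Cfsg Cfsg.Agent.Char
open scoped ComplexConjugate

variable {α : Type*} [Fintype α] [DecidableEq α] {m : ℕ}

/-- Colourings invariant under `σ` with prescribed class sizes. -/
def cols (a : Fin m → ℤ) (σ : Perm α) : Finset (α → Fin m) :=
  {f | (∀ x, f (σ x) = f x) ∧ ∀ i, (#{x | f x = i} : ℤ) = a i}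

theorem mem_cols {a : Fin m → ℤ} {σ : Perm α} {f : α → Fin m} :
    f ∈ cols a σ ↔ (∀ x, f (σ x) = f x) ∧ ∀ i, (#{x | f x = i} : ℤ) = a i := by simp [cols]

/-- Young permutation character. -/
def phi (a : Fin m → ℤ) (σ : Perm α) : ℂ := #(cols a σ)

theorem phi_of_neg {a : Fin m → ℤ} {i : Fin m} (h : a i < 0) (σ : Perm α) : phi a σ = 0 := by
  rw [phi, Nat.cast_eq_zero, card_eq_zero, eq_empty_iff_forall_notMem]
  intro f hf
  have := (mem_cols.1 hf).2 i
  omega

theorem phi_of_sum {a : Fin m → ℤ} (h : ∑ i, a i ≠ Fintype.card α) (σ : Perm α) :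
    phi a σ = 0 := by
  rw [phi, Nat.cast_eq_zero, card_eq_zero, eq_empty_iff_forall_notMem]
  intro f hf
  apply h
  rw [← card_univ, card_eq_sum_card_fiberwise (f := f) (t := univ) fun _ _ => by simp]
  push_cast
  exact sum_congr rfl fun i _ => ((mem_cols.1 hf).2 i).symm

theorem phi_comp (a : Fin m → ℤ) (v : Perm (Fin m)) (σ : Perm α) : phi (a ∘ v) σ = phi a σ := by
  unfold phi
  congr 1
  refine card_bij' (fun f _ => v ∘ f) (fun f _ => v.symm ∘ f) (fun f hf => ?_) (fun f hf => ?_)
    (fun f _ => by ext; simp) fun f _ => by ext; simp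
  · obtain ⟨h1, h2⟩ := mem_cols.1 hf
    refine mem_cols.2 ⟨fun x => by simp [h1], fun i => ?_⟩
    have := h2 (v.symm i)
    simp only [Function.comp, apply_symm_apply] at this ⊢
    rw [← this]
    simp only [Equiv.eq_symm_apply]
  · obtain ⟨h1, h2⟩ := mem_cols.1 hf
    refine mem_cols.2 ⟨fun x => by simp [h1], fun i => ?_⟩
    simp only [Function.comp, Equiv.symm_apply_eq]
    exact h2 _

theorem phi_congr {β : Type*} [Fintype β] [DecidableEq β] (e : α ≃ β) (a : Fin m → ℤ)
    (σ : Perm α) : phi a (e.permCongr σ) = phi a σ := by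
  unfold phi
  congr 1
  have key : ∀ (f : β → Fin m) i, #{x : α | f (e x) = i} = #{x | f x = i} := fun f i =>
    card_bij' (fun x _ => e x) (fun y _ => e.symm y) (by simp) (by simp) (by simp) (by simp)
  refine card_bij' (fun f _ => f ∘ e) (fun f _ => f ∘ e.symm) (fun f hf => ?_) (fun f hf => ?_)
    (fun f _ => by ext; simp) fun f _ => by ext; simp
  · obtain ⟨h1, h2⟩ := mem_cols.1 hf
    refine mem_cols.2 ⟨fun x => ?_, fun i => ?_⟩
    · simpa using h1 (e x)
    · rw [← h2, ← key]; rfl
  · obtain ⟨h1, h2⟩ := mem_cols.1 hf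
    refine mem_cols.2 ⟨fun x => by simp [h1], fun i => ?_⟩
    rw [← h2, ← key]; simp

theorem cols_const {a : Fin m → ℤ} {σ : Perm α} {f : α → Fin m} (hf : f ∈ cols a σ) {x y : α}
    (h : y ∈ orb σ x) : f y = f x := by
  obtain ⟨n, rfl⟩ := (mem_orb.1 h).exists_nat_pow_eq
  induction n with
  | zero => rfl
  | succ n ih =>
    rw [pow_succ', Perm.mul_apply, (mem_cols.1 hf).1]
    exact ih (mem_orb.2 (sameCycle_pow_right.2 (SameCycle.refl _ _)))

theorem card_fiber_split (O : Finset α) {f : α → Fin m} {i : Fin m} (h : ∀ y ∈ O, f y = i)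
    (j : Fin m) : (#{y | f y = j} : ℤ) =
      (Pi.single i (#O : ℤ) : Fin m → ℤ) j + #{y : {y // y ∉ O} | f y = j} := by
  rw [card_filter_split O]
  push_cast
  congr 1
  by_cases hij : j = i
  · subst hij
    rw [filter_true_of_mem h, Pi.single_eq_same]
  · rw [filter_false_of_mem fun y hy => by rw [h y hy]; exact Ne.symm hij, Pi.single_eq_of_ne hij]
    rfl

theorem phi_mn (a : Fin m → ℤ) (σ : Perm α) (x : α) :
    phi a σ = ∑ i, phi (a - Pi.single i (#(orb σ x) : ℤ)) (res (orb σ x) σ) := by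
  unfold phi
  rw [card_eq_sum_card_fiberwise (f := fun f => f x) (t := univ) fun _ _ => by simp]
  push_cast
  refine sum_congr rfl fun i _ => ?_
  congr 1
  refine card_bij' (fun f _ y => f y) (fun f _ y => if h : y ∈ orb σ x then i else f ⟨y, h⟩)
    (fun f hf => ?_) (fun f hf => ?_) (fun f hf => ?_) fun f _ => ?_
  · obtain ⟨hf, hi⟩ := mem_filter.1 hf
    refine mem_cols.2 ⟨fun y => ?_, fun j => ?_⟩
    · rw [res_orb_apply, (mem_cols.1 hf).1]
    · have := card_fiber_split (orb σ x) (fun y hy => (cols_const hf hy).trans hi) j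
      rw [(mem_cols.1 hf).2] at this
      rw [Pi.sub_apply, this, add_sub_cancel_left]
  · obtain ⟨h1, h2⟩ := mem_cols.1 hf
    refine mem_filter.2 ⟨mem_cols.2 ⟨fun y => ?_, fun j => ?_⟩, by simp [self_mem_orb]⟩
    · by_cases hy : y ∈ orb σ x
      · rw [dif_pos hy, dif_pos (apply_mem_orb.2 hy)]
      · rw [dif_neg hy, dif_neg (mt apply_mem_orb.1 hy), ← h1 ⟨y, hy⟩]
        congr 1
        exact Subtype.ext (res_orb_apply σ x ⟨y, hy⟩).symm
    · rw [card_fiber_split (orb σ x) (i := i) (fun y hy => dif_pos hy) j]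
      have := h2 j
      rw [Pi.sub_apply, eq_sub_iff_add_eq'] at this
      rw [← this]
      simp only [fun y : {y // y ∉ orb σ x} => dif_neg (t := fun _ => i)
        (e := fun h => f ⟨y, h⟩) y.2]
  · obtain ⟨hf, hi⟩ := mem_filter.1 hf
    funext y
    by_cases hy : y ∈ orb σ x
    · rw [dif_pos hy, (cols_const hf hy).trans hi]
    · rw [dif_neg hy]
  · funext y
    exact dif_neg y.2

/-- Colourings with prescribed class sizes. -/
def Col (α : Type*) [Fintype α] (a : Fin m → ℤ) : Type _ :=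
  {f : α → Fin m // ∀ i, (#{x | f x = i} : ℤ) = a i}

instance (a : Fin m → ℤ) : Finite (Col α a) := by unfold Col; infer_instance

instance (a : Fin m → ℤ) : MulAction (Perm α) (Col α a) where
  smul g f := ⟨f.1 ∘ g.symm, fun i => by
    rw [← f.2 i]
    congr 1
    exact card_bij' (fun x _ => g.symm x) (fun y _ => g y) (by simp) (by simp) (by simp) (by simp)⟩
  one_smul _ := rfl
  mul_smul _ _ _ := rfl

theorem isChar_phi (a : Fin m → ℤ) : IsCharacter (Perm α) (phi a) := by
  have := isChar_perm (G := Perm α) (Col α a)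
  convert this using 2 with σ
  rw [phi, ← Nat.card_eq_finsetCard]
  congr 1
  refine Nat.card_congr ⟨fun f => ⟨⟨f.1, (mem_cols.1 f.2).2⟩, ?_⟩, fun f => ⟨f.1.1, ?_⟩,
    fun _ => rfl, fun _ => rfl⟩
  · refine Subtype.ext (funext fun x => ?_)
    change f.1 (σ.symm x) = f.1 x
    rw [← (mem_cols.1 f.2).1, apply_symm_apply]
  · refine mem_cols.2 ⟨fun x => ?_, f.1.2⟩
    have := congrFun (congrArg Subtype.val f.2) (σ x)
    change f.1.1 (σ.symm (σ x)) = _ at this
    rw [← this, symm_apply_apply]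

/-- The staircase. -/
def del (m : ℕ) : Fin m → ℤ := fun i => (i : ℕ)

theorem del_inj : Function.Injective (del m) := fun i j h => by
  simp only [del, Nat.cast_inj] at h
  exact Fin.ext h

/-- The sign as a complex number. -/
def sg (w : Perm (Fin m)) : ℂ := ((sign w : ℤ) : ℂ)

theorem sg_mul (v w : Perm (Fin m)) : sg (v * w) = sg v * sg w := by simp [sg]

theorem sg_inv (v : Perm (Fin m)) : sg v⁻¹ = sg v := by simp [sg]

theorem sg_one : sg (1 : Perm (Fin m)) = 1 := by simp [sg]

theorem sg_swap {i j : Fin m} (h : i ≠ j) : sg (swap i j) = -1 := by simp [sg, sign_swap h]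

theorem sg_eq (v : Perm (Fin m)) : sg v = 1 ∨ sg v = -1 := by
  rcases Int.units_eq_one_or (sign v) with h | h <;> simp [sg, h]

theorem sg_mul_self (v : Perm (Fin m)) : sg v * sg v = 1 := by
  rcases sg_eq v with h | h <;> simp [h]

theorem sg_ne_zero (v : Perm (Fin m)) : sg v ≠ 0 := by
  rcases sg_eq v with h | h <;> simp [h]

/-- The virtual character with beta-numbers `β`. -/
def chi (β : Fin m → ℤ) (σ : Perm α) : ℂ := ∑ w : Perm (Fin m), sg w * phi (β - del m ∘ w) σ

theorem chi_comp (β : Fin m → ℤ) (v : Perm (Fin m)) (σ : Perm α) :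
    chi (β ∘ v) σ = sg v * chi β σ := by
  unfold chi
  rw [mul_sum, ← Equiv.sum_comp (Equiv.mulRight v)]
  refine sum_congr rfl fun w _ => ?_
  rw [← phi_comp (β - del m ∘ w) v, coe_mulRight, sg_mul, ← mul_assoc, mul_comm (sg v)]
  rfl

theorem chi_swap (β : Fin m → ℤ) {i j : Fin m} (h : i ≠ j) (σ : Perm α) :
    chi (β ∘ swap i j) σ = -chi β σ := by rw [chi_comp, sg_swap h, neg_one_mul]

theorem chi_congr {γ : Type*} [Fintype γ] [DecidableEq γ] (e : α ≃ γ) (β : Fin m → ℤ)
    (σ : Perm α) : chi β (e.permCongr σ) = chi β σ := by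
  simp only [chi, phi_congr]

theorem chi_mn (β : Fin m → ℤ) (σ : Perm α) (x : α) :
    chi β σ = ∑ i, chi (β - Pi.single i (#(orb σ x) : ℤ)) (res (orb σ x) σ) := by
  unfold chi
  rw [sum_comm]
  refine sum_congr rfl fun w _ => ?_
  rw [phi_mn _ σ x, mul_sum]
  refine sum_congr rfl fun i _ => ?_
  rw [sub_right_comm]

theorem isGen_chi (β : Fin m → ℤ) : IsGeneralizedCharacter (Perm α) (chi β) := by
  have : (chi β : Perm α → ℂ) = ∑ w : Perm (Fin m), sg w • phi (β - del m ∘ w) := by
    funext σ; simp [chi]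
  rw [this]
  exact isGenChar_sum _ fun w _ => isGenChar_sign_smul (sg_eq w) (isChar_isGenChar (isChar_phi _))

theorem conj_chi (β : Fin m → ℤ) (σ : Perm α) : conj (chi β σ) = chi β σ := by
  simp [chi, phi, sg]

theorem exists_int_chi (β : Fin m → ℤ) (σ : Perm α) : ∃ z : ℤ, chi β σ = z :=
  ⟨∑ w : Perm (Fin m), sign w * #(cols (β - del m ∘ w) σ), by simp [chi, phi, sg]⟩

/-- Genuine beta-numbers. -/
structure Good (β : Fin m → ℤ) : Prop where
  inj : Function.Injective β
  nn : ∀ i, 0 ≤ β i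

theorem comp_swap_of_eq {β : Fin m → ℤ} {i j : Fin m} (h : β i = β j) : β ∘ swap i j = β := by
  funext k
  simp only [Function.comp, swap_apply_def]
  split_ifs with h1 h2
  · rw [h1, h]
  · rw [h2, h]
  · rfl

theorem chi_of_neg {β : Fin m → ℤ} {i : Fin m} (h : β i < 0) (σ : Perm α) : chi β σ = 0 :=
  sum_eq_zero fun w _ => by
    rw [phi_of_neg (i := i), mul_zero]
    simp only [Pi.sub_apply, Function.comp, del]
    omega

theorem chi_of_not_good {β : Fin m → ℤ} (h : ¬ Good β) (σ : Perm α) : chi β σ = 0 := by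
  by_cases h1 : ∀ i, 0 ≤ β i
  · have : ¬ Function.Injective β := fun h2 => h ⟨h2, h1⟩
    obtain ⟨i, j, hij, hne⟩ := Function.not_injective_iff.1 this
    have := chi_swap β hne σ
    rw [comp_swap_of_eq hij] at this
    linear_combination this / 2
  · push Not at h1
    obtain ⟨i, hi⟩ := h1
    exact chi_of_neg hi σ

theorem chi_of_sum {β : Fin m → ℤ} (h : ∑ i, β i ≠ Fintype.card α + ∑ i, del m i) (σ : Perm α) :
    chi β σ = 0 :=
  sum_eq_zero fun w _ => by
    rw [phi_of_sum, mul_zero]
    simp only [Pi.sub_apply, Function.comp, sum_sub_distrib, Equiv.sum_comp w (del m)]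
    omega

theorem Good.comp {β : Fin m → ℤ} (h : Good β) (v : Perm (Fin m)) : Good (β ∘ v) :=
  ⟨h.inj.comp v.injective, fun _ => h.nn _⟩

theorem good_del : Good (del m) := ⟨del_inj, fun _ => Int.natCast_nonneg _⟩

theorem two_sum_del : 2 * ∑ i, del m i = m * (m - 1) := by
  induction m with
  | zero => simp
  | succ m ih =>
    rw [Fin.sum_univ_castSucc]
    simp only [del, Fin.val_castSucc, Fin.val_last] at ih ⊢
    push_cast
    linear_combination ih

theorem Good.exists_le {β : Fin m → ℤ} (h : Good β) : ∃ v : Perm (Fin m), ∀ i, del m i ≤ β (v i) := by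
  have hm : StrictMono (β ∘ Tuple.sort β) :=
    (Tuple.monotone_sort β).strictMono_of_injective (h.comp _).inj
  refine ⟨Tuple.sort β, fun ⟨i, hi⟩ => ?_⟩
  induction i with
  | zero => exact h.nn _
  | succ i ih =>
    have h1 := ih (by omega)
    have h2 := hm (show (⟨i, by omega⟩ : Fin m) < ⟨i + 1, hi⟩ from Nat.lt_succ_self i)
    simp only [del, Function.comp] at h1 h2 ⊢
    push_cast
    omega

theorem Good.sum_le {β : Fin m → ℤ} (h : Good β) : ∑ i, del m i ≤ ∑ i, β i := by
  obtain ⟨v, hv⟩ := h.exists_le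
  rw [← Equiv.sum_comp v β]
  exact sum_le_sum fun i _ => hv i

theorem Good.exists_eq {β : Fin m → ℤ} (h : Good β) (hs : ∑ i, β i = ∑ i, del m i) :
    ∃ v : Perm (Fin m), β = del m ∘ v := by
  obtain ⟨v, hv⟩ := h.exists_le
  rw [← Equiv.sum_comp v β, eq_comm, sum_eq_sum_iff_of_le fun i _ => hv i] at hs
  refine ⟨v⁻¹, funext fun i => ?_⟩
  simp [hs _ (mem_univ (v.symm i))]

/-- A function orthogonal to all `chi β` vanishes at the identity. -/
theorem complete (hm : Fintype.card α ≤ m) {ψ : Perm α → ℂ}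
    (h : ∀ β : Fin m → ℤ, ∑ σ, chi β σ * ψ σ = 0) : ψ 1 = 0 := by
  classical
  have key : ∀ (N : ℕ) (a : Fin m → ℤ), m * Fintype.card α - ∑ i, del m i * a i < N →
      ∑ σ, phi a σ * ψ σ = 0 := by
    intro N
    induction N with
    | zero =>
      intro a ha
      refine sum_eq_zero fun σ _ => ?_
      by_cases h1 : ∀ i, 0 ≤ a i
      · rw [phi_of_sum, zero_mul]
        intro h2
        have : ∑ i, del m i * a i ≤ ∑ i, m * a i := sum_le_sum fun i _ =>
          mul_le_mul_of_nonneg_right (by simp [del]) (h1 i)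
        rw [← mul_sum, h2] at this
        omega
      · push Not at h1
        obtain ⟨i, hi⟩ := h1
        rw [phi_of_neg hi, zero_mul]
    | succ N ih =>
      intro a ha
      have h1 := h (a + del m)
      simp only [chi, sum_mul] at h1
      rw [sum_comm, sum_eq_single 1] at h1
      · simpa [sg_one] using h1
      · intro w _ hw
        simp only [mul_assoc, ← mul_sum]
        rw [ih, mul_zero]
        obtain ⟨i, hi⟩ : ∃ i, w i ≠ i := by
          by_contra hc
          push Not at hc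
          exact hw (Equiv.ext hc)
        have h2 : 0 < ∑ j, (del m j - del m (w j)) ^ 2 :=
          sum_pos' (fun _ _ => sq_nonneg _) ⟨i, mem_univ _,
            sq_pos_of_ne_zero (sub_ne_zero.2 fun e => hi (del_inj e).symm)⟩
        have h3 : ∑ j, (del m j - del m (w j)) ^ 2 =
            ∑ j, del m j ^ 2 + ∑ j, del m (w j) ^ 2 - 2 * ∑ j, del m j * del m (w j) := by
          rw [mul_sum, ← sum_add_distrib, ← sum_sub_distrib]
          exact sum_congr rfl fun _ _ => by ring
        have h4 : ∑ j, del m j * (a + del m - del m ∘ w) j =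
            ∑ j, del m j * a j + ∑ j, del m j ^ 2 - ∑ j, del m j * del m (w j) := by
          rw [← sum_add_distrib, ← sum_sub_distrib]
          exact sum_congr rfl fun _ _ => by simp only [Pi.sub_apply, Pi.add_apply, Function.comp]; ring
        rw [Equiv.sum_comp w fun j => del m j ^ 2] at h3
        rw [h4]
        push_cast at ha
        omega
      · simp
  obtain ⟨e⟩ : Nonempty (α ↪ Fin m) := Function.Embedding.nonempty_of_card_le (by simpa using hm)
  set a : Fin m → ℤ := fun i => #{x | e x = i}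
  have h1 := key _ a (Int.lt_toNat.1 (Nat.lt_succ_self _) |>.trans_le' (Int.self_le_toNat _))
  rw [sum_eq_single 1] at h1
  · refine (mul_eq_zero.1 h1).resolve_left ?_
    rw [phi, Nat.cast_eq_zero, ← ne_eq, card_ne_zero]
    exact ⟨e, mem_cols.2 ⟨fun _ => rfl, fun _ => rfl⟩⟩
  · intro σ _ hσ
    rw [phi, card_eq_zero.2, Nat.cast_zero, zero_mul]
    refine eq_empty_iff_forall_notMem.2 fun f hf => hσ (Equiv.ext fun x => ?_)
    obtain ⟨h2, h3⟩ := mem_cols.1 hf
    have h4 : #{y | e y = f x} ≤ 1 := card_le_one.2 fun y hy z hz =>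
      e.injective ((mem_filter.1 hy).2.trans (mem_filter.1 hz).2.symm)
    have h5 := h3 (f x)
    simp only [a, Nat.cast_inj] at h5
    exact card_le_one.1 (h5.trans_le h4) _ (by simp [h2]) _ (by simp)
  · simp

end Cfsg.Agent.Block.Sym
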