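import Mathlib
import Cfsg.Agent.Block.Sym2

/-! Orthonormality and completeness of the characters `chi β`. -/

namespace Cfsg.Agent.Block.Sym

open Finset Equiv Equiv.Perm Cfsg Cfsg.Agent.Char
open scoped ComplexConjugate

theorem sum_pair (g : ℤ → ℂ) (a b : ℕ) (h : ∀ t, g (a - b - t) = -g t) :
    ∑ k ∈ range a, g (k + 1) + ∑ k ∈ range b, g (-(k + 1)) = -g 0 := by
  have h1 : ∑ s ∈ range (b + 1 + a), g (s - b) = -∑ s ∈ range (b + 1 + a), g (s - b) := by
    conv_lhs => rw [← sum_range_reflect]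
    rw [← sum_neg_distrib]
    refine sum_congr rfl fun s hs => ?_
    rw [← h]
    congr 1
    have := mem_range.1 hs
    omega
  have h2 : ∑ s ∈ range (b + 1 + a), g (s - b) = 0 := by linear_combination h1 / 2
  rw [sum_range_add, ← sum_range_reflect, sum_range_succ'] at h2
  have h3 : ∑ k ∈ range b, g (((b + 1 - 1 - (k + 1) : ℕ) : ℤ) - b) = ∑ k ∈ range b, g (-(k + 1)) :=
    sum_congr rfl fun k hk => by
      congr 1
      have := mem_range.1 hk
      omega
  have h4 : ∑ k ∈ range a, g (((b + 1 + k : ℕ) : ℤ) - b) = ∑ k ∈ range a, g (k + 1) :=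
    sum_congr rfl fun k _ => by congr 1; omega
  rw [h3, h4, show ((b + 1 - 1 - 0 : ℕ) : ℤ) - b = 0 by omega] at h2
  linear_combination h2

theorem L0 {ι : Type*} [DecidableEq ι] (I : Finset ι) (G : (ι → ℤ) → ℂ)
    (hG : ∀ i ∈ I, ∀ j ∈ I, i ≠ j → ∀ β, G (β ∘ swap i j) = -G β) (β : ι → ℤ)
    (hβ : ∀ i ∈ I, 0 ≤ β i) :
    2 * ∑ i ∈ I, ∑ k ∈ range (β i).toNat, ∑ j ∈ I,
      G (β - Pi.single i ((k : ℤ) + 1) + Pi.single j ((k : ℤ) + 1)) =
      ((2 * ∑ i ∈ I, β i - #I * (#I - 1) : ℤ) : ℂ) * G β := by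
  set T : ι → ι → ℂ := fun i j => ∑ k ∈ range (β i).toNat,
    G (β - Pi.single i ((k : ℤ) + 1) + Pi.single j ((k : ℤ) + 1)) with hT
  have h1 : ∑ i ∈ I, ∑ k ∈ range (β i).toNat, ∑ j ∈ I,
      G (β - Pi.single i ((k : ℤ) + 1) + Pi.single j ((k : ℤ) + 1)) = ∑ i ∈ I, ∑ j ∈ I, T i j :=
    sum_congr rfl fun i _ => sum_comm
  have h2 : ∀ i ∈ I, ∀ j ∈ I, T i j + T j i =
      (if j = i then (2 * (β i : ℂ) + 1) * G β else 0) - G β := by
    intro i hi j hj
    split_ifs with hij
    · subst hij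
      simp only [hT, sub_add_cancel, sum_const, card_range, nsmul_eq_mul]
      have : ((β j).toNat : ℂ) = β j := by exact_mod_cast Int.toNat_of_nonneg (hβ j hj)
      rw [this]; ring
    · have := sum_pair (fun t => G (β - Pi.single i t + Pi.single j t)) (β i).toNat (β j).toNat ?_
      · simp only [Pi.single_zero, sub_zero, add_zero] at this
        rw [zero_sub, ← this]
        congr 1
        refine sum_congr rfl fun k _ => ?_
        congr 1
        simp only [Pi.single_neg]
        abel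
      · intro t
        rw [← hG i hi j hj (Ne.symm hij), Int.toNat_of_nonneg (hβ i hi),
          Int.toNat_of_nonneg (hβ j hj)]
        congr 1
        funext l
        simp only [Function.comp, swap_apply_def, Pi.add_apply, Pi.sub_apply, Pi.single_apply]
        have hij' := Ne.symm hij
        split_ifs <;> simp_all <;> ring
  have h3 : 2 * ∑ i ∈ I, ∑ j ∈ I, T i j = ∑ i ∈ I, ∑ j ∈ I, (T i j + T j i) := by
    simp only [sum_add_distrib]
    rw [sum_comm (f := fun i j => T j i), two_mul]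
  rw [h1, h3, sum_congr rfl fun i hi => sum_congr rfl fun j hj => h2 i hi j hj]
  simp only [sum_sub_distrib, sum_const, nsmul_eq_mul]
  rw [sum_congr rfl fun i hi => (sum_ite_eq' I i _).trans (if_pos hi), ← sum_mul, sum_add_distrib,
    ← mul_sum]
  push_cast
  simp only [sum_const, nsmul_eq_mul]
  ring

variable {m : ℕ}

/-- Signed coincidence of two tuples up to order. -/
def GG (β γ : Fin m → ℤ) : ℂ := ∑ w : Perm (Fin m), if β = γ ∘ w then sg w else 0

theorem GG_comp (β γ : Fin m → ℤ) (v : Perm (Fin m)) : GG (β ∘ v) γ = sg v * GG β γ := by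
  unfold GG
  rw [mul_sum, ← Equiv.sum_comp (Equiv.mulRight v)]
  refine sum_congr rfl fun w _ => ?_
  have : β ∘ v = γ ∘ (w * v : Perm (Fin m)) ↔ β = γ ∘ w :=
    ⟨fun h => funext fun i => by simpa using congrFun h (v.symm i), fun h => by rw [h]; rfl⟩
  simp only [coe_mulRight, this, sg_mul, mul_ite, mul_zero, mul_comm (sg w)]

theorem GG_symm (β γ : Fin m → ℤ) : GG β γ = GG γ β := by
  unfold GG
  rw [← Equiv.sum_comp (Equiv.inv _)]
  refine sum_congr rfl fun w _ => ?_
  have : β = γ ∘ (w⁻¹ : Perm (Fin m)) ↔ γ = β ∘ w :=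
    ⟨fun h => by rw [h]; ext; simp, fun h => by rw [h]; ext; simp⟩
  simp only [Equiv.inv_apply, this, sg_inv]

theorem GG_of_not_inj {β : Fin m → ℤ} (h : ¬ Function.Injective β) (γ : Fin m → ℤ) :
    GG β γ = 0 := by
  obtain ⟨i, j, hij, hne⟩ := Function.not_injective_iff.1 h
  have := GG_comp β γ (swap i j)
  rw [comp_swap_of_eq hij, sg_swap hne] at this
  linear_combination this / 2

theorem GG_self {β : Fin m → ℤ} (h : Function.Injective β) : GG β β = 1 := by
  rw [GG, sum_eq_single 1]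
  · simp [sg_one]
  · intro w _ hw
    exact if_neg fun e => hw (Equiv.ext fun i => (h (congrFun e i)).symm)
  · simp

theorem exists_of_GG {β γ : Fin m → ℤ} (h : GG β γ ≠ 0) : ∃ w : Perm (Fin m), β = γ ∘ w := by
  obtain ⟨w, -, hw⟩ := exists_ne_zero_of_sum_ne_zero h
  exact ⟨w, by_contra fun e => hw (if_neg e)⟩

theorem sum_GG_sub (β γ : Fin m → ℤ) (k : ℤ) :
    ∑ j, GG β (γ - Pi.single j k) = ∑ j, GG (β + Pi.single j k) γ := by
  unfold GG
  rw [sum_comm]
  conv_rhs => rw [sum_comm]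
  refine sum_congr rfl fun w _ => ?_
  rw [← Equiv.sum_comp w]
  refine sum_congr rfl fun j _ => ?_
  have : (γ - Pi.single (w j) k) ∘ w = γ ∘ w - Pi.single j k := by
    funext l
    simp [Pi.single_apply]
  rw [this]
  simp only [eq_sub_iff_add_eq]

/-- The Gram matrix. -/
def FF (β γ : Fin m → ℤ) : ℂ := if ∀ i, 0 ≤ β i then GG β γ else 0

theorem FF_of_lt {β : Fin m → ℤ} (h : ∑ i, β i < ∑ i, del m i) (γ : Fin m → ℤ) : FF β γ = 0 := by
  unfold FF
  split_ifs with h1
  · exact GG_of_not_inj (fun h2 => absurd (Good.sum_le ⟨h2, h1⟩) (not_le.2 h)) γ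
  · rfl

theorem sum_sub_single (β : Fin m → ℤ) (i : Fin m) (k : ℤ) :
    ∑ j, (β - Pi.single i k : Fin m → ℤ) j = ∑ j, β j - k := by
  simp [sum_sub_distrib]

theorem sum_add_single (β : Fin m → ℤ) (i : Fin m) (k : ℤ) :
    ∑ j, (β + Pi.single i k : Fin m → ℤ) j = ∑ j, β j + k := by
  simp [sum_add_distrib]

theorem sum_FF {β : Fin m → ℤ} {n : ℕ} (h : ∑ i, β i = n + ∑ i, del m i) (γ : Fin m → ℤ) :
    ∑ k ∈ range n, ∑ i, ∑ j, FF (β - Pi.single i ((k : ℤ) + 1)) (γ - Pi.single j ((k : ℤ) + 1)) =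
      n * FF β γ := by
  by_cases h1 : ∀ i, 0 ≤ β i
  · have h2 := L0 univ (fun β => GG β γ) (fun i _ j _ hij β => by
      rw [GG_comp, sg_swap hij, neg_one_mul]) β fun i _ => h1 i
    rw [h, mul_add, two_sum_del, card_univ, Fintype.card_fin, add_sub_cancel_right] at h2
    have h3 : ∑ k ∈ range n, ∑ i, ∑ j, FF (β - Pi.single i ((k : ℤ) + 1))
        (γ - Pi.single j ((k : ℤ) + 1)) = ∑ i, ∑ k ∈ range (β i).toNat, ∑ j,
        GG (β - Pi.single i ((k : ℤ) + 1) + Pi.single j ((k : ℤ) + 1)) γ := by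
      rw [sum_comm]
      refine sum_congr rfl fun i _ => ?_
      have h4 : ∀ k : ℕ, (∀ l, 0 ≤ (β - Pi.single i ((k : ℤ) + 1) : Fin m → ℤ) l) ↔
          k < (β i).toNat := fun k => by
        refine ⟨fun h5 => ?_, fun h5 l => ?_⟩
        · have := h5 i
          simp only [Pi.sub_apply, Pi.single_eq_same] at this
          omega
        · by_cases hl : l = i
          · subst hl
            simp only [Pi.sub_apply, Pi.single_eq_same]
            omega
          · simpa [Pi.single_eq_of_ne hl] using h1 l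
      rw [sum_subset (range_subset_range.2 (Nat.le_add_right n (β i).toNat)),
        ← sum_subset (range_subset_range.2 (Nat.le_add_left (β i).toNat n))]
      · refine sum_congr rfl fun k hk => ?_
        simp only [FF, if_pos ((h4 k).2 (mem_range.1 hk)), sum_GG_sub]
      · intro k _ hk
        exact sum_eq_zero fun j _ => if_neg fun e => hk (mem_range.2 ((h4 k).1 e))
      · intro k _ hk
        refine sum_eq_zero fun j _ => FF_of_lt ?_ _
        rw [sum_sub_single, h]
        have := mem_range.not.1 hk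
        omega
    rw [h3, FF, if_pos h1]
    push_cast at h2
    linear_combination h2 / 2
  · rw [FF, if_neg h1, mul_zero]
    refine sum_eq_zero fun k _ => sum_eq_zero fun i _ => sum_eq_zero fun j _ => if_neg fun e => h1
      fun l => (e l).trans ?_
    by_cases hl : l = i
    · subst hl
      simp only [Pi.sub_apply, Pi.single_eq_same]
      omega
    · simp [Pi.single_eq_of_ne hl]

theorem sum_mem_card {α : Type*} [Fintype α] [DecidableEq α] (x : α) {n : ℕ}
    (hn : Fintype.card α = n + 1) (h : ℕ → ℂ) :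
    ∑ O : Finset α with x ∈ O, h #O = ∑ k ∈ range (n + 1), (n.choose k : ℂ) * h (k + 1) := by
  have h1 := sum_powerset_apply_card (fun k => h (k + 1)) (x := univ.erase x)
  rw [card_erase_of_mem (mem_univ x), card_univ, hn, Nat.add_sub_cancel] at h1
  simp only [nsmul_eq_mul] at h1
  rw [← h1]
  refine sum_bij' (fun O _ => O.erase x) (fun O _ => insert x O) (fun O _ => ?_) (fun O _ => ?_)
    (fun O hO => ?_) (fun O hO => ?_) fun O hO => ?_
  · exact mem_powerset.2 (erase_subset_erase _ (subset_univ _))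
  · simp
  · exact insert_erase (mem_filter.1 hO).2
  · exact erase_insert fun e => by simpa using mem_powerset.1 hO e
  · rw [card_erase_add_one (mem_filter.1 hO).2]

theorem chi_empty {α : Type*} [Fintype α] [DecidableEq α] [IsEmpty α] (β : Fin m → ℤ)
    (σ : Perm α) : chi β σ = GG β (del m) := by
  refine sum_congr rfl fun w _ => ?_
  split_ifs with h
  · rw [h, sub_self, phi, card_eq_one.2, Nat.cast_one, mul_one]
    refine ⟨isEmptyElim, eq_singleton_iff_unique_mem.2 ⟨mem_cols.2 ⟨isEmptyElim, by simp⟩, ?_⟩⟩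
    exact fun _ _ => Subsingleton.elim _ _
  · rw [phi, card_eq_zero.2, Nat.cast_zero, mul_zero]
    refine eq_empty_iff_forall_notMem.2 fun f hf => h (sub_eq_zero.1 (funext fun i => ?_))
    simpa using ((mem_cols.1 hf).2 i).symm

theorem GG_del {β : Fin m → ℤ} (h : ∑ i, β i = ∑ i, del m i) (γ : Fin m → ℤ) :
    GG β (del m) * GG γ (del m) = FF β γ := by
  by_cases h1 : ∃ v : Perm (Fin m), β = del m ∘ v
  · obtain ⟨v, rfl⟩ := h1
    rw [FF, if_pos (good_del.comp v).nn, GG_comp, GG_comp, GG_self del_inj, GG_symm γ, mul_one]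
  · rw [by_contra fun e => h1 (exists_of_GG e), zero_mul, FF]
    split_ifs with h2
    · exact (GG_of_not_inj (fun h3 => h1 (Good.exists_eq ⟨h3, h2⟩ h)) γ).symm
    · rfl

universe u

theorem orth_aux (n : ℕ) : ∀ (α : Type u) [Fintype α] [DecidableEq α], Fintype.card α = n →
    ∀ β γ : Fin m → ℤ, ∑ i, β i = n + ∑ i, del m i →
      ∑ σ : Perm α, chi β σ * chi γ σ = n.factorial * FF β γ := by
  induction n using Nat.strong_induction_on with
  | _ n ih =>
  intro α _ _ hn β γ h
  rcases n with _ | n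
  · haveI : IsEmpty α := Fintype.card_eq_zero_iff.1 hn
    simp only [chi_empty, sum_const, card_univ, Fintype.card_perm, hn]
    rw [GG_del (by simpa using h), nsmul_eq_mul]
  · obtain ⟨x⟩ : Nonempty α := Fintype.card_pos_iff.1 (by omega)
    have h1 := sum_orb x fun O τ => (∑ i, chi (β - Pi.single i (#O : ℤ)) τ) *
      ∑ j, chi (γ - Pi.single j (#O : ℤ)) τ
    simp only [← chi_mn] at h1
    have h2 := sum_mem_card x hn fun k => ((k - 1).factorial : ℂ) * ((n + 1 - k).factorial *
      ∑ i, ∑ j, FF (β - Pi.single i (k : ℤ)) (γ - Pi.single j (k : ℤ)))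
    rw [h1, sum_congr rfl ?_, h2, Nat.factorial_succ, Nat.cast_mul, mul_comm ((n + 1 : ℕ) : ℂ),
      mul_assoc, ← sum_FF h, mul_sum]
    · refine sum_congr rfl fun k hk => ?_
      rw [← Nat.choose_mul_factorial_mul_factorial (Nat.lt_succ_iff.1 (mem_range.1 hk))]
      simp only [Nat.add_sub_cancel, Nat.add_sub_add_right]
      push_cast
      ring
    · intro O hO
      congr 1
      have hc := card_compl_subtype O
      have hp : 0 < #O := card_pos.2 ⟨x, (mem_filter.1 hO).2⟩
      simp only [sum_mul_sum]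
      rw [sum_comm, mul_sum]
      refine sum_congr rfl fun i _ => ?_
      rw [sum_comm, mul_sum]
      refine sum_congr rfl fun j _ => ?_
      refine ih (n + 1 - #O) (by omega) _ (by omega) _ _ ?_
      rw [sum_sub_single, h]
      omega

variable {α : Type*} [Fintype α] [DecidableEq α]

theorem orth {β : Fin m → ℤ} (h : ∑ i, β i = Fintype.card α + ∑ i, del m i) (γ : Fin m → ℤ) :
    ∑ σ : Perm α, chi β σ * chi γ σ = (Fintype.card α).factorial * FF β γ :=
  orth_aux _ α rfl β γ h

theorem inner_chi {β : Fin m → ℤ} (h : ∑ i, β i = Fintype.card α + ∑ i, del m i)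
    (γ : Fin m → ℤ) : classInner (chi β : Perm α → ℂ) (chi γ) = FF β γ := by
  rw [classInner_def]
  simp only [conj_chi]
  rw [orth h, Nat.card_eq_fintype_card, Fintype.card_perm, inv_mul_cancel_left₀]
  exact_mod_cast Nat.factorial_ne_zero _

theorem exists_irr {β : Fin m → ℤ} (hβ : Good β)
    (h : ∑ i, β i = Fintype.card α + ∑ i, del m i) :
    ∃ (ε : ℂ) (χ : IrrCharacter (Perm α)), (ε = 1 ∨ ε = -1) ∧ chi β = ε • (χ : Perm α → ℂ) := by
  obtain ⟨ε, χ, h1, h2, h3⟩ := isGenChar_norm_one_sign (isGen_chi (α := α) β)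
    (by rw [inner_chi h, FF, if_pos hβ.nn, GG_self hβ.inj])
  exact ⟨ε, ⟨χ, h2⟩, h1, h3⟩

theorem chi_one_ne_zero {β : Fin m → ℤ} (hβ : Good β)
    (h : ∑ i, β i = Fintype.card α + ∑ i, del m i) : chi β (1 : Perm α) ≠ 0 := by
  obtain ⟨ε, χ, h1, h2⟩ := exists_irr hβ h
  rw [h2, Pi.smul_apply, smul_eq_mul]
  exact mul_ne_zero (by rcases h1 with rfl | rfl <;> simp) (isIrr_one_ne_zero χ.2)

theorem exists_beta (hm : Fintype.card α ≤ m) (χ : IrrCharacter (Perm α)) :
    ∃ (β : Fin m → ℤ) (ε : ℂ), Good β ∧ ∑ i, β i = Fintype.card α + ∑ i, del m i ∧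
      (ε = 1 ∨ ε = -1) ∧ (χ : Perm α → ℂ) = ε • chi β := by
  by_contra hc
  apply isIrr_one_ne_zero χ.2
  rw [← isChar_conj_one (irr_isChar χ)]
  refine complete hm (ψ := fun σ => conj ((χ : Perm α → ℂ) σ)) fun β => ?_
  by_cases hβ : Good β
  · by_cases h : ∑ i, β i = Fintype.card α + ∑ i, del m i
    · obtain ⟨ε, ψ, h1, h2⟩ := exists_irr hβ h
      rw [← card_mul_classInner, h2, classInner_smul_left, classInner_irr_ne, mul_zero, mul_zero]
      rintro rfl
      refine hc ⟨β, ε, hβ, h, h1, ?_⟩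
      rw [h2, smul_smul]
      rcases h1 with rfl | rfl <;> simp
    · simp [chi_of_sum h]
  · simp [chi_of_not_good hβ]

end Cfsg.Agent.Block.Sym
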