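import Mathlib
import Cfsg.Agent.Block.Sym3
import Cfsg.Agent.Block.Sect
import Cfsg.Agent.Block.Rank2

/-! Adding hooks; residue contents are constant on blocks. -/

namespace Cfsg.Agent.Block.Sym

open Finset Equiv Equiv.Perm Cfsg Cfsg.Agent.Char
open scoped ComplexConjugate

variable {m : ℕ}

section
variable {α : Type*} [Fintype α] [DecidableEq α]

theorem chi_mn' (β : Fin m → ℤ) {σ : Perm α} {x : α} {O : Finset α} (h : orb σ x = O) :
    chi β σ = ∑ i, chi (β - Pi.single i (#O : ℤ)) (res O σ) := by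
  subst h; exact chi_mn β σ x

theorem chi_glue (β : Fin m → ℤ) {O : Finset α} (hO : O.Nonempty) {ρ : Perm {y // y ∈ O}}
    (hρ : Tr ρ) (τ : Perm {y // y ∉ O}) :
    chi β (glue O ρ τ) = ∑ i, chi (β - Pi.single i (#O : ℤ)) τ := by
  obtain ⟨x, hx⟩ := hO
  rw [chi_mn' β (orb_glue hρ τ hx), res_glue]

theorem add_single_nonneg {γ : Fin m → ℤ} (hγ : ∀ i, 0 ≤ γ i) (i : Fin m) {k : ℤ} (hk : 0 ≤ k)
    (j : Fin m) : 0 ≤ (γ + Pi.single i k : Fin m → ℤ) j := by
  have := hγ j
  simp only [Pi.add_apply, Pi.single_apply]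
  split_ifs <;> omega

theorem sum_chi_add (hm : Fintype.card α ≤ m) {γ : Fin m → ℤ} (hγ : ∀ i, 0 ≤ γ i) {k : ℕ}
    (hk : 0 < k) {s : Perm α} (hs : ∀ x, #(orb s x) ≠ k) :
    ∑ i, chi (γ + Pi.single i (k : ℤ)) s = 0 := by
  by_cases h : ∑ i, γ i + k = Fintype.card α + ∑ i, del m i
  swap
  · exact sum_eq_zero fun i _ => chi_of_sum (by rwa [sum_add_single]) s
  set Θ : Perm α → ℂ := ∑ i, chi (γ + Pi.single i (k : ℤ)) with hΘ
  have h1 : IsClassFunction (Perm α) Θ :=
    classFun_sum _ fun i _ => isGenChar_classFun (isGen_chi _)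
  have h2 : ∀ β, classInner Θ (chi β) = ∑ j, FF γ (β - Pi.single j (k : ℤ)) := fun β => by
    rw [hΘ, classInner_sum_left]
    simp only [FF, if_pos hγ, sum_GG_sub]
    refine sum_congr rfl fun i _ => ?_
    rw [inner_chi (by rwa [sum_add_single]), FF,
      if_pos (add_single_nonneg hγ i (Int.natCast_nonneg k))]
  rw [← Finset.sum_apply, ← hΘ, classFun_apply_eq_sum h1]
  by_cases hkn : k ≤ Fintype.card α
  · obtain ⟨O, -, hO⟩ := exists_subset_card_eq (s := (univ : Finset α)) hkn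
    have hne : O.Nonempty := card_pos.1 (by omega)
    obtain ⟨x, hx⟩ := id hne
    haveI : Nonempty {y // y ∈ O} := ⟨⟨x, hx⟩⟩
    obtain ⟨ρ, hρ⟩ := exists_tr (α := {y // y ∈ O})
    have hc := card_compl_subtype O
    have h3 : ∀ χ : IrrCharacter (Perm α), ((Fintype.card {y // y ∉ O}).factorial : ℂ) *
        classInner Θ χ = ∑ τ, chi γ τ * conj ((χ : Perm α → ℂ) (glue O ρ τ)) := fun χ => by
      obtain ⟨β, ε, -, -, hε, hχ⟩ := exists_beta hm χ
      rw [hχ, classInner_smul_right, h2, mul_left_comm, mul_sum]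
      simp only [Pi.smul_apply, smul_eq_mul, map_mul, conj_chi, mul_left_comm _ (conj ε), ← mul_sum,
        chi_glue β hne hρ, hO]
      congr 1
      simp only [map_sum, conj_chi, mul_sum]
      rw [sum_comm]
      exact sum_congr rfl fun j _ => (orth (by omega) _).symm
    refine mul_left_cancel₀ (Nat.cast_ne_zero.2
      (Nat.factorial_ne_zero (Fintype.card {y // y ∉ O}))) ?_
    simp only [mul_sum, ← mul_assoc, h3, sum_mul, mul_zero]
    rw [sum_comm]
    refine sum_eq_zero fun τ _ => ?_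
    simp only [mul_assoc, ← mul_sum, mul_comm (conj _)]
    rw [sum_irr_mul_conj_of_not_isConj, mul_zero]
    intro hc
    obtain ⟨c, hc⟩ := isConj_iff.1 hc
    apply hs (c⁻¹ x)
    rw [← card_orb_conj s c, hc, show c (c⁻¹ x) = x by simp, orb_glue hρ τ hx, hO]
  · refine sum_eq_zero fun χ _ => ?_
    obtain ⟨β, ε, -, -, hε, hχ⟩ := exists_beta hm χ
    rw [hχ, classInner_smul_right, h2, sum_eq_zero fun j _ => FF_of_lt (by omega) _, mul_zero,
      zero_mul]

/-- Number of points in cycles of length divisible by `p`. -/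
def NN (p : ℕ) (σ : Perm α) : ℕ := #{y | p ∣ #(orb σ y)}

theorem NN_eq {p : ℕ} {σ : Perm α} {x : α} (h : p ∣ #(orb σ x)) :
    NN p σ = #(orb σ x) + NN p (res (orb σ x) σ) := by
  rw [NN, card_filter_split (orb σ x), filter_true_of_mem fun y hy => by rwa [orb_eq_of_mem hy]]
  simp only [NN, card_orb_res fun _ => apply_mem_orb]

theorem NN_eq_of_not {p : ℕ} {σ : Perm α} {x : α} (h : ¬ p ∣ #(orb σ x)) :
    NN p σ = NN p (res (orb σ x) σ) := by
  rw [NN, card_filter_split (orb σ x), filter_false_of_mem fun y hy => by rwa [orb_eq_of_mem hy]]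
  simp only [NN, card_orb_res fun _ => apply_mem_orb, card_empty, zero_add]

theorem NN_eq_zero {p : ℕ} (hp : p.Prime) {σ : Perm α} : NN p σ = 0 ↔ ¬ p ∣ orderOf σ := by
  rw [NN, card_eq_zero, filter_eq_empty_iff]
  refine ⟨fun h h1 => ?_, fun h x _ h1 => h (h1.trans (card_orb_dvd σ x))⟩
  obtain ⟨x, hx⟩ := exists_dvd_orb hp h1
  exact h (mem_univ x) hx

end

/-- Same residue content. -/
def Cont (p : ℕ) (β γ : Fin m → ℤ) : Prop := ∃ v : Perm (Fin m), ∀ i, β (v i) ≡ γ i [ZMOD p]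

theorem sub_single_modEq {p : ℕ} (β : Fin m → ℤ) (i : Fin m) {k : ℤ} (h : (p : ℤ) ∣ k) (j : Fin m) :
    (β - Pi.single i k : Fin m → ℤ) j ≡ β j [ZMOD p] := by
  rw [Int.modEq_iff_dvd, Pi.sub_apply, sub_sub_cancel, Pi.single_apply]
  split_ifs
  · exact h
  · exact dvd_zero _

theorem add_single_modEq {p : ℕ} (β : Fin m → ℤ) (i : Fin m) {k : ℤ} (h : (p : ℤ) ∣ k) (j : Fin m) :
    (β + Pi.single i k : Fin m → ℤ) j ≡ β j [ZMOD p] := by
  have := sub_single_modEq β i (dvd_neg.2 h) j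
  rwa [Pi.single_neg, sub_neg_eq_add] at this

universe u

theorem cont_aux (p n : ℕ) : ∀ (α : Type u) [Fintype α] [DecidableEq α], Fintype.card α = n →
    ∀ (N : ℕ) (β γ : Fin m → ℤ), ¬ Cont p β γ →
      ∑ σ : Perm α, (if NN p σ = N then chi β σ * chi γ σ else 0) = 0 := by
  induction n using Nat.strong_induction_on with
  | _ n ih =>
  intro α _ _ hn
  have key : ∀ (N : ℕ) (β γ : Fin m → ℤ), ¬ Cont p β γ → N ≠ 0 →
      ∑ σ : Perm α, (if NN p σ = N then chi β σ * chi γ σ else 0) = 0 := by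
    intro N β γ h hN
    refine mul_left_cancel₀ (Nat.cast_ne_zero.2 hN) ?_
    have h1 : ∀ σ : Perm α, (N : ℂ) * (if NN p σ = N then chi β σ * chi γ σ else 0) =
        ∑ x, if p ∣ #(orb σ x) ∧ NN p σ = N then chi β σ * chi γ σ else 0 := fun σ => by
      by_cases h2 : NN p σ = N
      · simp only [h2, if_true, and_true, ← sum_filter, sum_const, nsmul_eq_mul]
        rw [← h2, NN]
      · simp [h2]
    rw [mul_sum, mul_zero, sum_congr rfl fun σ _ => h1 σ, sum_comm]
    refine sum_eq_zero fun x _ => ?_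
    have h2 := sum_orb x fun O τ => if p ∣ #O ∧ #O + NN p τ = N then
      (∑ i, chi (β - Pi.single i (#O : ℤ)) τ) * ∑ j, chi (γ - Pi.single j (#O : ℤ)) τ else 0
    simp only [← chi_mn] at h2
    rw [← sum_congr rfl fun σ _ => ?_, h2]
    · refine sum_eq_zero fun O hO => mul_eq_zero_of_right _ ?_
      by_cases h3 : p ∣ #O ∧ #O ≤ N
      · have hc := card_compl_subtype O
        have hp : 0 < #O := card_pos.2 ⟨x, (mem_filter.1 hO).2⟩
        have h4 : ∀ τ : Perm {y // y ∉ O}, (p ∣ #O ∧ #O + NN p τ = N) ↔ NN p τ = N - #O :=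
          fun τ => ⟨fun h5 => by omega, fun h5 => ⟨h3.1, by omega⟩⟩
        simp only [h4, sum_mul_sum]
        simp only [ite_sum_zero]
        rw [sum_comm]
        refine sum_eq_zero fun i _ => ?_
        rw [sum_comm]
        refine sum_eq_zero fun j _ => ih _ (by omega) _ rfl _ _ _ fun ⟨v, hv⟩ => h ⟨v, fun l => ?_⟩
        have hd : (p : ℤ) ∣ #O := Int.natCast_dvd_natCast.2 h3.1
        exact ((sub_single_modEq β i hd _).symm.trans (hv l)).trans (sub_single_modEq γ j hd _)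
      · exact sum_eq_zero fun τ _ => if_neg fun h4 => h3 ⟨h4.1, by omega⟩
    · refine if_congr (and_congr_right fun h3 => ?_) rfl rfl
      rw [NN_eq h3]
  intro N β γ h
  by_cases hN : N = 0
  swap
  · exact key N β γ h hN
  subst hN
  have h1 : ∑ σ : Perm α, chi β σ * chi γ σ = 0 := by
    by_cases h2 : ∑ i, β i = Fintype.card α + ∑ i, del m i
    · rw [orth h2, FF, show GG β γ = 0 from by_contra fun e => ?_, ite_self, mul_zero]
      obtain ⟨w, rfl⟩ := exists_of_GG e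
      exact h ⟨w⁻¹, fun i => by simp⟩
    · simp [chi_of_sum h2]
  have h2 : ∀ σ : Perm α, chi β σ * chi γ σ =
      ∑ N ∈ range (n + 1), if NN p σ = N then chi β σ * chi γ σ else 0 := fun σ => by
    rw [sum_ite_eq, if_pos]
    exact mem_range.2 (Nat.lt_succ_of_le (hn ▸ card_le_univ _))
  rw [sum_congr rfl fun σ _ => h2 σ, sum_comm, sum_range_succ',
    sum_eq_zero fun N _ => key _ β γ h (Nat.succ_ne_zero N), zero_add] at h1
  exact h1

variable {α : Type*} [Fintype α] [DecidableEq α] {p : ℕ}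

theorem inner_reg_chi (hp : p.Prime) {β γ : Fin m → ℤ} (h : ¬ Cont p β γ) :
    classInner (pRegularPart p (chi β : Perm α → ℂ)) (chi γ) = 0 := by
  rw [classInner_def, ← mul_zero (Nat.card (Perm α) : ℂ)⁻¹, ← cont_aux p _ α rfl 0 β γ h]
  congr 1
  refine sum_congr rfl fun σ _ => ?_
  simp only [pRegularPart_apply, NN_eq_zero hp, conj_chi, ite_not, ite_mul, zero_mul]

theorem Cont.symm {β γ : Fin m → ℤ} (h : Cont p β γ) : Cont p γ β := by
  obtain ⟨v, hv⟩ := h
  exact ⟨v⁻¹, fun i => by simpa using (hv (v⁻¹ i)).symm⟩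

theorem Cont.trans {β γ η : Fin m → ℤ} (h : Cont p β γ) (h' : Cont p γ η) : Cont p β η := by
  obtain ⟨v, hv⟩ := h
  obtain ⟨w, hw⟩ := h'
  exact ⟨v * w, fun i => (hv _).trans (hw i)⟩

theorem cont_of_block {M : Ideal AlgInt} (hM : IsPModular p M) (hm : Fintype.card α ≤ m)
    {B : Set (IrrCharacter (Perm α))} (hB : IsPBlock M B) {χ ψ : IrrCharacter (Perm α)}
    (hχ : χ ∈ B) (hψ : ψ ∈ B) {β γ : Fin m → ℤ} {ε η : ℂ} (h1 : (χ : Perm α → ℂ) = ε • chi β)
    (h2 : (ψ : Perm α → ℂ) = η • chi γ) : Cont p β γ := by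
  obtain ⟨θ, hθ, h0⟩ := exists_height_zero (p := p) (block_nonempty hM hB)
  obtain ⟨μ, ζ, -, -, -, h3⟩ := exists_beta hm θ
  have key : ∀ {χ : IrrCharacter (Perm α)} {β : Fin m → ℤ} {ε : ℂ}, χ ∈ B →
      (χ : Perm α → ℂ) = ε • chi β → Cont p μ β := fun hχ h1 => by
    by_contra hc
    apply inner_pReg_ne_zero hM hB hθ hχ h0
    rw [h1, h3, pReg_smul, classInner_smul_left, classInner_smul_right, inner_reg_chi hM.1 hc,
      mul_zero, mul_zero]
  exact (key hχ h1).symm.trans (key hψ h2)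

end Cfsg.Agent.Block.Sym
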