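import Mathlib
import Cfsg.Agent.Block.Sym4

/-! The abacus: cores, weights, and counting. -/

namespace Cfsg.Agent.Block.Sym

open Finset Equiv Equiv.Perm

variable {m p : ℕ} {V β : Fin m → ℤ}

/-- All beads pushed up: beta-numbers of a core. -/
structure Vac (p : ℕ) (V : Fin m → ℤ) : Prop where
  good : Good V
  down : ∀ i, (p : ℤ) ≤ V i → ∃ j, V j = V i - p

/-- `β` has the bead pattern of `V`. -/
structure Pat (p : ℕ) (V β : Fin m → ℤ) : Prop where
  good : Good β
  res : ∀ i, β i ≡ V i [ZMOD p]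
  ord : ∀ i j, V i ≡ V j [ZMOD p] → V i < V j → β i < β j

theorem add_le_of_modEq {a b : ℤ} (h : a ≡ b [ZMOD p]) (hlt : a < b) : a + p ≤ b := by
  have := Int.le_of_dvd (by omega) h.dvd
  omega

theorem Vac.pat (hV : Vac p V) : Pat p V V := ⟨hV.good, fun _ => rfl, fun _ _ _ h => h⟩

theorem Vac.down_all (hp : 0 < p) (hV : Vac p V) {i : Fin m} {x : ℤ} (h0 : 0 ≤ x) (h : x ≤ V i)
    (hx : x ≡ V i [ZMOD p]) : ∃ j, V j = x := by
  obtain ⟨n, hn⟩ : ∃ n : ℕ, V i - x = n := ⟨(V i - x).toNat, by omega⟩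
  induction n using Nat.strong_induction_on generalizing i with
  | _ n ih =>
  rcases h.eq_or_lt with h | h
  · exact ⟨i, h.symm⟩
  · have h1 := add_le_of_modEq hx h
    obtain ⟨j, hj⟩ := hV.down i (by omega)
    refine ih (n - p) (by omega) (i := j) (by omega) ?_ (by omega)
    rw [hj]
    exact hx.trans (Int.modEq_iff_dvd.2 (by simp))

theorem Pat.le (hp : 0 < p) (hV : Vac p V) (h : Pat p V β) (i : Fin m) : V i ≤ β i := by
  obtain ⟨n, hn⟩ : ∃ n : ℕ, V i = n := ⟨(V i).toNat, by have := hV.good.nn i; omega⟩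
  induction n using Nat.strong_induction_on generalizing i with
  | _ n ih =>
  by_cases h1 : (p : ℤ) ≤ V i
  · obtain ⟨j, hj⟩ := hV.down i h1
    have h2 := ih (n - p) (by omega) j (by omega)
    have h3 : V j ≡ V i [ZMOD p] := by rw [hj]; exact Int.modEq_iff_dvd.2 (by simp)
    have := add_le_of_modEq ((h.res j).trans (h3.trans (h.res i).symm)) (h.ord j i h3 (by omega))
    omega
  · by_contra h2
    have := add_le_of_modEq (h.res i) (not_le.1 h2)
    have := h.good.nn i
    omega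

theorem sub_single_self (β : Fin m → ℤ) (i : Fin m) (k : ℤ) :
    (β - Pi.single i k : Fin m → ℤ) i = β i - k := by simp

theorem sub_single_ne (β : Fin m → ℤ) {i j : Fin m} (h : j ≠ i) (k : ℤ) :
    (β - Pi.single i k : Fin m → ℤ) j = β j := by simp [h]

theorem Pat.move (hp : 0 < p) (h : Pat p V β) {i : Fin m} (hg : Good (β - Pi.single i (p : ℤ))) :
    Pat p V (β - Pi.single i (p : ℤ)) := by
  refine ⟨hg, fun j => (sub_single_modEq β i dvd_rfl j).trans (h.res j), fun j l h1 h2 => ?_⟩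
  have h3 := add_le_of_modEq ((h.res j).trans (h1.trans (h.res l).symm)) (h.ord j l h1 h2)
  have hjl : j ≠ l := fun e => by rw [e] at h2; omega
  have h4 := hg.inj.ne hjl
  by_cases hj : j = i
  · subst hj
    rw [sub_single_self, sub_single_ne _ hjl.symm]
    omega
  · by_cases hl : l = i
    · subst hl
      rw [sub_single_self, sub_single_ne _ hj] at h4 ⊢
      omega
    · rw [sub_single_ne _ hj, sub_single_ne _ hl]
      omega

theorem Pat.unmove (hp : 0 < p) (hg : Good β) {i : Fin m} (h : Pat p V (β - Pi.single i (p : ℤ))) :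
    Pat p V β := by
  refine ⟨hg, fun j => (sub_single_modEq β i dvd_rfl j).symm.trans (h.res j), fun j l h1 h2 => ?_⟩
  have h3 := add_le_of_modEq ((h.res j).trans (h1.trans (h.res l).symm)) (h.ord j l h1 h2)
  have hjl : j ≠ l := fun e => by rw [e] at h2; omega
  have h4 := hg.inj.ne hjl
  by_cases hj : j = i
  · subst hj
    rw [sub_single_self, sub_single_ne _ hjl.symm] at h3
    omega
  · by_cases hl : l = i
    · subst hl
      rw [sub_single_self, sub_single_ne _ hj] at h3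
      omega
    · rw [sub_single_ne _ hj, sub_single_ne _ hl] at h3
      omega

theorem good_sub (hg : Good β) {i : Fin m} {k : ℤ} (h1 : k ≤ β i) (h2 : ∀ j, j ≠ i → β j ≠ β i - k) :
    Good (β - Pi.single i k) := by
  refine ⟨fun j l e => ?_, fun j => ?_⟩
  · by_cases hj : j = i <;> by_cases hl : l = i
    · rw [hj, hl]
    · rw [hj, sub_single_self, sub_single_ne _ hl] at e
      exact absurd e.symm (h2 l hl)
    · rw [hl, sub_single_self, sub_single_ne _ hj] at e
      exact absurd e (h2 j hj)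
    · rw [sub_single_ne _ hj, sub_single_ne _ hl] at e
      exact hg.inj e
  · by_cases hj : j = i
    · rw [hj, sub_single_self]; omega
    · rw [sub_single_ne _ hj]; exact hg.nn j

theorem Pat.good_move (hp : 0 < p) (hV : Vac p V) (h : Pat p V β) {i : Fin m} (hi : β i ≠ V i)
    (hmin : ∀ j, V j ≡ V i [ZMOD p] → V j < V i → β j = V j) : Good (β - Pi.single i (p : ℤ)) := by
  have h1 := add_le_of_modEq (h.res i).symm ((h.le hp hV i).lt_of_ne hi.symm)
  have h2 := hV.good.nn i
  refine good_sub h.good (by omega) fun j hj e => ?_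
  have h3 : V j ≡ V i [ZMOD p] := (h.res j).symm.trans
    ((show β j ≡ β i [ZMOD p] by rw [e]; exact Int.modEq_iff_dvd.2 (by simp)).trans (h.res i))
  rcases lt_or_gt_of_ne (hV.good.inj.ne hj) with h4 | h4
  · have := hmin j h3 h4
    omega
  · have := h.ord i j h3.symm h4
    omega

theorem exists_min_ne {i₀ : Fin m} (h : β i₀ ≠ V i₀) : ∃ i, V i ≡ V i₀ [ZMOD p] ∧ β i ≠ V i ∧
    ∀ j, V j ≡ V i [ZMOD p] → V j < V i → β j = V j := by
  classical
  obtain ⟨i, hi, hmin⟩ := exists_min_image {i | V i ≡ V i₀ [ZMOD p] ∧ β i ≠ V i} V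
    ⟨i₀, by simpa using h⟩
  simp only [mem_filter, mem_univ, true_and] at hi hmin
  exact ⟨i, hi.1, hi.2, fun j h1 h2 => by_contra fun e =>
    absurd (hmin j ⟨h1.trans hi.1, e⟩) (not_le.2 h2)⟩

theorem Pat.exists_move (hp : 0 < p) (hV : Vac p V) (h : Pat p V β) (hne : β ≠ V) :
    ∃ i, Good (β - Pi.single i (p : ℤ)) := by
  obtain ⟨i₀, h0⟩ := Function.ne_iff.1 hne
  obtain ⟨i, -, h1, h2⟩ := exists_min_ne (p := p) h0
  exact ⟨i, h.good_move hp hV h1 h2⟩

theorem exists_vac (hp : 0 < p) (hg : Good β) : ∃ V, Vac p V ∧ Pat p V β := by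
  obtain ⟨n, hn⟩ : ∃ n : ℕ, ∑ i, β i = n :=
    ⟨(∑ i, β i).toNat, (Int.toNat_of_nonneg (sum_nonneg fun i _ => hg.nn i)).symm⟩
  induction n using Nat.strong_induction_on generalizing β with
  | _ n ih =>
  by_cases h : ∃ i, Good (β - Pi.single i (p : ℤ))
  · obtain ⟨i, hi⟩ := h
    have h1 := sum_nonneg fun j (_ : j ∈ univ) => hi.nn j
    rw [sum_sub_single] at h1
    obtain ⟨V, hV, h2⟩ := ih (n - p) (by omega) hi (by rw [sum_sub_single]; omega)
    exact ⟨V, hV, h2.unmove hp hg⟩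
  · have hV : Vac p β := ⟨hg, fun i hi => by_contra fun e =>
      h ⟨i, good_sub hg hi fun j _ e' => e ⟨j, e'⟩⟩⟩
    exact ⟨β, hV, hV.pat⟩

theorem Vac.range_sub (hp : 0 < p) {V' : Fin m → ℤ} (hV : Vac p V) (hV' : Vac p V')
    (h : ∀ i, V i ≡ V' i [ZMOD p]) (i : Fin m) : ∃ j, V' j = V i := by
  classical
  by_contra hc
  have h1 : ∀ j, V' j ≡ V i [ZMOD p] → ∃ l, V l = V' j := fun j hj => by
    rcases le_total (V' j) (V i) with h2 | h2
    · exact hV.down_all hp (hV'.good.nn j) h2 hj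
    · exact absurd (hV'.down_all hp (hV.good.nn i) h2 hj.symm) hc
  set I : Finset (Fin m) := {j | V j ≡ V i [ZMOD p]}
  have h2 : I.image V' ⊆ (I.image V).erase (V i) := fun x hx => by
    obtain ⟨j, hj, rfl⟩ := mem_image.1 hx
    have h3 := (h j).symm.trans (mem_filter.1 hj).2
    obtain ⟨l, hl⟩ := h1 j h3
    exact mem_erase.2 ⟨fun e => hc ⟨j, e⟩, mem_image.2 ⟨l, by simpa [I, hl] using h3, hl⟩⟩
  have h3 := card_le_card h2
  have hi : i ∈ I := by simp [I]
  rw [card_erase_of_mem (mem_image_of_mem _ hi), card_image_of_injective _ hV.good.inj,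
    card_image_of_injective _ hV'.good.inj] at h3
  have := card_pos.2 ⟨i, hi⟩
  omega

theorem Pat.comp (h : Pat p V β) (v : Perm (Fin m)) : Pat p (V ∘ v) (β ∘ v) :=
  ⟨h.good.comp v, fun _ => h.res _, fun _ _ => h.ord _ _⟩

theorem exists_pat (hp : 0 < p) (hV : Vac p V) (hg : Good β) (hc : Cont p β V) :
    ∃ v : Perm (Fin m), Pat p V (β ∘ v) := by
  obtain ⟨v, hv⟩ := hc
  obtain ⟨V', hV', h⟩ := exists_vac hp (hg.comp v)
  choose f hf using hV.range_sub hp hV' fun i => (hv i).symm.trans (h.res i)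
  have hinj : Function.Injective f := fun i j e => hV.good.inj (by rw [← hf, e, hf])
  refine ⟨v * Equiv.ofBijective f (Finite.injective_iff_bijective.1 hinj), ?_⟩
  have := h.comp (Equiv.ofBijective f (Finite.injective_iff_bijective.1 hinj))
  rwa [show V' ∘ Equiv.ofBijective f (Finite.injective_iff_bijective.1 hinj) = V from funext hf]
    at this

theorem Pat.cont (h : Pat p V β) : Cont p β V := ⟨1, h.res⟩

theorem Pat.exists_wt (hp : 0 < p) (hV : Vac p V) (h : Pat p V β) :
    ∃ w : ℕ, ∑ i, β i = ∑ i, V i + p * w := by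
  obtain ⟨c, hc⟩ : (p : ℤ) ∣ ∑ i, (β i - V i) := dvd_sum fun i _ => (h.res i).symm.dvd
  have h1 : 0 ≤ ∑ i, (β i - V i) := sum_nonneg fun i _ => sub_nonneg.2 (h.le hp hV i)
  rw [hc] at h1
  have h2 : 0 ≤ c := nonneg_of_mul_nonneg_right h1 (by exact_mod_cast hp)
  refine ⟨c.toNat, ?_⟩
  rw [Int.toNat_of_nonneg h2, ← hc, sum_sub_distrib, add_sub_cancel]

theorem Pat.eq_of_sum (hp : 0 < p) (hV : Vac p V) (h : Pat p V β) (hs : ∑ i, β i = ∑ i, V i) :
    β = V :=
  funext fun i => ((sum_eq_sum_iff_of_le fun i _ => h.le hp hV i).1 hs.symm i (mem_univ i)).symm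

open Classical in
/-- Patterns of weight `w` that are trivial on the runners below `r`. -/
noncomputable def TT (p : ℕ) (V : Fin m → ℤ) (w r : ℕ) : Finset (Fin m → ℤ) :=
  {β ∈ Fintype.piFinset fun i => Icc (V i) (V i + p * w) |
    Pat p V β ∧ ∑ i, β i = ∑ i, V i + p * w ∧ ∀ i, V i % p < r → β i = V i}

theorem mem_TT (hp : 0 < p) (hV : Vac p V) {w r : ℕ} : β ∈ TT p V w r ↔
    Pat p V β ∧ ∑ i, β i = ∑ i, V i + p * w ∧ ∀ i, V i % p < r → β i = V i := by
  classical
  rw [TT, mem_filter, and_iff_right_iff_imp, Fintype.mem_piFinset]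
  rintro ⟨h1, h2, -⟩ i
  have := single_le_sum (f := fun i => β i - V i) (fun i _ => sub_nonneg.2 (h1.le hp hV i))
    (mem_univ i)
  rw [sum_sub_distrib] at this
  exact mem_Icc.2 ⟨h1.le hp hV i, by omega⟩

theorem TT_succ_subset (hp : 0 < p) (hV : Vac p V) (w r : ℕ) : TT p V w (r + 1) ⊆ TT p V w r :=
  fun _ h => by
    rw [mem_TT hp hV] at h ⊢
    exact ⟨h.1, h.2.1, fun i hi => h.2.2 i (by push_cast; omega)⟩

theorem card_TT_zero (hp : 0 < p) (hV : Vac p V) (r : ℕ) : #(TT p V 0 r) = 1 := by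
  refine card_eq_one.2 ⟨V, eq_singleton_iff_unique_mem.2 ⟨?_, fun β h => ?_⟩⟩
  · exact (mem_TT hp hV).2 ⟨hV.pat, by simp, fun _ _ => rfl⟩
  · rw [mem_TT hp hV] at h
    exact h.1.eq_of_sum hp hV (by simpa using h.2.1)

theorem card_TT_top (hp : 0 < p) (hV : Vac p V) (w : ℕ) : #(TT p V (w + 1) p) = 0 := by
  refine card_eq_zero.2 (eq_empty_of_forall_notMem fun β h => ?_)
  obtain ⟨-, h1, h2⟩ := (mem_TT hp hV).1 h
  rw [show β = V from funext fun i => h2 i (Int.emod_lt_of_pos _ (by exact_mod_cast hp))] at h1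
  have : 0 < (p : ℤ) * (w + 1 : ℕ) := by positivity
  omega

open Classical in
/-- The beads that can be moved to produce a child. -/
noncomputable def Ch (p : ℕ) (V : Fin m → ℤ) (r : ℕ) (β : Fin m → ℤ) : Finset (Fin m) :=
  {i | V i % p = r ∧ Good (β + Pi.single i (p : ℤ)) ∧
    ∀ j, V j ≡ V i [ZMOD p] → V j < V i → β j = V j}

theorem card_Ch_vac (hp : 0 < p) (hV : Vac p V) (r : ℕ) (β : Fin m → ℤ) :
    #{i ∈ Ch p V r β | β i = V i} ≤ 1 := by
  have key : ∀ i j, i ∈ Ch p V r β → β i = V i → j ∈ Ch p V r β → β j = V j → ¬ V i < V j := by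
    intro i j hi hi' hj hj' hlt
    simp only [Ch, mem_filter, mem_univ, true_and] at hi hj
    have h1 : V i ≡ V j [ZMOD p] := hi.1.trans hj.1.symm
    have h2 := add_le_of_modEq h1 hlt
    have h3 := hV.good.nn i
    have h4 : V i + p ≡ V j [ZMOD p] := (Int.modEq_iff_dvd.2 (by simp)).trans h1
    obtain ⟨l, hl⟩ := hV.down_all hp (by omega) h2 h4
    have h5 : β l = V l := by
      rcases h2.eq_or_lt with h6 | h6
      · rwa [hV.good.inj (hl.trans h6)]
      · exact hj.2.2 l (hl ▸ h4) (by omega)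
    have h6 : l ≠ i := fun e => by rw [e] at hl; omega
    apply h6
    apply hi.2.1.inj
    simp [h6, h5, hl, hi']
  refine card_le_one.2 fun i hi j hj => by_contra fun e => ?_
  rw [mem_filter] at hi hj
  rcases lt_or_gt_of_ne (hV.good.inj.ne e) with h | h
  · exact key i j hi.1 hi.2 hj.1 hj.2 h
  · exact key j i hj.1 hj.2 hi.1 hi.2 h

theorem card_Ch_ne (hV : Vac p V) (r : ℕ) (β : Fin m → ℤ) :
    #{i ∈ Ch p V r β | ¬ β i = V i} ≤ 1 := by
  refine card_le_one.2 fun i hi j hj => by_contra fun e => ?_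
  simp only [Ch, mem_filter, mem_univ, true_and] at hi hj
  have h1 : V i ≡ V j [ZMOD p] := hi.1.1.trans hj.1.1.symm
  rcases lt_or_gt_of_ne (hV.good.inj.ne e) with h | h
  · exact hi.2 (hj.1.2.2 i h1 h)
  · exact hj.2 (hi.1.2.2 j h1.symm h)

theorem card_TT_sdiff (hp : 0 < p) (hV : Vac p V) (w r : ℕ) :
    #(TT p V (w + 1) r \ TT p V (w + 1) (r + 1)) ≤
      2 * #(TT p V w r \ TT p V w (r + 1)) + #(TT p V w (r + 1)) := by
  classical
  have h1 : TT p V (w + 1) r \ TT p V (w + 1) (r + 1) ⊆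
      (TT p V w r).biUnion fun β => (Ch p V r β).image fun i => β + Pi.single i (p : ℤ) := by
    intro β hβ
    rw [mem_sdiff, mem_TT hp hV, mem_TT hp hV] at hβ
    obtain ⟨⟨h1, h2, h3⟩, h4⟩ := hβ
    obtain ⟨i₀, h5, h6⟩ : ∃ i, V i % p = r ∧ β i ≠ V i := by
      by_contra hc
      push Not at hc
      refine h4 ⟨h1, h2, fun i hi => ?_⟩
      push_cast at hi
      rcases (Int.lt_add_one_iff.1 hi).eq_or_lt with h | h
      · exact hc i h
      · exact h3 i h
    obtain ⟨i, h7, h8, h9⟩ := exists_min_ne (p := p) h6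
    have h10 : V i % p = r := Eq.trans h7 h5
    refine mem_biUnion.2 ⟨β - Pi.single i (p : ℤ), (mem_TT hp hV).2
      ⟨h1.move hp (h1.good_move hp hV h8 h9), ?_, fun j hj => ?_⟩, mem_image.2 ⟨i, ?_, by simp⟩⟩
    · rw [sum_sub_single, h2]; push_cast; ring
    · rw [sub_single_ne _ fun e => by rw [e] at hj; omega, h3 j hj]
    · simp only [Ch, mem_filter, mem_univ, true_and, sub_add_cancel]
      refine ⟨h10, h1.good, fun j hj hlt => ?_⟩
      rw [sub_single_ne _ fun e => by rw [e] at hlt; omega, h9 j hj hlt]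
  refine (card_le_card h1).trans (card_biUnion_le.trans ?_)
  rw [← sum_sdiff (TT_succ_subset hp hV w r), mul_comm]
  refine add_le_add (sum_le_card_nsmul _ _ _ fun β _ => card_image_le.trans ?_)
    ((sum_le_card_nsmul _ _ 1 fun β hβ => card_image_le.trans ?_).trans (by simp))
  · rw [← card_filter_add_card_filter_not fun i => β i = V i]
    exact add_le_add (card_Ch_vac hp hV r β) (card_Ch_ne hV r β)
  · refine le_trans (card_le_card fun i hi => mem_filter.2 ⟨hi, ?_⟩) (card_Ch_vac hp hV r β)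
    simp only [Ch, mem_filter, mem_univ, true_and] at hi
    exact ((mem_TT hp hV).1 hβ).2.2 i (by push_cast; omega)

theorem card_TT_split (hp : 0 < p) (hV : Vac p V) (w r : ℕ) :
    #(TT p V w r) = #(TT p V w r \ TT p V w (r + 1)) + #(TT p V w (r + 1)) :=
  (card_sdiff_add_card_eq_card (TT_succ_subset hp hV w r)).symm

theorem card_TT_succ (hp : 0 < p) (hV : Vac p V) (w j r : ℕ) (h : r + j = p) :
    #(TT p V (w + 1) r) ≤ (j + 1) * #(TT p V w r) := by
  induction j generalizing r with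
  | zero => rw [show r = p from h, card_TT_top hp hV]; exact Nat.zero_le _
  | succ j ih =>
    have h1 := ih (r + 1) (by omega)
    have h2 := card_TT_sdiff hp hV w r
    rw [card_TT_split hp hV (w + 1), card_TT_split hp hV w r]
    nlinarith

theorem card_TT_one (hp : 0 < p) (hV : Vac p V) (j r : ℕ) (h : r + j = p) :
    #(TT p V 1 r) ≤ j := by
  induction j generalizing r with
  | zero => rw [show r = p from h, card_TT_top hp hV]
  | succ j ih =>
    have h1 := ih (r + 1) (by omega)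
    have h2 := card_TT_sdiff hp hV 0 r
    have h3 := card_TT_split hp hV 0 r
    rw [card_TT_zero hp hV, card_TT_zero hp hV] at h3
    rw [card_TT_zero hp hV] at h2
    rw [card_TT_split hp hV 1]
    simp only [zero_add] at h2
    omega

theorem card_TT_lt (hp : 0 < p) (hV : Vac p V) (w : ℕ) : #(TT p V (w + 1) 1) < p ^ (w + 1) := by
  induction w with
  | zero => have := card_TT_one hp hV (p - 1) 1 (by omega); rw [zero_add, pow_one]; omega
  | succ w ih =>
    have := card_TT_succ hp hV (w + 1) (p - 1) 1 (by omega)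
    rw [Nat.sub_add_cancel hp] at this
    rw [pow_succ']
    exact this.trans_lt (Nat.mul_lt_mul_of_pos_left ih hp)

end Cfsg.Agent.Block.Sym
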