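import Mathlib
import Cfsg.Agent.Block.Sym5

/-! Values on products of `p`-cycles and the spanning set of regular parts. -/

namespace Cfsg.Agent.Block.Sym

open Finset Equiv Equiv.Perm Cfsg Cfsg.Agent.Char

variable {m p : ℕ} {V β : Fin m → ℤ}

section
variable {α : Type*} [Fintype α] [DecidableEq α]

theorem card_moved (σ : Perm α) {x : α} (hx : σ x ≠ x) :
    #{y | σ y ≠ y} = #(orb σ x) + #{y | res (orb σ x) σ y ≠ y} := by
  rw [card_filter_split (orb σ x), filter_true_of_mem (p := fun y => σ y ≠ y) fun y hy e =>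
    hx ((mem_orb.1 hy).apply_eq_self_iff.2 e)]
  simp only [ne_eq, Subtype.ext_iff, res_orb_apply]

theorem res_pow_eq_one {σ : Perm α} {n : ℕ} (h : σ ^ n = 1) (x : α) : res (orb σ x) σ ^ n = 1 := by
  ext y
  rw [res_pow_apply fun _ => apply_mem_orb, h]; rfl

theorem card_orb_of_pow (hp : p.Prime) {σ : Perm α} (h : σ ^ p = 1) {x : α} (hx : σ x ≠ x) :
    #(orb σ x) = p :=
  ((Nat.dvd_prime hp).1 (pow_apply_eq_iff.1 (by rw [h]; rfl))).resolve_left
    (mt card_orb_eq_one.1 hx)

theorem chi_one_eq (β : Fin m → ℤ) {n : ℕ} (h : Fintype.card α = n) :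
    chi β (1 : Perm α) = chi β (1 : Perm (Fin n)) := by
  rw [← chi_congr (Fintype.equivFinOfCardEq h)]
  congr 1
  ext x
  simp

end

universe u

theorem chi_cycles (hp : p.Prime) (hV : Vac p V) (n w : ℕ) : ∀ (α : Type u) [Fintype α]
    [DecidableEq α] (σ : Perm α) (β : Fin m → ℤ), Pat p V β → ∑ i, β i = ∑ i, V i + p * w →
      σ ^ p = 1 → #{y | σ y ≠ y} = p * w → Fintype.card α = p * w + n →
        ∃ N : ℕ, 0 < N ∧ chi β σ = N * chi V (1 : Perm (Fin n)) := by
  induction w with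
  | zero =>
    intro α _ _ σ β h1 h2 _ h4 h5
    rw [h1.eq_of_sum hp.pos hV (by simpa using h2)]
    have : σ = 1 := Equiv.ext fun y => by
      simpa using filter_eq_empty_iff.1 (card_eq_zero.1 h4) (mem_univ y)
    exact ⟨1, one_pos, by rw [this, chi_one_eq V (by simpa using h5), Nat.cast_one, one_mul]⟩
  | succ w ih =>
    intro α _ _ σ β h1 h2 h3 h4 h5
    obtain ⟨x, hx⟩ := card_pos.1 (h4 ▸ Nat.mul_pos hp.pos w.succ_pos)
    have hx : σ x ≠ x := (mem_filter.1 hx).2
    have h6 := card_orb_of_pow hp h3 hx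
    have h7 := card_moved σ hx
    have h8 := card_compl_subtype (orb σ x)
    have key : ∀ i, ∃ N : ℕ, (Good (β - Pi.single i (p : ℤ)) → 0 < N) ∧
        chi (β - Pi.single i (p : ℤ)) (res (orb σ x) σ) = N * chi V (1 : Perm (Fin n)) := by
      intro i
      by_cases hg : Good (β - Pi.single i (p : ℤ))
      · obtain ⟨N, h9, h10⟩ := ih _ (res (orb σ x) σ) _ (h1.move hp.pos hg)
          (by rw [sum_sub_single, h2]; push_cast; ring) (res_pow_eq_one h3 x)
          (by rw [mul_add] at h4; omega) (by rw [mul_add] at h5; omega)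
        exact ⟨N, fun _ => h9, h10⟩
      · exact ⟨0, fun h => absurd h hg, by rw [chi_of_not_good hg, Nat.cast_zero, zero_mul]⟩
    choose N hN1 hN2 using key
    obtain ⟨i, hi⟩ := h1.exists_move hp.pos hV (by
      rintro rfl
      have : 0 < (p : ℤ) * (w + 1 : ℕ) := by have := hp.pos; positivity
      omega)
    refine ⟨∑ i, N i, sum_pos' (fun _ _ => Nat.zero_le _) ⟨i, mem_univ _, hN1 i hi⟩, ?_⟩
    rw [chi_mn β σ x, h6, Nat.cast_sum, sum_mul]
    exact sum_congr rfl fun i _ => hN2 i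

theorem NN_le_aux (hp : 0 < p) (hV : Vac p V) (n : ℕ) : ∀ (α : Type u) [Fintype α]
    [DecidableEq α] (σ : Perm α) (β : Fin m → ℤ), Fintype.card α = n → Cont p β V →
      chi β σ ≠ 0 → ∑ i, V i + NN p σ ≤ ∑ i, β i := by
  induction n using Nat.strong_induction_on with
  | _ n ih =>
  intro α _ _ σ β hn hc h
  by_cases h0 : NN p σ = 0
  · obtain ⟨v, hv⟩ := exists_pat hp hV (by_contra fun e => h (chi_of_not_good e σ)) hc
    rw [h0, Nat.cast_zero, add_zero, ← Equiv.sum_comp v β]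
    exact sum_le_sum fun i _ => hv.le hp hV i
  · obtain ⟨x, hx⟩ := card_pos.1 (Nat.pos_of_ne_zero h0)
    have hx : p ∣ #(orb σ x) := (mem_filter.1 hx).2
    rw [chi_mn β σ x] at h
    obtain ⟨i, -, hi⟩ := exists_ne_zero_of_sum_ne_zero h
    have h1 := card_compl_subtype (orb σ x)
    have h2 := card_orb_pos σ x
    obtain ⟨v, hv⟩ := hc
    have := ih _ (by omega) _ _ _ rfl ⟨v, fun j =>
      (sub_single_modEq β i (Int.natCast_dvd_natCast.2 hx) _).trans (hv j)⟩ hi
    rw [sum_sub_single] at this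
    rw [NN_eq hx]
    push_cast
    omega

variable {α : Type*} [Fintype α] [DecidableEq α]

theorem NN_le (hp : 0 < p) (hV : Vac p V) (h : Pat p V β) {w : ℕ}
    (hw : ∑ i, β i = ∑ i, V i + p * w) {σ : Perm α} (h0 : chi β σ ≠ 0) : NN p σ ≤ p * w := by
  have := NN_le_aux hp hV _ α σ β rfl h.cont h0
  rw [hw] at this
  exact_mod_cast le_of_add_le_add_left this

theorem two_sum_ge (I : Finset (Fin m)) {b : Fin m → ℤ} (h1 : Set.InjOn b I)
    (h2 : ∀ i ∈ I, 0 ≤ b i) : (#I : ℤ) * (#I - 1) ≤ 2 * ∑ i ∈ I, b i := by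
  have hg : Good fun k => b (I.equivFin.symm k) :=
    ⟨fun k l e => I.equivFin.symm.injective (Subtype.ext (h1 (coe_mem _) (coe_mem _) e)),
      fun k => h2 _ (coe_mem _)⟩
  have := hg.sum_le
  rw [Equiv.sum_comp I.equivFin.symm fun i => b i, sum_coe_sort I b] at this
  rw [← two_sum_del]
  omega

/-- Total position of the beads on runner `0`. -/
def mu (p : ℕ) (β : Fin m → ℤ) : ℤ := ∑ i, if (p : ℤ) ∣ β i then β i else 0

theorem mu_eq (h : ∀ i, β i ≡ V i [ZMOD p]) : mu p β = ∑ i with (p : ℤ) ∣ V i, β i := by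
  rw [sum_filter]
  exact sum_congr rfl fun i _ => if_congr (h i).dvd_iff rfl rfl

theorem runner_rel (hp : p.Prime) (hm : Fintype.card α ≤ m) (hg : Good β) {σ : Perm α}
    (hσ : ¬ p ∣ orderOf σ) (I : Finset (Fin m)) (hI : ∀ i ∈ I, (p : ℤ) ∣ β i) :
    ((2 * ∑ i ∈ I, β i / p - #I * (#I - 1) : ℤ) : ℂ) * chi β σ =
      -2 * ∑ i ∈ I, ∑ k ∈ range (β i / p).toNat, ∑ j ∈ Iᶜ,
        chi (β - Pi.single i (p * (k + 1) : ℤ) + Pi.single j (p * (k + 1) : ℤ)) σ := by
  have hp0 : (0 : ℤ) < p := by exact_mod_cast hp.pos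
  set β₀ : Fin m → ℤ := fun i => β i % p
  have h1 := L0 I (fun b => chi (β₀ + (p : ℤ) • b) σ) (fun i hi j hj hij b => by
    rw [← chi_swap _ hij]
    congr 1
    have : β₀ ∘ swap i j = β₀ := comp_swap_of_eq (by
      simp only [β₀, Int.emod_eq_zero_of_dvd (hI i hi), Int.emod_eq_zero_of_dvd (hI j hj)])
    conv_lhs => rw [← this]
    rfl) (fun i => β i / p) fun i _ => Int.ediv_nonneg (hg.nn i) hp0.le
  have h2 : β₀ + (p : ℤ) • (fun i => β i / p) = β := funext fun i => Int.emod_add_mul_ediv _ _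
  simp only [smul_add, smul_sub, ← add_assoc, ← add_sub_assoc, h2] at h1
  rw [← h1, neg_mul, ← mul_neg, ← sum_neg_distrib]
  congr 1
  refine sum_congr rfl fun i _ => ?_
  rw [← sum_neg_distrib]
  refine sum_congr rfl fun k hk => ?_
  have h3 := sum_chi_add hm (γ := β - Pi.single i (p * (k + 1) : ℤ)) (k := p * (k + 1)) (s := σ)
    (fun j => ?_) (Nat.mul_pos hp.pos k.succ_pos) fun x e =>
      hσ ((Dvd.intro _ e.symm).trans (card_orb_dvd σ x))
  · rw [← sum_add_sum_compl I] at h3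
    push_cast at h3
    rw [eq_neg_iff_add_eq_zero, ← h3]
    simp only [← Pi.single_smul', smul_eq_mul]
  · by_cases hj : j = i
    · have h4 : (k : ℤ) + 1 ≤ β i / p := by have := mem_range.1 hk; omega
      have h5 := (Int.le_ediv_iff_mul_le hp0).1 h4
      rw [hj, sub_single_self]
      linarith
    · rw [sub_single_ne _ hj]; exact hg.nn j

theorem reg_mem_span (hp : p.Prime) (hm : Fintype.card α ≤ m) (hV : Vac p V) (w N : ℕ) :
    ∀ β : Fin m → ℤ, Cont p β V → ∑ i, β i = ∑ i, V i + p * w → mu p β < N →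
      pRegularPart p (chi β : Perm α → ℂ) ∈ Submodule.span ℂ
        ((fun γ : Fin m → ℤ => pRegularPart p (chi γ : Perm α → ℂ)) '' TT p V w 1) := by
  have hp0 : (0 : ℤ) < p := by exact_mod_cast hp.pos
  have hz : ∀ β : Fin m → ℤ, ¬ Good β → pRegularPart p (chi β : Perm α → ℂ) = 0 := fun β h => by
    rw [show (chi β : Perm α → ℂ) = 0 from funext (chi_of_not_good h), ← pRegL_apply, map_zero]
  induction N with
  | zero =>
    intro β _ _ h
    rw [hz β fun hg => ?_]
    · exact zero_mem _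
    · refine absurd h (not_lt.2 (sum_nonneg fun i _ => ?_))
      split_ifs
      · exact hg.nn i
      · rfl
  | succ N ih =>
    have key : ∀ β : Fin m → ℤ, Pat p V β → ∑ i, β i = ∑ i, V i + p * w → mu p β < (N + 1 : ℕ) →
        pRegularPart p (chi β : Perm α → ℂ) ∈ Submodule.span ℂ
          ((fun γ : Fin m → ℤ => pRegularPart p (chi γ : Perm α → ℂ)) '' TT p V w 1) := by
      intro β h1 h2 h3
      set I : Finset (Fin m) := {i | (p : ℤ) ∣ V i} with hI
      have hIβ : ∀ i ∈ I, (p : ℤ) ∣ β i := fun i hi => (h1.res i).dvd_iff.2 (mem_filter.1 hi).2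
      by_cases hc : (2 * ∑ i ∈ I, β i / p - #I * (#I - 1) : ℤ) = 0
      · refine Submodule.subset_span ⟨β, (mem_TT hp.pos hV).2 ⟨h1, h2, fun i hi => ?_⟩, rfl⟩
        have h4 := two_sum_ge I (b := fun i => V i / p) (fun i hi j hj e => hV.good.inj
          ((Int.ediv_left_inj (mem_filter.1 hi).2 (mem_filter.1 hj).2).1 e))
          fun i _ => Int.ediv_nonneg (hV.good.nn i) hp0.le
        have h5 : ∀ i ∈ I, V i / p ≤ β i / p := fun i _ =>
          Int.ediv_le_ediv hp0 (h1.le hp.pos hV i)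
        have h6 := sum_le_sum h5
        have hi : i ∈ I := by
          have := Int.emod_nonneg (V i) hp0.ne'
          exact mem_filter.2 ⟨mem_univ _, Int.dvd_of_emod_eq_zero (by push_cast at hi; omega)⟩
        exact ((Int.ediv_left_inj (mem_filter.1 hi).2 (hIβ i hi)).1
          ((sum_eq_sum_iff_of_le h5).1 (by omega) i hi)).symm
      · have h4 : pRegularPart p (chi β : Perm α → ℂ) =
            (-2 / ((2 * ∑ i ∈ I, β i / p - #I * (#I - 1) : ℤ) : ℂ)) •
            ∑ i ∈ I, ∑ k ∈ range (β i / p).toNat, ∑ j ∈ Iᶜ, pRegularPart p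
              (chi (β - Pi.single i (p * (k + 1) : ℤ) + Pi.single j (p * (k + 1) : ℤ))) := by
          funext σ
          simp only [Pi.smul_apply, Finset.sum_apply, smul_eq_mul]
          by_cases hσ : p ∣ orderOf σ
          · simp only [pRegularPart_of_dvd hσ, sum_const_zero, mul_zero]
          · simp only [pRegularPart_of_not_dvd hσ]
            rw [div_mul_eq_mul_div, ← runner_rel hp hm h1.good hσ I hIβ, mul_div_cancel_left₀]
            exact_mod_cast hc
        rw [h4]
        refine Submodule.smul_mem _ _ (sum_mem fun i hi => sum_mem fun k _ => sum_mem fun j hj => ?_)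
        have h5 : ∀ l, (β - Pi.single i (p * (k + 1) : ℤ) + Pi.single j (p * (k + 1) : ℤ) :
            Fin m → ℤ) l ≡ V l [ZMOD p] := fun l =>
          ((add_single_modEq _ j (Dvd.intro _ rfl) l).trans
            (sub_single_modEq _ i (Dvd.intro _ rfl) l)).trans (h1.res l)
        refine ih _ ⟨1, h5⟩ (by rw [sum_add_single, sum_sub_single, h2]; ring) ?_
        rw [mu_eq h1.res, ← hI] at h3
        rw [mu_eq h5, ← hI]
        simp only [Pi.add_apply, Pi.sub_apply, sum_add_distrib, sum_sub_distrib, Pi.single_apply,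
          sum_ite_eq', if_pos hi, if_neg (mem_compl.1 hj)]
        have : 0 < (p : ℤ) * (k + 1) := by positivity
        push_cast at h3
        omega
    intro β h1 h2 h3
    by_cases hg : Good β
    · obtain ⟨v, hv⟩ := exists_pat hp.pos hV hg h1
      have h4 := key _ hv ((Equiv.sum_comp v β).trans h2)
        ((Equiv.sum_comp v fun i => if (p : ℤ) ∣ β i then β i else 0).trans_lt h3)
      have h5 : (chi β : Perm α → ℂ) = sg v • chi (β ∘ v) := funext fun σ => by
        rw [Pi.smul_apply, chi_comp, smul_eq_mul, ← mul_assoc, sg_mul_self, one_mul]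
      rw [h5, pReg_smul]
      exact Submodule.smul_mem _ _ h4
    · rw [hz β hg]
      exact zero_mem _

/-- The characters of a given content and weight. -/
def cls (α : Type*) [Fintype α] [DecidableEq α] (p : ℕ) (V : Fin m → ℤ) (w : ℕ) :
    Set (IrrCharacter (Perm α)) :=
  {χ | ∃ (β : Fin m → ℤ) (ε : ℂ), Pat p V β ∧ ∑ i, β i = ∑ i, V i + p * w ∧ (ε = 1 ∨ ε = -1) ∧
    (χ : Perm α → ℂ) = ε • chi β}

theorem regSpan_cls_le (hp : p.Prime) (hm : Fintype.card α ≤ m) (hV : Vac p V) (w : ℕ) :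
    regSpan p (cls α p V w) ≤ Submodule.span ℂ
      ((fun γ : Fin m → ℤ => pRegularPart p (chi γ : Perm α → ℂ)) '' TT p V w 1) := by
  refine Submodule.span_le.2 ?_
  rintro _ ⟨χ, ⟨β, ε, h1, h2, -, h3⟩, rfl⟩
  simp only [h3, pReg_smul]
  exact Submodule.smul_mem _ _ (reg_mem_span hp hm hV w _ β h1.cont h2
    (Int.lt_toNat.1 (Nat.lt_succ_self _) |>.trans_le' (Int.self_le_toNat _)))

theorem blockRank_cls_le (hp : p.Prime) (hm : Fintype.card α ≤ m) (hV : Vac p V) (w : ℕ) :
    blockRank p (cls α p V w) ≤ #(TT p V w 1) := by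
  classical
  refine (Submodule.finrank_mono (regSpan_cls_le hp hm hV w)).trans ?_
  rw [← coe_image]
  exact (finrank_span_finset_le_card _).trans card_image_le

theorem exists_cls {M : Ideal AlgInt} (hM : IsPModular p M) (hm : Fintype.card α ≤ m)
    {B : Set (IrrCharacter (Perm α))} (hB : IsPBlock M B) :
    ∃ (V : Fin m → ℤ) (w n : ℕ), Vac p V ∧ Fintype.card α = p * w + n ∧
      ∑ i, V i = n + ∑ i, del m i ∧ B ⊆ cls α p V w := by
  obtain ⟨χ, hχ⟩ := block_nonempty hM hB
  obtain ⟨β, ε, h1, h2, h3, h4⟩ := exists_beta hm χ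
  obtain ⟨V, hV, h5⟩ := exists_vac hM.1.pos h1
  obtain ⟨w, hw⟩ := h5.exists_wt hM.1.pos hV
  have h6 := hV.good.sum_le
  refine ⟨V, w, Fintype.card α - p * w, hV, ?_, ?_, fun ψ hψ => ?_⟩
  · have : ((p * w : ℕ) : ℤ) ≤ Fintype.card α := by push_cast; omega
    omega
  · have : ((p * w : ℕ) : ℤ) = p * w := by push_cast; rfl
    omega
  · obtain ⟨γ, η, h7, h8, h9, h10⟩ := exists_beta hm ψ
    obtain ⟨v, hv⟩ := exists_pat hM.1.pos hV h7
      ((cont_of_block hM hm hB hψ hχ h10 h4).trans h5.cont)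
    refine ⟨γ ∘ v, η * sg v, hv, (Equiv.sum_comp v γ).trans (by omega), ?_, ?_⟩
    · rcases h9 with rfl | rfl <;> rcases sg_eq v with h | h <;> simp [h]
    · funext σ
      rw [h10, Pi.smul_apply, Pi.smul_apply, chi_comp, smul_eq_mul, smul_eq_mul, mul_assoc,
        ← mul_assoc (sg v), sg_mul_self, one_mul]

end Cfsg.Agent.Block.Sym
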