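import Mathlib
import Cfsg.Prelude.Def_CaseTheorems
import Cfsg.Agent.Block.Sym6

/-! Defect groups of blocks of symmetric groups contain `w` disjoint `p`-cycles. -/

namespace Cfsg.Agent.Block.Sym

open Finset Equiv Equiv.Perm Cfsg Cfsg.Agent.Char Cfsg.Agent.LocalEven

section
variable {G : Type*} [Group G] [Finite G] {p : ℕ} {M : Ideal AlgInt}

theorem le_defect_of_char (hM : IsPModular p M) {B : Set (IrrCharacter G)} (hB : IsPBlock M B)
    {D : Subgroup G} (hD : IsDefectGroup p M B D) {χ : IrrCharacter G} (hχ : χ ∈ B) {g u : G}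
    (hu : IsPPart p g u) (h : (χ : G → ℂ) g ≠ 0) {K : Subgroup G} (hK : IsPGroup p K)
    (hKC : ∀ k ∈ K, Commute k u) (hN : ∀ a, Commute a u → ∀ k ∈ K, a * k * a⁻¹ ∈ K) :
    ∃ x, cj x K ≤ D := by
  haveI := Fact.mk hM.1
  have hV := isV_blockIdem hM hB
  have h0 : br (Subgroup.zpowers u) (eB M B) ≠ 0 := fun e =>
    h (char_eq_zero_of_br hM hV hχ hu e)
  set C := Subgroup.centralizer (Subgroup.zpowers u : Set G)
  have hC : ∀ a, a ∈ C ↔ Commute a u := fun a => by
    rw [show C = _ from centralizer_zpowers u, Subgroup.mem_centralizer_singleton_iff]; rfl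
  haveI : (K.subgroupOf C).Normal := ⟨fun k hk a => hN a ((hC a).1 a.2) k hk⟩
  have h1 := trunc_idem hM (Q := K.subgroupOf C) hK.comap_subtype
    ((isCentral_eB (M := M) B).resTo C) (by
      rw [← br_mul (p_eq_zero_F hM) (pPart_isPGroup hu) ((isCentral_eB B).invUnder _)
        ((isCentral_eB B).invUnder _), eB_mul_self hV])
  obtain ⟨c, hc, h2⟩ := br_ne_zero_iff.1 h0
  refine (br_eB_ne_zero_iff hM hB hD hK).1 (br_ne_zero_iff.2 ⟨c, ?_, h2⟩)
  have h3 : (⟨c, hc⟩ : C) ∈ (Subgroup.centralizer (K.subgroupOf C : Set C) : Set C) := by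
    by_contra h4
    have := coeff_trunc_of_notMem (resTo C (eB M B)) h4
    rw [h1, coeff_resTo] at this
    exact h2 this
  exact (mem_centralizer_subgroupOf_iff (fun k hk => (hC k).2 (hKC k hk)) _).1 h3

omit [Finite G] in
theorem card_le_of_sect {D : Subgroup G} {s : ℕ} (hs : SectionalPRankLE p s D) {A : Type*}
    [Group A] (f : A →* G) (hf : Function.Injective f) (hD : ∀ a, f a ∈ D)
    (hc : ∀ a b : A, a * b = b * a) (he : ∀ a : A, a ^ p = 1) : Nat.card A ≤ p ^ s := by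
  set φ : A →* (⊤ : Subgroup D) ⧸ (⊥ : Subgroup (⊤ : Subgroup D)) :=
    (QuotientGroup.mk' ⊥).comp (Subgroup.topEquiv.symm.toMonoidHom.comp (f.codRestrict D hD))
  have hφ : Function.Injective φ := by
    refine (QuotientGroup.quotientBot.symm.injective).comp (Subgroup.topEquiv.symm.injective.comp ?_)
    exact (MonoidHom.injective_codRestrict _ _ _).2 hf
  rw [Nat.card_congr (MonoidHom.ofInjective hφ).toEquiv]
  refine hs ⊤ ⊥ φ.range ⟨⟨?_⟩⟩ ?_
  · rintro ⟨_, a, rfl⟩ ⟨_, b, rfl⟩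
    exact Subtype.ext (by simp only [Subgroup.coe_mul, ← map_mul, hc a b])
  · rintro _ ⟨a, rfl⟩
    rw [← map_pow, he, map_one]

theorem one_le_of_sect [Fact p.Prime] {D : Subgroup G} {s : ℕ} (hs : SectionalPRankLE p s D)
    (hD : IsPGroup p D) (h : D ≠ ⊥) : 1 ≤ s := by
  obtain ⟨x, hx, ho⟩ := exists_mem_orderOf_eq_of_ne_bot hD h
  have := card_le_of_sect hs (Subgroup.zpowers x).subtype (Subgroup.subtype_injective _)
    (fun a => (Subgroup.zpowers_le.2 hx) a.2) (fun a b => mul_comm' a b) fun a => by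
      rw [← ho, ← Nat.card_zpowers, pow_card_eq_one']
  rw [Nat.card_zpowers, ho] at this
  by_contra h0
  rw [show s = 0 by omega, pow_zero] at this
  exact absurd (Fact.out : p.Prime).one_lt (not_lt.2 this)

end

variable {α : Type*}

/-- Elements commuting with `u` and stabilising each cycle of `u`. -/
def KK (u : Perm α) : Subgroup (Perm α) where
  carrier := {g | Commute g u ∧ ∀ x, SameCycle u x (g x)}
  one_mem' := ⟨Commute.one_left u, fun _ => SameCycle.refl _ _⟩
  mul_mem' ha hb := ⟨ha.1.mul_left hb.1, fun x => (hb.2 x).trans (ha.2 _)⟩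
  inv_mem' {g} h := ⟨h.1.inv_left, fun x => by simpa using (h.2 (g⁻¹ x)).symm⟩

theorem KK_conj {u a : Perm α} (ha : Commute a u) {k : Perm α} (hk : k ∈ KK u) :
    a * k * a⁻¹ ∈ KK u := by
  refine ⟨(ha.mul_left hk.1).mul_left ha.inv_left, fun x => ?_⟩
  have := (hk.2 (a⁻¹ x)).conj (g := a)
  rw [ha.mul_inv_cancel] at this
  simpa using this

theorem KK_comm {u g h : Perm α} (hg : g ∈ KK u) (hh : h ∈ KK u) : g * h = h * g := by
  ext x
  obtain ⟨i, hi⟩ := hg.2 x
  obtain ⟨j, hj⟩ := hh.2 x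
  rw [Perm.mul_apply, Perm.mul_apply, ← hj, ← Perm.mul_apply, (hg.1.zpow_right j).eq,
    Perm.mul_apply, ← hi, ← Perm.mul_apply h, (hh.1.zpow_right i).eq, Perm.mul_apply, ← hj,
    ← Perm.mul_apply, ← Perm.mul_apply, ← zpow_add, ← zpow_add, add_comm]

theorem KK_pow {u g : Perm α} {p : ℕ} (hu : u ^ p = 1) (hg : g ∈ KK u) : g ^ p = 1 := by
  ext x
  obtain ⟨i, hi⟩ := hg.2 x
  have : ∀ n : ℕ, (g ^ n) x = ((u ^ i) ^ n) x := fun n => by
    induction n with
    | zero => rfl
    | succ n ih =>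
      rw [pow_succ', Perm.mul_apply, ih, ← Perm.mul_apply, ((hg.1.zpow_right i).pow_right n).eq,
        Perm.mul_apply, ← hi, pow_succ, Perm.mul_apply]
  rw [this, ← zpow_natCast, ← zpow_mul, mul_comm, zpow_mul, zpow_natCast, hu, one_zpow]

theorem isPGroup_KK {u : Perm α} {p : ℕ} (hu : u ^ p = 1) : IsPGroup p (KK u) := fun g =>
  ⟨1, Subtype.ext (by rw [pow_one]; exact KK_pow hu g.2)⟩

/-- Translations on disjoint copies of a group. -/
noncomputable def tl {ι A : Type*} [Group A] (e : ι × A ↪ α) : (ι → A) →* Perm α :=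
  (viaEmbeddingHom e).comp
    { toFun := fun t => prodCongrRight fun i => Equiv.mulLeft (t i)
      map_one' := by ext ⟨i, a⟩ <;> simp
      map_mul' := fun s t => by ext ⟨i, a⟩ <;> simp [mul_assoc] }

section
variable {ι A : Type*} [Group A] (e : ι × A ↪ α)

theorem tl_apply (t : ι → A) (i : ι) (a : A) : tl e t (e (i, a)) = e (i, t i * a) :=
  viaEmbedding_apply _ e _

theorem tl_apply_of_notMem (t : ι → A) {x : α} (hx : x ∉ Set.range e) : tl e t x = x :=
  viaEmbedding_apply_of_notMem _ e _ hx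

theorem tl_injective : Function.Injective (tl e) := fun s t h => funext fun i => by
  have := tl_apply e s i 1
  rw [h, tl_apply] at this
  simpa using (e.injective this).symm

theorem card_moved_tl [Fintype α] [DecidableEq α] [Fintype ι] [Fintype A] {t : ι → A}
    (ht : ∀ i, t i ≠ 1) : #{y | tl e t y ≠ y} = Fintype.card A * Fintype.card ι := by
  rw [mul_comm, ← Fintype.card_prod, ← card_univ, ← card_map e]
  congr 1
  ext y
  simp only [mem_filter, mem_univ, true_and, mem_map]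
  refine ⟨fun h => by_contra fun h' => h (tl_apply_of_notMem e t h'), ?_⟩
  rintro ⟨⟨i, a⟩, rfl⟩ h
  rw [tl_apply] at h
  exact ht i (by simpa using e.injective h)

theorem tl_mem_KK {A : Type*} [CommGroup A] (e : ι × A ↪ α) {a : A}
    (ha : ∀ b, b ∈ Subgroup.zpowers a) (t : ι → A) : tl e t ∈ KK (tl e fun _ => a) := by
  refine ⟨(Commute.all _ _).map _, fun x => ?_⟩
  by_cases hx : x ∈ Set.range e
  · obtain ⟨⟨i, b⟩, rfl⟩ := hx
    obtain ⟨k, hk⟩ := ha (t i)
    exact ⟨k, by rw [← map_zpow, tl_apply, tl_apply, ← hk]; rfl⟩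
  · rw [tl_apply_of_notMem e t hx]

end

/-- The cyclic group of order `p`. -/
abbrev Cp (p : ℕ) := Multiplicative (ZMod p)

theorem mem_zpowers_Cp {p : ℕ} (b : Cp p) : b ∈ Subgroup.zpowers (Multiplicative.ofAdd 1) := by
  obtain ⟨k, hk⟩ := ZMod.intCast_surjective b.toAdd
  exact ⟨k, by simp [← ofAdd_zsmul, hk]⟩

theorem Cp_pow {p : ℕ} (b : Cp p) : b ^ p = 1 := by
  rw [← ofAdd_toAdd b, ← ofAdd_nsmul, nsmul_eq_mul, ZMod.natCast_self, zero_mul, ofAdd_zero]

/-- The product of the `w` standard `p`-cycles. -/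
noncomputable abbrev uu {α : Type*} {p w : ℕ} (e : Fin w × Cp p ↪ α) : Perm α :=
  tl e fun _ => Multiplicative.ofAdd 1

theorem tl_pow {α ι : Type*} {p : ℕ} (e : ι × Cp p ↪ α) (t : ι → Cp p) : tl e t ^ p = 1 := by
  rw [← map_pow, show t ^ p = 1 from funext fun i => Cp_pow _, map_one]

variable [Fintype α] [DecidableEq α] {m p : ℕ} [hp : Fact p.Prime]

theorem card_moved_uu {w : ℕ} (e : Fin w × Cp p ↪ α) : #{y | uu e y ≠ y} = p * w := by
  rw [card_moved_tl e fun _ => by simp]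
  simp

theorem cls_ne_zero {V : Fin m → ℤ} {w n : ℕ} (hV : Vac p V) (hn : Fintype.card α = p * w + n)
    (hs : ∑ i, V i = n + ∑ i, del m i) {χ : IrrCharacter (Perm α)} (hχ : χ ∈ cls α p V w)
    {σ : Perm α} (h1 : σ ^ p = 1) (h2 : #{y | σ y ≠ y} = p * w) : (χ : Perm α → ℂ) σ ≠ 0 := by
  obtain ⟨β, ε, h3, h4, h5, h6⟩ := hχ
  obtain ⟨N, h7, h8⟩ := chi_cycles hp.out hV n w α σ β h3 h4 h1 h2 hn
  rw [h6, Pi.smul_apply, smul_eq_mul, h8]
  exact mul_ne_zero (by rcases h5 with rfl | rfl <;> simp)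
    (mul_ne_zero (Nat.cast_ne_zero.2 h7.ne') (chi_one_ne_zero hV.good (by simpa using hs)))

omit [DecidableEq α] in
theorem exists_emb {w n : ℕ} (hn : Fintype.card α = p * w + n) : Nonempty (Fin w × Cp p ↪ α) :=
  Function.Embedding.nonempty_of_card_le (by simp [hn, mul_comm])

omit hp in
theorem isPPart_of_pow (hp : p.Prime) {G : Type*} [Group G] {u : G} (h : u ^ p = 1) :
    IsPPart p u u := by
  refine isPPart_self hp ?_
  rcases (Nat.dvd_prime hp).1 (orderOf_dvd_of_pow_eq_one h) with h | h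
  · exact ⟨0, by rw [h, pow_zero]⟩
  · exact ⟨1, by rw [h, pow_one]⟩

theorem KK_le_defect {M : Ideal AlgInt} (hM : IsPModular p M) {B : Set (IrrCharacter (Perm α))}
    (hB : IsPBlock M B) {D : Subgroup (Perm α)} (hD : IsDefectGroup p M B D) {V : Fin m → ℤ}
    {w n : ℕ} (hV : Vac p V) (hn : Fintype.card α = p * w + n)
    (hs : ∑ i, V i = n + ∑ i, del m i) (hBV : B ⊆ cls α p V w) (e : Fin w × Cp p ↪ α) :
    ∃ x, cj x (KK (uu e)) ≤ D := by
  obtain ⟨χ, hχ⟩ := block_nonempty hM hB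
  exact le_defect_of_char hM hB hD hχ (isPPart_of_pow hM.1 (tl_pow e _))
    (cls_ne_zero hV hn hs (hBV hχ) (tl_pow e _) (card_moved_uu e)) (isPGroup_KK (tl_pow e _))
    (fun k hk => hk.1) fun a ha k hk => KK_conj ha hk

theorem sym_rank_lt {M : Ideal AlgInt} (hM : IsPModular p M) {B : Set (IrrCharacter (Perm α))}
    (hB : IsPBlock M B) {D : Subgroup (Perm α)} (hD : IsDefectGroup p M B D) (hD1 : D ≠ ⊥) {s : ℕ}
    (hs : SectionalPRankLE p s D) : blockRank p B < p ^ s := by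
  obtain ⟨V, w, n, hV, hn, hs', hBV⟩ := exists_cls hM le_rfl hB
  have h1 : blockRank p B ≤ #(TT p V w 1) :=
    (Submodule.finrank_mono (Submodule.span_mono (Set.image_mono hBV))).trans
      (blockRank_cls_le hM.1 le_rfl hV w)
  rcases w with _ | w
  · rw [card_TT_zero hM.1.pos hV] at h1
    exact h1.trans_lt (Nat.one_lt_pow
      (Nat.one_le_iff_ne_zero.1 (one_le_of_sect hs (isDefectGroup_isPGroup hD) hD1)) hM.1.one_lt)
  · obtain ⟨e⟩ := exists_emb hn
    obtain ⟨x, hx⟩ := KK_le_defect hM hB hD hV hn hs' hBV e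
    have := card_le_of_sect hs ((MulAut.conj x).toMonoidHom.comp (tl e))
      ((MulAut.conj x).injective.comp (tl_injective e))
      (fun t => hx ⟨_, tl_mem_KK e mem_zpowers_Cp t, rfl⟩) mul_comm
      fun t => funext fun i => Cp_pow _
    simp only [Nat.card_eq_fintype_card, Fintype.card_pi, Fintype.card_multiplicative, ZMod.card,
      prod_const, card_univ, Fintype.card_fin] at this
    exact (h1.trans_lt (card_TT_lt hM.1.pos hV w)).trans_le this

end Cfsg.Agent.Block.Sym
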