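import Mathlib
import Cfsg.Agent.Block.Sym7

/-! The degree formula and the value on a transposition. -/

namespace Cfsg.Agent.Block.Sym

open Finset Equiv Equiv.Perm

variable {m : ℕ}

/-- Reciprocal factorial. -/
noncomputable def ifac (z : ℤ) : ℂ := if 0 ≤ z then ((z.toNat.factorial : ℕ) : ℂ)⁻¹ else 0

theorem ifac_sub_one (z : ℤ) : ifac (z - 1) = z * ifac z := by
  unfold ifac
  rcases lt_trichotomy z 0 with h | rfl | h
  · rw [if_neg (by omega), if_neg (by omega), mul_zero]
  · simp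
  · obtain ⟨n, rfl⟩ : ∃ n : ℕ, z = n + 1 := ⟨(z - 1).toNat, by omega⟩
    rw [if_pos (by omega), if_pos (by omega), show ((n : ℤ) + 1 - 1).toNat = n by omega,
      show ((n : ℤ) + 1).toNat = n + 1 by omega, Nat.factorial_succ]
    have : (n : ℂ) + 1 ≠ 0 := by exact_mod_cast n.succ_ne_zero
    push_cast
    field_simp

theorem ifac_sub_mul (n j : ℕ) : ifac ((n : ℤ) - j) * n.factorial = n.descFactorial j := by
  unfold ifac
  split_ifs with h
  · have h1 : j ≤ n := by omega
    rw [show ((n : ℤ) - j).toNat = n - j by omega, ← Nat.factorial_mul_descFactorial h1,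
      Nat.cast_mul, inv_mul_cancel_left₀ (Nat.cast_ne_zero.2 (Nat.factorial_ne_zero _))]
  · rw [Nat.descFactorial_of_lt (by omega), zero_mul, Nat.cast_zero]

/-- Reciprocal multifactorial. -/
noncomputable def gg (a : Fin m → ℤ) : ℂ := ∏ i, ifac (a i)

theorem gg_sub (a : Fin m → ℤ) (i : Fin m) : gg (a - Pi.single i 1) = a i * gg a := by
  unfold gg
  rw [← mul_prod_erase _ _ (mem_univ i), ← mul_prod_erase _ (fun i => ifac (a i)) (mem_univ i),
    sub_single_self, ifac_sub_one, mul_assoc]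
  congr 2
  exact prod_congr rfl fun j hj => by rw [sub_single_ne _ (ne_of_mem_erase hj)]

theorem gg_sub_two (a : Fin m → ℤ) (i : Fin m) :
    gg (a - Pi.single i 2) = (a i - 1) * a i * gg a := by
  have : a - Pi.single i 2 = a - Pi.single i 1 - Pi.single i 1 := by
    rw [sub_sub, ← Pi.single_add]; rfl
  rw [this, gg_sub, gg_sub, sub_single_self, mul_assoc]
  push_cast
  rfl

theorem res_one {α : Type*} [Fintype α] [DecidableEq α] (O : Finset α) : res O 1 = 1 := by
  ext y
  rw [res_apply fun _ => Iff.rfl]; rfl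

universe u

theorem phi_one_aux (n : ℕ) : ∀ (α : Type u) [Fintype α] [DecidableEq α], Fintype.card α = n →
    ∀ a : Fin m → ℤ, ∑ i, a i = n → phi a (1 : Perm α) = n.factorial * gg a := by
  induction n with
  | zero =>
    intro α _ _ hn a ha
    haveI : IsEmpty α := Fintype.card_eq_zero_iff.1 hn
    by_cases h : ∀ i, 0 ≤ a i
    · obtain rfl : a = 0 := funext fun i =>
        (sum_eq_zero_iff_of_nonneg fun i _ => h i).1 ha i (mem_univ i)
      rw [phi, card_eq_one.2]
      · simp [gg, ifac]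
      · refine ⟨isEmptyElim, eq_singleton_iff_unique_mem.2 ⟨mem_cols.2 ⟨isEmptyElim, by simp⟩, ?_⟩⟩
        exact fun _ _ => Subsingleton.elim _ _
    · push Not at h
      obtain ⟨i, hi⟩ := h
      rw [phi_of_neg hi, gg, prod_eq_zero (mem_univ i) (if_neg (not_le.2 hi)), mul_zero]
  | succ n ih =>
    intro α _ _ hn a ha
    obtain ⟨x⟩ : Nonempty α := Fintype.card_pos_iff.1 (by omega)
    have h1 : #(orb (1 : Perm α) x) = 1 := card_orb_eq_one.2 rfl
    have h2 := card_compl_subtype (orb (1 : Perm α) x)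
    rw [phi_mn a 1 x, res_one, h1, sum_congr rfl fun i _ => ih _ (by omega) _
      (by rw [sum_sub_single, ha]; push_cast; ring)]
    simp only [Nat.cast_one, gg_sub, ← mul_sum, ← sum_mul]
    rw [← Int.cast_sum, ha, Nat.factorial_succ]
    push_cast
    ring

/-- The determinant of reciprocal factorials. -/
noncomputable def Dg (β δ : Fin m → ℤ) : ℂ := ∑ w : Perm (Fin m), sg w * gg (β - δ ∘ w)

variable {α : Type*} [Fintype α] [DecidableEq α]

theorem chi_one {β : Fin m → ℤ} (h : ∑ i, β i = Fintype.card α + ∑ i, del m i) :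
    chi β (1 : Perm α) = (Fintype.card α).factorial * Dg β (del m) := by
  rw [chi, Dg, mul_sum]
  refine sum_congr rfl fun w _ => ?_
  rw [phi_one_aux _ α rfl, mul_left_comm]
  simp only [Pi.sub_apply, Function.comp, sum_sub_distrib, Equiv.sum_comp w (del m)]
  omega

theorem Dg_comp (β δ : Fin m → ℤ) (v : Perm (Fin m)) : Dg β (δ ∘ v) = sg v * Dg β δ := by
  unfold Dg
  rw [mul_sum, ← Equiv.sum_comp (Equiv.mulLeft v⁻¹)]
  refine sum_congr rfl fun w _ => ?_
  rw [coe_mulLeft, sg_mul, sg_inv, mul_assoc]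
  congr 3
  ext i
  simp

theorem Dg_add_single (β : Fin m → ℤ) (j : Fin m) :
    ((del m j : ℂ) - (m - 1)) * Dg β (del m + Pi.single j 1) = 0 := by
  by_cases h : (j : ℕ) + 1 < m
  · have hne : j ≠ ⟨j + 1, h⟩ := fun e => by simpa using congrArg Fin.val e
    have := Dg_comp β (del m + Pi.single j 1) (swap j ⟨j + 1, h⟩)
    rw [comp_swap_of_eq (by simp [del, hne.symm]), sg_swap hne] at this
    rw [show Dg β (del m + Pi.single j 1) = 0 by linear_combination this / 2, mul_zero]
  · have : (m : ℂ) = (j : ℕ) + 1 := by exact_mod_cast (by omega : m = j + 1)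
    rw [this]
    simp [del]

theorem sum_Dg_add (β : Fin m → ℤ) (h : Fin m → ℂ) :
    ∑ j, h j * Dg β (del m + Pi.single j 1) = ∑ w : Perm (Fin m),
      sg w * ((∑ i, h (w i) * (β - del m ∘ w : Fin m → ℤ) i) * gg (β - del m ∘ w)) := by
  simp only [Dg, mul_sum, sum_mul]
  rw [sum_comm]
  refine sum_congr rfl fun w _ => ?_
  rw [← Equiv.sum_comp w]
  refine sum_congr rfl fun i _ => ?_
  have : β - (del m + Pi.single (w i) 1) ∘ w = β - del m ∘ w - Pi.single i 1 := by
    funext l
    simp [Pi.single_apply, sub_sub]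
  rw [this, gg_sub]
  ring

theorem sum_Dg_two {β : Fin m → ℤ} {N : ℤ} (h : ∑ i, β i = N + ∑ i, del m i) :
    ∑ i, Dg (β - Pi.single i 2) (del m) =
      ((∑ i, β i ^ 2 - ∑ i, del m i ^ 2 - (2 * m - 1) * N : ℤ) : ℂ) * Dg β (del m) := by
  have h1 := sum_Dg_add β fun j => (del m j : ℂ) - (m - 1)
  rw [sum_eq_zero fun j _ => Dg_add_single β j] at h1
  simp only [Dg]
  rw [sum_comm, mul_sum, ← add_zero (∑ _, _), ← mul_zero 2, h1, mul_sum, ← sum_add_distrib]
  refine sum_congr rfl fun w _ => ?_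
  simp only [sub_right_comm β _ (del m ∘ w), gg_sub_two, ← mul_sum, ← sum_mul]
  have h2 : ∑ i, (((β - del m ∘ w : Fin m → ℤ) i - 1) * (β - del m ∘ w : Fin m → ℤ) i +
      2 * ((del m (w i) - (m - 1)) * (β - del m ∘ w : Fin m → ℤ) i)) =
      ∑ i, β i ^ 2 - ∑ i, del m i ^ 2 - (2 * m - 1) * N := by
    rw [show N = ∑ i, β i - ∑ i, del m i by omega, ← Equiv.sum_comp w (del m),
      ← Equiv.sum_comp w fun i => del m i ^ 2, ← sum_sub_distrib, ← sum_sub_distrib, mul_sum,
      ← sum_sub_distrib]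
    exact sum_congr rfl fun i _ => by simp only [Pi.sub_apply, Function.comp]; ring
  rw [← h2]
  push_cast
  rw [sum_add_distrib, ← mul_sum]
  ring

theorem sq_sum_of_swap {β : Fin m → ℤ} (hβ : Good β)
    (h : ∑ i, β i = Fintype.card α + ∑ i, del m i) {x y : α} (hxy : x ≠ y)
    (h0 : chi β (swap x y) = 0) :
    ∑ i, β i ^ 2 = ∑ i, del m i ^ 2 + (2 * m - 1) * Fintype.card α := by
  have h1 : #(orb (swap x y) x) = 2 := card_orb_of_pow Nat.prime_two (by simp [sq])
    (by simpa using hxy.symm)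
  have h2 := card_compl_subtype (orb (swap x y) x)
  have h3 : res (orb (swap x y) x) (swap x y) = 1 := by
    ext z
    rw [res_orb_apply, swap_apply_of_ne_of_ne]
    · rfl
    · exact fun e => z.2 (Set.mem_of_eq_of_mem (s := (orb _ x : Set α)) e (self_mem_orb _ _))
    · refine fun e => z.2 (Set.mem_of_eq_of_mem (s := (orb _ x : Set α)) e ?_)
      simpa using apply_mem_orb.2 (self_mem_orb (swap x y) x)
  rw [chi_mn β _ x, h3, h1, sum_congr rfl fun i _ => chi_one (by rw [sum_sub_single]; omega),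
    ← mul_sum, Nat.cast_ofNat, sum_Dg_two h] at h0
  have h4 := chi_one_ne_zero hβ h
  rw [chi_one h] at h4
  have h5 := (mul_eq_zero.1 ((mul_eq_zero.1 h0).resolve_left
    (Nat.cast_ne_zero.2 (Nat.factorial_ne_zero _)))).resolve_right (right_ne_zero_of_mul h4)
  rw [Int.cast_eq_zero] at h5
  omega

theorem Dg_mul_prod {β : Fin m → ℤ} (hβ : ∀ i, 0 ≤ β i) :
    Dg β (del m) * ∏ i, ((β i).toNat.factorial : ℂ) =
      ((∏ i, ∏ j ∈ Ioi i, (β j - β i) : ℤ) : ℂ) := by
  push_cast
  rw [← Matrix.det_vandermonde, Matrix.det_eval_matrixOfPolynomials_eq_det_vandermonde _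
    (fun j => descPochhammer ℂ j) (fun j => descPochhammer_natDegree ℂ j)
    (fun j => monic_descPochhammer ℂ j), ← Matrix.det_transpose, Matrix.det_apply', Dg, sum_mul]
  refine sum_congr rfl fun w _ => ?_
  rw [mul_assoc, gg, ← prod_mul_distrib]
  congr 1
  refine prod_congr rfl fun i _ => ?_
  obtain ⟨n, hn⟩ := Int.eq_ofNat_of_zero_le (hβ i)
  simp only [Matrix.transpose_apply, Matrix.of_apply, Pi.sub_apply, Function.comp, del, hn,
    Int.toNat_natCast, Int.cast_natCast, descPochhammer_eval_eq_descFactorial, ifac_sub_mul]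

theorem chi_one_mul {β : Fin m → ℤ} (hβ : ∀ i, 0 ≤ β i)
    (h : ∑ i, β i = Fintype.card α + ∑ i, del m i) :
    chi β (1 : Perm α) * ∏ i, ((β i).toNat.factorial : ℂ) =
      (Fintype.card α).factorial * ((∏ i, ∏ j ∈ Ioi i, (β j - β i) : ℤ) : ℂ) := by
  rw [chi_one h, mul_assoc, Dg_mul_prod hβ]

end Cfsg.Agent.Block.Sym
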