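import Mathlib
import Cfsg.Agent.Block.Sym8

/-! Associate characters; counting self-associate characters of given weight. -/

namespace Cfsg.Agent.Block.Sym

open Finset Equiv Equiv.Perm Cfsg Cfsg.Agent.Char

variable {m p : ℕ} {V β γ : Fin m → ℤ}

section
variable {α : Type*} [Fintype α] [DecidableEq α]

/-- The sign character. -/
def sn (σ : Perm α) : ℂ := ((sign σ : ℤ) : ℂ)

theorem sn_eq (σ : Perm α) : sn σ = 1 ∨ sn σ = -1 := by
  rcases Int.units_eq_one_or (sign σ) with h | h <;> simp [sn, h]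

theorem sn_mul_self (σ : Perm α) : sn σ * sn σ = 1 := by
  rcases sn_eq σ with h | h <;> simp [h]

theorem sn_one : sn (1 : Perm α) = 1 := by simp [sn]

theorem isIrr_sn_mul {χ : Perm α → ℂ} (h : IsIrrCharacter (Perm α) χ) :
    IsIrrCharacter (Perm α) fun σ => sn σ * χ σ :=
  isIrr_linear_mul h ((Units.map (Int.castRingHom ℂ).toMonoidHom).comp sign)

theorem pm_mul {a b : ℂ} (ha : a = 1 ∨ a = -1) (hb : b = 1 ∨ b = -1) : a * b = 1 ∨ a * b = -1 := by
  rcases ha with rfl | rfl <;> rcases hb with rfl | rfl <;> simp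

theorem pm_mul_self {a : ℂ} (ha : a = 1 ∨ a = -1) : a * a = 1 := by
  rcases ha with rfl | rfl <;> simp

theorem pm_ne_zero {a : ℂ} (ha : a = 1 ∨ a = -1) : a ≠ 0 := by
  rcases ha with rfl | rfl <;> simp

variable (α) in
/-- `chi γ` is the associate of `chi β` up to sign. -/
def As (β γ : Fin m → ℤ) : Prop :=
  ∃ ε : ℂ, (ε = 1 ∨ ε = -1) ∧ ∀ σ : Perm α, chi γ σ = ε * (sn σ * chi β σ)

theorem As.congr {α' : Type*} [Fintype α'] [DecidableEq α'] (h : As α β γ)
    (hc : Fintype.card α' = Fintype.card α) : As α' β γ := by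
  obtain ⟨ε, h1, h2⟩ := h
  refine ⟨ε, h1, fun σ => ?_⟩
  have := h2 ((Fintype.equivOfCardEq hc).permCongr σ)
  rwa [chi_congr, chi_congr, sn, sign_permCongr] at this

theorem As.symm (h : As α β γ) : As α γ β := by
  obtain ⟨ε, h1, h2⟩ := h
  refine ⟨ε, h1, fun σ => ?_⟩
  rw [h2]
  linear_combination (-(chi β σ) * sn σ * sn σ) * pm_mul_self h1 - chi β σ * sn_mul_self σ

theorem As.good (h : As α β γ) (hβ : Good β) (hs : ∑ i, β i = Fintype.card α + ∑ i, del m i) :
    Good γ := by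
  obtain ⟨ε, h1, h2⟩ := h
  by_contra hc
  have := h2 1
  rw [chi_of_not_good hc, sn_one, one_mul] at this
  exact mul_ne_zero (pm_ne_zero h1) (chi_one_ne_zero hβ hs) this.symm

theorem as_self_iff (hβ : Good β) (hs : ∑ i, β i = Fintype.card α + ∑ i, del m i) :
    As α β β ↔ ∀ σ : Perm α, sign σ = -1 → chi β σ = 0 := by
  constructor
  · rintro ⟨ε, h1, h2⟩ σ hσ
    have h3 := h2 1
    rw [sn_one, one_mul, eq_comm, mul_eq_right₀ (chi_one_ne_zero hβ hs)] at h3
    have := h2 σ
    simp only [h3, sn, hσ, Units.val_neg, Units.val_one, Int.cast_neg, Int.cast_one] at this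
    linear_combination this / 2
  · refine fun h => ⟨1, Or.inl rfl, fun σ => ?_⟩
    rcases Int.units_eq_one_or (sign σ) with h1 | h1
    · simp [sn, h1]
    · simp [h σ h1]

theorem as_of_sum (hβ : Good β) (hs : ∑ i, β i = Fintype.card α + ∑ i, del m i)
    (h : ∑ σ : Perm α, chi γ σ * (sn σ * chi β σ) ≠ 0) : As α β γ := by
  obtain ⟨ε, χ, h1, h2⟩ := exists_irr hβ hs
  obtain ⟨η, ψ, h3, h4⟩ := exists_irr (α := α) (β := γ)
    (by_contra fun e => h (by simp [chi_of_not_good e]))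
    (by_contra fun e => h (by simp [chi_of_sum e]))
  have h5 : (ψ : Perm α → ℂ) = fun σ => sn σ * (χ : Perm α → ℂ) σ := by
    refine isIrr_eq_of_classInner_ne_zero ψ.2 (isIrr_sn_mul χ.2) fun e => h ?_
    have h6 : (fun σ => sn σ * chi β σ) = ε • fun σ => sn σ * (χ : Perm α → ℂ) σ := by
      funext σ; simp [h2, mul_left_comm]
    have h7 := card_mul_classInner (chi γ : Perm α → ℂ) fun σ => sn σ * chi β σ
    rw [h6, h4, classInner_smul_left, classInner_smul_right, e, ← h4] at h7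
    simpa [conj_chi, sn] using h7.symm
  refine ⟨η * ε, pm_mul h3 h1, fun σ => ?_⟩
  rw [h4, h5, h2]
  simp only [Pi.smul_apply, smul_eq_mul]
  linear_combination (-(η * sn σ * (χ : Perm α → ℂ) σ)) * pm_mul_self h1

theorem GG_sub_ne (hβ : Good β) {k : ℤ} (hk : k ≠ 0) {i j : Fin m} (h : j ≠ i) :
    GG (β - Pi.single j k) (β - Pi.single i k) = 0 := by
  by_contra hc
  obtain ⟨w, hw⟩ := exists_of_GG hc
  have := congrFun hw (w.symm j)
  rw [Function.comp, apply_symm_apply, sub_single_ne _ h] at this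
  by_cases hl : w.symm j = j
  · rw [hl, sub_single_self] at this; omega
  · rw [sub_single_ne _ hl] at this; exact hl (hβ.inj this)

theorem As.child (h : As α β γ) (hβ : Good β) {k N : ℕ} (hk : 0 < k) (hN : Fintype.card α = N + k)
    (hs : ∑ i, β i = Fintype.card α + ∑ i, del m i) {i : Fin m}
    (hi : Good (β - Pi.single i (k : ℤ))) :
    ∃ j, As (Fin N) (β - Pi.single i (k : ℤ)) (γ - Pi.single j (k : ℤ)) := by
  obtain ⟨ε, h1, h2⟩ := h
  obtain ⟨O, -, hO⟩ := exists_subset_card_eq (s := (univ : Finset α)) (n := k) (by simp [hN])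
  have hne : O.Nonempty := card_pos.1 (by omega)
  haveI : Nonempty {y // y ∈ O} := hne.to_subtype
  obtain ⟨ρ, hρ⟩ := exists_tr (α := {y // y ∈ O})
  have hc := card_compl_subtype O
  have hs' : ∀ l, ∑ j, (β - Pi.single l (k : ℤ) : Fin m → ℤ) j =
      Fintype.card {y // y ∉ O} + ∑ i, del m i := fun l => by rw [sum_sub_single]; omega
  have h3 : ∑ j, ∑ τ : Perm {y // y ∉ O}, chi (γ - Pi.single j (k : ℤ)) τ *
      (sn τ * chi (β - Pi.single i (k : ℤ)) τ) = ε * sn ρ * ∑ j, ∑ τ : Perm {y // y ∉ O},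
        chi (β - Pi.single j (k : ℤ)) τ * chi (β - Pi.single i (k : ℤ)) τ := by
    rw [sum_comm]
    conv_rhs => rw [sum_comm, mul_sum]
    refine sum_congr rfl fun τ _ => ?_
    have h4 := h2 (glue O ρ τ)
    rw [chi_glue _ hne hρ, chi_glue _ hne hρ, hO,
      show sn (glue O ρ τ) = sn ρ * sn τ by
        rw [sn, glue, sign_subtypeCongr, Units.val_mul, Int.cast_mul]; unfold sn; congr!] at h4
    rw [← sum_mul, ← sum_mul, h4]
    linear_combination (ε * sn ρ * (∑ j, chi (β - Pi.single j (k : ℤ)) τ) *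
      chi (β - Pi.single i (k : ℤ)) τ) * sn_mul_self τ
  have h4 : ∑ j, ∑ τ : Perm {y // y ∉ O}, chi (β - Pi.single j (k : ℤ)) τ *
      chi (β - Pi.single i (k : ℤ)) τ = (Fintype.card {y // y ∉ O}).factorial := by
    rw [sum_congr rfl fun j _ => orth (hs' j) _, sum_eq_single i (fun j _ hj => by
      rw [FF, GG_sub_ne hβ (by omega) hj, ite_self, mul_zero]) (by simp), FF, if_pos hi.nn,
      GG_self hi.inj, mul_one]
  rw [h4] at h3
  obtain ⟨j, -, hj⟩ := exists_ne_zero_of_sum_ne_zero (h3.trans_ne (mul_ne_zero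
    (pm_ne_zero (pm_mul h1 (sn_eq ρ))) (Nat.cast_ne_zero.2 (Nat.factorial_ne_zero _))))
  exact ⟨j, (as_of_sum hi (hs' i) hj).congr (by simp; omega)⟩

theorem Pat.comp_same (hp : 0 < p) (hV : Vac p V) (h : Pat p V γ) {w : Perm (Fin m)}
    (h' : Pat p V (γ ∘ w)) : γ ∘ w = γ := by
  have hr : ∀ i, V (w i) ≡ V i [ZMOD p] := fun i => (h.res _).symm.trans (h'.res i)
  have h1 : Pat p V (V ∘ w) := ⟨hV.good.comp w, hr, fun i j h1 h2 => by
    have h3 := h'.ord i j h1 h2
    have hne : w i ≠ w j := fun e => by rw [w.injective e] at h2; omega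
    refine (lt_or_gt_of_ne (hV.good.inj.ne hne)).resolve_right fun h4 => ?_
    have := h.ord _ _ ((hr j).trans (h1.symm.trans (hr i).symm)) h4
    simp only [Function.comp] at h3
    omega⟩
  have h2 := h1.eq_of_sum hp hV (Equiv.sum_comp w V)
  funext i
  exact congrArg γ (hV.good.inj (congrFun h2 i))

theorem Pat.same_of_chi (hp : 0 < p) (hV : Vac p V) {γ' : Fin m → ℤ} (h : Pat p V γ)
    (h' : Pat p V γ') (hs : ∑ i, γ i = Fintype.card α + ∑ i, del m i) {ε : ℂ}
    (he : (chi γ : Perm α → ℂ) = ε • chi γ') : γ = γ' := by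
  have h1 := inner_chi (α := α) hs γ
  rw [FF, if_pos h.good.nn, GG_self h.good.inj] at h1
  nth_rw 2 [he] at h1
  rw [classInner_smul_right, inner_chi hs, FF, if_pos h.good.nn] at h1
  obtain ⟨w, rfl⟩ := exists_of_GG (right_ne_zero_of_mul (h1.trans_ne one_ne_zero))
  exact h'.comp_same hp hV h

theorem As.unique (hp : 0 < p) (hV : Vac p V) {γ' : Fin m → ℤ} (h1 : As α β γ) (h2 : As α β γ')
    (h : Pat p V γ) (h' : Pat p V γ') (hs : ∑ i, γ i = Fintype.card α + ∑ i, del m i) :
    γ = γ' := by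
  obtain ⟨ε, h3, h4⟩ := h1
  obtain ⟨η, h5, h6⟩ := h2
  refine h.same_of_chi hp hV h' hs (ε := ε * η) (funext fun σ => ?_)
  rw [Pi.smul_apply, smul_eq_mul, h4, h6]
  linear_combination (-(ε * (sn σ * chi β σ))) * pm_mul_self h5

theorem As.sq_sum (h : As α β β) (hβ : Good β) (hs : ∑ i, β i = Fintype.card α + ∑ i, del m i)
    (h2 : 2 ≤ Fintype.card α) :
    ∑ i, β i ^ 2 = ∑ i, del m i ^ 2 + (2 * m - 1) * Fintype.card α := by
  obtain ⟨x, y, hxy⟩ := Fintype.exists_pair_of_one_lt_card h2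
  exact sq_sum_of_swap hβ hs hxy ((as_self_iff hβ hs).1 h _ (sign_swap hxy))

end

theorem sum_sq_sub_single (β : Fin m → ℤ) (i : Fin m) (k : ℤ) :
    ∑ j, (β - Pi.single i k : Fin m → ℤ) j ^ 2 = ∑ j, β j ^ 2 - 2 * k * β i + k ^ 2 := by
  rw [← add_sum_erase _ _ (mem_univ i), ← add_sum_erase _ (fun j => β j ^ 2) (mem_univ i),
    sum_congr rfl fun j hj => by rw [sub_single_ne _ (ne_of_mem_erase hj)], sub_single_self]
  ring

open Classical in
/-- Self-associate patterns. -/
noncomputable def SA (p : ℕ) (V : Fin m → ℤ) (n w : ℕ) : Finset (Fin m → ℤ) :=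
  {β ∈ TT p V w 0 | As (Fin (p * w + n)) β β}

theorem mem_SA (hp : 0 < p) (hV : Vac p V) {n w : ℕ} : β ∈ SA p V n w ↔
    Pat p V β ∧ ∑ i, β i = ∑ i, V i + p * w ∧ As (Fin (p * w + n)) β β := by
  classical
  rw [SA, mem_filter, mem_TT hp hV, and_assoc, and_assoc, and_congr_right_iff]
  refine fun _ => and_congr_right fun _ => and_iff_right fun i hi => ?_
  exact absurd (Int.emod_nonneg (V i) (show (p : ℤ) ≠ 0 by omega)) (not_le.2 (by exact_mod_cast hi))

theorem SA_parent (hp : p.Prime) (hV : Vac p V) {n w : ℕ} (hs : ∑ i, V i = n + ∑ i, del m i)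
    {β' : Fin m → ℤ} (h : β ∈ SA p V n (w + 1)) (h' : β' ∈ SA p V n (w + 1)) {i j : Fin m}
    (hg : Good (β - Pi.single i (p : ℤ)))
    (e : β - Pi.single i (p : ℤ) = β' - Pi.single j (p : ℤ)) : β = β' := by
  rw [mem_SA hp.pos hV] at h h'
  have h2 : 2 ≤ Fintype.card (Fin (p * (w + 1) + n)) := by
    have := hp.two_le
    rw [Fintype.card_fin]; nlinarith
  have h3 := h.2.2.sq_sum h.1.good (by rw [h.2.1, hs, Fintype.card_fin]; push_cast; ring) h2
  have h4 := h'.2.2.sq_sum h'.1.good (by rw [h'.2.1, hs, Fintype.card_fin]; push_cast; ring) h2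
  have h5 := sum_sq_sub_single β i p
  rw [e, sum_sq_sub_single, h3, h4] at h5
  have h6 : β' j = β i := by
    have : (p : ℤ) ≠ 0 := by exact_mod_cast hp.ne_zero
    exact mul_left_cancel₀ this (by linarith)
  have h7 : i = j := hg.inj (by rw [sub_single_self, e, sub_single_self, h6])
  subst h7
  exact sub_left_injective e

open Classical in
/-- Beads whose move can start a canonical double step. -/
noncomputable def Op (p : ℕ) (V η : Fin m → ℤ) : Finset (Fin m) :=
  {i | Good (η + Pi.single i (p : ℤ)) ∧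
    ∀ l, toLex (V l % p, V l) < toLex (V i % p, V i) → η l = V l}

theorem card_Op_vac (hp : 0 < p) (hV : Vac p V) (η : Fin m → ℤ) :
    #{i ∈ Op p V η | η i = V i} ≤ p := by
  classical
  refine (card_le_card (t := (range p).biUnion fun r => {i ∈ Ch p V r η | η i = V i})
    fun i hi => ?_).trans (card_biUnion_le.trans ((sum_le_card_nsmul _ _ 1 fun r _ =>
      card_Ch_vac hp hV r η).trans (by simp)))
  simp only [Op, Ch, mem_filter, mem_univ, true_and, mem_biUnion, mem_range] at hi ⊢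
  have h1 := Int.emod_nonneg (V i) (show (p : ℤ) ≠ 0 by omega)
  have h2 := Int.emod_lt_of_pos (V i) (show (0 : ℤ) < p by omega)
  exact ⟨(V i % p).toNat, by omega, ⟨by omega, hi.1.1, fun j h3 h4 =>
    hi.1.2 j (Prod.Lex.toLex_lt_toLex.2 (Or.inr ⟨h3, h4⟩))⟩, hi.2⟩

theorem card_Op (hp : 0 < p) (hV : Vac p V) (η : Fin m → ℤ) : #(Op p V η) ≤ p + 1 := by
  rw [← card_filter_add_card_filter_not fun i => η i = V i]
  refine add_le_add (card_Op_vac hp hV η) (card_le_one.2 fun i hi j hj => by_contra fun e => ?_)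
  simp only [Op, mem_filter, mem_univ, true_and] at hi hj
  have : toLex (V i % p, V i) ≠ toLex (V j % p, V j) := fun e' =>
    e (hV.good.inj (congrArg (fun x => (ofLex x).2) e'))
  rcases lt_or_gt_of_ne this with h | h
  · exact hi.2 (hj.1.2 i h)
  · exact hj.2 (hi.1.2 j h)

theorem card_Op_self (hp : 0 < p) (hV : Vac p V) : #(Op p V V) ≤ p := by
  simpa using card_Op_vac hp hV V

theorem card_SA_zero (hp : 0 < p) (hV : Vac p V) (n : ℕ) : SA p V n 0 ⊆ {V} := fun β h => by
  rw [mem_SA hp hV] at h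
  exact mem_singleton.2 (h.1.eq_of_sum hp hV (by simpa using h.2.1))

theorem ne_of_wt (hp : 0 < p) {w : ℕ} (h : ∑ i, β i = ∑ i, V i + p * (w + 1 : ℕ)) : β ≠ V := by
  rintro rfl
  have : 0 < (p : ℤ) * (w + 1 : ℕ) := by positivity
  omega

theorem card_SA_one (hp : p.Prime) (hV : Vac p V) {n : ℕ} (hs : ∑ i, V i = n + ∑ i, del m i) :
    #(SA p V n 1) ≤ 1 := by
  have key : ∀ β ∈ SA p V n 1, ∃ i, β - Pi.single i (p : ℤ) = V := fun β h => by
    rw [mem_SA hp.pos hV] at h
    obtain ⟨i, hi⟩ := h.1.exists_move hp.pos hV (ne_of_wt (w := 0) hp.pos h.2.1)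
    exact ⟨i, (h.1.move hp.pos hi).eq_of_sum hp.pos hV (by rw [sum_sub_single, h.2.1]; simp)⟩
  refine card_le_one.2 fun β h β' h' => ?_
  obtain ⟨i, hi⟩ := key β h
  obtain ⟨j, hj⟩ := key β' h'
  exact SA_parent hp hV hs h h' (hi ▸ hV.good) (hi.trans hj.symm)

theorem SA_step (hp : p.Prime) (hV : Vac p V) {n w : ℕ} (hs : ∑ i, V i = n + ∑ i, del m i)
    (h : β ∈ SA p V n (w + 2)) : (∃ i, β - Pi.single i (p : ℤ) ∈ SA p V n (w + 1)) ∨
      ∃ η ∈ SA p V n w, ∃ i ∈ Op p V η, Pat p V (β - Pi.single i (p : ℤ)) ∧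
        As (Fin (p * (w + 1) + n)) (η + Pi.single i (p : ℤ)) (β - Pi.single i (p : ℤ)) := by
  classical
  obtain ⟨h1, h2, h3⟩ := (mem_SA hp.pos hV).1 h
  obtain ⟨i, hi, hmin⟩ := exists_min_image {i | β i ≠ V i} (fun i => toLex (V i % p, V i))
    (by simpa [filter_nonempty_iff] using Function.ne_iff.1 (ne_of_wt hp.pos h2))
  simp only [mem_filter, mem_univ, true_and] at hi hmin
  have hmin' : ∀ l, toLex (V l % p, V l) < toLex (V i % p, V i) → β l = V l := fun l hl =>
    by_contra fun e => absurd (hmin l e) (not_le.2 hl)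
  have hg := h1.good_move hp.pos hV hi fun j h3 h4 =>
    hmin' j (Prod.Lex.toLex_lt_toLex.2 (Or.inr ⟨h3, h4⟩))
  have s1 : ∀ l, ∑ j, (β - Pi.single l (p : ℤ) : Fin m → ℤ) j =
      Fintype.card (Fin (p * (w + 1) + n)) + ∑ i, del m i := fun l => by
    rw [sum_sub_single, h2, hs, Fintype.card_fin]; push_cast; ring
  have s2 : ∀ l l', ∑ j, (β - Pi.single l (p : ℤ) - Pi.single l' (p : ℤ) : Fin m → ℤ) j =
      Fintype.card (Fin (p * w + n)) + ∑ i, del m i := fun l l' => by
    rw [sum_sub_single, sum_sub_single, h2, hs, Fintype.card_fin]; push_cast; ring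
  obtain ⟨j, hj⟩ := h3.child h1.good (N := p * (w + 1) + n) hp.pos (by simp; ring)
    (by rw [h2, hs, Fintype.card_fin]; push_cast; ring) hg
  have hgj := hj.good hg (s1 i)
  by_cases hji : j = i
  · subst hji
    exact Or.inl ⟨j, (mem_SA hp.pos hV).2 ⟨h1.move hp.pos hg,
      by rw [sum_sub_single, h2]; push_cast; ring, hj⟩⟩
  right
  have hpj : V j + p ≤ β j := by
    have := (h1.move hp.pos hgj).le hp.pos hV j
    rw [sub_single_self] at this
    omega
  have hp0 := hp.pos
  have hgη : Good (β - Pi.single i (p : ℤ) - Pi.single j (p : ℤ)) := by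
    refine good_sub hg (by rw [sub_single_ne _ hji]; have := hV.good.nn j; omega) fun l hl e => ?_
    rw [sub_single_ne _ hji] at e
    by_cases hli : l = i
    · rw [hli, sub_single_self] at e
      exact hji (h1.good.inj (by omega))
    · rw [sub_single_ne _ hli] at e
      exact hl (hgj.inj (by rw [sub_single_ne _ hl, sub_single_self, e]))
  have hη := (h1.move hp.pos hg).move hp.pos hgη
  have e1 : β - Pi.single i (p : ℤ) - Pi.single j (p : ℤ) + Pi.single i (p : ℤ) =
      β - Pi.single j (p : ℤ) := by abel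
  refine ⟨_, (mem_SA hp.pos hV).2 ⟨hη, ?_, ?_⟩, i, ?_, h1.move hp.pos hg, e1 ▸ hj.symm⟩
  · rw [sum_sub_single, sum_sub_single, h2]; push_cast; ring
  · obtain ⟨k, hk⟩ := hj.child hg (N := p * w + n) hp.pos (by simp; ring) (s1 i) hgη
    obtain ⟨l, hl⟩ := hj.symm.child hgj (N := p * w + n) (i := i) hp.pos (by simp; ring) (s1 j)
      (by rwa [sub_right_comm])
    rw [sub_right_comm] at hl
    have h4 := hk.unique hp.pos hV hl ((h1.move hp.pos hgj).move hp.pos (hk.good hgη (s2 i j)))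
      ((h1.move hp.pos hg).move hp.pos (hl.good hgη (s2 i j))) (s2 j k)
    have h5 : l = j := by
      by_contra h5
      have := congrFun h4 j
      simp only [Pi.sub_apply, Pi.single_apply, if_true, if_neg hji, if_neg (Ne.symm h5)] at this
      split_ifs at this <;> omega
    rwa [h5] at hl
  · simp only [Op, mem_filter, mem_univ, true_and, e1]
    refine ⟨hgj, fun l hl => ?_⟩
    have h4 := hmin' l hl
    rw [sub_single_ne _ fun e => by rw [e] at h4; omega,
      sub_single_ne _ fun e => by rw [e] at hl; exact lt_irrefl _ hl, h4]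

theorem card_SA_le (hp : p.Prime) (hV : Vac p V) {n : ℕ} (hs : ∑ i, V i = n + ∑ i, del m i)
    (w : ℕ) : #(SA p V n (w + 2)) ≤ #(SA p V n (w + 1)) + ∑ η ∈ SA p V n w, #(Op p V η) := by
  classical
  rw [← card_sigma, ← card_disjSum]
  refine card_le_card_of_forall_subsingleton (fun β => Sum.elim
    (fun γ => ∃ i, β - Pi.single i (p : ℤ) = γ) fun x => Pat p V (β - Pi.single x.2 (p : ℤ)) ∧
      As (Fin (p * (w + 1) + n)) (x.1 + Pi.single x.2 (p : ℤ)) (β - Pi.single x.2 (p : ℤ)))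
    (fun β h => ?_) ?_
  · rcases SA_step hp hV hs h with ⟨i, hi⟩ | ⟨η, h1, i, h2, h3⟩
    · exact ⟨Sum.inl _, inl_mem_disjSum.2 hi, i, rfl⟩
    · exact ⟨Sum.inr ⟨η, i⟩, inr_mem_disjSum.2 (mem_sigma.2 ⟨h1, h2⟩), h3⟩
  · rintro (γ | ⟨η, i⟩) h β ⟨h1, h2⟩ β' ⟨h3, h4⟩
    · obtain ⟨i, hi⟩ := h2
      obtain ⟨j, hj⟩ := h4
      exact SA_parent hp hV hs h1 h3
        (hi ▸ ((mem_SA hp.pos hV).1 (inl_mem_disjSum.1 h)).1.good) (hi.trans hj.symm)
    · refine sub_left_injective (h2.2.unique hp.pos hV h4.2 h2.1 h4.1 ?_)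
      rw [sum_sub_single, ((mem_SA hp.pos hV).1 h1).2.1, hs, Fintype.card_fin]; push_cast; ring

theorem card_SA_rec (hp : p.Prime) (hV : Vac p V) {n : ℕ} (hs : ∑ i, V i = n + ∑ i, del m i)
    (w : ℕ) : #(SA p V n (w + 2)) ≤ #(SA p V n (w + 1)) + (p + 1) * #(SA p V n w) :=
  (card_SA_le hp hV hs w).trans (add_le_add_right ((sum_le_card_nsmul _ _ _ fun η _ =>
    card_Op hp.pos hV η).trans (by rw [smul_eq_mul, mul_comm])) _)

theorem card_SA_two (hp : p.Prime) (hV : Vac p V) {n : ℕ} (hs : ∑ i, V i = n + ∑ i, del m i) :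
    #(SA p V n 2) ≤ #(SA p V n 1) + p :=
  (card_SA_le hp hV hs 0).trans (add_le_add_right ((sum_le_sum_of_subset
    (card_SA_zero hp.pos hV n)).trans (by simpa using card_Op_self hp.pos hV)) _)

theorem card_SA_lt (hp : p.Prime) (h3 : 3 ≤ p) (hV : Vac p V) {n : ℕ}
    (hs : ∑ i, V i = n + ∑ i, del m i) (w : ℕ) : #(SA p V n (w + 3)) < p ^ (w + 2) := by
  have h1 := card_SA_one hp hV hs
  have h2 := card_SA_two hp hV hs
  have h4 := card_SA_rec hp hV hs 1
  have h5 := card_SA_rec hp hV hs 2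
  have h6 : #(SA p V n 3) ≤ 2 * p + 2 := by nlinarith
  induction w using Nat.twoStepInduction with
  | zero => exact h6.trans_lt (by rw [zero_add, sq]; nlinarith)
  | one =>
    have h7 : #(SA p V n 4) ≤ 2 * p + 2 + (p + 1) * (p + 1) :=
      h5.trans (add_le_add h6 (Nat.mul_le_mul_left _ (by omega)))
    refine h7.trans_lt ?_
    have : 3 * p ^ 2 ≤ p ^ (1 + 2) := by rw [pow_add, pow_one]; exact Nat.mul_le_mul_right _ h3
    nlinarith
  | more w ih1 ih2 =>
    have h7 := card_SA_rec hp hV hs (w + 3)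
    have h8 : p ^ (w + 1 + 2) = p * p ^ (w + 2) := by ring
    have h9 : p ^ (w + 2 + 2) = p * p * p ^ (w + 2) := by ring
    have h10 : (2 * p + 1) * p ^ (w + 2) ≤ p * p * p ^ (w + 2) :=
      Nat.mul_le_mul_right _ (by nlinarith)
    have h11 := Nat.mul_le_mul_left (p + 1) ih1.le
    rw [h9]
    rw [h8] at ih2
    refine h7.trans_lt ?_
    nlinarith

theorem card_TT_le (hp : 0 < p) (hV : Vac p V) (w : ℕ) : #(TT p V (w + 1) 1) ≤ (p - 1) * p ^ w := by
  induction w with
  | zero => simpa using card_TT_one hp hV (p - 1) 1 (by omega)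
  | succ w ih =>
    have := card_TT_succ hp hV (w + 1) (p - 1) 1 (by omega)
    rw [Nat.sub_add_cancel hp] at this
    rw [pow_succ', mul_left_comm]
    exact this.trans (Nat.mul_le_mul_left _ ih)

theorem Pat.mono (hp : 0 < p) (hV : Vac p V) (h : Pat p V β) {i j : Fin m}
    (h1 : V i ≡ V j [ZMOD p]) (h2 : V i ≤ V j) : β i - V i ≤ β j - V j := by
  obtain ⟨n, hn⟩ : ∃ n : ℕ, V j - V i = n := ⟨(V j - V i).toNat, by omega⟩
  induction n using Nat.strong_induction_on generalizing j with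
  | _ n ih =>
  rcases h2.eq_or_lt with h3 | h3
  · rw [hV.good.inj h3]
  · have h4 := add_le_of_modEq h1 h3
    have h5 := hV.good.nn i
    obtain ⟨l, hl⟩ := hV.down j (by omega)
    have h6 : V l ≡ V j [ZMOD p] := by rw [hl]; exact Int.modEq_iff_dvd.2 (by simp)
    have h7 := ih (n - p) (by omega) (h1.trans h6.symm) (by omega) (by omega)
    have := add_le_of_modEq ((h.res l).trans (h6.trans (h.res j).symm)) (h.ord l j h6 (by omega))
    omega

theorem card_TT_three (hV : Vac 2 V) : #(TT 2 V 3 1) ≤ 3 := by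
  classical
  have hr : ∀ β ∈ TT 2 V 3 1, ∀ i, β i ≠ V i → V i % 2 = 1 := fun β h i hi => by
    have := mt (((mem_TT two_pos hV).1 h).2.2 i) hi
    push_cast at this
    omega
  rw [← card_filter_add_card_filter_not fun β => ∃ i, β = V + Pi.single i 6]
  refine add_le_add (b := 1) (card_le_one.2 fun β h β' h' => ?_)
    (le_trans ?_ (card_TT_le two_pos hV 1))
  · obtain ⟨h1, i, rfl⟩ := mem_filter.1 h
    obtain ⟨h2, j, rfl⟩ := mem_filter.1 h'
    by_contra hne
    have hij : i ≠ j := fun e => hne (by rw [e])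
    have h3 : V i ≡ V j [ZMOD (2 : ℕ)] := (hr _ h1 i (by simp)).trans (hr _ h2 j (by simp)).symm
    rcases le_total (V i) (V j) with h4 | h4
    · simpa [hij.symm] using ((mem_TT two_pos hV).1 h1).1.mono two_pos hV h3 h4
    · simpa [hij] using ((mem_TT two_pos hV).1 h2).1.mono two_pos hV h3.symm h4
  · refine card_le_card_of_forall_subsingleton (fun β γ => ∃ i ∈ {i ∈ Ch 2 V 1 γ | γ i = V i},
      β = γ + Pi.single i ((2 : ℕ) : ℤ)) (fun β h => ?_) ?_
    · obtain ⟨h0, h4⟩ := mem_filter.1 h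
      obtain ⟨h1, h2, h3⟩ := (mem_TT two_pos hV).1 h0
      obtain ⟨i₀, h5⟩ := Function.ne_iff.1 (ne_of_wt two_pos h2)
      obtain ⟨i, -, h8, h9⟩ := exists_min_ne (p := 2) h5
      have h10 := hr β h0 i h8
      have hg := h1.good_move two_pos hV h8 h9
      refine ⟨β - Pi.single i ((2 : ℕ) : ℤ), (mem_TT two_pos hV).2 ⟨h1.move two_pos hg, ?_,
        fun j hj => ?_⟩, i, ?_, by simp⟩
      · rw [sum_sub_single, h2]; push_cast; ring
      · rw [sub_single_ne _ fun e => by rw [e] at hj; push_cast at hj; omega, h3 j hj]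
      · simp only [Ch, mem_filter, mem_univ, true_and, sub_add_cancel]
        refine ⟨⟨h10, h1.good, fun j hj hlt => ?_⟩, ?_⟩
        · rw [sub_single_ne _ fun e => by rw [e] at hlt; omega, h9 j hj hlt]
        · by_contra h11
          have h12 := add_le_of_modEq ((h1.move two_pos hg).res i).symm
            (((h1.move two_pos hg).le two_pos hV i).lt_of_ne (Ne.symm h11))
          rw [sub_single_self] at h12
          have h13 : ∀ j, j ≠ i → β j = V j := fun j hj => by
            by_contra h14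
            have h15 : V j ≡ V i [ZMOD (2 : ℕ)] := (hr β h0 j h14).trans h10.symm
            have h16 := h1.mono two_pos hV h15.symm (not_lt.1 fun e => h14 (h9 j h15 e))
            have h17 := sum_le_sum_of_subset_of_nonneg (subset_univ {i, j})
              (f := fun l => β l - V l) fun l _ _ => sub_nonneg.2 (h1.le two_pos hV l)
            rw [Finset.sum_pair hj.symm, sum_sub_distrib] at h17
            push_cast at h2 h12
            omega
          refine h4 ⟨i, funext fun j => ?_⟩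
          by_cases hj : j = i
          · rw [← add_sum_erase _ _ (mem_univ i), ← add_sum_erase _ (fun l => V l) (mem_univ i),
              show ∑ l ∈ univ.erase i, β l = ∑ l ∈ univ.erase i, V l from
                sum_congr rfl fun l hl => h13 l (ne_of_mem_erase hl)] at h2
            push_cast at h2
            simp only [hj, Pi.add_apply, Pi.single_eq_same]
            omega
          · simp [hj, h13 j hj]
    · rintro γ - β ⟨-, i, hi, rfl⟩ β' ⟨-, j, hj, rfl⟩
      rw [card_le_one.1 (card_Ch_vac two_pos hV 1 γ) i hi j hj]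

end Cfsg.Agent.Block.Sym
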