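import Mathlib
import Cfsg.Agent.Block.Sym9

/-! Defect groups of blocks of symmetric groups are Sylow subgroups of smaller symmetric groups. -/

namespace Cfsg.Agent.Block.Sym

open Finset Equiv Equiv.Perm Cfsg Cfsg.Agent.Char Cfsg.Agent.LocalEven

variable {α : Type*}

/-- Permutations supported on `F`. -/
def SymOn (F : Finset α) : Subgroup (Perm α) where
  carrier := {g | ∀ x ∉ F, g x = x}
  one_mem' _ _ := rfl
  mul_mem' ha hb x hx := by rw [Perm.mul_apply, hb x hx, ha x hx]
  inv_mem' {g} h x hx := by rw [Perm.inv_eq_iff_eq, h x hx]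

theorem card_SymOn [DecidableEq α] (F : Finset α) : Nat.card (SymOn F) = (#F).factorial := by
  refine (Nat.card_congr (Perm.subtypeEquivSubtypePerm (· ∈ F))).symm.trans ?_
  rw [Nat.card_perm, Nat.card_eq_fintype_card, Fintype.card_coe]

section
variable {ι A : Type*} [Group A]

theorem tl_mem_SymOn {F : Finset α} {e : ι × A ↪ α} (h : ∀ z, e z ∈ F) (t : ι → A) :
    tl e t ∈ SymOn F := fun _ hx => tl_apply_of_notMem e t fun ⟨z, hz⟩ => hx (hz ▸ h z)

theorem tl_conj (e : ι × A ↪ α) (x : Perm α) (t : ι → A) :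
    x * tl e t * x⁻¹ = tl (e.trans x.toEmbedding) t := by
  ext z
  by_cases hz : x⁻¹ z ∈ Set.range e
  · obtain ⟨⟨i, a⟩, h⟩ := hz
    obtain rfl : z = (e.trans x.toEmbedding) (i, a) := by simp [h]
    rw [tl_apply]
    simp [tl_apply]
  · rw [Perm.mul_apply, Perm.mul_apply, tl_apply_of_notMem e t hz, tl_apply_of_notMem]
    · simp
    · rintro ⟨y, rfl⟩
      exact hz ⟨y, by simp⟩

theorem exists_emb_le [Fintype ι] [Fintype A] {F : Finset α}
    (h : Fintype.card A * Fintype.card ι ≤ #F) : ∃ e : ι × A ↪ α, ∀ z, e z ∈ F := by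
  obtain ⟨e⟩ : Nonempty (ι × A ↪ F) :=
    Function.Embedding.nonempty_of_card_le (by simpa [mul_comm] using h)
  exact ⟨e.trans (Function.Embedding.subtype _), fun z => (e z).2⟩

theorem sign_tl [Fintype α] [DecidableEq α] [Fintype ι] [DecidableEq ι] [Fintype A] [DecidableEq A]
    (e : ι × A ↪ α) (t : ι → A) : sign (tl e t) = ∏ i, sign (Equiv.mulLeft (t i)) := by
  classical
  rw [← sign_prodCongrRight]
  exact @sign_extendDomain _ _ _ _ _ _ _ _ (fun _ => Classical.propDecidable _) _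

end

variable [Fintype α] [DecidableEq α] {m p : ℕ} [hp : Fact p.Prime]

theorem fix_of_commute {ι : Type*} [DecidableEq ι] {e : ι × Cp p ↪ α} {y : Perm α}
    (hy : ¬ p ∣ orderOf y) (h : ∀ t, Commute y (tl e t)) (z : ι × Cp p) : y (e z) = e z := by
  obtain ⟨i, a⟩ := z
  obtain ⟨b, hb⟩ : ∃ b, y (e (i, a)) = e (i, b) := by
    have h1 : tl e (Pi.mulSingle i (Multiplicative.ofAdd 1)) (y (e (i, a))) ≠ y (e (i, a)) := by
      rw [← Perm.mul_apply, ← (h _).eq, Perm.mul_apply, tl_apply]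
      simp
    obtain ⟨⟨j, b⟩, hb⟩ : y (e (i, a)) ∈ Set.range e := by_contra fun h2 =>
      h1 (tl_apply_of_notMem e _ h2)
    rw [← hb, tl_apply] at h1
    obtain rfl : j = i := by_contra fun h2 => h1 (by simp [h2])
    exact ⟨b, hb.symm⟩
  have h1 : ∀ n : ℕ, (y ^ n) (e (i, a)) = (tl e (fun _ => b / a) ^ n) (e (i, a)) := fun n => by
    induction n with
    | zero => rfl
    | succ n ih =>
      rw [pow_succ', Perm.mul_apply, ih, ← Perm.mul_apply, ((h _).pow_right n).eq, Perm.mul_apply,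
        hb, pow_succ, Perm.mul_apply, tl_apply, div_mul_cancel]
  have h2 := h1 p
  rw [tl_pow, Perm.one_apply, pow_apply_eq_iff] at h2
  exact card_orb_eq_one.1 (((Nat.dvd_prime hp.out).1 h2).resolve_right fun e' =>
    hy (e' ▸ card_orb_dvd y _))

theorem moved_le {M : Ideal AlgInt} (hM : IsPModular p M) {B : Set (IrrCharacter (Perm α))}
    (hB : IsPBlock M B) {V : Fin m → ℤ} {w : ℕ} (hV : Vac p V) (hBV : B ⊆ cls α p V w)
    {y g : Perm α} (hy : IsDefectClass M B y) {k : ℕ} (hg : g ^ p ^ k = 1) (hc : Commute g y) :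
    #{x | g x ≠ x} ≤ p * w := by
  obtain ⟨χ, hχ, h0⟩ := exists_height_zero (p := p) (block_nonempty hM hB)
  obtain ⟨j, -, hj⟩ := (Nat.dvd_prime_pow hM.1).1 (orderOf_dvd_of_pow_eq_one hg)
  have h1 := val_char_mul_defectClass hM hB hχ h0 hy ⟨j, hj⟩ hc
  obtain ⟨β, ε, h2, h3, -, h4⟩ := hBV hχ
  refine le_trans (card_le_card fun x hx => ?_) (NN_le hM.1.pos hV h2 h3 (σ := g * y) fun e => ?_)
  · refine mem_filter.2 ⟨mem_univ _, by_contra fun h5 => (mem_filter.1 hx).2 ?_⟩
    obtain ⟨l, hl⟩ := pPart_mem_zpowers_zpow hM.1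
      (isPPart_mul hc ⟨j, hj⟩ (isDefectClass_regular hM hB hy)) (k := #(orb (g * y) x))
      (by exact_mod_cast h5)
    rw [← hl]
    exact zpow_apply_eq_self_of_apply_eq_self
      (by rw [zpow_natCast]; exact pow_apply_eq_iff.2 dvd_rfl) l
  · rw [h4, Pi.smul_apply, e, smul_zero, map_zero] at h1
    exact zero_ne_one h1

theorem defect_struct {M : Ideal AlgInt} (hM : IsPModular p M) {B : Set (IrrCharacter (Perm α))}
    (hB : IsPBlock M B) {D : Subgroup (Perm α)} (hD : IsDefectGroup p M B D) {V : Fin m → ℤ}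
    {w n : ℕ} (hV : Vac p V) (hn : Fintype.card α = p * w + n)
    (hs : ∑ i, V i = n + ∑ i, del m i) (hBV : B ⊆ cls α p V w) :
    ∃ F : Finset α, p * w ≤ #F ∧ #F < p * (w + 1) ∧ IsSylowIn p D (SymOn F) := by
  obtain ⟨y, hy, hS⟩ := isDefectGroup_iff.1 hD
  have hC : ∀ g ∈ D, Commute g y := fun g hg => Subgroup.mem_centralizer_singleton_iff.1 (hS.1 hg)
  obtain ⟨e₀⟩ := exists_emb hn
  obtain ⟨x, hx⟩ := KK_le_defect hM hB hD hV hn hs hBV e₀
  set e := e₀.trans x.toEmbedding
  set F : Finset α := {x | y x = x}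
  have hF : ∀ x, x ∈ F ↔ y x = x := fun x => by simp [F]
  have he : ∀ z, e z ∈ F := fun z => (hF _).2 (fix_of_commute (isDefectClass_regular hM hB hy)
    (fun t => (hC _ (hx ⟨_, tl_mem_KK e₀ mem_zpowers_Cp t, tl_conj e₀ x t⟩)).symm) z)
  have hFC : ∀ g ∈ SymOn F, Commute g y := fun g hg => Disjoint.commute fun x =>
    (em (x ∈ F)).elim (fun h => Or.inr ((hF x).1 h)) fun h => Or.inl (hg x h)
  refine ⟨F, ?_, by_contra fun h => ?_, hS.mono (fun g hg => ?_) fun g hg =>
    Subgroup.mem_centralizer_singleton_iff.2 (hFC g hg)⟩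
  · simpa [mul_comm] using card_le_card (map_subset_iff_subset_preimage.2 fun z _ =>
      mem_preimage.2 (he z) : univ.map e ⊆ F)
  · obtain ⟨e', he'⟩ := exists_emb_le (ι := Fin (w + 1)) (A := Cp p) (F := F) (by simpa using h)
    have := moved_le hM hB hV hBV hy (k := 1) (by rw [pow_one]; exact tl_pow e' _)
      (hFC (uu e') (tl_mem_SymOn he' _))
    rw [card_moved_uu] at this
    have := hp.out.pos
    nlinarith
  · obtain ⟨k, hk⟩ := hS.2 ⟨g, hg⟩
    have hk : g ^ p ^ k = 1 := congrArg Subtype.val hk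
    have hgF : ∀ x, g x ∈ F ↔ x ∈ F := fun x => by
      rw [hF, hF, ← Perm.mul_apply, ← (hC g hg).eq, Perm.mul_apply, g.injective.eq_iff]
    set g' := glue F 1 (res F g)
    have h1 : ∀ x ∈ F, g' x = x := fun x h => by simp [g', glue, h]
    have h2 : ∀ x ∉ F, g' x = g x := fun x h => by simp [g', glue, h, res_apply hgF]
    have h3 : g' ^ p ^ k = 1 := by
      have : res F g ^ p ^ k = 1 := by
        ext z
        rw [res_pow_apply hgF, hk]; rfl
      change subtypeCongrHom (· ∈ F) (1, res F g) ^ p ^ k = 1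
      rw [← map_pow, Prod.pow_mk, one_pow, this]
      exact map_one _
    have h4 : Commute g' y := Equiv.ext fun x => by
      by_cases h : x ∈ F
      · simp [h1 x h, (hF x).1 h]
      · have : y x ∉ F := fun h' => h ((hF x).2 (y.injective ((hF _).1 h')))
        rw [Perm.mul_apply, Perm.mul_apply, h2 _ this, h2 _ h, ← Perm.mul_apply, (hC g hg).eq,
          Perm.mul_apply]
    have hu := tl_mem_SymOn he fun _ => Multiplicative.ofAdd 1
    have h5 : Commute g' (uu e) := Disjoint.commute fun x =>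
      (em (x ∈ F)).elim (fun h => Or.inl (h1 x h)) fun h => Or.inr (hu x h)
    have h6 := moved_le hM hB hV hBV hy (g := uu e * g') (k := k + 1) (by
      rw [h5.symm.mul_pow, pow_succ, pow_mul g', h3, one_pow, mul_one, mul_comm, pow_mul, tl_pow,
        one_pow]) ((hFC _ hu).mul_left h4)
    intro z hz
    by_contra h7
    refine absurd h6 (not_le.2 ?_)
    rw [← card_moved_uu e]
    refine card_lt_card ⟨fun x hx => ?_, fun h8 => ?_⟩
    · have hx := (mem_filter.1 hx).2
      have : x ∈ F := by_contra fun h => hx (hu x h)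
      exact mem_filter.2 ⟨mem_univ _, by rwa [Perm.mul_apply, h1 x this]⟩
    · have : z ∈ ({x | (uu e * g') x ≠ x} : Finset α) := mem_filter.2 ⟨mem_univ _, by
        rwa [Perm.mul_apply, h2 z hz, hu _ (mt (hgF z).1 hz)]⟩
      exact (mem_filter.1 (h8 this)).2 (hu z hz)

omit [Fintype α] in
theorem card_sylow_SymOn {D : Subgroup (Perm α)} {F : Finset α} (hD : IsSylowIn p D (SymOn F))
    {w : ℕ} (h1 : p * w ≤ #F) (h2 : #F < p * (w + 1)) :
    Nat.card D = p ^ (w.factorial.factorization p + w) := by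
  haveI : Finite (SymOn F) := Nat.finite_of_card_ne_zero (card_SymOn F ▸ Nat.factorial_ne_zero _)
  obtain ⟨r, hr⟩ := Nat.exists_eq_add_of_le h1
  rw [hD.card_eq, card_SymOn, hr, Nat.factorization_def _ hp.out,
    padicValNat_factorial_mul_add _ (by rw [mul_add] at h2; omega), padicValNat_factorial_mul,
    Nat.factorization_def _ hp.out]

end Cfsg.Agent.Block.Sym
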