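import Mathlib
import Cfsg.Agent.Block.Sym10
import Cfsg.Agent.Block.Knorr
import Cfsg.Agent.Block.KB
import Cfsg.Agent.Char.Constit

/-! Blocks of alternating groups. -/

namespace Cfsg.Agent.Block.Sym

open Finset Equiv Equiv.Perm Cfsg Cfsg.Agent.Char Cfsg.Agent.LocalEven
open scoped ComplexConjugate

variable {α : Type*} [Fintype α] [DecidableEq α] {m p : ℕ}

theorem sum_alt (f : Perm α → ℂ) :
    2 * ∑ x : alternatingGroup α, f x = ∑ g, f g + ∑ g, sn g * f g := by
  rw [← sum_subtype (p := (· ∈ alternatingGroup α)) (univ.filter (sign · = 1)) (by simp) f,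
    sum_filter, mul_sum, ← sum_add_distrib]
  refine sum_congr rfl fun g _ => ?_
  rcases Int.units_eq_one_or (sign g) with h | h <;> simp [sn, h, two_mul]

theorem norm_res [Nontrivial α] (χ : IrrCharacter (Perm α)) :
    classInner (fun x : alternatingGroup α => (χ : Perm α → ℂ) x) (fun x => (χ : Perm α → ℂ) x) =
      1 + classInner (fun σ => sn σ * (χ : Perm α → ℂ) σ) χ := by
  have h1 := sum_alt fun g => (χ : Perm α → ℂ) g * conj ((χ : Perm α → ℂ) g)
  simp only [← mul_assoc] at h1
  rw [← card_mul_classInner, ← card_mul_classInner, ← card_mul_classInner, classInner_irr_self,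
    ← two_mul_nat_card_alternatingGroup] at h1
  refine mul_left_cancel₀ (card_ne_zero (G := alternatingGroup α)) ?_
  push_cast at h1
  linear_combination h1 / 2

theorem res_eq_of_ne [Nontrivial α] {χ : IrrCharacter (Perm α)} {σ : Perm α} (hσ : sign σ = -1)
    (h : (χ : Perm α → ℂ) σ ≠ 0) {θ : IrrCharacter (alternatingGroup α)}
    (hθ : classInner (fun x : alternatingGroup α => (χ : Perm α → ℂ) x) θ ≠ 0) :
    (θ : alternatingGroup α → ℂ) = fun x : alternatingGroup α => (χ : Perm α → ℂ) x := by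
  refine (isIrr_eq_of_classInner_ne_zero (isIrr_of_isChar_norm_one (isChar_res _ (irr_isChar χ)) ?_)
    θ.2 hθ).symm
  rw [norm_res, classInner_isIrr_ne (isIrr_sn_mul χ.2) χ.2, add_zero]
  intro e
  have := congrFun e σ
  simp only [sn, hσ, Units.val_neg, Units.val_one, Int.cast_neg, Int.cast_one] at this
  exact h (by linear_combination -this / 2)

theorem res_eq_add [Nontrivial α] {χ : IrrCharacter (Perm α)}
    {θ θ' : IrrCharacter (alternatingGroup α)} (hne : θ ≠ θ')
    (hθ : classInner (fun x : alternatingGroup α => (χ : Perm α → ℂ) x) θ ≠ 0)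
    (hθ' : classInner (fun x : alternatingGroup α => (χ : Perm α → ℂ) x) θ' ≠ 0) :
    (fun x : alternatingGroup α => (χ : Perm α → ℂ) x) = θ.1 + θ'.1 := by
  classical
  obtain ⟨η, h1, h2⟩ := Constit.exists_add_add_of_inner_ne_zero (isChar_res _ (irr_isChar χ)) θ.2 θ'.2
    (fun e => hne (Subtype.ext e)) hθ hθ'
  have h3 := norm_res χ
  have h4 := isChar_add (irr_isChar θ) (irr_isChar θ')
  obtain ⟨a, ha⟩ := classInner_isChar_nat h4 h1
  obtain ⟨b, hb⟩ := classInner_isChar_nat h1 h1
  rw [h2, classInner_add_left, classInner_add_right, classInner_add_right η,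
    classInner_isChar_comm h1 h4, ha, hb, classInner_add_left, classInner_add_right,
    classInner_add_right, classInner_irr_self, classInner_irr_self, classInner_irr_ne hne,
    classInner_irr_ne hne.symm, classInner_isIrr (isIrr_sn_mul χ.2) χ.2] at h3
  have h5 : b = 0 := by
    split_ifs at h3
    · have : 1 + 0 + (0 + 1) + a + (a + b) = 1 + 1 := by exact_mod_cast h3
      omega
    · have : 1 + 0 + (0 + 1) + a + (a + b) = 1 + 0 := by exact_mod_cast h3
      omega
  rw [h2, classInner_self_eq_zero.1 (hb.trans (by rw [h5, Nat.cast_zero])), add_zero]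

theorem alt_rank_le [Nontrivial α] (hp : p.Prime) (hm : Fintype.card α ≤ m) {V : Fin m → ℤ}
    {w n : ℕ} (hV : Vac p V) (hn : Fintype.card α = p * w + n) (hs : ∑ i, V i = n + ∑ i, del m i)
    {b : Set (IrrCharacter (alternatingGroup α))} (hb : ∀ θ ∈ b, ∃ χ ∈ cls α p V w,
      classInner (fun x : alternatingGroup α => (χ : Perm α → ℂ) x) θ ≠ 0) :
    blockRank p b ≤ #(TT p V w 1) + #(SA p V n w) := by
  classical
  set R : (Perm α → ℂ) →ₗ[ℂ] (alternatingGroup α → ℂ) := LinearMap.funLeft ℂ ℂ Subtype.val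
  have hR : ∀ f : Perm α → ℂ, R (pRegularPart p f) =
      pRegularPart p fun x : alternatingGroup α => f x := fun f => funext fun x => by
    simp [R, pRegularPart_apply]
  have key : ∀ β : Fin m → ℤ, ∃ g : alternatingGroup α → ℂ, ∀ (χ : IrrCharacter (Perm α)) (ε : ℂ),
      (ε = 1 ∨ ε = -1) → (χ : Perm α → ℂ) = ε • chi β →
      ∃ θ : IrrCharacter (alternatingGroup α), θ.1 = g ∧
        classInner (fun x : alternatingGroup α => (χ : Perm α → ℂ) x) θ ≠ 0 := fun β => by
    by_cases h : ∃ θ : IrrCharacter (alternatingGroup α),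
      classInner (fun x : alternatingGroup α => chi β (x : Perm α)) θ ≠ 0
    · obtain ⟨θ, hθ⟩ := h
      refine ⟨θ.1, fun χ ε h1 h2 => ⟨θ, rfl, ?_⟩⟩
      rw [h2]
      exact (classInner_smul_left ε _ _).trans_ne (mul_ne_zero (pm_ne_zero h1) hθ)
    · refine ⟨0, fun χ ε h1 h2 => absurd ?_ h⟩
      obtain ⟨θ, hθ⟩ := exists_under (alternatingGroup α) χ
      rw [h2] at hθ
      exact ⟨θ, right_ne_zero_of_mul ((classInner_smul_left ε _ _).symm.trans_ne hθ)⟩
  choose g hg using key
  have h1 : regSpan p b ≤ (regSpan p (cls α p V w)).map R ⊔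
      Submodule.span ℂ ((SA p V n w).image fun β => pRegularPart p (g β)) := by
    refine Submodule.span_le.2 ?_
    rintro _ ⟨θ, hθ, rfl⟩
    obtain ⟨χ, hχ, h2⟩ := hb θ hθ
    have h3 : (pRegularPart p fun x : alternatingGroup α => (χ : Perm α → ℂ) x) ∈
        (regSpan p (cls α p V w)).map R := ⟨_, Submodule.subset_span ⟨χ, hχ, rfl⟩, hR _⟩
    by_cases h4 : ∀ σ, sign σ = -1 → (χ : Perm α → ℂ) σ = 0
    · obtain ⟨β, ε, h5, h6, h7, h8⟩ := hχ
      obtain ⟨θ', h9, h10⟩ := hg β χ ε h7 h8
      have h11 : pRegularPart p θ'.1 ∈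
          Submodule.span ℂ ((SA p V n w).image fun β => pRegularPart p (g β)) := by
        refine Submodule.subset_span (mem_coe.2 (mem_image.2 ⟨β, (mem_SA hp.pos hV).2
          ⟨h5, h6, As.congr (α := α) ((as_self_iff h5.good ?_).2 fun σ hσ => ?_) (by simp [hn])⟩,
          by rw [h9]⟩))
        · rw [h6, hs, hn]; push_cast; ring
        · simpa [h8, pm_ne_zero h7] using h4 σ hσ
      by_cases h12 : θ = θ'
      · exact Submodule.mem_sup_right (h12 ▸ h11)
      · rw [res_eq_add h12 h2 h10, pReg_add] at h3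
        simpa using sub_mem (Submodule.mem_sup_left h3) (Submodule.mem_sup_right h11)
    · push Not at h4
      obtain ⟨σ, h5, h6⟩ := h4
      exact Submodule.mem_sup_left (by simpa only [res_eq_of_ne h5 h6 h2] using h3)
  refine (Submodule.finrank_mono h1).trans
    ((Submodule.finrank_add_le_finrank_add_finrank _ _).trans (add_le_add ?_ ?_))
  · exact (Submodule.finrank_map_le _ _).trans (blockRank_cls_le hp hm hV w)
  · exact (finrank_span_finset_le_card _).trans card_image_le

theorem SA_odd {V : Fin m → ℤ} {w n : ℕ} (hV : Vac 2 V) (hs : ∑ i, V i = n + ∑ i, del m i)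
    (hw : Odd w) : #(SA 2 V n w) = 0 := by
  refine card_eq_zero.2 (eq_empty_of_forall_notMem fun β h => ?_)
  obtain ⟨h1, h2, h3⟩ := (mem_SA two_pos hV).1 h
  obtain ⟨e⟩ := exists_emb (α := Fin (2 * w + n)) (p := 2) (Fintype.card_fin _)
  obtain ⟨N, h4, h5⟩ := chi_cycles Nat.prime_two hV n w _ (uu e) β h1 h2 (tl_pow e _)
    (card_moved_uu e) (Fintype.card_fin _)
  rw [(as_self_iff h1.good (by rw [h2, hs, Fintype.card_fin]; push_cast; ring)).1 h3] at h5
  · exact mul_ne_zero (Nat.cast_ne_zero.2 h4.ne') (chi_one_ne_zero hV.good (by simpa using hs))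
      h5.symm
  · rw [sign_tl, prod_const, card_univ, Fintype.card_fin,
      show sign (Equiv.mulLeft (Multiplicative.ofAdd 1 : Cp 2)) = -1 by decide, hw.neg_one_pow]

theorem card_SA_even {V : Fin m → ℤ} {n : ℕ} (hV : Vac 2 V) (hs : ∑ i, V i = n + ∑ i, del m i)
    (k : ℕ) : #(SA 2 V n (2 * (k + 1))) ≤ 2 * 3 ^ k := by
  induction k with
  | zero => simpa [SA_odd hV hs odd_one] using card_SA_two Nat.prime_two hV hs
  | succ k ih =>
    have := card_SA_rec Nat.prime_two hV hs (2 * (k + 1))
    rw [SA_odd hV hs (odd_two_mul_add_one _)] at this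
    rw [pow_succ]
    exact this.trans (by omega)

variable {M : Ideal AlgInt} {b : Set (IrrCharacter (alternatingGroup α))}
  {D : Subgroup (alternatingGroup α)}

theorem alt_struct [Fact p.Prime] (hM : IsPModular p M) (hm : Fintype.card α ≤ m)
    (hb : IsPBlock M b) (hD : IsDefectGroup p M b D) :
    ∃ (B : Set (IrrCharacter (Perm α))) (V : Fin m → ℤ) (w n : ℕ) (P : Subgroup (Perm α))
      (F : Finset α), IsPBlock M B ∧ Covers B b ∧ Vac p V ∧ Fintype.card α = p * w + n ∧
      ∑ i, V i = n + ∑ i, del m i ∧ B ⊆ cls α p V w ∧ IsDefectGroup p M B P ∧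
      P ⊓ alternatingGroup α = D.map (alternatingGroup α).subtype ∧ p * w ≤ #F ∧
      #F < p * (w + 1) ∧ IsSylowIn p P (SymOn F) := by
  obtain ⟨B, hB, hc⟩ := exists_covers hM (block_nonempty hM hb)
  obtain ⟨V, w, n, hV, hn, hs, hBV⟩ := exists_cls hM hm hB
  obtain ⟨P, hP, h1⟩ := hc.exists_defect_inf_eq hM hB hb (Subgroup.map_subtype_le D)
    (by rwa [Subgroup.subgroupOf, Subgroup.comap_map_eq_self_of_injective
      (Subgroup.subtype_injective _)])
  obtain ⟨F, h2, h3, h4⟩ := defect_struct hM hB hP hV hn hs hBV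
  exact ⟨B, V, w, n, P, F, hB, hc, hV, hn, hs, hBV, hP, h1, h2, h3, h4⟩

theorem alt_card_le [hp : Fact p.Prime] {P : Subgroup (Perm α)} {F : Finset α}
    (h1 : P ⊓ alternatingGroup α = D.map (alternatingGroup α).subtype)
    (h2 : IsSylowIn p P (SymOn F)) {s : ℕ} (hs : SectionalPRankLE p s D) {A : Type*} [CommGroup A]
    [Fintype A] [DecidableEq A] {k : ℕ} (hk : Fintype.card A * k ≤ #F) (he : ∀ a : A, a ^ p = 1)
    (hA : ∀ a : A, sign (Equiv.mulLeft a) = 1) : Fintype.card A ^ k ≤ p ^ s := by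
  obtain ⟨e, he'⟩ := exists_emb_le (ι := Fin k) (A := A) (F := F) (by simpa using hk)
  obtain ⟨x, -, hx⟩ := h2.exists_cj_le (Q := (tl e).range) (by
    rintro ⟨_, t, rfl⟩
    exact ⟨1, Subtype.ext (by
      rw [pow_one, SubgroupClass.coe_pow, ← map_pow, show t ^ p = 1 from funext fun i => he _,
        map_one]; rfl)⟩) (by rintro _ ⟨t, rfl⟩; exact tl_mem_SymOn he' t)
  have h3 : ∀ t, tl (e.trans x.toEmbedding) t ∈ alternatingGroup α := fun t => by
    simp [mem_alternatingGroup, sign_tl, hA]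
  have := card_le_of_sect hs ((tl (e.trans x.toEmbedding)).codRestrict _ h3)
    ((MonoidHom.injective_codRestrict _ _ _).2 (tl_injective _)) (fun t => ?_) mul_comm
    fun t => funext fun i => he _
  · simpa using this
  · obtain ⟨d, hd, h4⟩ : tl (e.trans x.toEmbedding) t ∈ D.map (alternatingGroup α).subtype :=
      h1 ▸ ⟨hx ⟨_, ⟨t, rfl⟩, tl_conj e x t⟩, h3 t⟩
    rwa [show d = ⟨_, h3 t⟩ from Subtype.ext h4] at hd

theorem alt_defect_lt {P : Subgroup (Perm α)} {F : Finset α} (hM : IsPModular 2 M)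
    (hb : IsPBlock M b) (hD : IsDefectGroup 2 M b D)
    (h1 : P ⊓ alternatingGroup α = D.map (alternatingGroup α).subtype)
    (h2 : IsSylowIn 2 P (SymOn F)) {w : ℕ} (h3 : 2 * w ≤ #F) (h4 : #F < 2 * (w + 1)) (hw : 0 < w) :
    blockDefect 2 b + 1 = w.factorial.factorization 2 + w := by
  obtain ⟨x, hx, y, hy, hxy⟩ := one_lt_card.1 (show 1 < #F by omega)
  obtain ⟨g, -, hg⟩ := h2.exists_conj_mem (x := swap x y) (k := 1) (fun z hz =>
    swap_apply_of_ne_of_ne (fun e => hz (e ▸ hx)) fun e => hz (e ▸ hy)) (by simp [sq])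
  haveI : Nontrivial α := ⟨x, y, hxy⟩
  have h5 : (alternatingGroup α).relIndex P = 2 :=
    ((Nat.dvd_prime Nat.prime_two).1 (alternatingGroup.index_eq_two (α := α) ▸
      Subgroup.relIndex_dvd_index_of_normal _ _)).resolve_left fun e => by
        simpa [mem_alternatingGroup, sign_swap hxy, mul_right_comm] using
          Subgroup.relIndex_eq_one.1 e hg
  have h6 := Subgroup.card_mul_index ((alternatingGroup α).subgroupOf P)
  rw [← Subgroup.relIndex, h5, card_sylow_SymOn h2 h3 h4, ← Subgroup.inf_subgroupOf_left,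
    Nat.card_congr (Subgroup.subgroupOfEquivOfLe inf_le_left).toEquiv, h1,
    Subgroup.card_map_of_injective (Subgroup.subtype_injective _), card_defectGroup hM hb hD,
    ← pow_succ] at h6
  exact Nat.pow_right_injective le_rfl h6

theorem V4_sq : ∀ a : Cp 2 × Cp 2, a ^ 2 = 1 := by decide

theorem V4_sign : ∀ a : Cp 2 × Cp 2, sign (Equiv.mulLeft a) = 1 := by decide

theorem alt_rank_lt [hp : Fact p.Prime] (hM : IsPModular p M) (hb : IsPBlock M b)
    (hD : IsDefectGroup p M b D) (hD1 : D ≠ ⊥) {s : ℕ} (hs : SectionalPRankLE p s D) :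
    blockRank p b < p ^ s := by
  haveI : Nontrivial α := by
    by_contra h
    rw [not_nontrivial_iff_subsingleton] at h
    exact hD1 (Subsingleton.elim _ _)
  obtain ⟨B, V, w, n, P, F, hB, hc, hV, hn, hs', hBV, hP, h1, h2, h3, h4⟩ :=
    alt_struct hM le_rfl hb hD
  have h5 := alt_rank_le hp.out le_rfl hV hn hs' fun θ hθ => by
    obtain ⟨χ, hχ, h⟩ := hc.exists_over hM (isV_blockIdem hM hB) hb hθ
    exact ⟨χ, hBV hχ, h⟩
  have hd0 : blockDefect p b ≠ 0 := fun e => hD1 (Subgroup.card_eq_one.1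
    (by rw [card_defectGroup hM hb hD, e, pow_zero]))
  have small : blockDefect p b ≤ 2 → blockDefect p b ≤ s → blockRank p b < p ^ s := fun h6 h7 =>
    ((blockRank_le_card b).lt_of_ne fun e => hd0
      ((defect_eq_zero_iff_card_eq_blockRank hM hb).2 e.symm)).trans_le
      ((card_le_of_defect_le_two hM hb h6).trans (Nat.pow_le_pow_right hp.out.pos h7))
  have hle : blockDefect p b ≤ w.factorial.factorization p + w := by
    have := Subgroup.card_le_of_le (h1 ▸ inf_le_left : D.map (alternatingGroup α).subtype ≤ P)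
    rwa [Subgroup.card_map_of_injective (Subgroup.subtype_injective _), card_defectGroup hM hb hD,
      card_sylow_SymOn h4 h2 h3, Nat.pow_le_pow_iff_right hp.out.one_lt] at this
  rcases hp.out.eq_two_or_odd' with rfl | hodd
  · have h6 := alt_card_le h1 h4 hs (A := Cp 2 × Cp 2) (k := w / 2) (by simp; omega)
      V4_sq V4_sign
    have h7 : 2 * (w / 2) ≤ s := by
      rwa [show Fintype.card (Cp 2 × Cp 2) = 2 ^ 2 by simp, ← pow_mul,
        Nat.pow_le_pow_iff_right one_lt_two] at h6
    by_cases hw : w ≤ 2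
    · have h8 : 0 < w := Nat.pos_of_ne_zero (by rintro rfl; simp [hd0] at hle)
      have h9 := alt_defect_lt hM hb hD h1 h4 h2 h3 h8
      interval_cases w
      · simp [hd0] at h9
      · rw [show (Nat.factorial 2).factorization 2 = 1 from Nat.prime_two.factorization_self] at h9
        exact small (by omega) (by omega)
    refine h5.trans_lt (lt_of_lt_of_le ?_ (Nat.pow_le_pow_right two_pos h7))
    obtain ⟨k, rfl | rfl⟩ := Nat.even_or_odd' w
    · obtain ⟨k, rfl⟩ : ∃ j, k = j + 2 := ⟨k - 2, by omega⟩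
      have h8 := card_TT_le two_pos hV (2 * k + 3)
      have h9 := card_SA_even hV hs' (k + 1)
      have h10 : 3 ^ k ≤ 2 ^ (2 * k) := by rw [pow_mul]; exact Nat.pow_le_pow_left (by norm_num) _
      rw [Nat.mul_div_cancel_left _ two_pos, show 2 * (k + 2) = 2 * k + 3 + 1 by ring]
      rw [show 2 * (k + 1 + 1) = 2 * k + 3 + 1 by ring] at h9
      simp only [pow_succ] at h8 h9 ⊢
      have := Nat.two_pow_pos (2 * k)
      omega
    · obtain ⟨k, rfl⟩ : ∃ j, k = j + 1 := ⟨k - 1, by omega⟩
      have h8 : ∀ j, #(TT 2 V (j + 3) 1) ≤ 3 * 2 ^ j := fun j => by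
        induction j with
        | zero => exact card_TT_three hV
        | succ j ih =>
          have := card_TT_succ two_pos hV (j + 3) 1 1 rfl
          rw [pow_succ, add_right_comm]
          omega
      have h9 := h8 (2 * k)
      rw [SA_odd hV hs' (odd_two_mul_add_one _), show (2 * (k + 1) + 1) / 2 = k + 1 by omega,
        show 2 * (k + 1) + 1 = 2 * k + 3 by ring, show 2 * (k + 1) = 2 * k + 2 by ring, pow_add]
      have := Nat.two_pow_pos (2 * k)
      omega
  · have h3p : 3 ≤ p := by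
      have := hp.out.two_le
      rcases this.eq_or_lt with rfl | h
      · exact absurd hodd (by decide)
      · exact h
    have h6 := alt_card_le h1 h4 hs (A := Cp p) (k := w) (by simpa using h2) Cp_pow fun a => by
      have : sign (Equiv.mulLeft a) ^ p = 1 := by
        rw [← map_pow, Equiv.pow_mulLeft, Cp_pow, Equiv.mulLeft_one, map_one]
      rcases Int.units_eq_one_or (sign (Equiv.mulLeft a)) with h | h
      · exact h
      · rw [h, hodd.neg_one_pow] at this
        exact absurd this (by decide)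
    rw [show Fintype.card (Cp p) = p by simp] at h6
    by_cases hw : w ≤ 2
    · rw [Nat.factorization_factorial_eq_zero_of_lt (by omega)] at hle
      have := (Nat.pow_le_pow_iff_right hp.out.one_lt).1 h6
      exact small (by omega) (by omega)
    obtain ⟨k, rfl⟩ : ∃ j, w = j + 3 := ⟨w - 3, by omega⟩
    refine h5.trans_lt (lt_of_lt_of_le ?_ h6)
    have h7 := card_TT_le hp.out.pos hV (k + 2)
    have h8 := card_SA_lt hp.out h3p hV hs' k
    have : (p - 1) * p ^ (k + 2) + p ^ (k + 2) = p ^ (k + 3) := by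
      rw [← Nat.succ_mul, Nat.succ_eq_add_one, Nat.sub_add_cancel hp.out.pos, ← pow_succ']
    rw [show k + 2 + 1 = k + 3 from rfl] at h7
    omega

end Cfsg.Agent.Block.Sym
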