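import Mathlib
import Cfsg.Agent.Block.Tame11
import Cfsg.Agent.Block.Fong2

/-! Tame blocks with three irreducible Brauer characters. -/

namespace Cfsg.Agent.Block

open Cfsg Cfsg.Agent.Char Subgroup
open scoped Classical

universe u

variable {G : Type u} [Group G] [Finite G] {D : Subgroup G} {m p : ℕ} {x y : G} {M : Ideal AlgInt}
  {B : Set (IrrCharacter G)} {d : BrauerPairIdx G}

/-- Dihedral or semidihedral. -/
def DSD (D : Type*) [Group D] : Prop :=
  (∃ n : ℕ, 3 ≤ n ∧ Nonempty (D ≃* DihedralGroup (2 ^ (n - 1)))) ∨ IsQuasiDihedral D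

theorem DSD.congr {A C : Type*} [Group A] [Group C] (e : A ≃* C) (h : DSD C) : DSD A := by
  rcases h with ⟨n, hn, ⟨f⟩⟩ | ⟨n, hn, h1, x, y, h2, h3, h4⟩
  · exact Or.inl ⟨n, hn, ⟨e.trans f⟩⟩
  · exact Or.inr ⟨n, hn, (Nat.card_congr e.toEquiv).trans h1, e.symm x, e.symm y,
      (e.symm.orderOf_eq x).trans h2, (e.symm.orderOf_eq y).trans h3, by
        rw [← map_inv, ← map_mul, ← map_mul, h4, map_pow]⟩

theorem TD.conj_of_not_unf (h : TD d.1 m x y) {u : G} (h1 : u ∉ zpowers x) (h2 : u * u = 1)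
    (h3 : ¬ Unf M d x u) : ∃ g, g * tz m x * g⁻¹ = u := by
  simp only [Unf, not_forall, not_not] at h3
  obtain ⟨v, hv, e⟩ := h3
  rcases h.eq_of_sq hv (e.sq_iff.1 h2) with rfl | rfl
  · exact absurd (e.eq_one ▸ one_mem _) h1
  · exact e.symm.isConj

theorem conj_mem_ncl (z g : G) : g * z * g⁻¹ ∈ normalClosure {z} :=
  normalClosure_normal.conj_mem _ (subset_normalClosure (Set.mem_singleton z)) g

theorem TD.fus_dih (h : TD d.1 m x y) (h1 : y * x * y⁻¹ = x⁻¹) (h2 : y * y = 1)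
    (k3 : ∀ u, u ∉ tU M d x y) : (∃ g, g * tz m x * g⁻¹ = y) ∧ x ∈ normalClosure {tz m x} := by
  obtain ⟨g, hg⟩ := h.conj_of_not_unf h.yn h2 fun e => k3 y (mem_tU.2 ⟨Or.inl rfl, e⟩)
  have k4 := conj_mem_ncl (tz m x) g
  rw [hg] at k4
  refine ⟨⟨g, hg⟩, (mul_mem_cancel_right k4).1 ?_⟩
  by_cases e : Fz 2 M d y (x * y)
  · obtain ⟨s, hs⟩ := e.isConj
    rw [← hs]
    exact normalClosure_normal.conj_mem _ k4 s
  · obtain ⟨s, hs⟩ := h.conj_of_not_unf h.xy_notMem (h.sq_dih h1 h2 h.xy_mem h.xy_notMem)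
      fun e' => k3 _ (mem_tU.2 ⟨Or.inr ⟨rfl, e⟩, e'⟩)
    rw [← hs]
    exact conj_mem_ncl _ s

theorem TD.fus_sd (h : TD D m x y) (hm : 1 ≤ m) (h1 : y * x * y⁻¹ = tz m x * x⁻¹) {g : G}
    (hg : g * tz m x * g⁻¹ = y) :
    ∃ w ∈ zpowers x, w ≠ 1 ∧ w ≠ tz m x ∧ w ∈ normalClosure {tz m x} := by
  have k4 : x * y * x⁻¹ * y⁻¹ = x * x * tz m x := by
    rw [show x * y * x⁻¹ * y⁻¹ = x * (y * x * y⁻¹)⁻¹ by group, h1, mul_inv_rev, inv_inv, h.z_inv,
      mul_assoc]
  have k5 : x * x * (x * x) ≠ 1 := fun e => by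
    have := orderOf_dvd_of_pow_eq_one (show x ^ 2 ^ 2 = 1 by rw [sq 2, pow_mul, sq, sq, e])
    rw [h.ord, Nat.pow_dvd_pow_iff_le_right one_lt_two] at this
    omega
  have k6 := conj_mem_ncl (tz m x) g
  rw [hg] at k6
  replace k6 := mul_mem (normalClosure_normal.conj_mem _ k6 x) (inv_mem k6)
  rw [k4] at k6
  refine ⟨x * x * tz m x, mul_mem (mul_mem (mem_zpowers x) (mem_zpowers x))
    TD.z_mem, fun e => k5 ?_, fun e => k5 ?_, k6⟩
  · rw [eq_inv_of_mul_eq_one_left e, h.z_inv, h.zz]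
  · rw [mul_eq_right.1 e, one_mul]

theorem exists_fus (hM : IsPModular 2 M) (hB : IsPBlock M B) (hD : IsDefectGroup 2 M B D)
    (h : DSD D) : blockRank 2 B ≤ 3 ∧ (blockRank 2 B = 3 → ∃ m x y, TD D m x y ∧
      (∃ g, g * tz m x * g⁻¹ = y) ∧
      ∃ w ∈ zpowers x, w ≠ 1 ∧ w ≠ tz m x ∧ w ∈ normalClosure {tz m x}) := by
  obtain ⟨d, rfl, hd⟩ := exists_isMaxBP hM hB hD
  rcases h with ⟨n, hn, ⟨e⟩⟩ | h
  · obtain ⟨m, rfl⟩ : ∃ m, n = m + 3 := ⟨n - 3, by omega⟩
    obtain ⟨x, y, h, h1, h2⟩ := exists_td_dih (m := m) e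
    have k2 := (h.dih hM hd h1 h2).2.1
    refine ⟨by omega, fun hl => ?_⟩
    have k3 := h.fus_dih (M := M) h1 h2 (by
      simp [Finset.card_eq_zero.1 (show (tU M d x y).card = 0 by omega)])
    exact ⟨m, x, y, h, k3.1, x, mem_zpowers x, h.x_ne_one, h.x_ne_z, k3.2⟩
  · obtain ⟨m, x, y, hm, h, h1, h2⟩ := exists_td_sd h
    obtain ⟨k1, -, k3⟩ := h.sd hM hd h1 h2
    refine ⟨by omega, fun hl => ?_⟩
    obtain ⟨g, hg⟩ := h.conj_of_not_unf (M := M) h.yn h2 fun e => by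
      rw [tind, if_pos e] at k3
      omega
    exact ⟨m, x, y, h, ⟨g, hg⟩, h.fus_sd hm h1 hg⟩

theorem blockRank_indImage_le {G : Type*} [Group G] [Fintype G] {T : Subgroup G}
    (B : Set (IrrCharacter T)) : blockRank p (indImage T B) ≤ blockRank p B := by
  have : FiniteDimensional ℂ (regSpan p B) := FiniteDimensional.span_of_finite ℂ (Set.toFinite _)
  refine le_trans (Submodule.finrank_mono (?_ : regSpan p (indImage T B) ≤
    (regSpan p B).map (Ind.indL T))) (Submodule.finrank_map_le _ _)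
  rw [Submodule.span_le]
  rintro _ ⟨χ, ⟨ψ, hψ, e⟩, rfl⟩
  refine ⟨_, Submodule.subset_span ⟨ψ, hψ, rfl⟩, ?_⟩
  have h1 : pRegularPart p ψ.1 = ψ.1 * fun t : T => pRegularPart p (1 : G → ℂ) t := funext fun t => by
    simp [pRegularPart_apply]
  simp only [Ind.indL_apply, e, h1]
  rw [Ind.indFun_mul_res _ _ (classFun_pRegularPart fun _ _ => rfl)]
  funext g
  simp [pRegularPart_apply]

theorem rank_lt_three (hM : IsPModular 2 M) (hs : IsPSolvable 2 G) (hB : IsPBlock M B)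
    (hD : IsDefectGroup 2 M B D) (h : DSD D) : blockRank 2 B < 3 := by
  have := Fintype.ofFinite G
  refine fong_induction hM (C := fun G _ _ B => ∀ D, IsDefectGroup 2 M B D → DSD D →
    blockRank 2 B < 3) ?_ ?_ _ G rfl hs B hB D hD h
  · intro G _ _ hs θ hθ D hD h
    have hG := Core.IsPSolvable.isPConstrained hs
    have hB := isPBlock_overSet_of_constrained hM hG rfl hθ
    obtain ⟨S⟩ : Nonempty (Sylow 2 G) := inferInstance
    obtain ⟨s, rfl⟩ := isDefectGroup_conj hM hB (isDefectGroup_overSet hM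
      (Core.not_dvd_card_pPrimeCore Nat.prime_two) hθ hB S.2 S.not_dvd_index) hD
    obtain ⟨h1, h2⟩ := exists_fus hM hB hD h
    refine h1.lt_of_ne fun e => ?_
    obtain ⟨m, x, y, h, ⟨g, hg⟩, w, h3, h4, h5, h6⟩ := h2 e
    replace h : TD (s • S : Sylow 2 G) m x y := h
    rw [Core.isPConstrained_iff] at hG
    let f := QuotientGroup.mk' (pPrimeCore 2 G)
    have h7 : pCore 2 _ ≤ (s • S : Sylow 2 G).1.map f := Core.pCore_le_of_not_dvd_index fun e =>
      (s • S).not_dvd_index (e.trans (index_map_dvd _ (QuotientGroup.mk'_surjective _)))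
    have h8 : normalClosure {tz m x} ≤ (centralizer (pCore 2 (G ⧸ pPrimeCore 2 G) : Set (G ⧸ pPrimeCore 2 G))).comap f :=
      normalClosure_le_normal (Set.singleton_subset_iff.2 fun q hq => by
        obtain ⟨t, ht, rfl⟩ := h7 hq
        rw [← map_mul, ← map_mul, h.z_comm ht])
    have h9 := conj_mem_ncl (tz m x) g
    rw [hg] at h9
    replace h9 : f w * f y = f y * f w := h8 h9 _ (hG (h8 h6))
    rw [← map_mul, ← map_mul] at h9
    replace h9 := QuotientGroup.eq.1 h9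
    have := (Core.coprime_pPrimeCore_of_isPGroup (G := G) (s • S).2)
    rcases h.fix' h.ym h.yn h3 (inv_mul_eq_one.1 ((disjoint_def.1 (disjoint_iff.2
      (inf_eq_bot_of_coprime this))) (mul_mem (inv_mem (mul_mem (h.le h3) h.ym))
        (mul_mem h.ym (h.le h3))) h9)).symm with e | e
    exacts [h4 e, h5 e]
  · rintro G _ _ θ T _ hT e B hB hs ih P hP h
    have hb := isPBlock_singleton hM (Core.not_dvd_card_pPrimeCore Nat.prime_two) θ
    obtain ⟨D, hD⟩ := exists_isDefectGroup hM hB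
    obtain ⟨x, rfl⟩ := isDefectGroup_conj hM (induced_right (fong_reynolds hM hb hT e.le hB hs))
      (fong_reynolds_defectGroup hM hb hT e.le hB hs hD) hP
    exact (blockRank_indImage_le B).trans_lt
      (ih D hD (h.congr ((D.equivMapOfInjective _ T.subtype_injective).trans (LocalEven.cjEquiv x _))))

theorem odd_center_of_rank_three (hM : IsPModular 2 M) (hB : IsPBlock M B)
    (hD : IsDefectGroup 2 M B D) (h : DSD D) (hl : blockRank 2 B = 3) :
    Odd (Nat.card (center G)) := by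
  obtain ⟨m, x, y, h, ⟨g, hg⟩, -⟩ := (exists_fus hM hB hD h).2 hl
  by_contra e
  obtain ⟨⟨w, hw⟩, h1⟩ := exists_prime_orderOf_dvd_card' 2 (even_iff_two_dvd.1
    (Nat.not_odd_iff_even.1 e))
  rw [← orderOf_coe] at h1
  have hc : zpowers w ≤ center G := zpowers_le.2 hw
  have : (zpowers w).Normal := ⟨fun z hz g => by
    rw [mem_center_iff.1 (hc hz) g]; simpa using hz⟩
  have h2 : w ∈ D := normal_le_defect hM hB hD (.of_card (n := 1) ((Nat.card_zpowers w).trans h1))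
    (mem_zpowers w)
  have h3 : w ∈ zpowers x := by
    by_contra h3
    rcases h.fix' h2 h3 (mem_zpowers x) (mem_center_iff.1 hw x).symm with e | e
    exacts [h.x_ne_one e, h.x_ne_z e]
  rw [← eq_of_two_zpowers h3 TD.z_mem h1 h.z_ord, mem_center_iff.1 hw g, mul_inv_cancel_right] at hg
  exact h.yn (hg ▸ h3)

end Cfsg.Agent.Block
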