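import Mathlib
import Cfsg.Agent.Block.PM2
import Cfsg.Agent.Block.Misc

/-! The Brauer-Tuan theorem on simple groups of order `p q^b g₀`. -/

set_option autoImplicit false

namespace Cfsg.Agent.Block

open Cfsg Cfsg.Agent.Char Subgroup ComplexConjugate
open scoped _root_.Classical

variable {G : Type*} [Group G] [Fintype G] {p : ℕ} {P : Subgroup G}

theorem sum_erase_fx {χ : G → ℂ} (hχ : IsCharacter G χ) (P : Subgroup G) :
    ∑ x ∈ Finset.univ.erase (1 : P), χ x = ((Nat.card P * fx P χ - charDegree χ : ℤ) : ℂ) := by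
  push_cast
  rw [card_mul_fx hχ, ← Finset.add_sum_erase _ _ (Finset.mem_univ 1), charDegree_cast hχ]
  simp

theorem card_dvd_sum_block {q : ℕ} {M : Ideal AlgInt} (hM : IsPModular q M)
    {B : Set (IrrCharacter G)} (hB : IsV M (blockIdem B)) {Q : Subgroup G} (hQ : IsPGroup q Q)
    (hP : ¬ q ∣ Nat.card P) : (Nat.card Q : ℤ) ∣
      ∑ χ with χ ∈ B, (Nat.card P * fx P χ.1 - charDegree χ.1 : ℤ) * charDegree χ.1 := by
  have := Fact.mk hM.1
  refine ⟨∑ χ with χ ∈ B, (Nat.card P * fx P χ.1 - charDegree χ.1 : ℤ) * fx Q χ.1, ?_⟩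
  have h1 : ∑ y ∈ Finset.univ.erase (1 : Q), ∑ x ∈ Finset.univ.erase (1 : P),
      ∑ χ : IrrCharacter G with χ ∈ B, χ.1 x * conj (χ.1 y) = 0 :=
    Finset.sum_eq_zero fun y hy => Finset.sum_eq_zero fun x _ => weak_block_orth hM hB
      (fun e => hP (e.trans (P.orderOf_dvd_natCard x.2))) (by
        obtain ⟨k, hk⟩ := IsPGroup.iff_orderOf.1 hQ y
        rw [orderOf_coe, hk]
        exact dvd_pow_self _ fun e => (Finset.mem_erase.1 hy).1 (by simpa [e] using hk))
  simp only [Finset.sum_comm (s := Finset.univ.erase _) (t := Finset.filter _ _),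
    ← Finset.sum_mul, ← Finset.mul_sum, ← map_sum, sum_erase_fx (irr_isChar _), map_intCast] at h1
  have h2 : ∑ χ : IrrCharacter G with χ ∈ B, (Nat.card P * fx P χ.1 - charDegree χ.1 : ℤ) *
      (Nat.card Q * fx Q χ.1 - charDegree χ.1 : ℤ) = 0 := by exact_mod_cast h1
  simp only [mul_sub _ (_ * _ : ℤ) (charDegree _ : ℤ), Finset.sum_sub_distrib, sub_eq_zero] at h2
  rw [← h2, Finset.mul_sum]
  exact Finset.sum_congr rfl fun χ _ => by ring

namespace PW

variable {e t : ℕ} {δ : ℤ} {X Y : Finset (IrrCharacter G)} {a : IrrCharacter G → ℤ}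

theorem apply_of_fx_one (h : PW p P e t (-1) X Y a) {ξ : IrrCharacter G} (hξ : ξ ∈ Y)
    (h1 : fx P ξ.1 = 1) {y : G} (hy : y ∈ centralizer (P : Set G)) (hr : ¬ p ∣ orderOf y) :
    ξ.1 y = ξ.1 1 := by
  obtain ⟨lam, hl, hv⟩ := h.valY ξ hξ
  have h2 := (h.of_eta (irr_isChar ξ) hl (c := -1) fun x hx => by
    simpa using hv x hx 1 (one_mem _) h.reg_one).2.2 lam
  rw [h1, if_pos (equivalence_lRel.refl _)] at h2
  have h3 := sum_mul_eq_zero_of_inner (irr_isChar ξ) (lam := lam) (by simpa using h2)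
  have h4 := (h3 y).trans (h3 1).symm
  rw [← Finset.add_sum_erase _ _ (Finset.mem_univ 1), ← Finset.add_sum_erase _ _ (Finset.mem_univ 1),
    Finset.sum_congr rfl fun x hx => by
      rw [hv x (Finset.mem_erase.1 hx).1 y hy hr,
        ← hv x (Finset.mem_erase.1 hx).1 1 (one_mem _) h.reg_one]] at h4
  simpa using add_right_cancel h4

theorem deg_of_neg (h : PW p P e 2 δ X Y a) (hg : normalClosure (P : Set G) = ⊤)
    (hd : ∀ ξ ∈ Y, charDegree ξ.1 = e + 1) (h2 : ∀ χ ∈ X, a χ = -1 → 2 ∣ charDegree χ.1) :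
    (∀ χ ∈ X, a χ = -1 → charDegree χ.1 = 2 * e) ∧
      ∑ χ ∈ X with a χ = 1, charDegree χ.1 ≤ (e + 1) * (e + 1) := by
  obtain ⟨ξ, ξ', hne, hY⟩ := Finset.card_eq_two.1 h.cardY
  have hξ : ξ ∈ Y := by simp [hY]
  have hξ' : ξ' ∈ Y := by simp [hY]
  have hone := h.one_mem_X (by omega)
  have hte := h.te'
  have hD (ζ : IrrCharacter G) : IsCharacter G (ξ.1 * fun g => conj (ζ.1 g)) :=
    isChar_mul (irr_isChar _) (isChar_conj (irr_isChar _))
  have hdeg (ζ) (hζ : ζ ∈ Y) : charDegree (ξ.1 * fun g => conj (ζ.1 g)) = (e + 1) * (e + 1) :=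
    charDegree_of_eq (by simp [← irr_degree_cast, hd ξ hξ, hd ζ hζ])
  have iX (χ) (hχ : χ ∈ X) : (a χ = 1 → classInner (ξ.1 * fun g => conj (ξ.1 g)) χ.1 ≠ 0) ∧
      (a χ = -1 → classInner (ξ.1 * fun g => conj (ξ'.1 g)) χ.1 ≠ 0) := by
    have := h.innerX (α := (ξ.1 * fun g => conj (ξ.1 g)) - ξ.1 * fun g => conj (ξ'.1 g))
      (fun g hg => by simp [h.agree hξ hξ' hg]) hχ
    obtain ⟨k, hk⟩ := classInner_isChar_nat (hD ξ) (irr_isChar χ)
    obtain ⟨k', hk'⟩ := classInner_isChar_nat (hD ξ') (irr_isChar χ)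
    rw [classInner_sub_left, classInner_sub_left, ← classInner_eq_one_right,
      ← classInner_eq_one_right, classInner_irr_self, classInner_irr_ne hne, hk, hk'] at this
    have : (k : ℤ) - k' = a χ * (1 - 0) := by exact_mod_cast this
    simp only [hk, hk', ne_eq, Nat.cast_eq_zero]
    omega
  have l1 := sum_degree_le (hD ξ) (S := X.filter (a · = 1)) fun χ hχ =>
    (iX χ (Finset.mem_filter.1 hχ).1).1 (Finset.mem_filter.1 hχ).2
  have l2 := sum_degree_le (hD ξ') (S := X.filter (¬ a · = 1)) fun χ hχ =>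
    (iX χ (Finset.mem_filter.1 hχ).1).2 ((h.a_sign χ (Finset.mem_filter.1 hχ).1).resolve_left
      (Finset.mem_filter.1 hχ).2)
  rw [hdeg ξ hξ] at l1
  rw [hdeg ξ' hξ'] at l2
  refine ⟨fun χ hχ ha => by_contra fun hc => ?_, l1⟩
  have m1 : oneIrr G ∈ X.filter (a · = 1) := Finset.mem_filter.2 ⟨hone, h.a_one hone⟩
  have m2 : χ ∈ X.filter (¬ a · = 1) := Finset.mem_filter.2 ⟨hχ, by omega⟩
  have c0 := Finset.card_filter_add_card_filter_not (s := X) (a · = 1)
  rw [h.cardX, ← Finset.card_erase_add_one m1, ← Finset.card_erase_add_one m2] at c0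
  rw [← Finset.add_sum_erase _ _ m1, coe_oneIrr, charDegree_one_fun] at l1
  rw [← Finset.add_sum_erase _ _ m2] at l2
  have c1 := Finset.card_nsmul_le_sum ((X.filter (a · = 1)).erase (oneIrr G))
    (fun χ => charDegree χ.1) (2 * (e + 1)) fun ψ hψ => by
      simp only [Finset.mem_erase, Finset.mem_filter] at hψ
      have := h.two_le_fx hg hψ.2.1 hψ.2.2 hψ.1
      have h5 := (h.degX hψ.2.1).1
      rw [hψ.2.2, ← hte] at h5
      push_cast at h5
      nlinarith
  have c2 := Finset.card_nsmul_le_sum ((X.filter (¬ a · = 1)).erase χ)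
    (fun χ => charDegree χ.1) (2 * e) fun ψ hψ => by
      simp only [Finset.mem_erase, Finset.mem_filter] at hψ
      have h5 := (h.degX hψ.2.1).1
      rw [(h.a_sign ψ hψ.2.1).resolve_left hψ.2.2, ← hte] at h5
      push_cast at h5
      nlinarith
  have c3 : 6 * e + 2 ≤ charDegree χ.1 := by
    have h5 := (h.degX hχ).1
    obtain ⟨k, hk⟩ := h2 χ hχ ha
    rw [ha, ← hte, hk] at h5
    push_cast at h5
    rw [hk] at hc ⊢
    rcases (by omega : fx P χ.1 = 0 ∨ fx P χ.1 = 1 ∨ 2 ≤ fx P χ.1) with e1 | e1 | e1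
    · rw [e1] at h5; omega
    · rw [e1] at h5; omega
    · nlinarith
  simp only [smul_eq_mul] at c1 c2
  generalize ((X.filter (a · = 1)).erase (oneIrr G)).card = u at c0 c1
  generalize ((X.filter (¬ a · = 1)).erase χ).card = v at c0 c2
  have c4 : 2 * u ≤ e := by nlinarith
  nlinarith

theorem two_pow_le [IsSimpleGroup G] (hna : ∃ a b : G, a * b ≠ b * a) (h : PW p P e 2 δ X Y a)
    (hc : centralizer (P : Set G) ≤ P) (hd : ∀ ξ ∈ Y, charDegree ξ.1 = e + 1)
    (hf : ∀ ξ ∈ Y, fx P ξ.1 = 1) (h2 : ∀ χ ∈ X, a χ = -1 → 2 ∣ charDegree χ.1) {c : ℕ}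
    (he : e = 2 ^ c) {Q : Subgroup G} (hQ : IsPGroup 2 Q) :
    Nat.card Q ≤ 2 * e * (e + 1) * (e + 2) := by
  obtain ⟨M, hM⟩ := exists_isPModular Nat.prime_two
  obtain ⟨x, hx⟩ := h.exists_ne_one
  have hte := h.te'
  have he0 := h.e_pos
  have hone := h.one_mem_X (by omega)
  obtain ⟨h3, h4⟩ := h.deg_of_neg ((IsSimpleGroup.eq_bot_or_eq_top_of_normal _
    inferInstance).resolve_left fun e => hx (Subtype.ext (e.le (le_normalClosure x.2)))) hd h2
  have h5 := card_dvd_sum_block (P := P) hM (isV_blockIdem hM isPBlock_principalBlock) hQ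
    (by rw [h.card]; omega)
  rw [h.card] at h5
  let w : IrrCharacter G → ℕ := fun χ => if χ ∈ X.filter (a · = 1) then 2 * e * charDegree χ.1
    else if χ ∈ Y then e * (e + 1) else 0
  have h6 (χ) (hχ : χ ∈ principalBlock M G) :
      (p * fx P χ.1 - charDegree χ.1 : ℤ) * charDegree χ.1 = w χ := by
    by_cases hX : χ ∈ X
    · have ha : a χ = 1 := (h.a_sign χ hX).resolve_right fun ha => by
        have := eq_one_of_degree_pow hna hM hχ (k := c + 1) (by rw [h3 χ hX ha, he, pow_succ'])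
        rw [this, h.a_one hone] at ha
        omega
      have := (h.degX hX).1
      simp only [w, Finset.mem_filter, hX, ha, and_self, if_true] at this ⊢
      push_cast at hte ⊢
      congr 1
      linarith
    simp only [w, Finset.mem_filter, hX, false_and, if_false]
    split_ifs with hY
    · rw [hd χ hY, hf χ hY]
      push_cast at hte ⊢
      congr 1
      linarith
    · have := sum_erase_fx (irr_isChar χ) P
      rw [Finset.sum_eq_zero fun y hy => h.out hc χ hX hY _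
        (h.dvd_orderOf (Finset.mem_erase.1 hy).1), h.card] at this
      rw [Int.cast_eq_zero.1 this.symm]
      simp
  rw [Finset.sum_congr rfl fun χ hχ => h6 χ (Finset.mem_filter.1 hχ).2, ← Nat.cast_sum,
    Int.natCast_dvd_natCast] at h5
  refine (Nat.le_of_dvd (Finset.sum_pos' (fun _ _ => Nat.zero_le _) ⟨oneIrr G, by
    simpa using oneIrr_mem_principalBlock hM, by
    simp [w, hone, h.a_one hone, charDegree_one_fun, he0]⟩) h5).trans ?_
  refine (Finset.sum_le_sum_of_subset (Finset.subset_univ _)).trans ?_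
  refine (Finset.sum_le_sum (g := fun χ => (if χ ∈ X.filter (a · = 1) then 2 * e * charDegree χ.1
    else 0) + if χ ∈ Y then e * (e + 1) else 0) fun χ _ => by
      simp only [w]; split_ifs <;> omega).trans ?_
  rw [Finset.sum_add_distrib, Finset.sum_ite_mem, Finset.sum_ite_mem, Finset.univ_inter,
    Finset.univ_inter, ← Finset.mul_sum, Finset.sum_const, h.cardY, smul_eq_mul]
  nlinarith

end PW

theorem eq_of_two_pow {k b : ℕ} (h : 2 ^ k + 1 ∣ 2 ^ b + 1) (hk : 0 < k) (hb : b < 3 * k) :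
    b = k := by
  have h1 (s : ℕ) (hs : 2 ^ k + 1 ∣ 2 ^ s + 1) : k ≤ s := by
    have := Nat.le_of_dvd (by positivity) hs
    exact (Nat.pow_le_pow_iff_right one_lt_two).1 (by omega)
  obtain ⟨s, rfl⟩ := Nat.exists_eq_add_of_le (h1 b h)
  have h2 : (2 ^ k + 1 : ℤ) ∣ 2 ^ s - 1 := by
    have := Int.dvd_sub (dvd_mul_left (2 ^ k + 1 : ℤ) (2 ^ s)) (Int.natCast_dvd_natCast.2 h)
    push_cast at this
    convert this using 1
    ring
  by_contra e
  have h3 : (1 : ℤ) < 2 ^ s := one_lt_pow₀ one_lt_two (by omega)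
  have h4 := Int.le_of_dvd (by omega) h2
  obtain ⟨r, rfl⟩ := Nat.exists_eq_add_of_le ((pow_le_pow_iff_right₀ (one_lt_two (α := ℤ))).1
    (show 2 ^ k ≤ 2 ^ s by omega))
  have h5 := Int.dvd_sub (dvd_mul_left (2 ^ k + 1 : ℤ) (2 ^ r)) h2
  have := h1 r (Int.natCast_dvd_natCast.1 (by push_cast; convert h5 using 1; ring))
  omega

end Cfsg.Agent.Block
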