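import Mathlib
import Cfsg.Agent.Block.RelDeg
import Cfsg.Agent.Char.BrauerPerm
import Cfsg.Agent.Char.CliffordCorr
import Cfsg.Agent.Core.CoprimeGen
import Cfsg.Agent.Core.Cores

/-! Vanishing elements of solvable groups. -/

namespace Cfsg.Agent.Block.Vn

open Cfsg Cfsg.Agent.Char Cfsg.Agent.Char.Clifford Cfsg.Agent.Core Subgroup
open scoped _root_.Classical

/-- An abelian `p`-group acting on an abelian group without `p`-torsion has a regular orbit
modulo the kernel. -/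
theorem reg {A U : Type*} [Group A] [Finite A] [CommGroup U] {p : ℕ} [Fact p.Prime]
    (hp : IsPGroup p A) (ρ : A →* Monoid.End U) (hA : ∀ a b : A, a * b = b * a)
    (hc : ∀ (u : U) (n : ℕ), u ^ p ^ n = 1 → u = 1) : ∃ u, ∀ a, ρ a u = u → ρ a = 1 := by
  have := Fintype.ofFinite A
  let St : U → Subgroup A := fun u =>
    { carrier := {a | ρ a u = u}
      one_mem' := by simp
      mul_mem' := fun {a b} ha hb => by
        simp only [Set.mem_ofPred_eq] at ha hb ⊢
        rw [map_mul, Monoid.End.coe_mul, Function.comp_apply, hb, ha]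
      inv_mem' := fun {a} ha => by
        simp only [Set.mem_ofPred_eq] at ha ⊢
        conv_lhs => rw [← ha]
        rw [← Function.comp_apply (f := ρ a⁻¹), ← Monoid.End.coe_mul, ← map_mul]
        simp }
  have hSt : ∀ u a, a ∈ St u ↔ ρ a u = u := fun _ _ => Iff.rfl
  obtain ⟨u, hu⟩ : ∃ u, ∀ w, Nat.card (St u) ≤ Nat.card (St w) :=
    ⟨_, fun w => Function.argmin_le (fun u => Nat.card (St u)) w⟩
  refine ⟨u, fun s hs => ?_⟩
  by_contra hne
  obtain ⟨w0, hw0⟩ : ∃ w, ρ s w ≠ w := by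
    by_contra h
    push Not at h
    exact hne (MonoidHom.ext h)
  obtain ⟨n, hn⟩ := IsPGroup.iff_card.1 (hp.to_subgroup (St u))
  have cm : ∀ a b w, ρ a (ρ b w) = ρ (a * b) w := fun a b w => by rw [map_mul]; rfl
  let T : U →* U := MonoidHom.mk' (fun w => ∏ b : St u, ρ b w) fun x y => by
    simp only [map_mul, Finset.prod_mul_distrib]
  have hT : ∀ w, T w = ∏ b : St u, ρ b w := fun _ => rfl
  have T1 : ∀ a w, T (ρ a w) = ρ a (T w) := fun a w => by
    simp only [hT, map_prod, cm, hA a]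
  have T2 : ∀ w, (∀ b ∈ St u, ρ b w = w) → T w = w ^ p ^ n := fun w h => by
    rw [hT, Finset.prod_congr rfl fun (b : St u) _ => h b b.2, Finset.prod_const, Finset.card_univ,
      ← Nat.card_eq_fintype_card, hn]
  have T3 : T (ρ s w0) = T w0 := by
    simp only [hT, cm]
    exact Fintype.prod_equiv (Equiv.mulRight (⟨s, hs⟩ : St u)) _ _ fun _ => rfl
  set w := ρ s w0 * w0⁻¹ with hw
  have T4 : T w = 1 := by rw [hw, map_mul, map_inv, T3, mul_inv_cancel]
  have hle : St (u * w) ≤ St u := fun a ha => by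
    have h1 := congrArg T ((hSt _ _).1 ha)
    rw [T1, map_mul, T4, mul_one, T2 u fun b hb => hb, map_pow, ← mul_inv_eq_one, ← inv_pow,
      ← mul_pow] at h1
    exact mul_inv_eq_one.1 (hc _ _ h1)
  have he := eq_of_le_of_card_ge hle (hu _)
  have : w = 1 := by
    refine hc _ n ?_
    rw [← T2 w fun b hb => ?_, T4]
    have h1 := (hSt _ _).1 (he ▸ hb : b ∈ St (u * w))
    rwa [map_mul, (hSt _ _).1 hb, mul_right_inj] at h1
  exact hw0 (mul_inv_eq_one.1 this)

variable {G : Type*} [Group G] [Finite G] {p : ℕ} [hp : Fact p.Prime]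

/-- A vanishing element. -/
def Van (g : G) : Prop := ∃ χ : G → ℂ, IsIrrCharacter G χ ∧ χ g = 0

/-- A vanishing element of order divisible by `p`. -/
def VP (p : ℕ) (g : G) : Prop := Van g ∧ p ∣ orderOf g

omit hp in
theorem VP.lift {H : Type*} [Group H] (f : G →* H) (hf : Function.Surjective f) {g : G}
    (h : VP p (f g)) : VP p g :=
  let ⟨⟨_, h1, h2⟩, h3⟩ := h
  ⟨⟨_, (isIrr_comp_iff f hf (isIrr_isChar h1)).2 h1, h2⟩, h3.trans (orderOf_map_dvd f g)⟩

theorem van_of_inertia {N : Subgroup G} [N.Normal] {θ : N → ℂ} (hθ : IsIrrCharacter N θ) {g : G}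
    (h : ∀ x : G, x⁻¹ * g * x ∉ inertia N θ) : Van g := by
  have := Fintype.ofFinite G
  obtain ⟨χ, h1, h2⟩ := Clifford.exists_over hθ
  obtain ⟨ψ, -, h3, -⟩ := CliffordCorr.exists_indFun_eq hθ rfl (le_inertia (isIrr_classFun hθ)) h1 h2
  exact ⟨χ, h1, h3 ▸ Ind.indFun_eq_zero _ _ h⟩

theorem van_of_coset {Z : Subgroup G} [Z.Normal] (hZ : Z ≠ ⊥) {y : G}
    (h : ∀ z ∈ Z, IsConj y (z * y)) : Van y := by
  have := Fintype.ofFinite Z
  obtain ⟨z, hz, h1⟩ := (Z.bot_or_exists_ne_one).resolve_left hZ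
  obtain ⟨χ, h2, h3⟩ := exists_irr_not_mem_charKer h1
  have h4 := BrauerPerm.sum_coset_eq_zero Z h2 (fun e => h3 (e hz)) y
  have h5 : ∀ n : Z, χ (n * y) = χ y := fun n => by
    obtain ⟨c, hc⟩ := isConj_iff.1 (h n n.2)
    rw [← hc]
    exact isIrr_classFun h2 _ _
  simp only [h5, Finset.sum_const, nsmul_eq_mul, mul_eq_zero, Nat.cast_eq_zero,
    Finset.card_univ, Fintype.card_ne_zero, false_or] at h4
  exact ⟨χ, h2, h4⟩

variable {V : Subgroup G} [V.Normal] {Z : Subgroup (G ⧸ V)}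

theorem relIndex_pow (hZ : IsPGroup p Z) {C : Subgroup G} (hC : C ≤ Z.comap (QuotientGroup.mk' V)) :
    ∃ n, V.relIndex C = p ^ n := by
  have h := (hZ.to_le (map_le_iff_le_comap.2 hC))
  obtain ⟨n, hn⟩ := IsPGroup.iff_card.1 h
  exact ⟨n, by rw [← hn, ← relIndex_ker, QuotientGroup.ker_mk']⟩

theorem faith [Z.Normal] (h0 : pCore p G = ⊥) (hV : IsMulCommutative V) (hZ : IsPGroup p Z) :
    Z.comap (QuotientGroup.mk' V) ⊓ centralizer (V : Set G) ≤ V := by
  set C := Z.comap (QuotientGroup.mk' V) ⊓ centralizer (V : Set G)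
  have hVC : V ≤ C := le_inf (fun v hv => by
    simp [mem_comap, (QuotientGroup.eq_one_iff v).2 hv]) (le_centralizer V)
  obtain ⟨S, hS⟩ := exists_isSylowOf p C
  obtain ⟨n, hn⟩ := relIndex_pow hZ (C := C) inf_le_left
  have h1 := hS.sup_eq_of_relIndex_eq_pow hVC hn
  have h2 : C ≤ normalizer (S : Set G) := by
    rw [← h1]
    refine sup_le ((le_centralizer_iff.1 (hS.le.trans inf_le_right)).trans
      (centralizer_le_normalizer _)) le_normalizer
  have h3 := hS.frattini_top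
  rw [sup_eq_right.2 h2] at h3
  have h4 := le_pCore (normalizer_eq_top_iff.1 h3) hS.isPGroup
  rw [h0, le_bot_iff] at h4
  rw [← h1, h4, sup_bot_eq]

/-- The action on linear characters. -/
def dact (V : Subgroup G) [V.Normal] : G →* Monoid.End (V →* ℂˣ) where
  toFun g := RD.cj g⁻¹
  map_one' := MonoidHom.ext fun lam => MonoidHom.ext fun v => by
    show lam (MulAut.conjNormal 1⁻¹ v) = lam v
    simp
  map_mul' g h := MonoidHom.ext fun lam => MonoidHom.ext fun v => by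
    show lam (MulAut.conjNormal (g * h)⁻¹ v) = lam (MulAut.conjNormal h⁻¹ (MulAut.conjNormal g⁻¹ v))
    rw [mul_inv_rev, map_mul]
    rfl

theorem key [Z.Normal] (h0 : pCore p G = ⊥) (hV : IsMulCommutative V)
    (hc : (Nat.card V).Coprime p) (hZ : IsPGroup p Z) (hZa : IsMulCommutative Z) {g : G}
    (hg : (g : G ⧸ V) ∈ Z) (hgV : g ∉ V) : VP p g := by
  have hk : V ≤ (dact V).ker := fun v hv => MonoidHom.ext fun lam => MonoidHom.ext fun x => by
    have : MulAut.conjNormal v⁻¹ x = x := Subtype.ext (by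
      simp [mul_assoc, comm_of_isMulCommutative hV x.2 hv])
    exact congrArg lam this
  obtain ⟨lam, hl⟩ := reg hZ ((QuotientGroup.lift V (dact V) hk).comp Z.subtype)
    (fun a b => Subtype.ext (comm_of_isMulCommutative hZa a.2 b.2)) fun u n h =>
      RD.eq_one_of_coprime (MonoidHom.ext fun v => by
        rw [MonoidHom.pow_apply, ← map_pow, pow_card_eq_one', map_one, MonoidHom.one_apply]) h
        (hc.pow_right n)
  refine ⟨van_of_inertia (isIrr_linear lam) fun x hx => hgV ?_, ?_⟩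
  · have h1 : ((x⁻¹ * g * x : G) : G ⧸ V) ∈ Z := by
      simpa using ‹Z.Normal›.conj_mem _ hg (x : G ⧸ V)⁻¹
    have h2 := hl ⟨_, h1⟩ (RD.mem_inertia_lc.1 (inv_mem hx))
    have h3 : x⁻¹ * g * x ∈ V := by
      refine faith h0 hV hZ (mem_inf.2 ⟨h1, inv_mem_iff.1 (mem_centralizer_iff.2 fun v hv => ?_)⟩)
      by_contra hne
      letI : CommGroup V := { mul_comm := fun a b => hV.is_comm.comm a b }
      obtain ⟨μ, hμ⟩ := CommGroup.exists_apply_ne_one_of_hasEnoughRootsOfUnity V ℂ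
        (a := MulAut.conjNormal (x⁻¹ * g * x)⁻¹ ⟨v, hv⟩ * ⟨v, hv⟩⁻¹) (fun e => hne (by
          have := congrArg Subtype.val (mul_inv_eq_one.1 e)
          simp only [MulAut.conjNormal_apply, inv_inv] at this
          conv_lhs => rw [← this]
          group))
      refine hμ ?_
      rw [map_mul, map_inv μ, mul_inv_eq_one]
      exact DFunLike.congr_fun (DFunLike.congr_fun h2 μ) ⟨v, hv⟩
    simpa [mul_assoc] using ‹V.Normal›.conj_mem _ h3 x
  · obtain ⟨k, hk⟩ := IsPGroup.iff_orderOf.1 hZ ⟨_, hg⟩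
    rw [← orderOf_coe] at hk
    refine Dvd.dvd.trans ?_ (orderOf_map_dvd (QuotientGroup.mk' V) g)
    rcases k with _ | k
    · exact absurd ((QuotientGroup.eq_one_iff g).1 (orderOf_eq_one_iff.1 hk)) hgV
    · exact hk ▸ dvd_pow_self p k.succ_ne_zero

/-- At most one class of vanishing elements of order divisible by `p`. -/
def One (p : ℕ) (G : Type*) [Group G] : Prop := ∀ x y : G, VP p x → VP p y → IsConj x y

omit hp in
theorem One.quot (h : One p G) (N : Subgroup G) [N.Normal] : One p (G ⧸ N) := fun x y hx hy => by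
  obtain ⟨x, rfl⟩ := QuotientGroup.mk'_surjective N x
  obtain ⟨y, rfl⟩ := QuotientGroup.mk'_surjective N y
  exact (QuotientGroup.mk' N).map_isConj (h _ _ (hx.lift _ (QuotientGroup.mk'_surjective N))
    (hy.lift _ (QuotientGroup.mk'_surjective N)))

omit [Finite G] hp in
theorem pow_of_conj {x y : G} (h : IsConj x y) {n : ℕ} (hx : x ^ n = 1) : y ^ n = 1 :=
  isConj_one_right.1 (hx ▸ h.pow n)

theorem card_dvd [Z.Normal] (h0 : pCore p G = ⊥) (hV : IsMulCommutative V) (hV1 : V ≠ ⊥)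
    (hc : (Nat.card V).Coprime p) (hZ : IsPGroup p Z) (hZa : IsMulCommutative Z) (h : One p G) :
    Nat.card Z ∣ p := by
  set N := Z.comap (QuotientGroup.mk' V)
  have hVN : V ≤ N := fun v hv => by simp [N, mem_comap, (QuotientGroup.eq_one_iff v).2 hv]
  obtain ⟨A, hA⟩ := exists_isSylowOf p N
  obtain ⟨n, hn⟩ := relIndex_pow hZ (C := N) le_rfl
  have h1 := hA.sup_eq_of_relIndex_eq_pow hVN hn
  have hcop : (Nat.card A).Coprime (Nat.card V) := (coprime_of_isPGroup hA.isPGroup hc).symm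
  have hd : ∀ a ∈ A, a ∈ V → a = 1 := fun a ha hv =>
    (disjoint_def.1 (disjoint_of_coprime_natCard hcop)) ha hv
  have hAa : IsMulCommutative A := isMulCommutative_of_forall fun a ha b hb => by
    rw [← mul_inv_eq_one]
    refine hd _ (mul_mem (mul_mem ha hb) (inv_mem (mul_mem hb ha))) ?_
    rw [← QuotientGroup.eq_one_iff, QuotientGroup.mk_mul, QuotientGroup.mk_inv, mul_inv_eq_one]
    exact comm_of_isMulCommutative hZa (hA.le ha) (hA.le hb)
  have hk : ∀ a ∈ A, a ≠ 1 → ∀ v ∈ V, VP p (a * v) := fun a ha h1 v hv =>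
    key h0 hV hc hZ hZa (mul_mem (hA.le ha) (hVN hv) : a * v ∈ N) fun e =>
      h1 (hd a ha ((V.mul_mem_cancel_right hv).1 e))
  have hk1 : ∀ a ∈ A, a ≠ 1 → VP p a := fun a ha h1 => by simpa using hk a ha h1 1 (one_mem _)
  have hcy : IsCyclic A := by
    by_contra hnc
    refine hV1 (le_bot_iff.1 (le_of_centralizers hAa hnc (normalizer_eq_top V ▸ le_top) hcop
      fun a ha h1 v hv => ?_))
    obtain ⟨k, hk2⟩ := hA.isPGroup ⟨a, ha⟩
    have hk3 : a ^ p ^ k = 1 := congrArg Subtype.val hk2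
    have h2 := pow_of_conj (h _ _ (hk1 a ha h1) (hk a ha h1 v hv.1)) hk3
    rw [Commute.mul_pow (mem_centralizer_singleton_iff.1 hv.2).symm, hk3, one_mul] at h2
    exact (pow_eq_one_iff_of_coprime (hc.pow_right k)).1
      ⟨congrArg Subtype.val (pow_card_eq_one' (x := (⟨v, hv.1⟩ : V))), h2⟩
  have he : ∀ a : A, a ^ p = 1 := fun a => by
    by_cases h1 : a = 1
    · simp [h1]
    have h2 : (a : G) ≠ 1 := fun e => h1 (Subtype.ext e)
    have h3 := (hk1 a a.2 h2).2
    have h4 : orderOf ((a : G) ^ (orderOf (a : G) / p)) = p :=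
      orderOf_pow_orderOf_div (orderOf_pos _).ne' h3
    refine Subtype.ext (pow_of_conj (h _ _ (hk1 _ (pow_mem a.2 _) fun e => ?_) (hk1 a a.2 h2))
      (h4 ▸ pow_orderOf_eq_one _))
    rw [e, orderOf_one] at h4
    exact hp.out.one_lt.ne h4
  have h5 : Z = A.map (QuotientGroup.mk' V) := by
    rw [← map_comap_eq_self_of_surjective (QuotientGroup.mk'_surjective V) Z]
    show N.map _ = _
    rw [← h1, Subgroup.map_sup, QuotientGroup.map_mk'_self, bot_sup_eq]
  rw [h5]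
  refine (Subgroup.card_map_dvd _ _).trans ?_
  rw [← IsCyclic.exponent_eq_card]
  exact Monoid.exponent_dvd_of_forall_pow_eq_one he

theorem exists_V [Group.IsSolvable G] (h0 : pCore p G = ⊥) (hd : p ∣ Nat.card G) :
    ∃ V : Subgroup G, V.Normal ∧ V ≠ ⊥ ∧ IsMulCommutative V ∧ (Nat.card V).Coprime p := by
  have ht : (⊤ : Subgroup G) ≠ ⊥ := fun e => by
    rw [← card_top, e, card_bot, Nat.dvd_one] at hd
    exact hp.out.one_lt.ne' hd
  obtain ⟨V, r, h1, h2, -, h3, h4, -⟩ := exists_minimal_normal_elementary_le ⊤ inferInstance ht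
  have := Fact.mk h3
  have h5 := IsElementaryAbelian.isPGroup h4
  obtain ⟨n, hn⟩ := IsPGroup.iff_card.1 h5
  refine ⟨V, h1, h2, h4.1, hn ▸ ((Nat.coprime_primes h3 hp.out).2 ?_).pow_left n⟩
  rintro rfl
  exact h2 (le_bot_iff.1 (h0 ▸ le_pCore h1 h5))

/-- The centre of the `p`-core. -/
def zc (p : ℕ) (G : Type*) [Group G] : Subgroup G := pCore p G ⊓ centralizer (pCore p G : Set G)

instance : (zc p G).Normal := inferInstanceAs (pCore p G ⊓ centralizer (pCore p G : Set G)).Normal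

omit [Finite G] hp in
theorem zc_p : IsPGroup p (zc p G) := (pCore_isPGroup p).to_le inf_le_left

omit [Finite G] hp in
theorem zc_comm : IsMulCommutative (zc p G) :=
  isMulCommutative_of_forall fun _ hx _ hy => hy.2 _ hx.1

theorem exists_zc (h : pCore p G ≠ ⊥) : ∃ z ∈ zc p G, z ≠ 1 := by
  have := (nontrivial_iff_ne_bot _).2 h
  have := (pCore_isPGroup (G := G) p).center_nontrivial
  obtain ⟨z, hz⟩ := exists_ne (1 : center (pCore p G))
  exact ⟨z.1.1, ⟨z.1.2, fun g hg => congrArg Subtype.val (mem_center_iff.1 z.2 ⟨g, hg⟩)⟩,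
    fun e => hz (Subtype.ext (Subtype.ext e))⟩

omit hp in
theorem dvd_quot {n : ℕ} (hc : (Nat.card V).Coprime n) (hd : n ∣ Nat.card G) :
    n ∣ Nat.card (G ⧸ V) :=
  hc.symm.dvd_of_dvd_mul_right (card_eq_card_quotient_mul_card_subgroup V ▸ hd)

omit hp in
theorem card_lt (h : V ≠ ⊥) : Nat.card (G ⧸ V) < Nat.card G := by
  rw [card_eq_card_quotient_mul_card_subgroup V]
  exact lt_mul_of_one_lt_right Nat.card_pos ((one_lt_card_iff_ne_bot V).2 h)

theorem exists_lift (h0 : pCore p G = ⊥) (hV : IsMulCommutative V) (hc : (Nat.card V).Coprime p)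
    (h : pCore p (G ⧸ V) ≠ ⊥) : ∃ g : G, (g : G ⧸ V) ∈ zc p (G ⧸ V) ∧ VP p g := by
  obtain ⟨z, hz, h1⟩ := exists_zc h
  obtain ⟨g, rfl⟩ := QuotientGroup.mk_surjective z
  exact ⟨g, hz, key h0 hV hc zc_p zc_comm hz fun e => h1 ((QuotientGroup.eq_one_iff g).2 e)⟩

theorem exists_vp (G : Type*) [Group G] [Finite G] : Group.IsSolvable G → pCore p G = ⊥ →
    p ∣ Nat.card G → ∃ g : G, VP p g := by
  refine induction_on_card (P := fun G _ _ => Group.IsSolvable G → pCore p G = ⊥ →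
    p ∣ Nat.card G → ∃ g : G, VP p g) (fun G _ _ ih hs h0 hd => ?_) G
  obtain ⟨V, _, h1, h2, h3⟩ := exists_V h0 hd
  by_cases h : pCore p (G ⧸ V) = ⊥
  · obtain ⟨g, hg⟩ := ih _ (card_lt h1) inferInstance h (dvd_quot h3 hd)
    obtain ⟨g, rfl⟩ := QuotientGroup.mk'_surjective V g
    exact ⟨g, hg.lift _ (QuotientGroup.mk'_surjective V)⟩
  · exact (exists_lift h0 h2 h3 h).imp fun _ => And.right

theorem exists_out (h1 : pCore p G ≠ ⊥) (h2 : Nat.card (zc p G) ∣ p)
    (h3 : p ^ 2 ∣ Nat.card (pCore p G)) : ∃ y ∉ zc p G, VP p y := by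
  obtain ⟨z1, hz1, hz2⟩ := exists_zc h1
  have hZ : zc p G ≠ ⊥ := fun e => hz2 (mem_bot.1 (e ▸ hz1))
  have h4 : Nat.card (zc p G) = p := ((Nat.dvd_prime hp.out).1 h2).resolve_left fun e =>
    hZ (card_eq_one.1 e)
  have hc := comap_pCore_quotient p (zc p G) zc_p
  have h5 : pCore p (G ⧸ zc p G) ≠ ⊥ := fun e => by
    rw [e, MonoidHom.comap_bot, QuotientGroup.ker_mk'] at hc
    rw [← hc, h4] at h3
    have := Nat.le_of_dvd hp.out.pos h3
    nlinarith [hp.out.one_lt]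
  obtain ⟨y, hy, hy1⟩ := exists_zc h5
  obtain ⟨y, rfl⟩ := QuotientGroup.mk_surjective y
  have hy2 : y ∉ zc p G := fun e => hy1 ((QuotientGroup.eq_one_iff y).2 e)
  have hy3 : y ∈ pCore p G := hc ▸ hy.1
  obtain ⟨w, hw, hw1⟩ : ∃ w ∈ pCore p G, w * y * w⁻¹ * y⁻¹ ≠ 1 := by
    by_contra h
    push Not at h
    exact hy2 ⟨hy3, fun w hw => by rw [← mul_inv_eq_one, ← h w hw]; group⟩
  have hz : w * y * w⁻¹ * y⁻¹ ∈ zc p G := by
    have := hy.2 (w : G ⧸ zc p G) (show w ∈ (pCore p _).comap (QuotientGroup.mk' _) from hc ▸ hw)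
    rw [← QuotientGroup.eq_one_iff]
    simp [this]
  set z := w * y * w⁻¹ * y⁻¹ with hzd
  have h6 : ∀ i : ℕ, w ^ i * y * (w ^ i)⁻¹ = z ^ i * y := fun i => by
    induction i with
    | zero => simp
    | succ i ih =>
      have h7 : w * z ^ i = z ^ i * w := (pow_mem hz i).2 w hw
      calc _ = w * (w ^ i * y * (w ^ i)⁻¹) * w⁻¹ := by group
        _ = z ^ i * (w * y * w⁻¹ * y⁻¹) * y := by rw [ih, ← mul_assoc, h7]; group
        _ = _ := by rw [pow_succ]
  refine ⟨y, hy2, van_of_coset hZ fun x hx => ?_, ?_⟩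
  · obtain ⟨i, hi⟩ := (Submonoid.mem_powers_iff _ _).1 (mem_powers_of_prime_card h4
      (g := ⟨z, hz⟩) (g' := ⟨x, hx⟩) fun e => hw1 (congrArg Subtype.val e))
    exact isConj_iff.2 ⟨w ^ i, by rw [h6]; exact congrArg (fun t : zc p G => (t : G) * y) hi⟩
  · obtain ⟨k, hk⟩ := IsPGroup.iff_orderOf.1 (pCore_isPGroup (G := G) p) ⟨_, hy3⟩
    rw [← orderOf_coe] at hk
    rcases k with _ | k
    · exact absurd (orderOf_eq_one_iff.1 hk) fun e : y = 1 => hy2 (e ▸ one_mem _)
    · exact hk ▸ dvd_pow_self p k.succ_ne_zero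

theorem main (G : Type*) [Group G] [Finite G] : Group.IsSolvable G → pCore p G = ⊥ → One p G →
    ¬ p ^ 2 ∣ Nat.card G := by
  refine induction_on_card (P := fun G _ _ => Group.IsSolvable G → pCore p G = ⊥ → One p G →
    ¬ p ^ 2 ∣ Nat.card G) (fun G _ _ ih hs h0 ho hd => ?_) G
  obtain ⟨V, _, h1, h2, h3⟩ := exists_V h0 ((dvd_pow_self p two_ne_zero).trans hd)
  have hd' := dvd_quot (h3.pow_right 2) hd
  by_cases h : pCore p (G ⧸ V) = ⊥
  · exact ih _ (card_lt h1) inferInstance h (ho.quot V) hd'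
  obtain ⟨g, hg, hv⟩ := exists_lift h0 h2 h3 h
  have hin : ∀ x : G ⧸ V, VP p x → x ∈ zc p (G ⧸ V) := fun x hx => by
    obtain ⟨x, rfl⟩ := QuotientGroup.mk'_surjective V x
    obtain ⟨c, rfl⟩ := isConj_iff.1 (ho _ _ hv (hx.lift _ (QuotientGroup.mk'_surjective V)))
    simpa using (inferInstance : (zc p (G ⧸ V)).Normal).conj_mem _ hg c
  have h4 : ¬ p ∣ Nat.card ((G ⧸ V) ⧸ pCore p (G ⧸ V)) := fun e => by
    obtain ⟨x, hx⟩ := exists_vp _ inferInstance (pCore_quotient_pCore p) e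
    obtain ⟨x, rfl⟩ := QuotientGroup.mk'_surjective _ x
    have h5 := (hin x (hx.lift _ (QuotientGroup.mk'_surjective _))).1
    have h6 := hx.2
    rw [QuotientGroup.mk'_apply, (QuotientGroup.eq_one_iff x).2 h5, orderOf_one, Nat.dvd_one] at h6
    exact hp.out.one_lt.ne' h6
  obtain ⟨y, h5, h6⟩ := exists_out h (card_dvd h0 h2 h1 h3 zc_p zc_comm ho)
    ((((Nat.Prime.coprime_iff_not_dvd hp.out).2 h4).pow_left 2).dvd_of_dvd_mul_left
      (card_eq_card_quotient_mul_card_subgroup (pCore p (G ⧸ V)) ▸ hd'))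
  exact h5 (hin y h6)

end Cfsg.Agent.Block.Vn
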